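import Mathlib.RingTheory.Flat.FaithfullyFlat.Basic
import Mathlib.RingTheory.RingHom.FaithfullyFlat
import Mathlib.RingTheory.RingHom.Flat

set_option autoImplicit false

namespace Groth.Agent.H10

open TensorProduct

/-- If `A → B → C` with `C` faithfully flat over `B` and flat over `A`, then `B` is flat over `A`. -/
theorem flat_of_flat_of_faithfullyFlat (A B C : Type*) [CommRing A] [CommRing B] [CommRing C]
    [Algebra A B] [Algebra B C] [Algebra A C] [IsScalarTower A B C] [Module.FaithfullyFlat B C]
    [Module.Flat A C] : Module.Flat A B := by
  rw [Module.Flat.iff_lTensor_preserves_injective_linearMap]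
  intro N P _ _ _ _ f hf
  -- view `lTensor B f` as a `B`-linear map
  let F : B ⊗[A] N →ₗ[B] B ⊗[A] P := TensorProduct.AlgebraTensorModule.lTensor B B f
  have hF : ⇑F = ⇑(LinearMap.lTensor B f) := rfl
  rw [← hF, ← Module.FaithfullyFlat.lTensor_injective_iff_injective B C F]
  let eN := TensorProduct.AlgebraTensorModule.cancelBaseChange A B B C N
  let eP := TensorProduct.AlgebraTensorModule.cancelBaseChange A B B C P
  have h : ∀ x, eP (LinearMap.lTensor C F x) = LinearMap.lTensor C f (eN x) := by
    intro x
    induction x using TensorProduct.induction_on with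
    | zero => simp
    | tmul c y =>
      induction y using TensorProduct.induction_on with
      | zero => simp
      | tmul b n => simp [eN, eP, F]
      | add y z hy hz =>
        rw [TensorProduct.tmul_add, map_add, map_add, hy, hz, map_add, map_add]
    | add y z hy hz => rw [map_add, map_add, hy, hz, map_add, map_add]
  intro x y hxy
  apply eN.injective
  apply Module.Flat.lTensor_preserves_injective_linearMap f hf
  rw [← h, ← h, hxy]

/-- Ring hom version: if `g ∘ f` is flat and `g` is faithfully flat then `f` is flat. -/
theorem ringHomFlat_of_comp_of_faithfullyFlat {R S T : Type*} [CommRing R] [CommRing S]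
    [CommRing T] (f : R →+* S) (g : S →+* T) (hg : g.FaithfullyFlat) (h : (g.comp f).Flat) :
    f.Flat := by
  algebraize [f, g, g.comp f]
  exact flat_of_flat_of_faithfullyFlat R S T

end Groth.Agent.H10
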