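import Mathlib
import Groth.Agent.H40.ASAlg

set_option autoImplicit false
set_option linter.style.haveILetI false
set_option linter.unusedSectionVars false
set_option linter.unusedVariables false
universe u
open Polynomial IsLocalRing
open scoped IntermediateField

namespace Groth.Agent.H10.AS

section Field

variable (p : ℕ) [hpf : Fact p.Prime] (K L : Type u) [Field K] [Field L] [Algebra K L] [CharP K p]
  (ξ : K) (z : L) (hz : z ^ p - z = algebraMap K L ξ)

include K in
theorem charP_L : CharP L p := charP_of_injective_algebraMap (algebraMap K L).injective p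

/-- the canonical map from `𝔽_p`. -/
noncomputable def φ [CharP L p] : ZMod p →+* L := ZMod.castHom dvd_rfl L

theorem phi_injective [CharP L p] : Function.Injective (φ p L) := (φ p L).injective

include hz in
/-- every root of the Artin–Schreier equation is a translate of `z`. -/
theorem root_eq [CharP L p] (y : L) (hy : y ^ p - y = algebraMap K L ξ) :
    ∃ i : ZMod p, y = z + φ p L i := by
  have h1 : ∏ m : ZMod p, ((y - z) - φ p L m) = 0 := by
    rw [Groth.Agent.H40.prod_sub_zmod, sub_pow_char]
    linear_combination hy - hz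
  obtain ⟨m, -, hm⟩ := Finset.prod_eq_zero_iff.1 h1
  exact ⟨m, by linear_combination hm⟩

include hz in
theorem root_add [CharP L p] (i : ZMod p) :
    (z + φ p L i) ^ p - (z + φ p L i) = algebraMap K L ξ := by
  rw [add_pow_char, Groth.Agent.H40.pow_p_zmod]
  linear_combination hz

end Field

section Poly

variable (p : ℕ) [hpf : Fact p.Prime] (K : Type u) [CommRing K] [Nontrivial K] (ξ : K)

/-- the Artin–Schreier polynomial. -/
noncomputable def f : K[X] := X ^ p - X - C ξ

theorem f_monic : (f p K ξ).Monic := by
  have h1 : (X ^ p - X : K[X]).Monic := by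
    apply monic_X_pow_sub
    rw [degree_X]
    exact_mod_cast hpf.out.one_lt
  have h2 : (f p K ξ) = (X ^ p - X : K[X]) - C ξ := rfl
  rw [h2]
  apply h1.sub_of_left
  have hd : (X ^ p - X : K[X]).degree = p := by
    rw [degree_sub_eq_left_of_degree_lt]
    · exact degree_X_pow p
    · rw [degree_X, degree_X_pow]
      exact_mod_cast hpf.out.one_lt
  rw [hd]
  calc (C ξ).degree ≤ 0 := degree_C_le
    _ < (p : WithBot ℕ) := by exact_mod_cast hpf.out.pos

theorem f_natDegree : (f p K ξ).natDegree = p := by
  have h2 : (f p K ξ) = (X ^ p - X : K[X]) - C ξ := rfl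
  have hd : (X ^ p - X : K[X]).natDegree = p := by
    rw [natDegree_sub_eq_left_of_natDegree_lt]
    · exact natDegree_X_pow p
    · rw [natDegree_X, natDegree_X_pow]
      exact hpf.out.one_lt
  rw [h2, natDegree_sub_C, hd]

theorem derivative_f [CharP K p] : derivative (f p K ξ) = -1 := by
  unfold f
  rw [derivative_sub, derivative_sub, derivative_X_pow, derivative_X, derivative_C]
  have : (C (p : K) : K[X]) = 0 := by rw [CharP.cast_eq_zero, C_0]
  rw [this]
  ring

theorem f_separable [CharP K p] : (f p K ξ).Separable := by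
  rw [separable_def, derivative_f]
  exact isCoprime_one_right.neg_right

end Poly

section Field2

variable (p : ℕ) [hpf : Fact p.Prime] (K L : Type u) [Field K] [Field L] [Algebra K L] [CharP K p]
  (ξ : K) (z : L) (hz : z ^ p - z = algebraMap K L ξ)

include hz in
theorem aeval_f : aeval z (f p K ξ) = 0 := by
  unfold f
  rw [map_sub, map_sub, map_pow, aeval_X, aeval_C, hz, sub_self]

include hz in
theorem map_f_eq_prod [CharP L p] :
    (f p K ξ).map (algebraMap K L) = ∏ i : ZMod p, (X - C (z + φ p L i)) := by
  have h := Groth.Agent.H40.prod_sub_zmod (R := L[X]) (p := p)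
    (C.comp (φ p L)) (X - C z)
  have h2 : ∀ i : ZMod p, (X - C (z + φ p L i) : L[X]) = (X - C z) - (C.comp (φ p L)) i := by
    intro i
    rw [RingHom.comp_apply, C_add]
    ring
  simp_rw [h2]
  rw [h]
  haveI : CharP L[X] p := inferInstance
  rw [sub_pow_char, ← C_pow]
  unfold f
  rw [Polynomial.map_sub, Polynomial.map_sub, Polynomial.map_pow, map_X, map_C, ← hz, C_sub]
  ring

end Field2

section Galois

variable (p : ℕ) [hpf : Fact p.Prime] (K L : Type u) [Field K] [Field L] [Algebra K L] [CharP K p]
  (ξ : K) (z : L) (hz : z ^ p - z = algebraMap K L ξ)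
  (hgen : IntermediateField.adjoin K {z} = ⊤)

include hz in
theorem isIntegral_z : IsIntegral K z :=
  ⟨f p K ξ, f_monic p K ξ, by rw [← aeval_def]; exact aeval_f p K L ξ z hz⟩

include hz hgen in
theorem adjoin_eq_top : Algebra.adjoin K {z} = ⊤ := by
  have := IntermediateField.adjoin_simple_toSubalgebra_of_isAlgebraic
    (isIntegral_z p K L ξ z hz).isAlgebraic
  rw [← this, hgen]
  rfl

include hz hgen in
theorem isGalois : IsGalois K L := by
  haveI := charP_L p K L
  haveI : (f p K ξ).IsSplittingField K L := by
    constructor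
    · rw [map_f_eq_prod p K L ξ z hz]
      exact Splits.prod (fun i _ => Splits.X_sub_C _)
    · rw [eq_top_iff, ← adjoin_eq_top p K L ξ z hz hgen]
      apply Algebra.adjoin_mono
      rw [Set.singleton_subset_iff, mem_rootSet]
      exact ⟨(f_monic p K ξ).ne_zero, aeval_f p K L ξ z hz⟩
  exact IsGalois.of_separable_splitting_field (f_separable p K ξ)

include hz in
theorem exists_shift [CharP L p] (σ : L ≃ₐ[K] L) : ∃ i : ZMod p, σ z = z + φ p L i := by
  apply root_eq p K L ξ z hz
  have := congrArg σ hz
  rwa [map_sub, map_pow, σ.commutes] at this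

/-- the translation exponent of an automorphism. -/
noncomputable def shift [CharP L p] (σ : L ≃ₐ[K] L) : ZMod p :=
  Classical.choose (exists_shift p K L ξ z hz σ)

theorem shift_spec [CharP L p] (σ : L ≃ₐ[K] L) : σ z = z + φ p L (shift p K L ξ z hz σ) :=
  Classical.choose_spec (exists_shift p K L ξ z hz σ)

theorem map_phi [CharP L p] (σ : L ≃ₐ[K] L) (i : ZMod p) : σ (φ p L i) = φ p L i := by
  have : (σ : L →+* L).comp (φ p L) = φ p L := Subsingleton.elim _ _
  exact congrArg (fun h => h i) this

theorem shift_mul [CharP L p] (σ τ : L ≃ₐ[K] L) :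
    shift p K L ξ z hz (σ * τ) = shift p K L ξ z hz σ + shift p K L ξ z hz τ := by
  apply phi_injective p L
  have h1 := shift_spec p K L ξ z hz (σ * τ)
  rw [AlgEquiv.mul_apply, shift_spec p K L ξ z hz τ, map_add, map_phi,
    shift_spec p K L ξ z hz σ] at h1
  rw [map_add]
  linear_combination -h1

include hgen in
theorem shift_injective [CharP L p] : Function.Injective (shift p K L ξ z hz) := by
  intro σ τ h
  have h1 : σ z = τ z := by
    rw [shift_spec p K L ξ z hz σ, shift_spec p K L ξ z hz τ, h]
  have h2 : (σ : L →ₐ[K] L) = (τ : L →ₐ[K] L) := by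
    apply AlgHom.ext_of_adjoin_eq_top (adjoin_eq_top p K L ξ z hz hgen)
    intro x hx
    rw [Set.mem_singleton_iff] at hx
    rw [hx]
    exact h1
  exact AlgEquiv.coe_toAlgHom_injective h2

include hz hgen in
theorem finrank_eq : Module.finrank K L = 1 ∨ Module.finrank K L = p := by
  haveI := charP_L p K L
  haveI := isGalois p K L ξ z hz hgen
  haveI : FiniteDimensional K L := by
    have h1 : FiniteDimensional K K⟮z⟯ :=
      IntermediateField.adjoin.finiteDimensional (isIntegral_z p K L ξ z hz)
    rw [hgen] at h1
    exact Module.Finite.equiv (IntermediateField.topEquiv (F := K) (E := L)).toLinearEquiv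
  let ι : (L ≃ₐ[K] L) →* Multiplicative (ZMod p) :=
    MonoidHom.mk' (fun σ => Multiplicative.ofAdd (shift p K L ξ z hz σ))
      (fun σ τ => by rw [shift_mul]; rfl)
  have hinj : Function.Injective ι := fun σ τ h =>
    shift_injective p K L ξ z hz hgen (Multiplicative.ofAdd.injective h)
  have hdvd := Subgroup.card_dvd_of_injective ι hinj
  rw [IsGalois.card_aut_eq_finrank, Nat.card_eq_fintype_card, Fintype.card_multiplicative,
    ZMod.card] at hdvd
  exact (Nat.dvd_prime hpf.out).1 hdvd

end Galois

end Groth.Agent.H10.AS
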