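import Mathlib
import Groth.Prelude.Def_EtRam

set_option autoImplicit false
set_option linter.style.haveILetI false
set_option linter.unusedSectionVars false
set_option linter.unusedVariables false
universe u
open Polynomial IsLocalRing
open scoped IntermediateField

namespace Groth.Agent.H10.AS

section Toolkit

variable (A K L : Type u) [CommRing A] [IsDomain A] [IsDiscreteValuationRing A] [Field K]
  [Algebra A K] [IsFractionRing A K] [Field L] [Algebra K L] [Algebra A L] [IsScalarTower A K L]
  (π : A) (hπ : Irreducible π)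
  (W : ValuationSubring L) (hW : EtRam.Dominates A (algebraMap A L) W)

include hπ in
theorem exists_zpow_unit (c : K) (hc : c ≠ 0) :
    ∃ (k : ℤ) (u : Aˣ), c = algebraMap A K π ^ k * algebraMap A K u := by
  obtain ⟨a, b, hb, rfl⟩ := IsFractionRing.div_surjective (A := A) c
  have hb0 : b ≠ 0 := nonZeroDivisors.ne_zero hb
  have ha0 : a ≠ 0 := by
    rintro rfl
    rw [map_zero, zero_div] at hc
    exact hc rfl
  obtain ⟨n, u, hu⟩ := IsDiscreteValuationRing.eq_unit_mul_pow_irreducible ha0 hπ
  obtain ⟨m, u', hu'⟩ := IsDiscreteValuationRing.eq_unit_mul_pow_irreducible hb0 hπ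
  refine ⟨(n : ℤ) - m, u * u'⁻¹, ?_⟩
  have hπK : algebraMap A K π ≠ 0 := fun h =>
    hπ.ne_zero (IsFractionRing.injective A K (h.trans (map_zero _).symm))
  have hu'K : algebraMap A K (u' : A) ≠ 0 := fun h =>
    u'.ne_zero (IsFractionRing.injective A K (h.trans (map_zero _).symm))
  rw [zpow_sub₀ hπK, zpow_natCast, zpow_natCast, hu, hu', map_mul, map_mul, map_pow, map_pow,
    Units.val_mul, map_mul]
  have h1 : algebraMap A K ((u'⁻¹ : Aˣ) : A) = (algebraMap A K (u' : A))⁻¹ := by
    apply eq_inv_of_mul_eq_one_left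
    rw [← map_mul, Units.inv_mul, map_one]
  rw [h1]
  field_simp

include hπ hW in
theorem v_pi_lt_one : W.valuation (algebraMap A L π) < 1 :=
  hW.2 π (by rw [hπ.maximalIdeal_eq]; exact Ideal.mem_span_singleton_self π)

include K in
theorem algebraMap_injective : Function.Injective (algebraMap A L) := by
  rw [IsScalarTower.algebraMap_eq A K L]
  exact (algebraMap K L).injective.comp (IsFractionRing.injective A K)

include K hπ in
theorem pi_ne_zero : algebraMap A L π ≠ 0 := fun h =>
  hπ.ne_zero (algebraMap_injective A K L (h.trans (map_zero _).symm))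

include K hπ in
theorem v_pi_pos : 0 < W.valuation (algebraMap A L π) :=
  zero_lt_iff.2 ((Valuation.ne_zero_iff _).2 (pi_ne_zero A K L π hπ))

include hW in
theorem v_unit (u : Aˣ) : W.valuation (algebraMap A L u) = 1 := by
  have h1 : W.valuation (algebraMap A L u) ≤ 1 := (W.valuation_le_one_iff _).2 (hW.1 _)
  have h2 : W.valuation (algebraMap A L ((u⁻¹ : Aˣ) : A)) ≤ 1 :=
    (W.valuation_le_one_iff _).2 (hW.1 _)
  have h3 : W.valuation (algebraMap A L u) * W.valuation (algebraMap A L ((u⁻¹ : Aˣ) : A)) = 1 := by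
    rw [← map_mul, ← map_mul, Units.mul_inv, map_one, map_one]
  by_contra hne
  have hlt : W.valuation (algebraMap A L u) < 1 := lt_of_le_of_ne h1 hne
  have : W.valuation (algebraMap A L u) * W.valuation (algebraMap A L ((u⁻¹ : Aˣ) : A)) < 1 :=
    calc _ ≤ W.valuation (algebraMap A L u) * 1 := mul_le_mul' le_rfl h2
      _ = W.valuation (algebraMap A L u) := mul_one _
      _ < 1 := hlt
  rw [h3] at this
  exact lt_irrefl _ this

include hW in
theorem v_algebraMap (c : K) (k : ℤ) (u : Aˣ)
    (h : c = algebraMap A K π ^ k * algebraMap A K u) :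
    W.valuation (algebraMap K L c) = W.valuation (algebraMap A L π) ^ k := by
  rw [h, map_mul, map_zpow₀, ← IsScalarTower.algebraMap_apply A K L,
    ← IsScalarTower.algebraMap_apply A K L, map_mul, map_zpow₀, v_unit A L W hW, mul_one]

include hπ hW in
theorem mem_iff (c : K) : algebraMap K L c ∈ W ↔ ∃ a : A, algebraMap A K a = c := by
  constructor
  · intro hc
    by_cases hc0 : c = 0
    · exact ⟨0, by rw [hc0, map_zero]⟩
    obtain ⟨k, u, hku⟩ := exists_zpow_unit A K π hπ c hc0
    have hv := v_algebraMap A K L π W hW c k u hku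
    rw [← W.valuation_le_one_iff, hv] at hc
    have hk : 0 ≤ k := by
      by_contra hneg
      push Not at hneg
      have := (zpow_lt_zpow_iff_right_of_lt_one₀ (v_pi_pos A K L π hπ W)
        (v_pi_lt_one A L π hπ W hW) (m := 0) (n := k)).2 hneg
      rw [zpow_zero] at this
      exact not_le.2 this hc
    obtain ⟨n, rfl⟩ := Int.eq_ofNat_of_zero_le hk
    refine ⟨π ^ n * u, ?_⟩
    rw [hku, zpow_natCast, map_mul, map_pow]
  · rintro ⟨a, rfl⟩
    rw [← IsScalarTower.algebraMap_apply A K L]
    exact hW.1 a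

include hπ hW in
theorem lt_one_iff (c : K) :
    W.valuation (algebraMap K L c) < 1 ↔ ∃ a ∈ maximalIdeal A, algebraMap A K a = c := by
  constructor
  · intro hc
    by_cases hc0 : c = 0
    · exact ⟨0, Ideal.zero_mem _, by rw [hc0, map_zero]⟩
    obtain ⟨k, u, hku⟩ := exists_zpow_unit A K π hπ c hc0
    have hv := v_algebraMap A K L π W hW c k u hku
    rw [hv] at hc
    have hk : 0 < k := by
      by_contra hneg
      push Not at hneg
      have := (zpow_le_zpow_iff_right_of_lt_one₀ (v_pi_pos A K L π hπ W)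
        (v_pi_lt_one A L π hπ W hW) (m := 0) (n := k)).2 hneg
      rw [zpow_zero] at this
      exact not_lt.2 this hc
    obtain ⟨n, rfl⟩ := Int.eq_ofNat_of_zero_le hk.le
    have hn : n ≠ 0 := by rintro rfl; simp at hk
    refine ⟨π ^ n * u, ?_, ?_⟩
    · rw [hπ.maximalIdeal_eq]
      exact Ideal.mul_mem_right _ _ (Ideal.pow_mem_of_mem _ (Ideal.mem_span_singleton_self π) n
        (Nat.pos_of_ne_zero hn))
    · rw [hku, zpow_natCast, map_mul, map_pow]
  · rintro ⟨a, ha, rfl⟩
    rw [← IsScalarTower.algebraMap_apply A K L]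
    exact hW.2 a ha

end Toolkit

end Groth.Agent.H10.AS
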