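import Mathlib
import Groth.Prelude.Def_EtRam
import Groth.Agent.H10.AS3

set_option autoImplicit false
set_option linter.style.haveILetI false
set_option linter.unusedSectionVars false
set_option linter.unusedVariables false
universe u
open Polynomial IsLocalRing
open scoped IntermediateField

namespace Groth.Agent.H10.AS

section Repr

variable (K L : Type u) [Field K] [Field L] [Algebra K L]

theorem exists_repr (z : L) (hint : IsIntegral K z) (htop : Algebra.adjoin K {z} = ⊤) (d : ℕ)
    (hd : Module.finrank K L = d) (x : L) :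
    ∃ c : ℕ → K, x = ∑ j ∈ Finset.range d, algebraMap K L (c j) * z ^ j := by
  let pb := PowerBasis.ofAdjoinEqTop hint htop
  have hdim : pb.dim = d := by rw [← hd]; exact pb.finrank.symm
  have hx := pb.basis.sum_repr x
  refine ⟨fun j => if h : j < pb.dim then pb.basis.repr x ⟨j, h⟩ else 0, ?_⟩
  rw [← hdim, Finset.sum_range]
  refine hx.symm.trans ?_
  apply Finset.sum_congr rfl
  intro i _
  simp only [dif_pos i.2]
  rw [PowerBasis.coe_basis, Algebra.smul_def]
  rfl

end Repr

section Terms

variable {L : Type u} [Field L] (W : ValuationSubring L)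

/-- if the nonzero terms of a sum have pairwise distinct valuations and the sum lies in `W`, so
does every term. -/
theorem terms_mem_of_sum_mem {ι : Type*} [DecidableEq ι] (s : Finset ι) (t : ι → L)
    (hdist : ∀ i ∈ s, ∀ j ∈ s, i ≠ j → t i ≠ 0 → t j ≠ 0 →
      W.valuation (t i) ≠ W.valuation (t j))
    (hsum : ∑ i ∈ s, t i ∈ W) : ∀ i ∈ s, t i ∈ W := by
  by_contra hcon
  push Not at hcon
  obtain ⟨i, hi, hti⟩ := hcon
  obtain ⟨j₀, hj₀, hmax⟩ := Finset.exists_max_image s (fun i => W.valuation (t i)) ⟨i, hi⟩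
  have h1 : 1 < W.valuation (t j₀) := by
    rw [← W.valuation_le_one_iff, not_le] at hti
    exact lt_of_lt_of_le hti (hmax i hi)
  have hj₀0 : t j₀ ≠ 0 := by
    intro h
    rw [h, map_zero] at h1
    exact not_lt.2 zero_le h1
  have hlt : ∀ j ∈ s.erase j₀, W.valuation (t j) < W.valuation (t j₀) := by
    intro j hj
    obtain ⟨hne, hjs⟩ := Finset.mem_erase.1 hj
    by_cases hj0 : t j = 0
    · rw [hj0, map_zero]
      exact lt_trans zero_lt_one h1
    · exact lt_of_le_of_ne (hmax j hjs) (hdist j hjs j₀ hj₀ hne hj0 hj₀0)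
  have hrest : W.valuation (∑ j ∈ s.erase j₀, t j) < W.valuation (t j₀) :=
    Valuation.map_sum_lt _ (ne_of_gt (lt_trans zero_lt_one h1)) hlt
  have hsplit : ∑ i ∈ s, t i = t j₀ + ∑ j ∈ s.erase j₀, t j :=
    (Finset.add_sum_erase s t hj₀).symm
  rw [hsplit, ← W.valuation_le_one_iff, Valuation.map_add_eq_of_lt_left _ hrest] at hsum
  exact not_le.2 h1 hsum

end Terms

end Groth.Agent.H10.AS
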