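import Mathlib
import Groth.Prelude.Def_EtRam
import Groth.Agent.H10.AS1
import Groth.Agent.H10.AS3
import Groth.Agent.H10.AS4

set_option autoImplicit false
set_option linter.style.haveILetI false
set_option linter.unusedSectionVars false
set_option linter.unusedVariables false
universe u
open Polynomial IsLocalRing
open scoped IntermediateField

namespace Groth.Agent.H10.AS

section CaseC

variable (p : ℕ) [hpf : Fact p.Prime] (A K L : Type u) [CommRing A] [IsDomain A]
  [IsDiscreteValuationRing A] [Field K] [Algebra A K] [IsFractionRing A K] [Field L] [Algebra K L]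
  [Algebra A L] [IsScalarTower A K L] [CharP K p] (π : A) (hπ : Irreducible π)
  (ξ : K) (z : L) (hz : z ^ p - z = algebraMap K L ξ)
  (n : ℕ) (a : A) (m : ℕ) (hm : 0 < m) (hnm : n = p * m)
  (hξ : ξ * algebraMap A K π ^ n = algebraMap A K a)
  (W : ValuationSubring L) (hW : EtRam.Dominates A (algebraMap A L) W)

/-- the integral generator `y = π^m z`. -/
noncomputable def y : L := algebraMap A L π ^ m * z

include hz hnm hξ in
theorem y_eq : y A L π z m ^ p - algebraMap A L π ^ (m * (p - 1)) * y A L π z m =
    algebraMap A L a := by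
  have h1 : algebraMap A L a = algebraMap K L ξ * algebraMap A L π ^ n := by
    rw [IsScalarTower.algebraMap_apply A K L, ← hξ, map_mul, map_pow,
      ← IsScalarTower.algebraMap_apply A K L]
  obtain ⟨q, hq⟩ : ∃ q, p = q + 1 := ⟨p - 1, by have := hpf.out.pos; omega⟩
  have h2 : algebraMap A L π ^ (m * (p - 1)) * algebraMap A L π ^ m = algebraMap A L π ^ n := by
    rw [← pow_add, hnm]
    congr 1
    rw [hq]; simp; ring
  have h3 : (algebraMap A L π ^ m) ^ p = algebraMap A L π ^ n := by
    rw [← pow_mul, hnm, mul_comm]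
  unfold y
  rw [mul_pow, h3, ← mul_assoc, h2, h1, ← hz]
  ring

include hπ hW hz hnm hξ hm in
theorem v_y_le_one : W.valuation (y A L π z m) ≤ 1 := by
  by_contra hlt
  push Not at hlt
  have hπ1 := v_pi_lt_one A L π hπ W hW
  have h1 : W.valuation (algebraMap A L π ^ (m * (p - 1)) * y A L π z m) ≤
      W.valuation (y A L π z m) := by
    rw [map_mul, map_pow]
    calc _ ≤ 1 * W.valuation (y A L π z m) := mul_le_mul' (pow_le_one' hπ1.le _) le_rfl
      _ = _ := one_mul _
  have h2 : W.valuation (y A L π z m) < W.valuation (y A L π z m ^ p) := by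
    rw [map_pow]
    calc W.valuation (y A L π z m) = W.valuation (y A L π z m) ^ 1 := (pow_one _).symm
      _ < _ := pow_lt_pow_right₀ hlt hpf.out.one_lt
  have h3 := Valuation.map_sub_eq_of_lt_left W.valuation (lt_of_le_of_lt h1 h2)
  rw [y_eq p A K L π ξ z hz n a m hnm hξ] at h3
  have h4 : W.valuation (algebraMap A L a) ≤ 1 := (W.valuation_le_one_iff _).2 (hW.1 a)
  rw [h3] at h4
  exact not_le.2 (lt_trans hlt h2) h4

include hπ hW hz hnm hξ hm in
theorem v_y_pow_sub_lt : W.valuation (y A L π z m ^ p - algebraMap A L a) < 1 := by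
  have h1 : y A L π z m ^ p - algebraMap A L a =
      algebraMap A L π ^ (m * (p - 1)) * y A L π z m := by
    rw [← y_eq p A K L π ξ z hz n a m hnm hξ]; ring
  rw [h1, map_mul, map_pow]
  have hπ1 := v_pi_lt_one A L π hπ W hW
  have hpos : m * (p - 1) ≠ 0 := by
    have := hpf.out.one_lt
    exact Nat.mul_ne_zero hm.ne' (by omega)
  calc _ ≤ W.valuation (algebraMap A L π) ^ (m * (p - 1)) * 1 :=
        mul_le_mul' le_rfl (v_y_le_one p A K L π hπ ξ z hz n a m hm hnm hξ W hW)
    _ = W.valuation (algebraMap A L π) ^ (m * (p - 1)) := mul_one _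
    _ < 1 := pow_lt_one' hπ1 hpos

end CaseC

end Groth.Agent.H10.AS
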