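import Mathlib
import Groth.Prelude.Def_EtRam
import Groth.Agent.H10.AS1
import Groth.Agent.H10.AS3
import Groth.Agent.H10.AS4
import Groth.Agent.H10.AS7

set_option autoImplicit false
set_option linter.style.haveILetI false
set_option linter.unusedSectionVars false
set_option linter.unusedVariables false
universe u
open Polynomial IsLocalRing
open scoped IntermediateField

namespace Groth.Agent.H10.AS

section CaseC2

variable (p : ℕ) [hpf : Fact p.Prime] (A K L : Type u) [CommRing A] [IsDomain A]
  [IsDiscreteValuationRing A] [Field K] [Algebra A K] [IsFractionRing A K] [Field L] [Algebra K L]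
  [Algebra A L] [IsScalarTower A K L] [CharP K p] (π : A) (hπ : Irreducible π)
  (ξ : K) (z : L) (hz : z ^ p - z = algebraMap K L ξ)
  (n : ℕ) (a : A) (m : ℕ) (hm : 0 < m) (hnm : n = p * m)
  (ha : ∀ r : A, residue A a ≠ residue A r ^ p)
  (hξ : ξ * algebraMap A K π ^ n = algebraMap A K a)
  (W : ValuationSubring L) (hW : EtRam.Dominates A (algebraMap A L) W)
  [Algebra A W] [IsLocalHom (algebraMap A W)]
  (hAW : ∀ a : A, ((algebraMap A W a : W) : L) = algebraMap A L a)

/-- `y` as an element of `W`. -/
noncomputable def yW : W :=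
  ⟨y A L π z m, (W.valuation_le_one_iff _).1
    (v_y_le_one p A K L π hπ ξ z hz n a m hm hnm hξ W hW)⟩

/-- the residue of `y`. -/
noncomputable def ybar : ResidueField W :=
  residue W (yW p A K L π hπ ξ z hz n a m hm hnm hξ W hW)

include hAW in
theorem ybar_pow : ybar p A K L π hπ ξ z hz n a m hm hnm hξ W hW ^ p =
    algebraMap (ResidueField A) (ResidueField W) (residue A a) := by
  have h1 : algebraMap (ResidueField A) (ResidueField W) (residue A a) =
      residue W (algebraMap A W a) := rfl
  rw [h1, ybar, ← map_pow, ← sub_eq_zero, ← map_sub, IsLocalRing.residue_eq_zero_iff,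
    W.valuation_lt_one_iff]
  have h2 : ((yW p A K L π hπ ξ z hz n a m hm hnm hξ W hW ^ p - algebraMap A W a : W) : L) =
      y A L π z m ^ p - algebraMap A L a := by
    rw [← hAW]; rfl
  rw [h2]
  exact v_y_pow_sub_lt p A K L π hπ ξ z hz n a m hm hnm hξ W hW

include ha in
theorem irreducible_hbar : Irreducible (X ^ p - C (residue A a) : (ResidueField A)[X]) := by
  apply X_pow_sub_C_irreducible_of_prime hpf.out
  intro b hb
  obtain ⟨r, rfl⟩ := IsLocalRing.residue_surjective b
  exact ha r hb.symm

include ha hAW in
theorem minpoly_ybar : minpoly (ResidueField A) (ybar p A K L π hπ ξ z hz n a m hm hnm hξ W hW) =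
    X ^ p - C (residue A a) := by
  symm
  apply minpoly.eq_of_irreducible_of_monic (irreducible_hbar p A a ha)
  · rw [map_sub, map_pow, aeval_X, aeval_C, ybar_pow p A K L π hπ ξ z hz n a m hm hnm hξ W hW hAW,
      sub_self]
  · exact monic_X_pow_sub_C _ hpf.out.ne_zero

include hπ hz hm hnm hξ hW ha hAW in
/-- Claim G: a combination of powers of `y` with coefficients in `A` lying in the maximal ideal
has all its coefficients in the maximal ideal. -/
theorem coeff_mem_of_lt_one (c : ℕ → A)
    (h : W.valuation (∑ j ∈ Finset.range p, algebraMap A L (c j) * y A L π z m ^ j) < 1) :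
    ∀ j ∈ Finset.range p, c j ∈ maximalIdeal A := by
  set yb := ybar p A K L π hπ ξ z hz n a m hm hnm hξ W hW with hyb
  let q : (ResidueField A)[X] := ∑ j ∈ Finset.range p, C (residue A (c j)) * X ^ j
  have hq : aeval yb q = 0 := by
    have h1 : aeval yb q = residue W (∑ j ∈ Finset.range p,
        algebraMap A W (c j) * yW p A K L π hπ ξ z hz n a m hm hnm hξ W hW ^ j) := by
      simp only [q, map_sum, map_mul, map_pow, aeval_X, aeval_C]
      rfl
    rw [h1, IsLocalRing.residue_eq_zero_iff, W.valuation_lt_one_iff]
    have h2 : ((∑ j ∈ Finset.range p,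
        algebraMap A W (c j) * yW p A K L π hπ ξ z hz n a m hm hnm hξ W hW ^ j : W) : L) =
        ∑ j ∈ Finset.range p, algebraMap A L (c j) * y A L π z m ^ j := by
      rw [AddSubmonoidClass.coe_finsetSum]
      apply Finset.sum_congr rfl
      intro j _
      rw [← hAW]; rfl
    rw [h2]
    exact h
  have hq0 : q = 0 := by
    by_contra hne
    have h1 := minpoly.degree_le_of_ne_zero (ResidueField A) yb hne hq
    rw [minpoly_ybar p A K L π hπ ξ z hz n a m hm hnm ha hξ W hW hAW,
      degree_X_pow_sub_C hpf.out.pos] at h1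
    have h2 : q.degree < p := by
      apply lt_of_le_of_lt (degree_sum_le _ _)
      rw [Finset.sup_lt_iff (by exact_mod_cast WithBot.bot_lt_coe p)]
      intro j hj
      calc (C (residue A (c j)) * X ^ j).degree ≤ (j : WithBot ℕ) := degree_C_mul_X_pow_le j _
        _ < (p : WithBot ℕ) := by exact_mod_cast Finset.mem_range.1 hj
    exact not_le.2 h2 h1
  intro j hj
  have h1 : q.coeff j = residue A (c j) := by
    simp only [q, finsetSum_coeff, coeff_C_mul_X_pow]
    rw [Finset.sum_eq_single j]
    · simp
    · intro i _ hij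
      rw [if_neg (Ne.symm hij)]
    · intro hj'
      exact absurd hj hj'
  rw [hq0, coeff_zero] at h1
  exact (IsLocalRing.residue_eq_zero_iff _).1 h1.symm

end CaseC2

end Groth.Agent.H10.AS
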