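import Mathlib
import Groth.Prelude.Def_EtRam
import Groth.Agent.H10.AS1
import Groth.Agent.H10.AS3
import Groth.Agent.H10.AS4
import Groth.Agent.H10.AS7
import Groth.Agent.H10.AS8

set_option autoImplicit false
set_option linter.style.haveILetI false
set_option linter.unusedSectionVars false
set_option linter.unusedVariables false
universe u
open Polynomial IsLocalRing
open scoped IntermediateField

namespace Groth.Agent.H10.AS

section CaseC3

variable (p : ℕ) [hpf : Fact p.Prime] (A K L : Type u) [CommRing A] [IsDomain A]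
  [IsDiscreteValuationRing A] [Field K] [Algebra A K] [IsFractionRing A K] [Field L] [Algebra K L]
  [Algebra A L] [IsScalarTower A K L] [CharP K p] (π : A) (hπ : Irreducible π)
  (ξ : K) (z : L) (hz : z ^ p - z = algebraMap K L ξ)
  (n : ℕ) (a : A) (m : ℕ) (hm : 0 < m) (hnm : n = p * m)
  (ha : ∀ r : A, residue A a ≠ residue A r ^ p)
  (hξ : ξ * algebraMap A K π ^ n = algebraMap A K a)
  (W : ValuationSubring L) (hW : EtRam.Dominates A (algebraMap A L) W)
  [Algebra A W] [IsLocalHom (algebraMap A W)]
  (hAW : ∀ a : A, ((algebraMap A W a : W) : L) = algebraMap A L a)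

include hπ hz hm hnm hξ hW ha hAW in
theorem gauss_max (c : ℕ → K) :
    ∃ j₀ ∈ Finset.range p,
      W.valuation (∑ j ∈ Finset.range p, algebraMap K L (c j) * y A L π z m ^ j) =
        W.valuation (algebraMap K L (c j₀)) ∧
      ∀ j ∈ Finset.range p,
        W.valuation (algebraMap K L (c j)) ≤ W.valuation (algebraMap K L (c j₀)) := by
  obtain ⟨j₀, hj₀, hmax⟩ := Finset.exists_max_image (Finset.range p)
    (fun j => W.valuation (algebraMap K L (c j))) ⟨0, Finset.mem_range.2 hpf.out.pos⟩
  refine ⟨j₀, hj₀, ?_, hmax⟩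
  by_cases hb : c j₀ = 0
  · have hall : ∀ j ∈ Finset.range p, algebraMap K L (c j) = 0 := by
      intro j hj
      have := hmax j hj
      simp only [hb, map_zero] at this
      exact (Valuation.zero_iff _).1 (le_antisymm this zero_le)
    rw [Finset.sum_eq_zero (fun j hj => by rw [hall j hj, zero_mul]), hb, map_zero, map_zero, map_zero]
  · have hbL : algebraMap K L (c j₀) ≠ 0 := (_root_.map_ne_zero _).2 hb
    have hvb : W.valuation (algebraMap K L (c j₀)) ≠ 0 := (Valuation.ne_zero_iff _).2 hbL
    have hex : ∀ j, ∃ d : A, j ∈ Finset.range p → algebraMap A K d = c j / c j₀ := by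
      intro j
      by_cases hj : j ∈ Finset.range p
      · have h1 : W.valuation (algebraMap K L (c j / c j₀)) ≤ 1 := by
          rw [map_div₀, map_div₀]
          exact div_le_one_of_le₀ (hmax j hj) zero_le
        obtain ⟨d, hd⟩ := (mem_iff A K L π hπ W hW _).1 ((W.valuation_le_one_iff _).1 h1)
        exact ⟨d, fun _ => hd⟩
      · exact ⟨0, fun h => absurd h hj⟩
    choose d hd using hex
    have hsum : ∑ j ∈ Finset.range p, algebraMap K L (c j) * y A L π z m ^ j =
        algebraMap K L (c j₀) *
          ∑ j ∈ Finset.range p, algebraMap A L (d j) * y A L π z m ^ j := by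
      rw [Finset.mul_sum]
      apply Finset.sum_congr rfl
      intro j hj
      rw [IsScalarTower.algebraMap_apply A K L, hd j hj, map_div₀]
      field_simp
    have hle : W.valuation (∑ j ∈ Finset.range p, algebraMap A L (d j) * y A L π z m ^ j) ≤ 1 := by
      apply Valuation.map_sum_le
      intro j _
      rw [map_mul, map_pow]
      calc _ ≤ (1 : W.ValueGroup) * 1 := mul_le_mul'
            ((W.valuation_le_one_iff _).2 (hW.1 _))
            (pow_le_one' (v_y_le_one p A K L π hπ ξ z hz n a m hm hnm hξ W hW) j)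
        _ = 1 := one_mul _
    have hnlt : ¬ W.valuation (∑ j ∈ Finset.range p,
        algebraMap A L (d j) * y A L π z m ^ j) < 1 := by
      intro hlt
      have h1 := coeff_mem_of_lt_one p A K L π hπ ξ z hz n a m hm hnm ha hξ W hW hAW d hlt j₀ hj₀
      have h2 : algebraMap A K (d j₀) = 1 := by rw [hd j₀ hj₀, div_self hb]
      have h3 : d j₀ = 1 := IsFractionRing.injective A K (h2.trans (map_one _).symm)
      rw [h3] at h1
      exact (Ideal.ne_top_iff_one _).1 (IsLocalRing.maximalIdeal.isMaximal A).ne_top h1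
    have heq : W.valuation (∑ j ∈ Finset.range p,
        algebraMap A L (d j) * y A L π z m ^ j) = 1 :=
      le_antisymm hle (not_lt.1 hnlt)
    rw [hsum, map_mul, heq, mul_one]

include hπ hz hm hnm hξ hW ha hAW in
theorem gauss_le (c : ℕ → K)
    (h : W.valuation (∑ j ∈ Finset.range p, algebraMap K L (c j) * y A L π z m ^ j) ≤ 1) :
    ∀ j ∈ Finset.range p, ∃ d : A, algebraMap A K d = c j := by
  obtain ⟨j₀, hj₀, h1, h2⟩ := gauss_max p A K L π hπ ξ z hz n a m hm hnm ha hξ W hW hAW c
  intro j hj
  apply (mem_iff A K L π hπ W hW _).1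
  rw [← W.valuation_le_one_iff]
  exact (h2 j hj).trans (h1 ▸ h)

include hπ hz hm hnm hξ hW ha hAW in
theorem gauss_lt (c : ℕ → K)
    (h : W.valuation (∑ j ∈ Finset.range p, algebraMap K L (c j) * y A L π z m ^ j) < 1) :
    ∀ j ∈ Finset.range p, ∃ d ∈ maximalIdeal A, algebraMap A K d = c j := by
  obtain ⟨j₀, hj₀, h1, h2⟩ := gauss_max p A K L π hπ ξ z hz n a m hm hnm ha hξ W hW hAW c
  intro j hj
  apply (lt_one_iff A K L π hπ W hW _).1
  exact lt_of_le_of_lt (h2 j hj) (h1 ▸ h)

end CaseC3

end Groth.Agent.H10.AS
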