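import Groth.Agent.H10.WeaklyEtaleField
import Mathlib

set_option autoImplicit false

/-!
# Weakly étale algebras over a field, II

Images, compositums and directed unions of weakly étale algebras over a field.
-/

namespace Groth.Agent.H10

open TensorProduct

universe u

theorem IsVNR.of_surjective {C D : Type*} [CommRing C] [CommRing D] (h : IsVNR C) (f : C →+* D)
    (hf : Function.Surjective f) : IsVNR D := by
  intro d
  obtain ⟨c, rfl⟩ := hf d
  obtain ⟨t, ht⟩ := h c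
  exact ⟨f t, by rw [← map_mul, ← map_mul, ← ht]⟩

section

variable (K : Type u) [Field K]

theorem isVNR_tensor_of_weaklyEtale (X : Type u) [CommRing X] [Algebra K X]
    [Algebra.WeaklyEtale K X] : IsVNR (X ⊗[K] X) := by
  have hBB : Algebra.WeaklyEtale K (X ⊗[K] X) := Algebra.WeaklyEtale.trans K X (X ⊗[K] X)
  exact isVNR_of_weaklyEtale K (X ⊗[K] X)

theorem weaklyEtale_of_surjective {X Y : Type u} [CommRing X] [CommRing Y] [Algebra K X]
    [Algebra K Y] [Algebra.WeaklyEtale K X] (f : X →ₐ[K] Y) (hf : Function.Surjective f) :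
    Algebra.WeaklyEtale K Y := by
  apply weaklyEtale_of_isVNR_tensor
  refine (isVNR_tensor_of_weaklyEtale K X).of_surjective
    (Algebra.TensorProduct.map f f).toRingHom ?_
  exact TensorProduct.map_surjective hf hf

theorem weaklyEtale_range {X Y : Type u} [CommRing X] [CommRing Y] [Algebra K X]
    [Algebra K Y] [Algebra.WeaklyEtale K X] (f : X →ₐ[K] Y) :
    Algebra.WeaklyEtale K f.range :=
  weaklyEtale_of_surjective K f.rangeRestrict f.rangeRestrict_surjective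

variable (A : Type u) [CommRing A] [Algebra K A]

theorem weaklyEtale_sup (S₁ S₂ : Subalgebra K A) [Algebra.WeaklyEtale K S₁]
    [Algebra.WeaklyEtale K S₂] : Algebra.WeaklyEtale K ↥(S₁ ⊔ S₂) := by
  have h : Algebra.WeaklyEtale K (S₁ ⊗[K] S₂) := Algebra.WeaklyEtale.trans K S₁ (S₁ ⊗[K] S₂)
  have := weaklyEtale_range K (Algebra.TensorProduct.productMap S₁.val S₂.val)
  rw [Algebra.TensorProduct.productMap_range, Subalgebra.range_val, Subalgebra.range_val] at this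
  exact this

theorem weaklyEtale_bot : Algebra.WeaklyEtale K ↥(⊥ : Subalgebra K A) := by
  have := weaklyEtale_range K (Algebra.ofId K A)
  rwa [Algebra.range_ofId] at this

end

section Sup

variable (K : Type u) [Field K] (A : Type u) [CommRing A] [Algebra K A]

/-- the union of all weakly étale subalgebras, as a subalgebra. -/
def weUnion : Subalgebra K A where
  carrier := {a | ∃ S : Subalgebra K A, Algebra.WeaklyEtale K S ∧ a ∈ S}
  mul_mem' := by
    rintro a b ⟨S₁, h₁, ha⟩ ⟨S₂, h₂, hb⟩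
    exact ⟨S₁ ⊔ S₂, weaklyEtale_sup K A S₁ S₂,
      mul_mem ((le_sup_left : S₁ ≤ S₁ ⊔ S₂) ha) ((le_sup_right : S₂ ≤ S₁ ⊔ S₂) hb)⟩
  add_mem' := by
    rintro a b ⟨S₁, h₁, ha⟩ ⟨S₂, h₂, hb⟩
    exact ⟨S₁ ⊔ S₂, weaklyEtale_sup K A S₁ S₂,
      add_mem ((le_sup_left : S₁ ≤ S₁ ⊔ S₂) ha) ((le_sup_right : S₂ ≤ S₁ ⊔ S₂) hb)⟩
  algebraMap_mem' r := ⟨⊥, weaklyEtale_bot K A, Subalgebra.algebraMap_mem _ r⟩

theorem exists_of_mem_sSup (m : A)
    (hm : m ∈ sSup {S : Subalgebra K A | Algebra.WeaklyEtale K S}) :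
    ∃ S : Subalgebra K A, Algebra.WeaklyEtale K S ∧ m ∈ S := by
  have hle : sSup {S : Subalgebra K A | Algebra.WeaklyEtale K S} ≤ weUnion K A := by
    apply sSup_le
    intro S hS a ha
    exact ⟨S, hS, ha⟩
  exact hle hm

theorem exists_tensor_of_sSup
    (z : ↥(sSup {S : Subalgebra K A | Algebra.WeaklyEtale K S}) ⊗[K]
      ↥(sSup {S : Subalgebra K A | Algebra.WeaklyEtale K S})) :
    ∃ (S : Subalgebra K A) (_ : Algebra.WeaklyEtale K S)
      (hle : S ≤ sSup {S : Subalgebra K A | Algebra.WeaklyEtale K S}),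
      z ∈ (Algebra.TensorProduct.map (Subalgebra.inclusion hle) (Subalgebra.inclusion hle)).range := by
  induction z using TensorProduct.induction_on with
  | zero => exact ⟨⊥, weaklyEtale_bot K A, bot_le, zero_mem _⟩
  | tmul x y =>
    obtain ⟨S₁, h₁, hx⟩ := exists_of_mem_sSup K A x x.2
    obtain ⟨S₂, h₂, hy⟩ := exists_of_mem_sSup K A y y.2
    have hle : S₁ ⊔ S₂ ≤ sSup {S : Subalgebra K A | Algebra.WeaklyEtale K S} :=
      sup_le (le_sSup h₁) (le_sSup h₂)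
    refine ⟨S₁ ⊔ S₂, weaklyEtale_sup K A S₁ S₂, hle,
      ⟨(⟨x, (le_sup_left : S₁ ≤ S₁ ⊔ S₂) hx⟩ : ↥(S₁ ⊔ S₂)) ⊗ₜ[K]
        (⟨y, (le_sup_right : S₂ ≤ S₁ ⊔ S₂) hy⟩ : ↥(S₁ ⊔ S₂)), ?_⟩⟩
    simp only [AlgHom.toRingHom_eq_coe, RingHom.coe_coe, Algebra.TensorProduct.map_tmul]
    rfl
  | add z₁ z₂ h₁ h₂ =>
    obtain ⟨S₁, hS₁, hle₁, w₁, hw₁⟩ := h₁
    obtain ⟨S₂, hS₂, hle₂, w₂, hw₂⟩ := h₂
    have hle : S₁ ⊔ S₂ ≤ sSup {S : Subalgebra K A | Algebra.WeaklyEtale K S} := sup_le hle₁ hle₂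
    have hl : S₁ ≤ S₁ ⊔ S₂ := le_sup_left
    have hr : S₂ ≤ S₁ ⊔ S₂ := le_sup_right
    refine ⟨S₁ ⊔ S₂, weaklyEtale_sup K A S₁ S₂, hle,
      ⟨Algebra.TensorProduct.map (Subalgebra.inclusion hl) (Subalgebra.inclusion hl) w₁ +
        Algebra.TensorProduct.map (Subalgebra.inclusion hr) (Subalgebra.inclusion hr) w₂, ?_⟩⟩
    rw [map_add, ← hw₁, ← hw₂]
    congr 1
    · simp only [AlgHom.toRingHom_eq_coe, RingHom.coe_coe]
      rw [← AlgHom.comp_apply, ← Algebra.TensorProduct.map_comp]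
      rfl
    · simp only [AlgHom.toRingHom_eq_coe, RingHom.coe_coe]
      rw [← AlgHom.comp_apply, ← Algebra.TensorProduct.map_comp]
      rfl

theorem weaklyEtale_sSup :
    Algebra.WeaklyEtale K ↥(sSup {S : Subalgebra K A | Algebra.WeaklyEtale K S}) := by
  apply weaklyEtale_of_isVNR_tensor
  intro z
  obtain ⟨S, hS, hle, w, rfl⟩ := exists_tensor_of_sSup K A z
  obtain ⟨t, ht⟩ := isVNR_tensor_of_weaklyEtale K S w
  refine ⟨(Algebra.TensorProduct.map (Subalgebra.inclusion hle) (Subalgebra.inclusion hle)) t, ?_⟩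
  simp only [AlgHom.toRingHom_eq_coe, RingHom.coe_coe]
  rw [← map_mul, ← map_mul, ← ht]

end Sup

end Groth.Agent.H10
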