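import Mathlib
import Groth.Agent.H10.WeaklyEtaleField2

/-! Base change of a weakly unramified extension of local rings along an extension of discrete
valuation rings: if `A → U` is weakly unramified, `A → T` is a local map to a DVR with
uniformizer `t`, `κ_U ⊗_{κ_A} κ_T` is von Neumann regular and `W` is a DVR dominating `U` and `T`
and "generated" by them, then `t` is a uniformizer of `W` and `κ_U ⊗ κ_T → κ_W` is onto. -/

set_option autoImplicit false
set_option linter.style.haveILetI false
set_option linter.unusedSectionVars false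
set_option linter.unusedVariables false
universe u

open IsLocalRing TensorProduct

namespace Groth.Agent.H10.DvrBC

section General

variable {A U T W : Type u} [CommRing A] [IsLocalRing A] [CommRing U] [IsLocalRing U]
  [CommRing T] [IsLocalRing T] [CommRing W] [IsLocalRing W]
  [Algebra A U] [Algebra A T] [Algebra A W] [Algebra U W] [Algebra T W]
  [IsScalarTower A U W] [IsScalarTower A T W]
  [IsLocalHom (algebraMap A U)] [IsLocalHom (algebraMap A T)] [IsLocalHom (algebraMap A W)]
  [IsLocalHom (algebraMap U W)] [IsLocalHom (algebraMap T W)]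

variable (A U T W)

/-- The natural map `U ⊗[A] T → W`. -/
noncomputable def psi : U ⊗[A] T →ₐ[A] W :=
  Algebra.TensorProduct.productMap (IsScalarTower.toAlgHom A U W) (IsScalarTower.toAlgHom A T W)

@[simp] theorem psi_tmul (x : U) (y : T) :
    psi A U T W (x ⊗ₜ y) = algebraMap U W x * algebraMap T W y := by
  simp [psi]

instance compat1 : TensorProduct.CompatibleSMul (ResidueField A) A (ResidueField U)
    (ResidueField T) := TensorProduct.CompatibleSMul.isScalarTower

instance compat2 : TensorProduct.CompatibleSMul A (ResidueField A) (ResidueField U)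
    (ResidueField T) := by
  refine ⟨fun r m n => ?_⟩
  obtain ⟨a, rfl⟩ := residue_surjective r
  have h1 : residue A a • m = a • m := by
    rw [← algebraMap_smul (ResidueField A) a m]; rfl
  have h2 : residue A a • n = a • n := by
    rw [← algebraMap_smul (ResidueField A) a n]; rfl
  rw [h1, h2, TensorProduct.smul_tmul]

/-- The natural map `U ⊗[A] T → κ_U ⊗[κ_A] κ_T`. -/
noncomputable def Phi : U ⊗[A] T →ₐ[A] ResidueField U ⊗[ResidueField A] ResidueField T :=
  (Algebra.TensorProduct.mapOfCompatibleSMul (ResidueField A) A A (ResidueField U)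
    (ResidueField T)).comp
    (Algebra.TensorProduct.map (IsScalarTower.toAlgHom A U (ResidueField U))
      (IsScalarTower.toAlgHom A T (ResidueField T)))

@[simp] theorem Phi_tmul (x : U) (y : T) :
    Phi A U T (x ⊗ₜ y) = residue U x ⊗ₜ residue T y := rfl

theorem Phi_surjective : Function.Surjective (Phi A U T) := by
  intro e
  induction e using TensorProduct.induction_on with
  | zero => exact ⟨0, map_zero _⟩
  | tmul x y =>
    obtain ⟨x, rfl⟩ := residue_surjective x
    obtain ⟨y, rfl⟩ := residue_surjective y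
    exact ⟨x ⊗ₜ y, rfl⟩
  | add x y hx hy =>
    obtain ⟨x, rfl⟩ := hx
    obtain ⟨y, rfl⟩ := hy
    exact ⟨x + y, map_add _ _ _⟩

/-- The kernel of `Phi` is generated by `1 ⊗ t` when `m_A U = m_U` and `m_T = (t)`. -/
theorem ker_Phi_le (hU : (maximalIdeal A).map (algebraMap A U) = maximalIdeal U) (t : T)
    (ht : maximalIdeal T = Ideal.span {t}) :
    RingHom.ker (Phi A U T) ≤ Ideal.span {(1 : U) ⊗ₜ[A] t} := by
  intro x hx
  rw [RingHom.mem_ker] at hx
  have hx' : Algebra.TensorProduct.map (IsScalarTower.toAlgHom A U (ResidueField U))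
      (IsScalarTower.toAlgHom A T (ResidueField T)) x = 0 := by
    have hinj : Function.Injective (Algebra.TensorProduct.mapOfCompatibleSMul (ResidueField A) A A
        (ResidueField U) (ResidueField T)) :=
      (Algebra.TensorProduct.equivOfCompatibleSMul (ResidueField A) A A (ResidueField U)
        (ResidueField T)).injective
    apply hinj
    rw [map_zero]
    exact hx
  have hker := Algebra.TensorProduct.map_ker (IsScalarTower.toAlgHom A U (ResidueField U))
      (IsScalarTower.toAlgHom A T (ResidueField T)) residue_surjective residue_surjective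
  have hxmem : x ∈ RingHom.ker (Algebra.TensorProduct.map
      (IsScalarTower.toAlgHom A U (ResidueField U))
      (IsScalarTower.toAlgHom A T (ResidueField T))) := hx'
  rw [hker] at hxmem
  have hkerU : RingHom.ker (IsScalarTower.toAlgHom A U (ResidueField U)) = maximalIdeal U :=
    IsLocalRing.ker_residue
  have hkerT : RingHom.ker (IsScalarTower.toAlgHom A T (ResidueField T)) = maximalIdeal T :=
    IsLocalRing.ker_residue
  rw [hkerU, hkerT] at hxmem
  have hmT : ∀ y ∈ maximalIdeal T, (1 : U) ⊗ₜ[A] y ∈ Ideal.span {(1 : U) ⊗ₜ[A] t} := by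
    intro y hy
    rw [ht, Ideal.mem_span_singleton'] at hy
    obtain ⟨c, rfl⟩ := hy
    rw [Ideal.mem_span_singleton']
    exact ⟨1 ⊗ₜ c, by rw [Algebra.TensorProduct.tmul_mul_tmul, one_mul]⟩
  have h1 : (maximalIdeal U).map (Algebra.TensorProduct.includeLeft : U →ₐ[A] U ⊗[A] T) ≤
      Ideal.span {(1 : U) ⊗ₜ[A] t} := by
    rw [Ideal.map_le_iff_le_comap, ← hU, Ideal.map_le_iff_le_comap]
    intro a ha
    rw [Ideal.mem_comap, Ideal.mem_comap]
    show (algebraMap A U a) ⊗ₜ[A] (1 : T) ∈ _
    have : (algebraMap A U a) ⊗ₜ[A] (1 : T) = (1 : U) ⊗ₜ[A] (algebraMap A T a) := by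
      rw [Algebra.algebraMap_eq_smul_one, Algebra.algebraMap_eq_smul_one, TensorProduct.smul_tmul]
    rw [this]
    apply hmT
    rw [mem_maximalIdeal, mem_nonunits_iff] at ha ⊢
    exact fun hu => ha (isUnit_of_map_unit (algebraMap A T) a hu)
  have h2 : (maximalIdeal T).map (Algebra.TensorProduct.includeRight : T →ₐ[A] U ⊗[A] T) ≤
      Ideal.span {(1 : U) ⊗ₜ[A] t} := by
    rw [Ideal.map_le_iff_le_comap]
    intro y hy
    exact hmT y hy
  exact (sup_le h1 h2) hxmem

/-- Key step: elements of the prime `q = ψ⁻¹(m_W)` become multiples of `1 ⊗ t` after multiplying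
by an element outside `q`. -/
theorem key_step (hU : (maximalIdeal A).map (algebraMap A U) = maximalIdeal U) (t : T)
    (ht : maximalIdeal T = Ideal.span {t})
    (hE : IsVNR (ResidueField U ⊗[ResidueField A] ResidueField T))
    (x : U ⊗[A] T) (hx : psi A U T W x ∈ maximalIdeal W) :
    ∃ s x₁ : U ⊗[A] T, IsUnit (psi A U T W s) ∧ s * x = ((1 : U) ⊗ₜ[A] t) * x₁ := by
  obtain ⟨e', he'⟩ := hE (Phi A U T x)
  obtain ⟨y, rfl⟩ := Phi_surjective A U T e'
  have hmem : x * (1 - x * y) ∈ RingHom.ker (Phi A U T) := by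
    rw [RingHom.mem_ker, map_mul, map_sub, map_one, map_mul]
    linear_combination he'
  have := ker_Phi_le A U T hU t ht hmem
  rw [Ideal.mem_span_singleton'] at this
  obtain ⟨x₁, hx₁⟩ := this
  refine ⟨1 - x * y, x₁, ?_, ?_⟩
  · rw [map_sub, map_one, map_mul]
    by_contra hnu
    have h1 : 1 - psi A U T W x * psi A U T W y ∈ maximalIdeal W := by
      rwa [mem_maximalIdeal, mem_nonunits_iff]
    have h2 : (1 : W) ∈ maximalIdeal W := by
      have := (maximalIdeal W).add_mem h1 ((maximalIdeal W).mul_mem_right (psi A U T W y) hx)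
      rwa [sub_add_cancel] at this
    exact (maximalIdeal W).ne_top_iff_one.1 (IsLocalRing.maximalIdeal.isMaximal W).ne_top h2
  · rw [mul_comm, ← hx₁, mul_comm]

end General

section DVR

variable (A U T W : Type u) [CommRing A] [IsLocalRing A] [CommRing U] [IsLocalRing U]
  [CommRing T] [IsLocalRing T] [CommRing W] [IsDomain W] [IsDiscreteValuationRing W]
  [Algebra A U] [Algebra A T] [Algebra A W] [Algebra U W] [Algebra T W]
  [IsScalarTower A U W] [IsScalarTower A T W]
  [IsLocalHom (algebraMap A U)] [IsLocalHom (algebraMap A T)] [IsLocalHom (algebraMap A W)]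
  [IsLocalHom (algebraMap U W)] [IsLocalHom (algebraMap T W)]

/-- Decomposition: every element of the image of `ψ` which is nonzero is, up to units coming
from `U ⊗ T`, a power of `τ = ψ (1 ⊗ t)`. -/
theorem decomp (hU : (maximalIdeal A).map (algebraMap A U) = maximalIdeal U) (t : T)
    (ht : maximalIdeal T = Ideal.span {t})
    (hE : IsVNR (ResidueField U ⊗[ResidueField A] ResidueField T))
    (x : U ⊗[A] T) (hx : psi A U T W x ≠ 0) :
    ∃ (n : ℕ) (s y : U ⊗[A] T), IsUnit (psi A U T W s) ∧ IsUnit (psi A U T W y) ∧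
      psi A U T W s * psi A U T W x = algebraMap T W t ^ n * psi A U T W y := by
  obtain ⟨ϖ, hϖ⟩ := IsDiscreteValuationRing.exists_irreducible W
  obtain ⟨m, u, hu⟩ := IsDiscreteValuationRing.eq_unit_mul_pow_irreducible hx hϖ
  induction m using Nat.strong_induction_on generalizing x u with
  | _ m ih =>
    by_cases hxm : psi A U T W x ∈ maximalIdeal W
    · obtain ⟨s₁, x₁, hs₁, hsx⟩ := key_step A U T W hU t ht hE x hxm
      have hψ : psi A U T W s₁ * psi A U T W x = algebraMap T W t * psi A U T W x₁ := by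
        rw [← map_mul, hsx, map_mul, psi_tmul, map_one, one_mul]
      have hne : algebraMap T W t * psi A U T W x₁ ≠ 0 := by
        rw [← hψ]
        exact mul_ne_zero hs₁.ne_zero hx
      have hτ0 : algebraMap T W t ≠ 0 := left_ne_zero_of_mul hne
      have hx₁0 : psi A U T W x₁ ≠ 0 := right_ne_zero_of_mul hne
      obtain ⟨e, uτ, huτ⟩ := IsDiscreteValuationRing.eq_unit_mul_pow_irreducible hτ0 hϖ
      obtain ⟨m₁, u₁, hu₁⟩ := IsDiscreteValuationRing.eq_unit_mul_pow_irreducible hx₁0 hϖ
      have he : e ≠ 0 := by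
        rintro rfl
        rw [pow_zero, mul_one] at huτ
        have htm : t ∈ maximalIdeal T := by rw [ht]; exact Ideal.mem_span_singleton_self t
        have : algebraMap T W t ∈ maximalIdeal W :=
          ((local_hom_TFAE (algebraMap T W)).out 0 2 rfl rfl).mp inferInstance
            (Ideal.mem_map_of_mem _ htm)
        rw [mem_maximalIdeal, mem_nonunits_iff, huτ] at this
        exact this uτ.isUnit
      have hm : m = e + m₁ := by
        obtain ⟨us, hus⟩ := hs₁
        have h3 : ((us * u : Wˣ) : W) * ϖ ^ m = ((uτ * u₁ : Wˣ) : W) * ϖ ^ (e + m₁) := by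
          rw [Units.val_mul, Units.val_mul, hus, mul_assoc, ← hu, hψ, huτ, hu₁, pow_add]
          ring
        exact IsDiscreteValuationRing.unit_mul_pow_congr_pow hϖ hϖ _ _ _ _ h3
      obtain ⟨n, s₂, y, hs₂, hy, h4⟩ := ih m₁ (by omega) x₁ hx₁0 u₁ hu₁
      refine ⟨n + 1, s₁ * s₂, y, ?_, hy, ?_⟩
      · rw [map_mul]; exact hs₁.mul hs₂
      · rw [map_mul, pow_succ]
        calc psi A U T W s₁ * psi A U T W s₂ * psi A U T W x
            = psi A U T W s₂ * (psi A U T W s₁ * psi A U T W x) := by ring
          _ = psi A U T W s₂ * (algebraMap T W t * psi A U T W x₁) := by rw [hψ]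
          _ = algebraMap T W t * (psi A U T W s₂ * psi A U T W x₁) := by ring
          _ = algebraMap T W t ^ n * algebraMap T W t * psi A U T W y := by rw [h4]; ring
    · refine ⟨0, 1, x, by rw [map_one]; exact isUnit_one, ?_, by rw [map_one, one_mul, pow_zero, one_mul]⟩
      rwa [mem_maximalIdeal, mem_nonunits_iff, not_not] at hxm

/-- Cross-multiplied comparison for `w` with `w * ψ y = ψ x`. -/
theorem cross (hU : (maximalIdeal A).map (algebraMap A U) = maximalIdeal U) (t : T)
    (ht : maximalIdeal T = Ideal.span {t})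
    (hE : IsVNR (ResidueField U ⊗[ResidueField A] ResidueField T))
    (w : W) (hw : w ≠ 0) (x y : U ⊗[A] T) (hy : psi A U T W y ≠ 0)
    (hwxy : w * psi A U T W y = psi A U T W x) :
    ∃ (n n' : ℕ) (a b : U ⊗[A] T), IsUnit (psi A U T W a) ∧ IsUnit (psi A U T W b) ∧
      algebraMap T W t ^ n' ≠ 0 ∧
      w * algebraMap T W t ^ n' * psi A U T W a = algebraMap T W t ^ n * psi A U T W b := by
  have hx : psi A U T W x ≠ 0 := by rw [← hwxy]; exact mul_ne_zero hw hy
  obtain ⟨n, s, y₁, hs, hy₁, h1⟩ := decomp A U T W hU t ht hE x hx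
  obtain ⟨n', s', y₂, hs', hy₂, h2⟩ := decomp A U T W hU t ht hE y hy
  refine ⟨n, n', y₂ * s, y₁ * s', ?_, ?_, ?_, ?_⟩
  · rw [map_mul]; exact hy₂.mul hs
  · rw [map_mul]; exact hy₁.mul hs'
  · intro h0
    rw [h0, zero_mul] at h2
    exact (mul_ne_zero hs'.ne_zero hy) h2
  · rw [map_mul, map_mul]
    calc w * algebraMap T W t ^ n' * (psi A U T W y₂ * psi A U T W s)
        = w * (algebraMap T W t ^ n' * psi A U T W y₂) * psi A U T W s := by ring
      _ = w * (psi A U T W s' * psi A U T W y) * psi A U T W s := by rw [h2]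
      _ = psi A U T W s' * (psi A U T W s * (w * psi A U T W y)) := by ring
      _ = psi A U T W s' * (psi A U T W s * psi A U T W x) := by rw [hwxy]
      _ = psi A U T W s' * (algebraMap T W t ^ n * psi A U T W y₁) := by rw [h1]
      _ = algebraMap T W t ^ n * (psi A U T W y₁ * psi A U T W s') := by ring

theorem algebraMap_t_mem (t : T) (ht : maximalIdeal T = Ideal.span {t}) :
    algebraMap T W t ∈ maximalIdeal W := by
  have htm : t ∈ maximalIdeal T := by rw [ht]; exact Ideal.mem_span_singleton_self t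
  exact ((local_hom_TFAE (algebraMap T W)).out 0 2 rfl rfl).mp inferInstance
    (Ideal.mem_map_of_mem _ htm)

/-- Conclusion 1: `m_T W = m_W`. -/
theorem map_maximalIdeal_eq (hU : (maximalIdeal A).map (algebraMap A U) = maximalIdeal U) (t : T)
    (ht : maximalIdeal T = Ideal.span {t})
    (hE : IsVNR (ResidueField U ⊗[ResidueField A] ResidueField T))
    (hgen : ∀ w : W, ∃ x y : U ⊗[A] T, psi A U T W y ≠ 0 ∧ w * psi A U T W y = psi A U T W x) :
    (maximalIdeal T).map (algebraMap T W) = maximalIdeal W := by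
  apply le_antisymm
  · exact ((local_hom_TFAE (algebraMap T W)).out 0 2 rfl rfl).mp inferInstance
  · intro w hwm
    by_cases hw : w = 0
    · rw [hw]; exact Ideal.zero_mem _
    obtain ⟨x, y, hy, hwxy⟩ := hgen w
    obtain ⟨n, n', a, b, ha, hb, hn', h⟩ := cross A U T W hU t ht hE w hw x y hy hwxy
    have hτm := algebraMap_t_mem T W t ht
    set τ := algebraMap T W t with hτ
    rcases Nat.lt_or_ge n' n with hlt | hge
    · -- `n' < n`
      obtain ⟨k, rfl⟩ : ∃ k, n = n' + 1 + k := ⟨n - n' - 1, by omega⟩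
      have h5 : τ ^ n' * (w * psi A U T W a) = τ ^ n' * (τ * τ ^ k * psi A U T W b) := by
        rw [← mul_assoc, mul_comm (τ ^ n') w, h]; ring
      have h6 := mul_left_cancel₀ hn' h5
      obtain ⟨ua, hua⟩ := ha
      have h7 : w = τ * (τ ^ k * psi A U T W b * ↑ua⁻¹) := by
        have : w = w * psi A U T W a * ↑ua⁻¹ := by
          rw [← hua, mul_assoc, Units.mul_inv, mul_one]
        rw [this, h6]; ring
      rw [h7]
      apply Ideal.mul_mem_right
      apply Ideal.mem_map_of_mem
      rw [ht]; exact Ideal.mem_span_singleton_self t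
    · -- `n ≤ n'`: then `w` is a unit, contradiction
      exfalso
      obtain ⟨k, rfl⟩ : ∃ k, n' = n + k := ⟨n' - n, by omega⟩
      have hn0 : τ ^ n ≠ 0 := by
        intro h0
        apply hn'
        rw [pow_add, h0, zero_mul]
      have h5 : τ ^ n * (w * τ ^ k * psi A U T W a) = τ ^ n * psi A U T W b := by
        rw [← h]; ring
      have h6 := mul_left_cancel₀ hn0 h5
      have hwu : IsUnit w := by
        have : IsUnit (w * (τ ^ k * psi A U T W a)) := by
          rw [← mul_assoc, h6]; exact hb
        exact isUnit_of_mul_isUnit_left this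
      rw [mem_maximalIdeal, mem_nonunits_iff] at hwm
      exact hwm hwu

/-- The natural map `κ_U ⊗[κ_A] κ_T → κ_W`. -/
noncomputable def eps : ResidueField U ⊗[ResidueField A] ResidueField T →ₐ[ResidueField A]
    ResidueField W :=
  Algebra.TensorProduct.productMap
    (IsScalarTower.toAlgHom (ResidueField A) (ResidueField U) (ResidueField W))
    (IsScalarTower.toAlgHom (ResidueField A) (ResidueField T) (ResidueField W))

theorem eps_tmul (x : ResidueField U) (y : ResidueField T) :
    eps A U T W (x ⊗ₜ y) =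
      algebraMap (ResidueField U) (ResidueField W) x *
        algebraMap (ResidueField T) (ResidueField W) y := by
  simp [eps]

theorem eps_Phi (d : U ⊗[A] T) : eps A U T W (Phi A U T d) = residue W (psi A U T W d) := by
  induction d using TensorProduct.induction_on with
  | zero => simp
  | tmul x y =>
    rw [Phi_tmul, eps_tmul, psi_tmul, map_mul]
    rfl
  | add x y hx hy => rw [map_add, map_add, hx, hy, map_add, map_add]

/-- Conclusion 2: `κ_U ⊗ κ_T → κ_W` is surjective. -/
theorem eps_surjective (hU : (maximalIdeal A).map (algebraMap A U) = maximalIdeal U) (t : T)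
    (ht : maximalIdeal T = Ideal.span {t})
    (hE : IsVNR (ResidueField U ⊗[ResidueField A] ResidueField T))
    (hgen : ∀ w : W, ∃ x y : U ⊗[A] T, psi A U T W y ≠ 0 ∧ w * psi A U T W y = psi A U T W x) :
    Function.Surjective (eps A U T W) := by
  intro wbar
  obtain ⟨w, rfl⟩ := residue_surjective wbar
  by_cases hwm : w ∈ maximalIdeal W
  · exact ⟨0, by rw [map_zero, eq_comm, residue_eq_zero_iff]; exact hwm⟩
  have hwu : IsUnit w := by rwa [mem_maximalIdeal, mem_nonunits_iff, not_not] at hwm
  have hw : w ≠ 0 := hwu.ne_zero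
  obtain ⟨x, y, hy, hwxy⟩ := hgen w
  obtain ⟨n, n', a, b, ha, hb, hn', h⟩ := cross A U T W hU t ht hE w hw x y hy hwxy
  have hτm := algebraMap_t_mem T W t ht
  set τ := algebraMap T W t with hτ
  have hτnu : ¬ IsUnit τ := by rwa [mem_maximalIdeal, mem_nonunits_iff] at hτm
  -- `n = n'`
  have hnn : n = n' := by
    rcases Nat.lt_trichotomy n n' with hlt | heq | hgt
    · exfalso
      obtain ⟨k, rfl⟩ : ∃ k, n' = n + 1 + k := ⟨n' - n - 1, by omega⟩
      have hn0 : τ ^ n ≠ 0 := by
        intro h0
        apply hn'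
        rw [pow_add, pow_add, h0, zero_mul, zero_mul]
      have h5 : τ ^ n * (τ * (w * τ ^ k * psi A U T W a)) = τ ^ n * psi A U T W b := by
        rw [← h]; ring
      have h6 := mul_left_cancel₀ hn0 h5
      have : IsUnit (τ * (w * τ ^ k * psi A U T W a)) := by rw [h6]; exact hb
      exact hτnu (isUnit_of_mul_isUnit_left this)
    · exact heq
    · exfalso
      obtain ⟨k, rfl⟩ : ∃ k, n = n' + 1 + k := ⟨n - n' - 1, by omega⟩
      have h5 : τ ^ n' * (w * psi A U T W a) = τ ^ n' * (τ * (τ ^ k * psi A U T W b)) := by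
        rw [← mul_assoc, mul_comm (τ ^ n') w, h]; ring
      have h6 := mul_left_cancel₀ hn' h5
      have : IsUnit (τ * (τ ^ k * psi A U T W b)) := by rw [← h6]; exact hwu.mul ha
      exact hτnu (isUnit_of_mul_isUnit_left this)
  subst hnn
  have h5 : τ ^ n * (w * psi A U T W a) = τ ^ n * psi A U T W b := by
    rw [← h]; ring
  have h6 := mul_left_cancel₀ hn' h5
  -- invert `residue (ψ a)` inside the image of `eps`
  obtain ⟨e₃, he₃⟩ := hE (Phi A U T a)
  have hane : eps A U T W (Phi A U T a) ≠ 0 := by
    rw [eps_Phi, Ne, residue_eq_zero_iff, mem_maximalIdeal, mem_nonunits_iff, not_not]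
    exact ha
  have hinv : eps A U T W (Phi A U T a) * eps A U T W e₃ = 1 := by
    have h7 := congrArg (eps A U T W) he₃
    rw [map_mul, map_mul] at h7
    have h8 : eps A U T W (Phi A U T a) * (eps A U T W (Phi A U T a) * eps A U T W e₃ - 1) = 0 := by
      linear_combination -h7
    rcases mul_eq_zero.1 h8 with h9 | h9
    · exact absurd h9 hane
    · exact sub_eq_zero.1 h9
  refine ⟨Phi A U T b * e₃, ?_⟩
  have h10 : residue W w * eps A U T W (Phi A U T a) = eps A U T W (Phi A U T b) := by
    rw [eps_Phi, eps_Phi, ← map_mul, h6]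
  rw [map_mul, ← h10]
  rw [mul_assoc, hinv, mul_one]

end DVR

section GeomRed

theorem geomReduced_of_surjective (k FU FT FW : Type u) [Field k] [Field FU] [Field FT] [Field FW]
    [Algebra k FU] [Algebra k FT] [Algebra k FW] [Algebra FU FW] [Algebra FT FW]
    [IsScalarTower k FU FW] [IsScalarTower k FT FW]
    [Algebra.IsGeometricallyReduced k FU] [Algebra.IsAlgebraic k FT]
    (hsurj : Function.Surjective (Algebra.TensorProduct.productMap
      (IsScalarTower.toAlgHom k FU FW) (IsScalarTower.toAlgHom k FT FW))) :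
    Algebra.IsGeometricallyReduced FT FW := by
  rw [Algebra.isGeometricallyReduced_field_iff]
  set Ω := AlgebraicClosure FT with hΩ
  haveI : IsScalarTower k FT Ω := inferInstance
  haveI : Algebra.IsAlgebraic k Ω := Algebra.IsAlgebraic.trans k FT Ω
  haveI hred : IsReduced (Ω ⊗[k] FU) := inferInstance
  haveI hred' : IsReduced (FU ⊗[k] Ω) :=
    isReduced_of_injective (Algebra.TensorProduct.comm k FU Ω).toRingEquiv.toRingHom
      (Algebra.TensorProduct.comm k FU Ω).injective
  haveI : Algebra.IsIntegral k Ω := Algebra.IsAlgebraic.isIntegral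
  haveI : Algebra.IsIntegral FU (FU ⊗[k] Ω) := inferInstance
  have hvnr : IsVNR (FU ⊗[k] Ω) := isVNR_of_isReduced_of_isIntegral FU (FU ⊗[k] Ω)
  -- the surjection
  let g1 : FU ⊗[k] Ω →ₐ[k] FW ⊗[k] Ω :=
    Algebra.TensorProduct.map (IsScalarTower.toAlgHom k FU FW) (AlgHom.id k Ω)
  let g2 : FW ⊗[k] Ω →ₐ[k] Ω ⊗[k] FW := (Algebra.TensorProduct.comm k FW Ω).toAlgHom
  haveI : TensorProduct.CompatibleSMul FT k Ω FW := TensorProduct.CompatibleSMul.isScalarTower
  let g3 : Ω ⊗[k] FW →ₐ[k] Ω ⊗[FT] FW := Algebra.TensorProduct.mapOfCompatibleSMul FT k k Ω FW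
  let g : FU ⊗[k] Ω →+* Ω ⊗[FT] FW := ((g3.comp g2).comp g1).toRingHom
  have hg : ∀ (u : FU) (ω : Ω), g (u ⊗ₜ ω) = ω ⊗ₜ[FT] (algebraMap FU FW u) := fun u ω => rfl
  have hgs : Function.Surjective g := by
    intro z
    induction z using TensorProduct.induction_on with
    | zero => exact ⟨0, map_zero _⟩
    | tmul ω w =>
      obtain ⟨e, rfl⟩ := hsurj w
      induction e using TensorProduct.induction_on with
      | zero => exact ⟨0, by simp⟩
      | tmul u t =>
        refine ⟨u ⊗ₜ (t • ω), ?_⟩
        rw [hg, Algebra.TensorProduct.productMap_apply_tmul, TensorProduct.smul_tmul]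
        congr 1
        rw [Algebra.smul_def, mul_comm]
        rfl
      | add x y hx hy =>
        obtain ⟨x', hx'⟩ := hx
        obtain ⟨y', hy'⟩ := hy
        exact ⟨x' + y', by rw [map_add, hx', hy', map_add, TensorProduct.tmul_add]⟩
    | add x y hx hy =>
      obtain ⟨x', hx'⟩ := hx
      obtain ⟨y', hy'⟩ := hy
      exact ⟨x' + y', by rw [map_add, hx', hy']⟩
  exact (hvnr.of_surjective g hgs).isReduced

end GeomRed

end Groth.Agent.H10.DvrBC
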