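import Mathlib

/-! A valuation subring of a finite separable extension of the fraction field of a DVR `A`
dominating `A` is a discrete valuation ring. -/

set_option autoImplicit false
set_option linter.style.haveILetI false
universe u

open IsLocalRing

namespace Groth.Agent.H10.DvrDom

variable (A K L : Type*) [CommRing A] [IsDomain A] [IsDiscreteValuationRing A]
  [Field K] [Algebra A K] [IsFractionRing A K] [Field L] [Algebra K L] [Algebra A L]
  [IsScalarTower A K L] [FiniteDimensional K L] [Algebra.IsSeparable K L]

include K in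
theorem isDiscreteValuationRing_of_dominates (V : ValuationSubring L)
    (h1 : ∀ a : A, algebraMap A L a ∈ V)
    (h2 : ∀ a : A, a ∈ maximalIdeal A → V.valuation (algebraMap A L a) < 1) :
    IsDiscreteValuationRing V := by
  classical
  let C := integralClosure A L
  haveI : IsDedekindDomain C := integralClosure.isDedekindDomain A K L
  haveI : IsFractionRing C L := integralClosure.isFractionRing_of_finite_extension K L
  letI algAV : Algebra A V := (RingHom.codRestrict (algebraMap A L) V h1).toAlgebra
  haveI : IsScalarTower A V L := IsScalarTower.of_algebraMap_eq (fun a => rfl)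
  -- `C ≤ V`
  have hCV : ∀ x : L, x ∈ C → x ∈ V := by
    intro x hx
    have hx' : IsIntegral V x := IsIntegral.tower_top (A := V) hx
    obtain ⟨y, hy⟩ := (isIntegrallyClosed_iff L).1 (inferInstance : IsIntegrallyClosed V) hx'
    rw [← hy]
    exact y.2
  let φ : C →+* V :=
    { toFun := fun c => ⟨c.1, hCV c.1 c.2⟩
      map_one' := rfl
      map_mul' := fun _ _ => rfl
      map_zero' := rfl
      map_add' := fun _ _ => rfl }
  have hφ : ∀ c : C, ((φ c : V) : L) = (c : L) := fun c => rfl
  let q : Ideal C := (maximalIdeal V).comap φ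
  haveI hqp : q.IsPrime := Ideal.comap_isPrime φ _
  -- the uniformizer
  obtain ⟨π, hπ⟩ := IsDiscreteValuationRing.exists_irreducible A
  have hπm : π ∈ maximalIdeal A := by
    rw [mem_maximalIdeal, mem_nonunits_iff]
    exact hπ.not_isUnit
  have hπV : (⟨algebraMap A L π, h1 π⟩ : V) ∈ maximalIdeal V := by
    exact (V.valuation_lt_one_iff ⟨_, h1 π⟩).2 (h2 π hπm)
  have hπ0 : algebraMap A L π ≠ 0 := by
    rw [IsScalarTower.algebraMap_apply A K L]
    simpa using (IsFractionRing.injective A K).ne hπ.ne_zero
  have hq : q ≠ ⊥ := by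
    intro hq0
    have hmem : algebraMap A C π ∈ q := hπV
    rw [hq0, Ideal.mem_bot] at hmem
    apply hπ0
    have := congrArg (Subtype.val) hmem
    exact this
  haveI : IsDiscreteValuationRing (Localization.AtPrime q) :=
    IsLocalization.AtPrime.isDiscreteValuationRing_of_dedekind_domain C hq _
  have hunit : ∀ s : q.primeCompl, IsUnit (φ s) := by
    intro s
    have : φ s ∉ maximalIdeal V := s.2
    rwa [mem_maximalIdeal, mem_nonunits_iff, not_not] at this
  let ψ : Localization.AtPrime q →+* V := IsLocalization.lift (M := q.primeCompl) (g := φ) hunit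
  have hψ : ∀ c : C, ψ (algebraMap C (Localization.AtPrime q) c) = φ c :=
    fun c => IsLocalization.lift_eq _ c
  have hψloc : ∀ y : Localization.AtPrime q, ¬ IsUnit y → ψ y ∈ maximalIdeal V := by
    intro y hy
    obtain ⟨c, s, rfl⟩ := IsLocalization.exists_mk'_eq q.primeCompl y
    have hc : c ∈ q := by
      have := (IsLocalization.AtPrime.mk'_mem_maximal_iff (Localization.AtPrime q) q c s).1
        (by rwa [mem_maximalIdeal, mem_nonunits_iff])
      exact this
    rw [IsLocalization.lift_mk']
    exact Ideal.mul_mem_right _ _ hc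
  have hsurj : Function.Surjective ψ := by
    intro x
    obtain ⟨c₁, c₂, hc₂, hx⟩ := IsFractionRing.div_surjective (A := C) (x : L)
    have hc₂0 : (c₂ : L) ≠ 0 := by
      have := nonZeroDivisors.ne_zero hc₂
      intro h
      exact this (Subtype.ext h)
    have hx' : (c₁ : L) = (c₂ : L) * (x : L) := by
      have : algebraMap C L c₁ / algebraMap C L c₂ = (x : L) := hx
      rw [← this]
      change (c₁ : L) = (c₂ : L) * ((c₁ : L) / (c₂ : L))
      rw [mul_div_cancel₀ _ hc₂0]
    rcases ValuationRing.dvd_total (algebraMap C (Localization.AtPrime q) c₁)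
      (algebraMap C (Localization.AtPrime q) c₂) with ⟨y, hy⟩ | ⟨y, hy⟩
    · -- c₂ = c₁ * y
      by_cases hyu : IsUnit y
      · obtain ⟨u, rfl⟩ := hyu
        refine ⟨↑u⁻¹, ?_⟩
        apply Subtype.ext
        have h3 := congrArg (fun z => ((ψ z : V) : L)) hy
        simp only [map_mul, hψ, MulMemClass.coe_mul] at h3
        have h4 : ((ψ (↑u⁻¹ : Localization.AtPrime q) : V) : L) * ((ψ (u : Localization.AtPrime q) : V) : L)
            = 1 := by
          rw [← MulMemClass.coe_mul, ← map_mul, Units.inv_mul, map_one]
          rfl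
        rw [hφ, hφ] at h3
        have hu0 : ((ψ (u : Localization.AtPrime q) : V) : L) ≠ 0 := right_ne_zero_of_mul_eq_one h4
        have hc₁0 : (c₁ : L) ≠ 0 := by
          intro h0
          rw [h0, zero_mul] at h3
          exact hc₂0 h3
        -- x = c₁ / c₂ = 1 / ψ u = ψ u⁻¹
        have : (x : L) * ((ψ (u : Localization.AtPrime q) : V) : L) = 1 := by
          have h5 : (c₂ : L) * ((x : L) * ((ψ (u : Localization.AtPrime q) : V) : L)) = (c₂ : L) * 1 := by
            rw [← mul_assoc, ← hx', mul_one, ← h3]
          exact mul_left_cancel₀ hc₂0 h5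
        exact mul_right_cancel₀ hu0 (h4.trans this.symm)
      · exfalso
        have hm := hψloc y hyu
        have h3 := congrArg (fun z => ((ψ z : V) : L)) hy
        simp only [map_mul, hψ, MulMemClass.coe_mul] at h3
        rw [hφ, hφ] at h3
        have hc₁0 : (c₁ : L) ≠ 0 := by
          intro h0
          rw [h0, zero_mul] at h3
          exact hc₂0 h3
        have h6 : (x : L) * ((ψ y : V) : L) = 1 := by
          have h5 : (c₂ : L) * ((x : L) * ((ψ y : V) : L)) = (c₂ : L) * 1 := by
            rw [← mul_assoc, ← hx', mul_one, ← h3]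
          exact mul_left_cancel₀ hc₂0 h5
        have h7 : x * ψ y = 1 := Subtype.ext h6
        have : IsUnit (ψ y) := IsUnit.of_mul_eq_one x (by rw [mul_comm]; exact h7)
        rw [mem_maximalIdeal, mem_nonunits_iff] at hm
        exact hm this
    · -- c₁ = c₂ * y
      refine ⟨y, ?_⟩
      apply Subtype.ext
      have h3 := congrArg (fun z => ((ψ z : V) : L)) hy
      simp only [map_mul, hψ, MulMemClass.coe_mul] at h3
      rw [hφ, hφ] at h3
      have h5 : (c₂ : L) * ((ψ y : V) : L) = (c₂ : L) * (x : L) := by rw [← h3, hx']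
      exact mul_left_cancel₀ hc₂0 h5
  exact
    { toIsPrincipalIdealRing := IsPrincipalIdealRing.of_surjective ψ hsurj
      toIsLocalRing := inferInstance
      not_a_field' := by
        intro h0
        rw [h0, Ideal.mem_bot] at hπV
        exact hπ0 (congrArg Subtype.val hπV) }

end Groth.Agent.H10.DvrDom
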