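import Mathlib
import Groth.Prelude.Def_EtRam
import Groth.Agent.H10.DvrDominate

/-! Towers of extensions of discrete valuation rings: tame / unramified. -/

set_option autoImplicit false
set_option linter.style.haveILetI false
set_option linter.unusedSectionVars false
universe u

open IsLocalRing

namespace Groth.Agent.H10.EtRamT

section Abstract

variable {A V W : Type*} [CommRing A] [IsLocalRing A] [CommRing V] [IsDomain V]
  [IsDiscreteValuationRing V] [CommRing W] [IsDomain W] [IsDiscreteValuationRing W]
  [Algebra A V] [Algebra V W] [Algebra A W] [IsScalarTower A V W]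
  [IsLocalHom (algebraMap A V)] [IsLocalHom (algebraMap V W)]

theorem map_trans (h1 : (maximalIdeal A).map (algebraMap A V) = maximalIdeal V)
    (h2 : (maximalIdeal V).map (algebraMap V W) = maximalIdeal W) :
    (maximalIdeal A).map (algebraMap A W) = maximalIdeal W := by
  rw [IsScalarTower.algebraMap_eq A V W, ← Ideal.map_map, h1, h2]

theorem map_bot (hne : (maximalIdeal A).map (algebraMap A V) ≠ ⊥)
    (h : (maximalIdeal A).map (algebraMap A W) = maximalIdeal W) :
    (maximalIdeal A).map (algebraMap A V) = maximalIdeal V := by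
  obtain ⟨ϖ, hϖ⟩ := IsDiscreteValuationRing.exists_irreducible V
  obtain ⟨ϖ', hϖ'⟩ := IsDiscreteValuationRing.exists_irreducible W
  obtain ⟨k, hk⟩ := IsDiscreteValuationRing.ideal_eq_span_pow_irreducible hne hϖ
  have hle : (maximalIdeal A).map (algebraMap A V) ≤ maximalIdeal V :=
    ((local_hom_TFAE (algebraMap A V)).out 0 2 rfl rfl).mp ‹_›
  have hleW : (maximalIdeal V).map (algebraMap V W) ≤ maximalIdeal W :=
    ((local_hom_TFAE (algebraMap V W)).out 0 2 rfl rfl).mp ‹_›
  rw [hϖ.maximalIdeal_eq] at hle ⊢
  rw [hk] at hle ⊢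
  rcases k with _ | _ | k
  · exfalso
    rw [pow_zero, Ideal.span_singleton_one] at hle
    have : (1 : V) ∈ Ideal.span {ϖ} := hle trivial
    rw [Ideal.mem_span_singleton] at this
    exact hϖ.not_isUnit (isUnit_of_dvd_one this)
  · rw [zero_add, pow_one]
  · exfalso
    -- `m_W = (m_A V) W ≤ (m_V W)^2 ≤ m_W ^ 2`
    have h3 : maximalIdeal W ≤ maximalIdeal W ^ 2 := by
      calc maximalIdeal W = ((maximalIdeal A).map (algebraMap A V)).map (algebraMap V W) := by
            rw [Ideal.map_map, ← IsScalarTower.algebraMap_eq, h]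
        _ = (Ideal.span {ϖ ^ (k + 1 + 1)}).map (algebraMap V W) := by rw [hk]
        _ ≤ (maximalIdeal V ^ 2).map (algebraMap V W) := by
            apply Ideal.map_mono
            rw [hϖ.maximalIdeal_eq, Ideal.span_singleton_pow, Ideal.span_singleton_le_span_singleton]
            exact pow_dvd_pow ϖ (by omega)
        _ = ((maximalIdeal V).map (algebraMap V W)) ^ 2 := Ideal.map_pow _ _ _
        _ ≤ maximalIdeal W ^ 2 := Ideal.pow_right_mono hleW 2
    rw [hϖ'.maximalIdeal_eq, Ideal.span_singleton_pow, Ideal.span_singleton_le_span_singleton] at h3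
    obtain ⟨c, hc⟩ := h3
    have : ϖ' * (1 - ϖ' * c) = 0 := by rw [mul_sub, mul_one, ← mul_assoc, ← pow_two, ← hc, sub_self]
    rcases mul_eq_zero.mp this with h0 | h0
    · exact hϖ'.ne_zero h0
    · exact hϖ'.not_isUnit (IsUnit.of_mul_eq_one c (sub_eq_zero.mp h0).symm)

variable [IsLocalHom (algebraMap A W)]

theorem ramIdx_tower (hVW : Function.Injective (algebraMap V W))
    (hA : (maximalIdeal A).map (algebraMap A W) ≠ ⊥) :
    Ideal.ramificationIdx' (maximalIdeal A) (maximalIdeal W) =
      Ideal.ramificationIdx' (maximalIdeal A) (maximalIdeal V) *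
        Ideal.ramificationIdx' (maximalIdeal V) (maximalIdeal W) := by
  have hleW : (maximalIdeal V).map (algebraMap V W) ≤ maximalIdeal W :=
    ((local_hom_TFAE (algebraMap V W)).out 0 2 rfl rfl).mp ‹_›
  have hV0 : maximalIdeal V ≠ ⊥ := IsDiscreteValuationRing.not_a_field V
  have hg0 : (maximalIdeal V).map (algebraMap V W) ≠ ⊥ := by
    rw [Ne, Ideal.map_eq_bot_iff_of_injective hVW]
    exact hV0
  exact Ideal.ramificationIdx'_algebra_tower hg0 hA hleW

theorem tame_trans (hVW : Function.Injective (algebraMap V W))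
    (hA : (maximalIdeal A).map (algebraMap A W) ≠ ⊥)
    (h1 : Algebra.IsSeparable (ResidueField A) (ResidueField V))
    (h2 : Algebra.IsSeparable (ResidueField V) (ResidueField W))
    (e1 : ∀ p : ℕ, p.Prime → CharP (ResidueField A) p →
      ¬ p ∣ Ideal.ramificationIdx' (maximalIdeal A) (maximalIdeal V))
    (e2 : ∀ p : ℕ, p.Prime → CharP (ResidueField V) p →
      ¬ p ∣ Ideal.ramificationIdx' (maximalIdeal V) (maximalIdeal W)) :
    Algebra.IsSeparable (ResidueField A) (ResidueField W) ∧
      ∀ p : ℕ, p.Prime → CharP (ResidueField A) p →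
        ¬ p ∣ Ideal.ramificationIdx' (maximalIdeal A) (maximalIdeal W) := by
  refine ⟨Algebra.IsSeparable.trans (ResidueField A) (ResidueField V) (ResidueField W), ?_⟩
  intro p hp hc
  rw [ramIdx_tower hVW hA, hp.dvd_mul]
  rintro (h | h)
  · exact e1 p hp hc h
  · refine e2 p hp ?_ h
    exact charP_of_injective_algebraMap
      (algebraMap (ResidueField A) (ResidueField V)).injective p

theorem tame_bot (hVW : Function.Injective (algebraMap V W))
    (hA : (maximalIdeal A).map (algebraMap A W) ≠ ⊥)
    (h : Algebra.IsSeparable (ResidueField A) (ResidueField W))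
    (e : ∀ p : ℕ, p.Prime → CharP (ResidueField A) p →
      ¬ p ∣ Ideal.ramificationIdx' (maximalIdeal A) (maximalIdeal W)) :
    Algebra.IsSeparable (ResidueField A) (ResidueField V) ∧
      ∀ p : ℕ, p.Prime → CharP (ResidueField A) p →
        ¬ p ∣ Ideal.ramificationIdx' (maximalIdeal A) (maximalIdeal V) := by
  refine ⟨Algebra.isSeparable_tower_bot_of_isSeparable (ResidueField A) (ResidueField V)
    (ResidueField W), ?_⟩
  intro p hp hc hdvd
  apply e p hp hc
  rw [ramIdx_tower hVW hA]
  exact hdvd.mul_right _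

end Abstract

section Concrete

theorem isLocalHom_of_dominates {A : Type u} [CommRing A] [IsLocalRing A] {F : Type u} [Field F]
    (g : A →+* F) (V : ValuationSubring F) (h : EtRam.Dominates A g V) :
    letI := (RingHom.codRestrict g V h.1).toAlgebra
    IsLocalHom (algebraMap A V) := by
  letI := (RingHom.codRestrict g V h.1).toAlgebra
  constructor
  intro a ha
  by_contra hna
  have hm : a ∈ maximalIdeal A := by rwa [mem_maximalIdeal, mem_nonunits_iff]
  have h2 := h.2 a hm
  have h3 : (⟨g a, h.1 a⟩ : V) ∈ maximalIdeal V := (V.valuation_lt_one_iff ⟨_, h.1 a⟩).2 h2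
  rw [mem_maximalIdeal, mem_nonunits_iff] at h3
  exact h3 ha

variable (A K : Type u) [CommRing A] [IsDomain A] [IsDiscreteValuationRing A] [Field K]
  [Algebra A K] [IsFractionRing A K]

theorem isDVR_of_dominates (F : Type u) [Field F] [Algebra K F] [FiniteDimensional K F]
    [Algebra.IsSeparable K F] (V : ValuationSubring F)
    (hV : EtRam.Dominates A ((algebraMap K F).comp (algebraMap A K)) V) :
    IsDiscreteValuationRing V := by
  letI : Algebra A F := ((algebraMap K F).comp (algebraMap A K)).toAlgebra
  haveI : IsScalarTower A K F := .of_algebraMap_eq (fun _ => rfl)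
  exact DvrDom.isDiscreteValuationRing_of_dominates A K F V hV.1 hV.2

variable (L M : Type u) [Field L] [Field M] [Algebra K L] [Algebra K M] [Algebra L M]
  [IsScalarTower K L M]

theorem dominates_comp (V : ValuationSubring L) (W : ValuationSubring M)
    (hV : EtRam.Dominates A ((algebraMap K L).comp (algebraMap A K)) V)
    (hWV : EtRam.Dominates V ((algebraMap L M).comp V.subtype) W) :
    EtRam.Dominates A ((algebraMap K M).comp (algebraMap A K)) W := by
  have hg : ∀ a : A, ((algebraMap K M).comp (algebraMap A K)) a =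
      ((algebraMap L M).comp V.subtype)
        ⟨((algebraMap K L).comp (algebraMap A K)) a, hV.1 a⟩ := by
    intro a
    simp only [RingHom.comp_apply]
    rw [IsScalarTower.algebraMap_apply K L M]
    rfl
  refine ⟨fun a => ?_, fun a ha => ?_⟩
  · rw [hg a]
    exact hWV.1 _
  · rw [hg a]
    apply hWV.2
    exact (V.valuation_lt_one_iff ⟨_, hV.1 a⟩).2 (hV.2 a ha)

end Concrete

end Groth.Agent.H10.EtRamT
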