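import Mathlib
import Groth.Prelude.Def_EtRam
import Groth.Agent.H10.EtRamTower

/-! Tame / unramified extensions in towers: the concrete statements for `EtRam`. -/

set_option autoImplicit false
set_option linter.style.haveILetI false
set_option linter.unusedSectionVars false
set_option linter.unusedVariables false
universe u

open IsLocalRing

namespace Groth.Agent.H10.EtRamT

theorem valuation_lt_one_iff' {F : Type*} [Field F] (V : ValuationSubring F) (x : F) :
    V.valuation x < 1 ↔ x = 0 ∨ x⁻¹ ∉ V := by
  by_cases hx : x = 0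
  · simp [hx]
  · rw [← not_le, V.valuation.one_le_val_iff hx, V.valuation_le_one_iff]
    simp [hx]

theorem valuation_comap_lt_one_iff {L M : Type*} [Field L] [Field M] (φ : L →+* M)
    (W : ValuationSubring M) (x : L) :
    (W.comap φ).valuation x < 1 ↔ W.valuation (φ x) < 1 := by
  rw [valuation_lt_one_iff', valuation_lt_one_iff', ValuationSubring.mem_comap, map_inv₀,
    map_eq_zero]

variable (A K : Type u) [CommRing A] [IsDomain A] [IsDiscreteValuationRing A] [Field K]
  [Algebra A K] [IsFractionRing A K]
variable (L M : Type u) [Field L] [Field M] [Algebra K L] [Algebra K M] [Algebra L M]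
  [IsScalarTower K L M]

theorem dominates_comap (W : ValuationSubring M)
    (hW : EtRam.Dominates A ((algebraMap K M).comp (algebraMap A K)) W) :
    EtRam.Dominates A ((algebraMap K L).comp (algebraMap A K)) (W.comap (algebraMap L M)) ∧
    EtRam.Dominates (W.comap (algebraMap L M))
      ((algebraMap L M).comp (W.comap (algebraMap L M)).subtype) W := by
  have hg : ∀ a : A, algebraMap L M (((algebraMap K L).comp (algebraMap A K)) a) =
      ((algebraMap K M).comp (algebraMap A K)) a := by
    intro a
    simp only [RingHom.comp_apply]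
    rw [← IsScalarTower.algebraMap_apply K L M]
  refine ⟨⟨fun a => ?_, fun a ha => ?_⟩, ⟨fun v => v.2, fun v hv => ?_⟩⟩
  · rw [ValuationSubring.mem_comap, hg]
    exact hW.1 a
  · rw [valuation_comap_lt_one_iff, hg]
    exact hW.2 a ha
  · have := ((W.comap (algebraMap L M)).valuation_lt_one_iff v).1 hv
    rwa [valuation_comap_lt_one_iff] at this

theorem exists_dominates (V : ValuationSubring L) :
    ∃ W : ValuationSubring M, EtRam.Dominates V ((algebraMap L M).comp V.subtype) W := by
  obtain ⟨W, h, hloc⟩ := IsLocalRing.exists_factor_valuationRing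
    ((algebraMap L M).comp V.subtype)
  refine ⟨W, h, fun v hv => ?_⟩
  have h1 : (⟨((algebraMap L M).comp V.subtype) v, h v⟩ : W) ∈ maximalIdeal W := by
    rw [mem_maximalIdeal, mem_nonunits_iff] at hv ⊢
    intro hu
    exact hv (hloc.map_nonunit v hu)
  exact (W.valuation_lt_one_iff ⟨_, h v⟩).1 h1

section Main

variable [FiniteDimensional K M] [Algebra.IsSeparable K M]

/-- The common set-up: a tower `A → V → W` of DVRs from valuation subrings `V ⊂ L`, `W ⊂ M`. -/
theorem tower_setup (V : ValuationSubring L) (W : ValuationSubring M)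
    (hV : EtRam.Dominates A ((algebraMap K L).comp (algebraMap A K)) V)
    (hWV : EtRam.Dominates V ((algebraMap L M).comp V.subtype) W)
    (hW : EtRam.Dominates A ((algebraMap K M).comp (algebraMap A K)) W) :
    letI algAV : Algebra A V := (RingHom.codRestrict _ V hV.1).toAlgebra
    letI algVW : Algebra V W := (RingHom.codRestrict _ W hWV.1).toAlgebra
    letI algAW : Algebra A W := (RingHom.codRestrict _ W hW.1).toAlgebra
    IsScalarTower A V W ∧ IsLocalHom (algebraMap A V) ∧ IsLocalHom (algebraMap V W) ∧
      IsLocalHom (algebraMap A W) ∧ IsDiscreteValuationRing V ∧ IsDiscreteValuationRing W ∧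
      Function.Injective (algebraMap V W) ∧ (maximalIdeal A).map (algebraMap A W) ≠ ⊥ ∧
      (maximalIdeal A).map (algebraMap A V) ≠ ⊥ := by
  letI algAV : Algebra A V := (RingHom.codRestrict _ V hV.1).toAlgebra
  letI algVW : Algebra V W := (RingHom.codRestrict _ W hWV.1).toAlgebra
  letI algAW : Algebra A W := (RingHom.codRestrict _ W hW.1).toAlgebra
  haveI : FiniteDimensional K L := FiniteDimensional.left K L M
  haveI : Algebra.IsSeparable K L := Algebra.isSeparable_tower_bot_of_isSeparable K L M
  have hA0 : maximalIdeal A ≠ ⊥ := IsDiscreteValuationRing.not_a_field A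
  have hinjAK : Function.Injective (algebraMap A K) := IsFractionRing.injective A K
  refine ⟨?_, isLocalHom_of_dominates _ V hV, isLocalHom_of_dominates _ W hWV,
    isLocalHom_of_dominates _ W hW, isDVR_of_dominates A K L V hV, isDVR_of_dominates A K M W hW,
    ?_, ?_, ?_⟩
  · refine .of_algebraMap_eq (fun a => Subtype.ext ?_)
    show algebraMap K M (algebraMap A K a) = algebraMap L M (algebraMap K L (algebraMap A K a))
    rw [← IsScalarTower.algebraMap_apply K L M]
  · intro x y hxy
    have h1 : algebraMap L M (x : L) = algebraMap L M (y : L) := congrArg Subtype.val hxy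
    exact Subtype.ext ((algebraMap L M).injective h1)
  · rw [Ne, Ideal.map_eq_bot_iff_of_injective]
    · exact hA0
    · intro x y hxy
      have h1 : algebraMap K M (algebraMap A K x) = algebraMap K M (algebraMap A K y) :=
        congrArg Subtype.val hxy
      exact hinjAK ((algebraMap K M).injective h1)
  · rw [Ne, Ideal.map_eq_bot_iff_of_injective]
    · exact hA0
    · intro x y hxy
      have h1 : algebraMap K L (algebraMap A K x) = algebraMap K L (algebraMap A K y) :=
        congrArg Subtype.val hxy
      exact hinjAK ((algebraMap K L).injective h1)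

theorem tame_comp
    (hL : EtRam.IsTamelyRamified A ((algebraMap K L).comp (algebraMap A K)))
    (hM : ∀ (V : ValuationSubring L),
      EtRam.Dominates A ((algebraMap K L).comp (algebraMap A K)) V →
        EtRam.IsTamelyRamified V ((algebraMap L M).comp V.subtype)) :
    EtRam.IsTamelyRamified A ((algebraMap K M).comp (algebraMap A K)) := by
  intro W hW
  obtain ⟨hV, hWV⟩ := dominates_comap A K L M W hW
  obtain ⟨h1, h2, h3, h4, h5, h6, h7, h8, h9⟩ :=
    tower_setup A K L M (W.comap (algebraMap L M)) W hV hWV hW
  intro _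
  letI algAV : Algebra A (W.comap (algebraMap L M)) := (RingHom.codRestrict _ _ hV.1).toAlgebra
  letI algVW : Algebra (W.comap (algebraMap L M)) W := (RingHom.codRestrict _ W hWV.1).toAlgebra
  letI algAW : Algebra A W := (RingHom.codRestrict _ W hW.1).toAlgebra
  haveI := h1
  haveI := h2
  haveI := h3
  haveI := h5
  haveI := h6
  obtain ⟨s1, e1⟩ := hL (W.comap (algebraMap L M)) hV
  obtain ⟨s2, e2⟩ := hM (W.comap (algebraMap L M)) hV W hWV
  exact tame_trans h7 h8 s1 s2 e1 e2

theorem unram_comp
    (hL : EtRam.IsUnramifiedExt A ((algebraMap K L).comp (algebraMap A K)))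
    (hM : ∀ (V : ValuationSubring L),
      EtRam.Dominates A ((algebraMap K L).comp (algebraMap A K)) V →
        EtRam.IsUnramifiedExt V ((algebraMap L M).comp V.subtype)) :
    EtRam.IsUnramifiedExt A ((algebraMap K M).comp (algebraMap A K)) := by
  intro W hW
  obtain ⟨hV, hWV⟩ := dominates_comap A K L M W hW
  obtain ⟨h1, h2, h3, h4, h5, h6, h7, h8, h9⟩ :=
    tower_setup A K L M (W.comap (algebraMap L M)) W hV hWV hW
  intro _
  letI algAV : Algebra A (W.comap (algebraMap L M)) := (RingHom.codRestrict _ _ hV.1).toAlgebra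
  letI algVW : Algebra (W.comap (algebraMap L M)) W := (RingHom.codRestrict _ W hWV.1).toAlgebra
  letI algAW : Algebra A W := (RingHom.codRestrict _ W hW.1).toAlgebra
  haveI := h1
  haveI := h2
  haveI := h3
  haveI := h5
  haveI := h6
  obtain ⟨u1, s1⟩ := hL (W.comap (algebraMap L M)) hV
  obtain ⟨u2, s2⟩ := hM (W.comap (algebraMap L M)) hV W hWV
  exact ⟨map_trans u1 u2, Algebra.IsSeparable.trans (ResidueField A)
    (ResidueField (W.comap (algebraMap L M))) (ResidueField W)⟩

theorem tame_sub
    (hM : EtRam.IsTamelyRamified A ((algebraMap K M).comp (algebraMap A K))) :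
    EtRam.IsTamelyRamified A ((algebraMap K L).comp (algebraMap A K)) := by
  intro V hV
  obtain ⟨W, hWV⟩ := exists_dominates L M V
  have hW := dominates_comp A K L M V W hV hWV
  obtain ⟨h1, h2, h3, h4, h5, h6, h7, h8, h9⟩ := tower_setup A K L M V W hV hWV hW
  intro _
  letI algAV : Algebra A V := (RingHom.codRestrict _ _ hV.1).toAlgebra
  letI algVW : Algebra V W := (RingHom.codRestrict _ W hWV.1).toAlgebra
  letI algAW : Algebra A W := (RingHom.codRestrict _ W hW.1).toAlgebra
  haveI := h1
  haveI := h2
  haveI := h3
  haveI := h4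
  haveI := h5
  haveI := h6
  obtain ⟨s, e⟩ := hM W hW
  exact tame_bot h7 h8 s e

theorem unram_sub
    (hM : EtRam.IsUnramifiedExt A ((algebraMap K M).comp (algebraMap A K))) :
    EtRam.IsUnramifiedExt A ((algebraMap K L).comp (algebraMap A K)) := by
  intro V hV
  obtain ⟨W, hWV⟩ := exists_dominates L M V
  have hW := dominates_comp A K L M V W hV hWV
  obtain ⟨h1, h2, h3, h4, h5, h6, h7, h8, h9⟩ := tower_setup A K L M V W hV hWV hW
  intro _
  letI algAV : Algebra A V := (RingHom.codRestrict _ _ hV.1).toAlgebra
  letI algVW : Algebra V W := (RingHom.codRestrict _ W hWV.1).toAlgebra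
  letI algAW : Algebra A W := (RingHom.codRestrict _ W hW.1).toAlgebra
  haveI := h1
  haveI := h2
  haveI := h3
  haveI := h4
  haveI := h5
  haveI := h6
  obtain ⟨u, s⟩ := hM W hW
  exact ⟨map_bot h9 u, Algebra.isSeparable_tower_bot_of_isSeparable (ResidueField A)
    (ResidueField V) (ResidueField W)⟩

end Main

end Groth.Agent.H10.EtRamT
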