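import Mathlib
import Groth.Prelude.Def_EtRam
import Groth.Agent.H10.DvrBaseChange
import Groth.Agent.H10.EtRamTower2
import Groth.Agent.H38.KAFinExt

/-! EtRam: a weakly unramified extension of DVRs with geometrically reduced residue field
extension has every finite extension `K₁/K` as a solution. -/

set_option autoImplicit false
set_option linter.style.haveILetI false
set_option linter.unusedSectionVars false
set_option linter.unusedVariables false
universe u

open IsLocalRing TensorProduct

namespace Groth.Agent.H10.EtRamSm

section DomFin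

variable (A K F : Type u) [CommRing A] [IsDomain A] [IsDiscreteValuationRing A]
  [Field K] [Algebra A K] [IsFractionRing A K] [Field F] [Algebra K F] [Algebra A F]
  [IsScalarTower A K F] [FiniteDimensional K F]

/-- The valuation subring as a subalgebra. -/
def subalg (V : ValuationSubring F) (h1 : ∀ a : A, algebraMap A F a ∈ V) : Subalgebra A F :=
  { V.toSubring.toSubsemiring with algebraMap_mem' := h1 }

include K in
theorem isNoetherianRing_of_dominates (V : ValuationSubring F)
    (h1 : ∀ a : A, algebraMap A F a ∈ V) : IsNoetherianRing V := by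
  haveI : IsNoetherianRing (subalg A F V h1) :=
    Groth.Agent.H38.isNoetherianRing_subalgebra_of_finite_ext A K F (subalg A F V h1)
  let e : subalg A F V h1 →+* V :=
    { toFun := fun x => ⟨x.1, x.2⟩
      map_one' := rfl
      map_mul' := fun _ _ => rfl
      map_zero' := rfl
      map_add' := fun _ _ => rfl }
  exact isNoetherianRing_of_surjective _ _ e (fun x => ⟨⟨x.1, x.2⟩, rfl⟩)

include K in
/-- A valuation subring of a finite extension of `Frac A` dominating the DVR `A` is a DVR
(no separability needed: Krull–Akizuki). -/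
theorem isDVR_of_dominates_fin (V : ValuationSubring F)
    (h1 : ∀ a : A, algebraMap A F a ∈ V)
    (h2 : ∀ a : A, a ∈ maximalIdeal A → V.valuation (algebraMap A F a) < 1) :
    IsDiscreteValuationRing V := by
  haveI := isNoetherianRing_of_dominates A K F V h1
  obtain ⟨π, hπ⟩ := IsDiscreteValuationRing.exists_irreducible A
  have hπm : π ∈ maximalIdeal A := by
    rw [mem_maximalIdeal, mem_nonunits_iff]
    exact hπ.not_isUnit
  have hπV : (⟨algebraMap A F π, h1 π⟩ : V) ∈ maximalIdeal V :=
    (V.valuation_lt_one_iff ⟨_, h1 π⟩).2 (h2 π hπm)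
  have hπ0 : algebraMap A F π ≠ 0 := by
    rw [IsScalarTower.algebraMap_apply A K F]
    simpa using (IsFractionRing.injective A K).ne hπ.ne_zero
  have hnf : ¬ IsField V := by
    intro hf
    have hu : IsUnit (⟨algebraMap A F π, h1 π⟩ : V) := by
      have hne : (⟨algebraMap A F π, h1 π⟩ : V) ≠ 0 := by
        intro h0
        exact hπ0 (congrArg Subtype.val h0)
      obtain ⟨b, hb⟩ := hf.mul_inv_cancel hne
      exact IsUnit.of_mul_eq_one b hb
    rw [mem_maximalIdeal, mem_nonunits_iff] at hπV
    exact hπV hu
  exact ((IsDiscreteValuationRing.TFAE V hnf).out 0 1).2 (inferInstance : ValuationRing V)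

include K in
/-- The residue field of a valuation subring of a finite extension of `Frac A` dominating the
DVR `A` is finite over the residue field of `A`. -/
theorem residue_finite (V : ValuationSubring F) [Algebra A V] [IsScalarTower A V F]
    [IsLocalHom (algebraMap A V)] :
    Module.Finite (ResidueField A) (ResidueField V) := by
  have hcoe : ∀ a : A, ((algebraMap A V a : V) : F) = algebraMap A F a := by
    intro a
    rw [IsScalarTower.algebraMap_apply A V F]
    rfl
  have h1 : ∀ a : A, algebraMap A F a ∈ V := by
    intro a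
    rw [← hcoe a]
    exact (algebraMap A V a).2
  obtain ⟨π, hπ⟩ := IsDiscreteValuationRing.exists_irreducible A
  have hfin := Groth.Agent.H38.finite_quotient_of_finite_ext A K F (subalg A F V h1) π hπ.ne_zero
  let g : subalg A F V h1 →ₐ[A] ResidueField V :=
    { toFun := fun x => residue V ⟨x.1, x.2⟩
      map_one' := rfl
      map_mul' := fun _ _ => rfl
      map_zero' := rfl
      map_add' := fun _ _ => rfl
      commutes' := by
        intro a
        show residue V ⟨algebraMap A F a, _⟩ = residue V (algebraMap A V a)
        congr 1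
        exact Subtype.ext (hcoe a).symm }
  have hg : Function.Surjective g := by
    intro y
    obtain ⟨y, rfl⟩ := residue_surjective y
    exact ⟨⟨y.1, y.2⟩, rfl⟩
  have hI : ∀ x ∈ Ideal.span {algebraMap A (subalg A F V h1) π}, g x = 0 := by
    intro x hx
    rw [Ideal.mem_span_singleton'] at hx
    obtain ⟨c, rfl⟩ := hx
    rw [map_mul, g.commutes]
    have : algebraMap A (ResidueField V) π = 0 := by
      show residue V (algebraMap A V π) = 0
      rw [residue_eq_zero_iff]
      have hπm : π ∈ maximalIdeal A := by
        rw [mem_maximalIdeal, mem_nonunits_iff]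
        exact hπ.not_isUnit
      exact ((local_hom_TFAE (algebraMap A V)).out 0 2 rfl rfl).mp inferInstance
        (Ideal.mem_map_of_mem _ hπm)
    rw [this, mul_zero]
  let g' : (subalg A F V h1 ⧸ Ideal.span {algebraMap A (subalg A F V h1) π}) →ₐ[A]
      ResidueField V := Ideal.Quotient.liftₐ _ g hI
  have hg' : Function.Surjective g' := by
    intro y
    obtain ⟨x, rfl⟩ := hg y
    exact ⟨Ideal.Quotient.mk _ x, rfl⟩
  haveI : Module.Finite A (ResidueField V) := Module.Finite.of_surjective g'.toLinearMap hg'
  exact Module.Finite.of_restrictScalars_finite A (ResidueField A) (ResidueField V)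

end DomFin

section Gen

open Groth.Agent.H10.DvrBC

variable (A U T W : Type u) [CommRing A] [CommRing U] [CommRing T] [CommRing W] [IsDomain W]
  [Algebra A U] [Algebra A T] [Algebra A W] [Algebra U W] [Algebra T W]
  [IsScalarTower A U W] [IsScalarTower A T W]
  (FU FT M : Type u) [Field FU] [Field FT] [Field M] [IsDomain U] [IsDomain T]
  [Algebra U FU] [IsFractionRing U FU] [Algebra T FT] [IsFractionRing T FT]
  [Algebra FU M] [Algebra FT M] [Algebra W M]

/-- If `M` is generated as a field by the fraction fields of `U` and `T`, every element of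
`W ⊆ M` is a quotient of elements of the image of `U ⊗ T`. -/
theorem hgen_of_adjoin (hWM : Function.Injective (algebraMap W M))
    (hUc : ∀ u : U, algebraMap W M (algebraMap U W u) = algebraMap FU M (algebraMap U FU u))
    (hTc : ∀ t : T, algebraMap W M (algebraMap T W t) = algebraMap FT M (algebraMap T FT t))
    (hgen : Algebra.adjoin FU (Set.range (algebraMap FT M)) = ⊤) :
    ∀ w : W, ∃ x y : U ⊗[A] T, psi A U T W y ≠ 0 ∧ w * psi A U T W y = psi A U T W x := by
  have hUinj : Function.Injective (fun u : U => algebraMap W M (algebraMap U W u)) := by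
    intro u u' h
    simp only [hUc] at h
    exact IsFractionRing.injective U FU ((algebraMap FU M).injective h)
  have hTinj : Function.Injective (fun t : T => algebraMap W M (algebraMap T W t)) := by
    intro t t' h
    simp only [hTc] at h
    exact IsFractionRing.injective T FT ((algebraMap FT M).injective h)
  have hpsi : ∀ (x : U) (y : T), psi A U T W (x ⊗ₜ y) = algebraMap U W x * algebraMap T W y := by
    intro x y
    simp [psi]
  have key : ∀ m : M, ∃ x y : U ⊗[A] T, psi A U T W y ≠ 0 ∧
      m * algebraMap W M (psi A U T W y) = algebraMap W M (psi A U T W x) := by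
    intro m
    have hm : m ∈ Algebra.adjoin FU (Set.range (algebraMap FT M)) := by rw [hgen]; trivial
    induction hm using Algebra.adjoin_induction with
    | mem m hm =>
      obtain ⟨k, rfl⟩ := hm
      obtain ⟨a, s, hs, rfl⟩ := IsFractionRing.div_surjective (A := T) k
      have hs0 : s ≠ 0 := nonZeroDivisors.ne_zero hs
      have hs1 : algebraMap T FT s ≠ 0 := by
        intro h
        exact hs0 (IsFractionRing.injective T FT (by rw [h, map_zero]))
      refine ⟨1 ⊗ₜ a, 1 ⊗ₜ s, ?_, ?_⟩
      · rw [hpsi, map_one, one_mul]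
        intro h
        apply hs0
        apply hTinj
        show algebraMap W M (algebraMap T W s) = algebraMap W M (algebraMap T W 0)
        rw [h, map_zero (algebraMap T W)]
      · rw [hpsi, hpsi, map_one, one_mul, one_mul, hTc, hTc, ← map_mul,
          div_mul_cancel₀ _ hs1]
    | algebraMap l =>
      obtain ⟨b, s, hs, rfl⟩ := IsFractionRing.div_surjective (A := U) l
      have hs0 : s ≠ 0 := nonZeroDivisors.ne_zero hs
      have hs1 : algebraMap U FU s ≠ 0 := by
        intro h
        exact hs0 (IsFractionRing.injective U FU (by rw [h, map_zero]))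
      refine ⟨b ⊗ₜ 1, s ⊗ₜ 1, ?_, ?_⟩
      · rw [hpsi, map_one, mul_one]
        intro h
        apply hs0
        apply hUinj
        show algebraMap W M (algebraMap U W s) = algebraMap W M (algebraMap U W 0)
        rw [h, map_zero (algebraMap U W)]
      · rw [hpsi, hpsi, map_one, mul_one, mul_one, hUc, hUc, ← map_mul,
          div_mul_cancel₀ _ hs1]
    | add m₁ m₂ _ _ h₁ h₂ =>
      obtain ⟨x₁, y₁, hy₁, e₁⟩ := h₁
      obtain ⟨x₂, y₂, hy₂, e₂⟩ := h₂
      refine ⟨x₁ * y₂ + x₂ * y₁, y₁ * y₂, ?_, ?_⟩
      · rw [map_mul]
        exact mul_ne_zero hy₁ hy₂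
      · simp only [map_mul, map_add]
        rw [← e₁, ← e₂]
        ring
    | mul m₁ m₂ _ _ h₁ h₂ =>
      obtain ⟨x₁, y₁, hy₁, e₁⟩ := h₁
      obtain ⟨x₂, y₂, hy₂, e₂⟩ := h₂
      refine ⟨x₁ * x₂, y₁ * y₂, ?_, ?_⟩
      · rw [map_mul]
        exact mul_ne_zero hy₁ hy₂
      · simp only [map_mul]
        rw [← e₁, ← e₂]
        ring
  intro w
  obtain ⟨x, y, hy, h⟩ := key (algebraMap W M w)
  exact ⟨x, y, hy, hWM (by rw [map_mul]; exact h)⟩

end Gen

section Main

open Groth.Agent.H10.DvrBC

variable (A B K L : Type u) [CommRing A] [IsDomain A] [IsDiscreteValuationRing A]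
  [CommRing B] [IsDomain B] [IsDiscreteValuationRing B] [Algebra A B] [IsLocalHom (algebraMap A B)]
  [Field K] [Field L] [Algebra A K] [IsFractionRing A K] [Algebra B L] [IsFractionRing B L]
  [Algebra K L] [Algebra A L] [IsScalarTower A K L] [IsScalarTower A B L]
  [Algebra.IsGeometricallyReduced (ResidueField A) (ResidueField B)]
  (K₁ : Type u) [Field K₁] [Algebra K K₁] [FiniteDimensional K K₁]

theorem smooth_solution (hw : EtRam.IsWeaklyUnramified A B) : EtRam.IsSolution B K L K₁ := by
  intro M _ _ _ _ _ _ hgen W hW
  -- `M` is finite over `L`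
  haveI hML : FiniteDimensional L M := by
    let φ : L ⊗[K] K₁ →ₐ[L] M :=
      Algebra.TensorProduct.productLeftAlgHom (Algebra.ofId L M) (IsScalarTower.toAlgHom K K₁ M)
    have hφ : Function.Surjective φ := by
      rw [← AlgHom.range_eq_top, eq_top_iff, ← hgen]
      apply Algebra.adjoin_le
      rintro _ ⟨k, rfl⟩
      exact ⟨1 ⊗ₜ k, by simp [φ]⟩
    exact Module.Finite.of_surjective φ.toLinearMap hφ
  have hAM : ∀ a : A, algebraMap K₁ M (algebraMap K K₁ (algebraMap A K a)) =
      algebraMap L M (algebraMap B L (algebraMap A B a)) := by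
    intro a
    rw [← IsScalarTower.algebraMap_apply K K₁ M, IsScalarTower.algebraMap_apply K L M,
      ← IsScalarTower.algebraMap_apply A K L, IsScalarTower.algebraMap_apply A B L]
  -- `W` is a DVR
  letI algBM : Algebra B M := ((algebraMap L M).comp (algebraMap B L)).toAlgebra
  haveI : IsScalarTower B L M := .of_algebraMap_eq (fun _ => rfl)
  haveI hWdvr : IsDiscreteValuationRing W := isDVR_of_dominates_fin B L M W hW.1 hW.2
  -- `A₁ = W ∩ K₁` is a DVR
  letI algAK₁ : Algebra A K₁ := ((algebraMap K K₁).comp (algebraMap A K)).toAlgebra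
  haveI : IsScalarTower A K K₁ := .of_algebraMap_eq (fun _ => rfl)
  have h1 : ∀ a : A, algebraMap A K₁ a ∈ W.comap (algebraMap K₁ M) := by
    intro a
    rw [ValuationSubring.mem_comap]
    show algebraMap K₁ M (algebraMap K K₁ (algebraMap A K a)) ∈ W
    rw [hAM]
    exact hW.1 _
  have h2 : ∀ a : A, a ∈ maximalIdeal A →
      (W.comap (algebraMap K₁ M)).valuation (algebraMap A K₁ a) < 1 := by
    intro a ha
    rw [EtRamT.valuation_comap_lt_one_iff]
    show W.valuation (algebraMap K₁ M (algebraMap K K₁ (algebraMap A K a))) < 1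
    rw [hAM]
    apply hW.2
    exact ((local_hom_TFAE (algebraMap A B)).out 0 2 rfl rfl).mp inferInstance
      (Ideal.mem_map_of_mem _ ha)
  haveI hA₁dvr : IsDiscreteValuationRing (W.comap (algebraMap K₁ M)) :=
    isDVR_of_dominates_fin A K K₁ _ h1 h2
  -- algebra structures
  letI algBW : Algebra B W :=
    (RingHom.codRestrict ((algebraMap L M).comp (algebraMap B L)) W hW.1).toAlgebra
  haveI locBW : IsLocalHom (algebraMap B W) := EtRamT.isLocalHom_of_dominates _ W hW
  letI algA₁W : Algebra (W.comap (algebraMap K₁ M)) W :=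
    (EtRam.inclOfComap W (algebraMap K₁ M)).toAlgebra
  haveI locA₁W : IsLocalHom (algebraMap (W.comap (algebraMap K₁ M)) W) :=
    EtRam.isLocalHom_inclOfComap W (algebraMap K₁ M)
  letI algAA₁ : Algebra A (W.comap (algebraMap K₁ M)) :=
    (RingHom.codRestrict (algebraMap A K₁) (W.comap (algebraMap K₁ M)) h1).toAlgebra
  letI algAW : Algebra A W := ((algebraMap B W).comp (algebraMap A B)).toAlgebra
  haveI towABW : IsScalarTower A B W := .of_algebraMap_eq (fun _ => rfl)
  haveI towAA₁W : IsScalarTower A (W.comap (algebraMap K₁ M)) W :=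
    .of_algebraMap_eq (fun a => Subtype.ext (hAM a).symm)
  haveI towAA₁K₁ : IsScalarTower A (W.comap (algebraMap K₁ M)) K₁ :=
    .of_algebraMap_eq (fun _ => rfl)
  haveI locAW : IsLocalHom (algebraMap A W) :=
    RingHom.isLocalHom_comp (algebraMap B W) (algebraMap A B)
  haveI locAA₁ : IsLocalHom (algebraMap A (W.comap (algebraMap K₁ M))) := by
    haveI : IsLocalHom ((algebraMap (W.comap (algebraMap K₁ M)) W).comp
        (algebraMap A (W.comap (algebraMap K₁ M)))) := by
      rw [← IsScalarTower.algebraMap_eq A (W.comap (algebraMap K₁ M)) W]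
      exact locAW
    exact isLocalHom_of_comp (algebraMap A (W.comap (algebraMap K₁ M)))
      (algebraMap (W.comap (algebraMap K₁ M)) W)
  -- uniformizer
  obtain ⟨t, ht⟩ := IsDiscreteValuationRing.exists_irreducible (W.comap (algebraMap K₁ M))
  have htm : maximalIdeal (W.comap (algebraMap K₁ M)) = Ideal.span {t} := ht.maximalIdeal_eq
  -- residue fields
  haveI hfin : Module.Finite (ResidueField A) (ResidueField (W.comap (algebraMap K₁ M))) :=
    residue_finite A K K₁ (W.comap (algebraMap K₁ M))
  haveI halg : Algebra.IsAlgebraic (ResidueField A)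
      (ResidueField (W.comap (algebraMap K₁ M))) := Algebra.IsAlgebraic.of_finite _ _
  have hE : IsVNR (ResidueField B ⊗[ResidueField A]
      ResidueField (W.comap (algebraMap K₁ M))) := by
    haveI hred : IsReduced (ResidueField (W.comap (algebraMap K₁ M)) ⊗[ResidueField A]
        ResidueField B) := inferInstance
    haveI hred' : IsReduced (ResidueField B ⊗[ResidueField A]
        ResidueField (W.comap (algebraMap K₁ M))) :=
      isReduced_of_injective (Algebra.TensorProduct.comm (ResidueField A) (ResidueField B)
        (ResidueField (W.comap (algebraMap K₁ M)))).toRingEquiv.toRingHom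
        (Algebra.TensorProduct.comm (ResidueField A) (ResidueField B)
        (ResidueField (W.comap (algebraMap K₁ M)))).injective
    haveI : Algebra.IsIntegral (ResidueField A) (ResidueField (W.comap (algebraMap K₁ M))) :=
      Algebra.IsAlgebraic.isIntegral
    haveI : Algebra.IsIntegral (ResidueField B) (ResidueField B ⊗[ResidueField A]
        ResidueField (W.comap (algebraMap K₁ M))) := inferInstance
    exact isVNR_of_isReduced_of_isIntegral (ResidueField B) _
  have hgen' := hgen_of_adjoin A B (W.comap (algebraMap K₁ M)) W L K₁ M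
    Subtype.val_injective (fun _ => rfl) (fun _ => rfl) hgen
  refine ⟨map_maximalIdeal_eq A B (W.comap (algebraMap K₁ M)) W hw t htm hE hgen', ?_⟩
  have hsurj := eps_surjective A B (W.comap (algebraMap K₁ M)) W hw t htm hE hgen'
  have hgr := geomReduced_of_surjective (ResidueField A) (ResidueField B)
    (ResidueField (W.comap (algebraMap K₁ M))) (ResidueField W) hsurj
  have halgeq : (IsLocalRing.ResidueField.map (EtRam.inclOfComap W (algebraMap K₁ M))).toAlgebra =
      (inferInstance : Algebra (ResidueField (W.comap (algebraMap K₁ M))) (ResidueField W)) := by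
    apply Algebra.algebra_ext
    intro r
    obtain ⟨r, rfl⟩ := residue_surjective r
    rfl
  rw [halgeq]
  exact hgr

end Main

end Groth.Agent.H10.EtRamSm
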