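import Mathlib
import Groth.Prelude.Def_EtRam
import Groth.Agent.H10.EtRamSmooth

/-! EtRam: totally ramified finite separable extensions and weakly unramified extensions of DVRs:
`L ⊗[K] K₁` is a field and `K₁` is a weak solution. -/

set_option autoImplicit false
set_option linter.style.haveILetI false
set_option linter.unusedSectionVars false
set_option linter.unusedVariables false
universe u

open IsLocalRing TensorProduct

namespace Groth.Agent.H10.EtRamTot

section Bound

variable {B W : Type*} [CommRing B] [IsDomain B] [IsDiscreteValuationRing B] [CommRing W]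
  [IsDomain W] [IsLocalRing W] [Algebra B W] [IsLocalHom (algebraMap B W)]

/-- If `m_B W ⊆ ϖ^n W` and `∑_{i<n} b_i ϖ^i = 0`, then all `b_i` lie in `m_B`. -/
theorem coeff_mem_of_sum_eq_zero (ϖ : W) (hϖ : ϖ ∈ maximalIdeal W) (hϖ0 : ϖ ≠ 0) (n : ℕ)
    (hπ : ∀ b ∈ maximalIdeal B, algebraMap B W b ∈ Ideal.span {ϖ ^ n}) (b : Fin n → B)
    (hsum : ∑ i, algebraMap B W (b i) * ϖ ^ (i : ℕ) = 0) : ∀ i, b i ∈ maximalIdeal B := by
  classical
  by_contra hcon
  push Not at hcon
  -- the least index with a unit coefficient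
  obtain ⟨j, hj, hjmin⟩ : ∃ j : Fin n, b j ∉ maximalIdeal B ∧
      ∀ i : Fin n, b i ∉ maximalIdeal B → j ≤ i := by
    have hne : (Finset.univ.filter (fun i : Fin n => b i ∉ maximalIdeal B)).Nonempty := by
      obtain ⟨i, hi⟩ := hcon
      exact ⟨i, Finset.mem_filter.mpr ⟨Finset.mem_univ _, hi⟩⟩
    refine ⟨Finset.min' _ hne, ?_, ?_⟩
    · exact (Finset.mem_filter.mp (Finset.min'_mem _ hne)).2
    · intro i hi
      exact Finset.min'_le _ i (Finset.mem_filter.mpr ⟨Finset.mem_univ _, hi⟩)
  have hju : IsUnit (algebraMap B W (b j)) := by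
    have : IsUnit (b j) := by rwa [mem_maximalIdeal, mem_nonunits_iff, not_not] at hj
    exact this.map _
  -- every other term is divisible by `ϖ^(j+1)`
  have hterm : ∀ i : Fin n, i ≠ j →
      algebraMap B W (b i) * ϖ ^ (i : ℕ) ∈ Ideal.span {ϖ ^ ((j : ℕ) + 1)} := by
    intro i hij
    rcases lt_or_gt_of_ne hij with hlt | hgt
    · have hbi : b i ∈ maximalIdeal B := by
        by_contra h
        exact absurd (hjmin i h) (not_le.mpr hlt)
      have h1 := hπ (b i) hbi
      have h2 : Ideal.span {ϖ ^ n} ≤ Ideal.span {ϖ ^ ((j : ℕ) + 1)} := by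
        rw [Ideal.span_singleton_le_span_singleton]
        exact pow_dvd_pow ϖ (by have := j.2; omega)
      exact Ideal.mul_mem_right _ _ (h2 h1)
    · rw [Ideal.mem_span_singleton]
      exact Dvd.dvd.mul_left (pow_dvd_pow ϖ (by exact_mod_cast hgt)) _
  have hjt : algebraMap B W (b j) * ϖ ^ (j : ℕ) ∈ Ideal.span {ϖ ^ ((j : ℕ) + 1)} := by
    have hsplit := Finset.add_sum_erase Finset.univ
      (fun i : Fin n => algebraMap B W (b i) * ϖ ^ (i : ℕ)) (Finset.mem_univ j)
    rw [hsum] at hsplit
    have : algebraMap B W (b j) * ϖ ^ (j : ℕ) =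
        - ∑ i ∈ Finset.univ.erase j, algebraMap B W (b i) * ϖ ^ (i : ℕ) := by
      rw [eq_neg_iff_add_eq_zero]
      exact hsplit
    rw [this]
    apply neg_mem
    apply Ideal.sum_mem
    intro i hi
    exact hterm i (Finset.ne_of_mem_erase hi)
  rw [Ideal.mem_span_singleton'] at hjt
  obtain ⟨x, hx⟩ := hjt
  have hx' : ϖ ^ (j : ℕ) * (x * ϖ) = ϖ ^ (j : ℕ) * algebraMap B W (b j) := by
    calc ϖ ^ (j : ℕ) * (x * ϖ) = x * ϖ ^ ((j : ℕ) + 1) := by ring
      _ = algebraMap B W (b j) * ϖ ^ (j : ℕ) := hx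
      _ = ϖ ^ (j : ℕ) * algebraMap B W (b j) := by ring
  have hx'' : x * ϖ = algebraMap B W (b j) := mul_left_cancel₀ (pow_ne_zero _ hϖ0) hx'
  have : algebraMap B W (b j) ∈ maximalIdeal W := by
    rw [← hx'']
    exact Ideal.mul_mem_left _ _ hϖ
  rw [mem_maximalIdeal, mem_nonunits_iff] at this
  exact this hju

/-- If `m_B W ⊆ ϖ^n W` and `∑_{i<n} b_i ϖ^i = 0`, then all `b_i` vanish. -/
theorem coeff_eq_zero_of_sum_eq_zero (hinj : Function.Injective (algebraMap B W))
    (ϖ : W) (hϖ : ϖ ∈ maximalIdeal W) (hϖ0 : ϖ ≠ 0) (n : ℕ)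
    (hπ : ∀ b ∈ maximalIdeal B, algebraMap B W b ∈ Ideal.span {ϖ ^ n}) (b : Fin n → B)
    (hsum : ∑ i, algebraMap B W (b i) * ϖ ^ (i : ℕ) = 0) : ∀ i, b i = 0 := by
  obtain ⟨π, hπirr⟩ := IsDiscreteValuationRing.exists_irreducible B
  have hmB : maximalIdeal B = Ideal.span {π} := hπirr.maximalIdeal_eq
  have hπW : algebraMap B W π ≠ 0 := by
    intro h
    exact hπirr.ne_zero (hinj (by rw [h, map_zero]))
  have key : ∀ k : ℕ, ∀ b : Fin n → B, ∑ i, algebraMap B W (b i) * ϖ ^ (i : ℕ) = 0 →
      ∀ i, b i ∈ maximalIdeal B ^ k := by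
    intro k
    induction k with
    | zero => intro b _ i; simp
    | succ k ih =>
      intro b hb i
      have h1 := coeff_mem_of_sum_eq_zero ϖ hϖ hϖ0 n hπ b hb
      have h2 : ∀ i, ∃ c, b i = π * c := by
        intro i
        have := h1 i
        rw [hmB, Ideal.mem_span_singleton'] at this
        obtain ⟨c, hc⟩ := this
        exact ⟨c, by rw [← hc, mul_comm]⟩
      choose c hc using h2
      have hcs : ∑ i, algebraMap B W (c i) * ϖ ^ (i : ℕ) = 0 := by
        have : algebraMap B W π * ∑ i, algebraMap B W (c i) * ϖ ^ (i : ℕ) = 0 := by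
          rw [Finset.mul_sum, ← hb]
          apply Finset.sum_congr rfl
          intro i _
          rw [hc i, map_mul, mul_assoc]
        exact (mul_eq_zero.mp this).resolve_left hπW
      have h3 := ih c hcs i
      rw [hc i, pow_succ']
      apply Ideal.mul_mem_mul _ h3
      rw [hmB]
      exact Ideal.mem_span_singleton_self π
  intro i
  have hbot : (⨅ k : ℕ, maximalIdeal B ^ k) = ⊥ :=
    Ideal.iInf_pow_eq_bot_of_isLocalRing _ (Ideal.IsMaximal.ne_top inferInstance)
  have : b i ∈ (⨅ k : ℕ, maximalIdeal B ^ k) := by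
    rw [Ideal.mem_iInf]
    intro k
    exact key k b hsum i
  rw [hbot] at this
  exact this

end Bound

section LinInd

variable (B W L M : Type u) [CommRing B] [IsDomain B] [IsDiscreteValuationRing B] [CommRing W]
  [IsDomain W] [IsLocalRing W] [Algebra B W] [IsLocalHom (algebraMap B W)]
  [Field L] [Field M] [Algebra B L] [IsFractionRing B L] [Algebra L M] [Algebra W M] [Algebra B M]
  [IsScalarTower B L M] [IsScalarTower B W M]

/-- The ramification index is bounded by the degree: if `m_B W ⊆ ϖ^n W` then `n ≤ [M : L]`. -/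
theorem le_finrank [FiniteDimensional L M] (hWM : Function.Injective (algebraMap W M)) (ϖ : W)
    (hϖ : ϖ ∈ maximalIdeal W) (hϖ0 : ϖ ≠ 0) (n : ℕ)
    (hπ : ∀ b ∈ maximalIdeal B, algebraMap B W b ∈ Ideal.span {ϖ ^ n}) :
    n ≤ Module.finrank L M := by
  have hinj : Function.Injective (algebraMap B W) := by
    intro x y hxy
    have h1 : algebraMap B M x = algebraMap B M y := by
      rw [IsScalarTower.algebraMap_apply B W M, hxy, ← IsScalarTower.algebraMap_apply]
    rw [IsScalarTower.algebraMap_apply B L M, IsScalarTower.algebraMap_apply B L M] at h1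
    exact IsFractionRing.injective B L ((algebraMap L M).injective h1)
  have hli : LinearIndependent L (fun i : Fin n => (algebraMap W M ϖ) ^ (i : ℕ)) := by
    rw [Fintype.linearIndependent_iff]
    intro g hg
    obtain ⟨s, hs⟩ := IsLocalization.exist_integer_multiples_of_finite (nonZeroDivisors B) g
    have hs' : ∀ i, ∃ b : B, algebraMap B L b = algebraMap B L (s : B) * g i := by
      intro i
      obtain ⟨b, hb⟩ := hs i
      exact ⟨b, by rw [hb, Algebra.smul_def]⟩
    choose b hb using hs'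
    have hsum : ∑ i, algebraMap B W (b i) * ϖ ^ (i : ℕ) = 0 := by
      apply hWM
      rw [map_zero, map_sum]
      have hterm : ∀ i : Fin n, algebraMap W M (algebraMap B W (b i) * ϖ ^ (i : ℕ)) =
          algebraMap L M (algebraMap B L (s : B)) * (g i • (algebraMap W M ϖ) ^ (i : ℕ)) := by
        intro i
        rw [map_mul, map_pow, ← IsScalarTower.algebraMap_apply B W M,
          IsScalarTower.algebraMap_apply B L M, hb i, map_mul, Algebra.smul_def, mul_assoc]
      rw [Finset.sum_congr rfl (fun i _ => hterm i), ← Finset.mul_sum, hg, mul_zero]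
    have hb0 := coeff_eq_zero_of_sum_eq_zero hinj ϖ hϖ hϖ0 n hπ b hsum
    intro i
    have h1 := hb i
    rw [hb0 i, map_zero] at h1
    have hs0 : algebraMap B L (s : B) ≠ 0 := by
      intro h
      exact nonZeroDivisors.ne_zero s.2 (IsFractionRing.injective B L (by rw [h, map_zero]))
    exact (mul_eq_zero.mp h1.symm).resolve_left hs0
  have := hli.fintype_card_le_finrank
  simpa using this

end LinInd

section TotRam

variable (A K K₁ : Type u) [CommRing A] [IsDomain A] [IsDiscreteValuationRing A] [Field K]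
  [Algebra A K] [IsFractionRing A K] [Field K₁] [Algebra K K₁] [Algebra A K₁]
  [IsScalarTower A K K₁] [FiniteDimensional K K₁]

/-- In a DVR, every nonzero element divides a power of any element of the maximal ideal. -/
theorem exists_dvd_pow (a s : A) (ha : a ∈ maximalIdeal A) (hs : s ≠ 0) : ∃ m : ℕ, s ∣ a ^ m := by
  obtain ⟨π, hπ⟩ := IsDiscreteValuationRing.exists_irreducible A
  obtain ⟨m, hm⟩ := IsDiscreteValuationRing.associated_pow_irreducible hs hπ
  refine ⟨m, ?_⟩
  rw [hπ.maximalIdeal_eq, Ideal.mem_span_singleton] at ha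
  exact hm.dvd.trans (pow_dvd_pow_of_dvd ha m)

include K in
/-- A valuation subring containing `A` but not dominating it is everything. -/
theorem mem_of_not_dominates (V' : ValuationSubring K₁) (h1 : ∀ a : A, algebraMap A K₁ a ∈ V')
    (hnd : ¬ ∀ a ∈ maximalIdeal A, V'.valuation (algebraMap A K₁ a) < 1) (x : K₁) : x ∈ V' := by
  push Not at hnd
  obtain ⟨a, ha, hva⟩ := hnd
  have hva' : ¬ V'.valuation (algebraMap A K₁ a) < 1 := not_lt.mpr hva
  rw [EtRamT.valuation_lt_one_iff'] at hva'
  push Not at hva'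
  obtain ⟨ha0, hainv⟩ := hva'
  have hAK₁ : Function.Injective (algebraMap A K₁) := by
    rw [IsScalarTower.algebraMap_eq A K K₁]
    exact (algebraMap K K₁).injective.comp (IsFractionRing.injective A K)
  -- inverses of nonzero elements of `A` lie in `V'`
  have hinv : ∀ s : A, s ≠ 0 → (algebraMap A K₁ s)⁻¹ ∈ V' := by
    intro s hs
    obtain ⟨m, c, hc⟩ := exists_dvd_pow A a s ha hs
    have hs0 : algebraMap A K₁ s ≠ 0 := fun h => hs (hAK₁ (by rw [h, map_zero]))
    have : (algebraMap A K₁ s)⁻¹ = ((algebraMap A K₁ a)⁻¹) ^ m * algebraMap A K₁ c := by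
      have h2 : algebraMap A K₁ a ^ m = algebraMap A K₁ s * algebraMap A K₁ c := by
        rw [← map_pow, hc, map_mul]
      have hpow0 : algebraMap A K₁ a ^ m ≠ 0 := pow_ne_zero m ha0
      rw [inv_pow]
      apply mul_left_cancel₀ hs0
      rw [mul_inv_cancel₀ hs0, mul_left_comm, ← h2, inv_mul_cancel₀ hpow0]
    rw [this]
    exact V'.mul_mem _ _ (pow_mem hainv m) (h1 c)
  -- so `K ⊆ V'`
  have hK : ∀ k : K, algebraMap K K₁ k ∈ V' := by
    intro k
    obtain ⟨r, s, hs, rfl⟩ := IsFractionRing.div_surjective (A := A) k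
    rw [map_div₀, ← IsScalarTower.algebraMap_apply A K K₁, ← IsScalarTower.algebraMap_apply A K K₁,
      div_eq_mul_inv]
    exact V'.mul_mem _ _ (h1 r) (hinv s (nonZeroDivisors.ne_zero hs))
  letI algKV : Algebra K V' := (RingHom.codRestrict (algebraMap K K₁) V' hK).toAlgebra
  haveI : IsScalarTower K V' K₁ := IsScalarTower.of_algebraMap_eq (fun _ => rfl)
  have hx : IsIntegral K x := Algebra.IsIntegral.isIntegral x
  have hx' : IsIntegral V' x := IsIntegral.tower_top (A := V') hx
  obtain ⟨y, hy⟩ := (isIntegrallyClosed_iff K₁).1 (inferInstance : IsIntegrallyClosed V') hx'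
  rw [← hy]
  exact y.2

include K in
/-- The unique valuation subring dominating `A` is the integral closure of `A`. -/
theorem mem_iff_isIntegral (V : ValuationSubring K₁) (h1 : ∀ a : A, algebraMap A K₁ a ∈ V)
    (h2 : ∀ a ∈ maximalIdeal A, V.valuation (algebraMap A K₁ a) < 1)
    (huniq : ∀ V' : ValuationSubring K₁, (∀ a : A, algebraMap A K₁ a ∈ V') →
      (∀ a ∈ maximalIdeal A, V'.valuation (algebraMap A K₁ a) < 1) → V' = V) (x : K₁) :
    x ∈ V ↔ IsIntegral A x := by
  constructor
  · intro hxV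
    by_contra hx
    have hxR : x ∉ (integralClosure A K₁).toSubring := hx
    obtain ⟨V', hV', hxV'⟩ := Subring.exists_le_valuationSubring_of_isIntegrallyClosedIn hxR
    have h1' : ∀ a : A, algebraMap A K₁ a ∈ V' := fun a =>
      hV' (Subalgebra.algebraMap_mem (integralClosure A K₁) a)
    by_cases hd : ∀ a ∈ maximalIdeal A, V'.valuation (algebraMap A K₁ a) < 1
    · rw [huniq V' h1' hd] at hxV'
      exact hxV' hxV
    · exact hxV' (mem_of_not_dominates A K K₁ V' h1' hd x)
  · intro hx
    letI algAV : Algebra A V := (RingHom.codRestrict (algebraMap A K₁) V h1).toAlgebra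
    haveI : IsScalarTower A V K₁ := IsScalarTower.of_algebraMap_eq (fun a => rfl)
    have hx' : IsIntegral V x := IsIntegral.tower_top (A := V) hx
    obtain ⟨y, hy⟩ := (isIntegrallyClosed_iff K₁).1 (inferInstance : IsIntegrallyClosed V) hx'
    rw [← hy]
    exact y.2

include K in
/-- For the unique valuation subring `V` dominating `A` in a finite separable extension of degree
`n`, with trivial residue extension, `m_A V ⊆ m_V ^ n`. -/
theorem map_le_pow_finrank [Algebra.IsSeparable K K₁] (V : ValuationSubring K₁) [Algebra A V]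
    [IsScalarTower A V K₁] [IsLocalHom (algebraMap A V)]
    (huniq : ∀ V' : ValuationSubring K₁, (∀ a : A, algebraMap A K₁ a ∈ V') →
      (∀ a ∈ maximalIdeal A, V'.valuation (algebraMap A K₁ a) < 1) → V' = V)
    (hres : Function.Surjective (fun a : A => residue V (algebraMap A V a))) :
    (maximalIdeal A).map (algebraMap A V) ≤ maximalIdeal V ^ Module.finrank K K₁ := by
  have hcoe : ∀ a : A, ((algebraMap A V a : V) : K₁) = algebraMap A K₁ a := by
    intro a
    rw [IsScalarTower.algebraMap_apply A V K₁]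
    rfl
  have h1 : ∀ a : A, algebraMap A K₁ a ∈ V := by
    intro a
    rw [← hcoe a]
    exact (algebraMap A V a).2
  have h2 : ∀ a ∈ maximalIdeal A, V.valuation (algebraMap A K₁ a) < 1 := by
    intro a ha
    have hm : algebraMap A V a ∈ maximalIdeal V :=
      ((local_hom_TFAE (algebraMap A V)).out 0 2 rfl rfl).mp inferInstance
        (Ideal.mem_map_of_mem _ ha)
    have := (V.valuation_lt_one_iff (algebraMap A V a)).1 hm
    rwa [hcoe] at this
  have hint := mem_iff_isIntegral A K K₁ V h1 h2 huniq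
  haveI hVdvr : IsDiscreteValuationRing V := EtRamSm.isDVR_of_dominates_fin A K K₁ V h1 h2
  -- `V` is a finite `A`-module
  haveI hfinC : Module.Finite A (integralClosure A K₁) :=
    IsIntegralClosure.finite A K K₁ (integralClosure A K₁)
  haveI hfinV : Module.Finite A V := by
    let φ : integralClosure A K₁ →ₗ[A] V :=
      { toFun := fun x => ⟨x.1, (hint x.1).2 x.2⟩
        map_add' := fun _ _ => rfl
        map_smul' := by
          intro a x
          apply Subtype.ext
          show ((a • x : integralClosure A K₁) : K₁) = ((a • (⟨x.1, (hint x.1).2 x.2⟩ : V) : V) : K₁)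
          rw [Algebra.smul_def, Algebra.smul_def]
          show algebraMap A K₁ a * (x : K₁) = ((algebraMap A V a : V) : K₁) * (x : K₁)
          rw [hcoe] }
    have hφ : Function.Surjective φ := by
      intro v
      exact ⟨⟨v.1, (hint v.1).1 v.2⟩, rfl⟩
    exact Module.Finite.of_surjective φ hφ
  have hp0 : maximalIdeal A ≠ ⊥ := IsDiscreteValuationRing.not_a_field A
  have hef := Ideal.ramificationIdx_mul_inertiaDeg_of_isLocalRing (R := A) V K K₁
    (p := maximalIdeal A) hp0
  have hf : (maximalIdeal A).inertiaDeg' (maximalIdeal V) = 1 := by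
    rw [Ideal.inertiaDeg'_algebraMap]
    show Module.finrank (ResidueField A) (ResidueField V) = 1
    rw [← Subalgebra.bot_eq_top_iff_finrank_eq_one, eq_comm, ← Algebra.surjective_algebraMap_iff]
    intro y
    obtain ⟨a, ha⟩ := hres y
    exact ⟨residue A a, ha⟩
  rw [hf, mul_one] at hef
  rw [← hef]
  exact Ideal.le_pow_ramificationIdx'

end TotRam

section Main

variable (A B K L : Type u) [CommRing A] [IsDomain A] [IsDiscreteValuationRing A]
  [CommRing B] [IsDomain B] [IsDiscreteValuationRing B] [Algebra A B] [IsLocalHom (algebraMap A B)]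
  [Field K] [Field L] [Algebra A K] [IsFractionRing A K] [Algebra B L] [IsFractionRing B L]
  [Algebra K L] [Algebra A L] [IsScalarTower A K L] [IsScalarTower A B L]
  (K₁ : Type u) [Field K₁] [Algebra K K₁] [FiniteDimensional K K₁] [Algebra.IsSeparable K K₁]

theorem core_tot (hw : EtRam.IsWeaklyUnramified A B)
    (ht : EtRam.IsTotallyRamified A ((algebraMap K K₁).comp (algebraMap A K)))
    (M : Type u) [Field M] [Algebra K M] [Algebra L M] [Algebra K₁ M] [IsScalarTower K L M]
    [IsScalarTower K K₁ M]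
    (hgen : Algebra.adjoin L (Set.range (algebraMap K₁ M)) = ⊤)
    (W : ValuationSubring M)
    (hW : EtRam.Dominates B ((algebraMap L M).comp (algebraMap B L)) W) :
    Module.finrank L M = Module.finrank K K₁ ∧
    (letI : Algebra (W.comap (algebraMap K₁ M)) W :=
      (EtRam.inclOfComap W (algebraMap K₁ M)).toAlgebra
    EtRam.IsWeaklyUnramified (W.comap (algebraMap K₁ M)) W) := by
  -- `M` is finite over `L`, of degree at most `n`
  let φ : L ⊗[K] K₁ →ₐ[L] M :=
    Algebra.TensorProduct.productLeftAlgHom (Algebra.ofId L M) (IsScalarTower.toAlgHom K K₁ M)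
  have hφ : Function.Surjective φ := by
    rw [← AlgHom.range_eq_top, eq_top_iff, ← hgen]
    apply Algebra.adjoin_le
    rintro _ ⟨k, rfl⟩
    exact ⟨1 ⊗ₜ k, by simp [φ]⟩
  haveI hML : FiniteDimensional L M := Module.Finite.of_surjective φ.toLinearMap hφ
  have hle : Module.finrank L M ≤ Module.finrank K K₁ := by
    have h := LinearMap.finrank_le_finrank_of_surjective (f := φ.toLinearMap) hφ
    rwa [Module.finrank_baseChange] at h
  have hAM : ∀ a : A, algebraMap K₁ M (algebraMap K K₁ (algebraMap A K a)) =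
      algebraMap L M (algebraMap B L (algebraMap A B a)) := by
    intro a
    rw [← IsScalarTower.algebraMap_apply K K₁ M, IsScalarTower.algebraMap_apply K L M,
      ← IsScalarTower.algebraMap_apply A K L, IsScalarTower.algebraMap_apply A B L]
  -- `W` is a DVR
  letI algBM : Algebra B M := ((algebraMap L M).comp (algebraMap B L)).toAlgebra
  haveI : IsScalarTower B L M := .of_algebraMap_eq (fun _ => rfl)
  haveI hWdvr : IsDiscreteValuationRing W := EtRamSm.isDVR_of_dominates_fin B L M W hW.1 hW.2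
  -- `A₁ = W ∩ K₁` is a DVR
  letI algAK₁ : Algebra A K₁ := ((algebraMap K K₁).comp (algebraMap A K)).toAlgebra
  haveI : IsScalarTower A K K₁ := .of_algebraMap_eq (fun _ => rfl)
  have h1 : ∀ a : A, algebraMap A K₁ a ∈ W.comap (algebraMap K₁ M) := by
    intro a
    rw [ValuationSubring.mem_comap]
    show algebraMap K₁ M (algebraMap K K₁ (algebraMap A K a)) ∈ W
    rw [hAM]
    exact hW.1 _
  have h2 : ∀ a : A, a ∈ maximalIdeal A →
      (W.comap (algebraMap K₁ M)).valuation (algebraMap A K₁ a) < 1 := by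
    intro a ha
    rw [EtRamT.valuation_comap_lt_one_iff]
    show W.valuation (algebraMap K₁ M (algebraMap K K₁ (algebraMap A K a))) < 1
    rw [hAM]
    apply hW.2
    exact ((local_hom_TFAE (algebraMap A B)).out 0 2 rfl rfl).mp inferInstance
      (Ideal.mem_map_of_mem _ ha)
  have hV : EtRam.Dominates A ((algebraMap K K₁).comp (algebraMap A K))
      (W.comap (algebraMap K₁ M)) := ⟨h1, h2⟩
  haveI hA₁dvr : IsDiscreteValuationRing (W.comap (algebraMap K₁ M)) :=
    EtRamSm.isDVR_of_dominates_fin A K K₁ _ h1 h2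
  -- algebra structures
  letI algBW : Algebra B W :=
    (RingHom.codRestrict ((algebraMap L M).comp (algebraMap B L)) W hW.1).toAlgebra
  haveI locBW : IsLocalHom (algebraMap B W) := EtRamT.isLocalHom_of_dominates _ W hW
  letI algA₁W : Algebra (W.comap (algebraMap K₁ M)) W :=
    (EtRam.inclOfComap W (algebraMap K₁ M)).toAlgebra
  haveI locA₁W : IsLocalHom (algebraMap (W.comap (algebraMap K₁ M)) W) :=
    EtRam.isLocalHom_inclOfComap W (algebraMap K₁ M)
  letI algAA₁ : Algebra A (W.comap (algebraMap K₁ M)) :=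
    (RingHom.codRestrict ((algebraMap K K₁).comp (algebraMap A K))
      (W.comap (algebraMap K₁ M)) hV.1).toAlgebra
  haveI locAA₁ : IsLocalHom (algebraMap A (W.comap (algebraMap K₁ M))) :=
    EtRamT.isLocalHom_of_dominates _ _ hV
  letI algAW : Algebra A W := ((algebraMap B W).comp (algebraMap A B)).toAlgebra
  haveI towABW : IsScalarTower A B W := .of_algebraMap_eq (fun _ => rfl)
  haveI towAA₁W : IsScalarTower A (W.comap (algebraMap K₁ M)) W :=
    .of_algebraMap_eq (fun a => Subtype.ext (hAM a).symm)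
  haveI towAA₁K₁ : IsScalarTower A (W.comap (algebraMap K₁ M)) K₁ :=
    .of_algebraMap_eq (fun _ => rfl)
  haveI towBWM : IsScalarTower B W M := .of_algebraMap_eq (fun _ => rfl)
  -- total ramification: `m_A A₁ ⊆ m_{A₁}^n`
  have hmap := map_le_pow_finrank A K K₁ (W.comap (algebraMap K₁ M))
    (fun V' h1' h2' => ht.2.1 V' _ ⟨h1', h2'⟩ hV) (ht.2.2 _ hV)
  set n := Module.finrank K K₁ with hn
  have hnpos : 0 < n := Module.finrank_pos
  -- uniformizer of `W`
  obtain ⟨ϖ, hϖ⟩ := IsDiscreteValuationRing.exists_irreducible W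
  have hmW : maximalIdeal W = Ideal.span {ϖ} := hϖ.maximalIdeal_eq
  have hϖm : ϖ ∈ maximalIdeal W := by rw [hmW]; exact Ideal.mem_span_singleton_self ϖ
  have hWM : Function.Injective (algebraMap W M) := Subtype.val_injective
  -- the bound
  have bound : ∀ k : ℕ, (maximalIdeal (W.comap (algebraMap K₁ M))).map
      (algebraMap (W.comap (algebraMap K₁ M)) W) ≤ Ideal.span {ϖ ^ k} →
      k * n ≤ Module.finrank L M := by
    intro k hk
    apply le_finrank B W L M hWM ϖ hϖm hϖ.ne_zero (k * n)
    have hchain : (maximalIdeal B).map (algebraMap B W) ≤ Ideal.span {ϖ ^ (k * n)} := by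
      have hw' : (maximalIdeal A).map (algebraMap A B) = maximalIdeal B := hw
      rw [← hw', Ideal.map_map, ← IsScalarTower.algebraMap_eq A B W,
        IsScalarTower.algebraMap_eq A (W.comap (algebraMap K₁ M)) W, ← Ideal.map_map]
      calc ((maximalIdeal A).map (algebraMap A (W.comap (algebraMap K₁ M)))).map
            (algebraMap (W.comap (algebraMap K₁ M)) W)
          ≤ (maximalIdeal (W.comap (algebraMap K₁ M)) ^ n).map
            (algebraMap (W.comap (algebraMap K₁ M)) W) := Ideal.map_mono hmap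
        _ = ((maximalIdeal (W.comap (algebraMap K₁ M))).map
            (algebraMap (W.comap (algebraMap K₁ M)) W)) ^ n := Ideal.map_pow _ _ _
        _ ≤ (Ideal.span {ϖ ^ k}) ^ n := Ideal.pow_right_mono hk n
        _ = Ideal.span {ϖ ^ (k * n)} := by rw [Ideal.span_singleton_pow, ← pow_mul]
    intro b hb
    exact hchain (Ideal.mem_map_of_mem _ hb)
  have hmapW : (maximalIdeal (W.comap (algebraMap K₁ M))).map
      (algebraMap (W.comap (algebraMap K₁ M)) W) ≤ maximalIdeal W :=
    ((local_hom_TFAE (algebraMap (W.comap (algebraMap K₁ M)) W)).out 0 2 rfl rfl).mp inferInstance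
  have hge : n ≤ Module.finrank L M := by
    have := bound 1 (by rw [pow_one, ← hmW]; exact hmapW)
    rwa [one_mul] at this
  refine ⟨le_antisymm hle hge, ?_⟩
  -- weak unramifiedness
  show (maximalIdeal (W.comap (algebraMap K₁ M))).map
      (algebraMap (W.comap (algebraMap K₁ M)) W) = maximalIdeal W
  apply le_antisymm hmapW
  obtain ⟨π₁, hπ₁⟩ := IsDiscreteValuationRing.exists_irreducible (W.comap (algebraMap K₁ M))
  have hmA₁ : maximalIdeal (W.comap (algebraMap K₁ M)) = Ideal.span {π₁} := hπ₁.maximalIdeal_eq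
  have hπ₁W : algebraMap (W.comap (algebraMap K₁ M)) W π₁ ∈ maximalIdeal W := by
    apply hmapW
    apply Ideal.mem_map_of_mem
    rw [hmA₁]
    exact Ideal.mem_span_singleton_self π₁
  rw [hmW, Ideal.mem_span_singleton'] at hπ₁W
  obtain ⟨d, hd⟩ := hπ₁W
  by_cases hdu : IsUnit d
  · rw [hmW, Ideal.span_singleton_le_iff_mem]
    obtain ⟨u, rfl⟩ := hdu
    have : ϖ = (↑u⁻¹ : W) * algebraMap (W.comap (algebraMap K₁ M)) W π₁ := by
      rw [← hd, ← mul_assoc, Units.inv_mul, one_mul]
    rw [this]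
    apply Ideal.mul_mem_left
    apply Ideal.mem_map_of_mem
    rw [hmA₁]
    exact Ideal.mem_span_singleton_self π₁
  · exfalso
    have hdm : d ∈ maximalIdeal W := by rwa [mem_maximalIdeal, mem_nonunits_iff]
    rw [hmW, Ideal.mem_span_singleton'] at hdm
    obtain ⟨d', hd'⟩ := hdm
    have h2n := bound 2 (by
      rw [hmA₁, Ideal.map_span, Set.image_singleton, Ideal.span_singleton_le_span_singleton]
      exact ⟨d', by rw [← hd, ← hd']; ring⟩)
    omega

theorem exists_dominates' (R : Type u) [CommRing R] [IsLocalRing R] (F : Type u) [Field F]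
    (g : R →+* F) : ∃ W : ValuationSubring F, EtRam.Dominates R g W := by
  obtain ⟨W, h, hloc⟩ := IsLocalRing.exists_factor_valuationRing g
  refine ⟨W, h, fun v hv => ?_⟩
  have h1 : (⟨g v, h v⟩ : W) ∈ maximalIdeal W := by
    rw [mem_maximalIdeal, mem_nonunits_iff] at hv ⊢
    intro hu
    exact hv (hloc.map_nonunit v hu)
  exact (W.valuation_lt_one_iff ⟨_, h v⟩).1 h1

theorem tot_isField (hw : EtRam.IsWeaklyUnramified A B)
    (ht : EtRam.IsTotallyRamified A ((algebraMap K K₁).comp (algebraMap A K))) :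
    IsField (L ⊗[K] K₁) := by
  haveI : Nontrivial (L ⊗[K] K₁) := by
    have h0 : 0 < Module.finrank L (L ⊗[K] K₁) := by
      rw [Module.finrank_baseChange]
      exact Module.finrank_pos
    exact Module.nontrivial_of_finrank_pos (R := L) h0
  obtain ⟨𝔪, h𝔪⟩ := Ideal.exists_maximal (L ⊗[K] K₁)
  haveI := h𝔪
  letI : Field ((L ⊗[K] K₁) ⧸ 𝔪) := Ideal.Quotient.field 𝔪
  letI algK₁M : Algebra K₁ ((L ⊗[K] K₁) ⧸ 𝔪) := ((Ideal.Quotient.mk 𝔪).comp
    (Algebra.TensorProduct.includeRight : K₁ →ₐ[K] L ⊗[K] K₁).toRingHom).toAlgebra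
  haveI : IsScalarTower K K₁ ((L ⊗[K] K₁) ⧸ 𝔪) := by
    refine .of_algebraMap_eq (fun k => ?_)
    show Ideal.Quotient.mk 𝔪 (algebraMap K (L ⊗[K] K₁) k) = Ideal.Quotient.mk 𝔪
      ((Algebra.TensorProduct.includeRight : K₁ →ₐ[K] L ⊗[K] K₁) (algebraMap K K₁ k))
    rw [AlgHom.commutes]
  have hgen : Algebra.adjoin L (Set.range (algebraMap K₁ ((L ⊗[K] K₁) ⧸ 𝔪))) = ⊤ := by
    rw [eq_top_iff]
    intro z hz
    clear hz
    obtain ⟨d, rfl⟩ := Ideal.Quotient.mk_surjective z
    induction d using TensorProduct.induction_on with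
    | zero => rw [map_zero]; exact zero_mem _
    | tmul x y =>
      have hxy : Ideal.Quotient.mk 𝔪 (x ⊗ₜ[K] y) =
          algebraMap L ((L ⊗[K] K₁) ⧸ 𝔪) x * algebraMap K₁ ((L ⊗[K] K₁) ⧸ 𝔪) y := by
        show _ = Ideal.Quotient.mk 𝔪 (x ⊗ₜ 1) * Ideal.Quotient.mk 𝔪 (1 ⊗ₜ y)
        rw [← map_mul, Algebra.TensorProduct.tmul_mul_tmul, mul_one, one_mul]
      rw [hxy]
      exact mul_mem (Subalgebra.algebraMap_mem _ x) (Algebra.subset_adjoin ⟨y, rfl⟩)
    | add x y hx hy => rw [map_add]; exact add_mem hx hy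
  obtain ⟨W, hW⟩ := exists_dominates' B ((L ⊗[K] K₁) ⧸ 𝔪)
    ((algebraMap L ((L ⊗[K] K₁) ⧸ 𝔪)).comp (algebraMap B L))
  obtain ⟨hfr, -⟩ := core_tot A B K L K₁ hw ht ((L ⊗[K] K₁) ⧸ 𝔪) hgen W hW
  let q : L ⊗[K] K₁ →ₗ[L] ((L ⊗[K] K₁) ⧸ 𝔪) := (Ideal.Quotient.mkₐ L 𝔪).toLinearMap
  have hq : Function.Surjective q := Ideal.Quotient.mk_surjective
  haveI : FiniteDimensional L ((L ⊗[K] K₁) ⧸ 𝔪) := Module.Finite.of_surjective q hq
  have hfr' : Module.finrank L (L ⊗[K] K₁) = Module.finrank L ((L ⊗[K] K₁) ⧸ 𝔪) := by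
    rw [Module.finrank_baseChange, hfr]
  have hqi : Function.Injective q :=
    (LinearMap.injective_iff_surjective_of_finrank_eq_finrank hfr').2 hq
  have h𝔪bot : 𝔪 = ⊥ := by
    rw [eq_bot_iff]
    intro x hx
    have hx0 : q x = 0 := Ideal.Quotient.eq_zero_iff_mem.2 hx
    exact hqi (hx0.trans (map_zero q).symm)
  rw [Ring.isField_iff_maximal_bot, ← h𝔪bot]
  exact h𝔪

theorem tot_result (hw : EtRam.IsWeaklyUnramified A B)
    (ht : EtRam.IsTotallyRamified A ((algebraMap K K₁).comp (algebraMap A K))) :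
    IsField (L ⊗[K] K₁) ∧ EtRam.IsWeakSolution B K L K₁ := by
  refine ⟨tot_isField A B K L K₁ hw ht, ?_⟩
  intro M _ _ _ _ _ _ hgen W hW
  exact (core_tot A B K L K₁ hw ht M hgen W hW).2

end Main

end Groth.Agent.H10.EtRamTot
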