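import Mathlib
import Groth.Prelude.Def_EtRam
import Groth.Agent.H10.AS1
import Groth.Agent.H10.AS3
import Groth.Agent.H10.AS4
import Groth.Agent.H10.AS7
import Groth.Agent.H10.AS8
import Groth.Agent.H10.AS9
import Groth.Agent.H10.EtRamTot
import Groth.Agent.H10.EtRamTower

set_option autoImplicit false
set_option linter.style.haveILetI false
set_option linter.unusedSectionVars false
set_option linter.unusedVariables false
universe u
open Polynomial IsLocalRing
open scoped IntermediateField

namespace Groth.Agent.H10.AS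

section CaseC4

variable (p : ℕ) [hpf : Fact p.Prime] (A K L : Type u) [CommRing A] [IsDomain A]
  [IsDiscreteValuationRing A] [Field K] [Algebra A K] [IsFractionRing A K] [Field L] [Algebra K L]
  [Algebra A L] [IsScalarTower A K L] [CharP K p] (π : A) (hπ : Irreducible π)
  (ξ : K) (z : L) (hz : z ^ p - z = algebraMap K L ξ)
  (hgen : IntermediateField.adjoin K {z} = ⊤)
  (n : ℕ) (a : A) (m : ℕ) (hm : 0 < m) (hnm : n = p * m)
  (ha : ∀ r : A, residue A a ≠ residue A r ^ p)
  (hξ : ξ * algebraMap A K π ^ n = algebraMap A K a)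

section WithW

variable (W : ValuationSubring L) (hW : EtRam.Dominates A (algebraMap A L) W)
  [Algebra A W] [IsLocalHom (algebraMap A W)]
  (hAW : ∀ a : A, ((algebraMap A W a : W) : L) = algebraMap A L a)

include hπ hz hm hnm hξ hW ha hAW in
theorem z_notMem_range_C : z ∉ Set.range (algebraMap K L) := by
  rintro ⟨c, hc⟩
  have hy : y A L π z m = algebraMap K L (algebraMap A K π ^ m * c) := by
    unfold y
    rw [map_mul, map_pow, ← IsScalarTower.algebraMap_apply A K L, hc]
  have hv := v_y_le_one p A K L π hπ ξ z hz n a m hm hnm hξ W hW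
  rw [hy] at hv
  obtain ⟨b₀, hb₀⟩ := (mem_iff A K L π hπ W hW _).1 ((W.valuation_le_one_iff _).1 hv)
  have hy' : y A L π z m = algebraMap A L b₀ := by
    rw [hy, ← hb₀, ← IsScalarTower.algebraMap_apply A K L]
  let c' : ℕ → A := fun j => if j = 0 then -b₀ else if j = 1 then 1 else 0
  have hsum : ∑ j ∈ Finset.range p, algebraMap A L (c' j) * y A L π z m ^ j = 0 := by
    rw [Finset.sum_eq_add 0 1 zero_ne_one]
    · simp only [c', if_true, one_ne_zero, if_false, pow_zero, mul_one, pow_one, map_neg, map_one,
        one_mul]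
      rw [hy']; ring
    · intro j _ hj
      simp only [c', if_neg hj.1, if_neg hj.2, map_zero, zero_mul]
    · intro h; exact absurd (Finset.mem_range.2 hpf.out.pos) h
    · intro h; exact absurd (Finset.mem_range.2 hpf.out.one_lt) h
  have hlt : W.valuation (∑ j ∈ Finset.range p, algebraMap A L (c' j) * y A L π z m ^ j) < 1 := by
    rw [hsum, map_zero]; exact zero_lt_one
  have h1 := coeff_mem_of_lt_one p A K L π hπ ξ z hz n a m hm hnm ha hξ W hW hAW c' hlt 1
    (Finset.mem_range.2 hpf.out.one_lt)
  simp only [c', one_ne_zero, if_false, if_true] at h1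
  exact (Ideal.ne_top_iff_one _).1 (IsLocalRing.maximalIdeal.isMaximal A).ne_top h1

end WithW

include hπ hz hm hnm hξ ha hgen in
theorem finrank_eq_p_C : Module.finrank K L = p := by
  obtain ⟨W, hW⟩ := Groth.Agent.H10.EtRamTot.exists_dominates' A L (algebraMap A L)
  letI : Algebra A W := (RingHom.codRestrict (algebraMap A L) W hW.1).toAlgebra
  haveI : IsLocalHom (algebraMap A W) :=
    Groth.Agent.H10.EtRamT.isLocalHom_of_dominates (algebraMap A L) W hW
  rcases finrank_eq p K L ξ z hz hgen with h1 | h1
  · exfalso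
    apply z_notMem_range_C p A K L π hπ ξ z hz n a m hm hnm ha hξ W hW (fun _ => rfl)
    have h2 := Subalgebra.bot_eq_top_of_finrank_eq_one h1
    have h3 : z ∈ (⊥ : Subalgebra K L) := by rw [h2]; trivial
    exact Algebra.mem_bot.1 h3
  · exact h1

include hπ hz hm hnm hξ ha hgen in
theorem exists_repr_y (x : L) :
    ∃ c : ℕ → K, x = ∑ j ∈ Finset.range p, algebraMap K L (c j) * y A L π z m ^ j := by
  obtain ⟨c, hc⟩ := exists_repr K L z (isIntegral_z p K L ξ z hz)
    (adjoin_eq_top p K L ξ z hz hgen) p
    (finrank_eq_p_C p A K L π hπ ξ z hz hgen n a m hm hnm ha hξ) x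
  have hπK : algebraMap A K π ≠ 0 := fun h =>
    hπ.ne_zero (IsFractionRing.injective A K (h.trans (map_zero _).symm))
  refine ⟨fun j => c j / (algebraMap A K π ^ m) ^ j, ?_⟩
  rw [hc]
  apply Finset.sum_congr rfl
  intro j _
  have h1 : algebraMap K L (algebraMap A K π) = algebraMap A L π :=
    (IsScalarTower.algebraMap_apply A K L π).symm
  have h2 : algebraMap A L π ≠ 0 := by rw [← h1]; exact (_root_.map_ne_zero _).2 hπK
  unfold y
  rw [map_div₀, map_pow, map_pow, h1, mul_pow]
  field_simp

end CaseC4

end Groth.Agent.H10.AS
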