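import Mathlib
import Groth.Prelude.Def_EtRam
import Groth.Agent.H10.AS10

set_option autoImplicit false
set_option linter.style.haveILetI false
set_option linter.unusedSectionVars false
set_option linter.unusedVariables false
universe u
open Polynomial IsLocalRing
open scoped IntermediateField

namespace Groth.Agent.H10.AS

section CaseC5

variable (p : ℕ) [hpf : Fact p.Prime] (A K L : Type u) [CommRing A] [IsDomain A]
  [IsDiscreteValuationRing A] [Field K] [Algebra A K] [IsFractionRing A K] [Field L] [Algebra K L]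
  [Algebra A L] [IsScalarTower A K L] [CharP K p] (π : A) (hπ : Irreducible π)
  (ξ : K) (z : L) (hz : z ^ p - z = algebraMap K L ξ)
  (hgen : IntermediateField.adjoin K {z} = ⊤)
  (n : ℕ) (a : A) (m : ℕ) (hm : 0 < m) (hnm : n = p * m)
  (ha : ∀ r : A, residue A a ≠ residue A r ^ p)
  (hξ : ξ * algebraMap A K π ^ n = algebraMap A K a)
  (W : ValuationSubring L) (hW : EtRam.Dominates A (algebraMap A L) W)
  [Algebra A W] [IsLocalHom (algebraMap A W)]
  (hAW : ∀ a : A, ((algebraMap A W a : W) : L) = algebraMap A L a)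

include hπ hz hm hnm hξ hW ha hAW hgen in
theorem mem_of_mem_C (W' : ValuationSubring L) (hW' : EtRam.Dominates A (algebraMap A L) W')
    (x : L) (hx : x ∈ W) : x ∈ W' := by
  obtain ⟨c, hc⟩ := exists_repr_y p A K L π hπ ξ z hz hgen n a m hm hnm ha hξ x
  have hx' : W.valuation x ≤ 1 := (W.valuation_le_one_iff _).2 hx
  rw [hc] at hx' ⊢
  have h1 := gauss_le p A K L π hπ ξ z hz n a m hm hnm ha hξ W hW hAW c hx'
  apply sum_mem
  intro j hj
  obtain ⟨d, hd⟩ := h1 j hj
  rw [← hd, ← IsScalarTower.algebraMap_apply A K L]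
  apply mul_mem (hW'.1 d)
  apply pow_mem
  exact (W'.valuation_le_one_iff _).1 (v_y_le_one p A K L π hπ ξ z hz n a m hm hnm hξ W' hW')

include hπ hz hm hnm hξ hW ha hAW hgen in
/-- elements of `W` are `A`-combinations of powers of `y`. -/
theorem exists_repr_W (x : W) : ∃ d : ℕ → A, x = ∑ j ∈ Finset.range p,
    algebraMap A W (d j) * yW p A K L π hπ ξ z hz n a m hm hnm hξ W hW ^ j := by
  obtain ⟨c, hc⟩ := exists_repr_y p A K L π hπ ξ z hz hgen n a m hm hnm ha hξ (x : L)
  have hx' : W.valuation (x : L) ≤ 1 := (W.valuation_le_one_iff _).2 x.2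
  rw [hc] at hx'
  have h1 := gauss_le p A K L π hπ ξ z hz n a m hm hnm ha hξ W hW hAW c hx'
  have hex : ∀ j, ∃ d : A, j ∈ Finset.range p → algebraMap A K d = c j := by
    intro j
    by_cases hj : j ∈ Finset.range p
    · obtain ⟨d, hd⟩ := h1 j hj; exact ⟨d, fun _ => hd⟩
    · exact ⟨0, fun h => absurd h hj⟩
  choose d hd using hex
  refine ⟨d, Subtype.ext ?_⟩
  rw [hc, AddSubmonoidClass.coe_finsetSum]
  apply Finset.sum_congr rfl
  intro j hj
  rw [← hd j hj, ← IsScalarTower.algebraMap_apply A K L, ← hAW]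
  rfl

include hπ hz hm hnm hξ hW ha hAW hgen in
/-- elements of the maximal ideal of `W` are `m_A`-combinations of powers of `y`. -/
theorem exists_repr_mW (x : W) (hx : x ∈ maximalIdeal W) : ∃ d : ℕ → A,
    (∀ j ∈ Finset.range p, d j ∈ maximalIdeal A) ∧ x = ∑ j ∈ Finset.range p,
    algebraMap A W (d j) * yW p A K L π hπ ξ z hz n a m hm hnm hξ W hW ^ j := by
  obtain ⟨c, hc⟩ := exists_repr_y p A K L π hπ ξ z hz hgen n a m hm hnm ha hξ (x : L)
  have hx' : W.valuation (x : L) < 1 := (W.valuation_lt_one_iff _).1 hx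
  rw [hc] at hx'
  have h1 := gauss_lt p A K L π hπ ξ z hz n a m hm hnm ha hξ W hW hAW c hx'
  have hex : ∀ j, ∃ d : A, j ∈ Finset.range p → (d ∈ maximalIdeal A ∧ algebraMap A K d = c j) := by
    intro j
    by_cases hj : j ∈ Finset.range p
    · obtain ⟨d, hd, hd'⟩ := h1 j hj; exact ⟨d, fun _ => ⟨hd, hd'⟩⟩
    · exact ⟨0, fun h => absurd h hj⟩
  choose d hd using hex
  refine ⟨d, fun j hj => (hd j hj).1, Subtype.ext ?_⟩
  rw [hc, AddSubmonoidClass.coe_finsetSum]
  apply Finset.sum_congr rfl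
  intro j hj
  rw [← (hd j hj).2, ← IsScalarTower.algebraMap_apply A K L, ← hAW]
  rfl

include hπ hz hm hnm hξ hW ha hAW hgen in
theorem weaklyUnramified_C : EtRam.IsWeaklyUnramified A W := by
  show (maximalIdeal A).map (algebraMap A W) = maximalIdeal W
  apply le_antisymm
  · rw [Ideal.map_le_iff_le_comap]
    intro b hb
    show algebraMap A W b ∈ maximalIdeal W
    rw [W.valuation_lt_one_iff, hAW]
    exact hW.2 b hb
  · intro x hx
    obtain ⟨d, hd, hxd⟩ := exists_repr_mW p A K L π hπ ξ z hz hgen n a m hm hnm ha hξ W hW hAW x hx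
    rw [hxd]
    apply sum_mem
    intro j hj
    exact Ideal.mul_mem_right _ _ (Ideal.mem_map_of_mem _ (hd j hj))

end CaseC5

end Groth.Agent.H10.AS
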