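import Mathlib

/-! `AdjoinRoot f` is reduced when the base ring is reduced and `f` is monic and separable. -/

set_option autoImplicit false
set_option linter.style.haveILetI false
universe u

open Polynomial

namespace Groth.Agent.H10.ARed

theorem isReduced_adjoinRoot (C : Type*) [CommRing C] [IsReduced C] (f : C[X]) (hm : f.Monic)
    (hs : f.Separable) : IsReduced (AdjoinRoot f) := by
  rcases subsingleton_or_nontrivial C with hC | hC
  · haveI : Subsingleton (AdjoinRoot f) := by
      refine ⟨fun a b => ?_⟩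
      obtain ⟨a, rfl⟩ := AdjoinRoot.mk_surjective a
      obtain ⟨b, rfl⟩ := AdjoinRoot.mk_surjective b
      rw [Subsingleton.elim a b]
    exact ⟨fun x _ => Subsingleton.elim x 0⟩
  refine ⟨fun x hx => ?_⟩
  obtain ⟨g, rfl⟩ := AdjoinRoot.mk_surjective x
  obtain ⟨N, hN⟩ := hx
  rcases Nat.eq_zero_or_pos N with hN0' | hNpos
  · rw [hN0', pow_zero] at hN
    calc AdjoinRoot.mk f g = AdjoinRoot.mk f g * 1 := (mul_one _).symm
      _ = 0 := by rw [hN, mul_zero]
  have hN0 : N ≠ 0 := hNpos.ne'
  have hgr : AdjoinRoot.mk f g = AdjoinRoot.mk f (g %ₘ f) := by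
    rw [AdjoinRoot.mk_eq_mk]
    have := Polynomial.modByMonic_add_div g f
    refine ⟨g /ₘ f, ?_⟩
    linear_combination -this
  set r := g %ₘ f with hr
  rw [hgr] at hN ⊢
  have hdvd : f ∣ r ^ N := by
    rw [← AdjoinRoot.mk_eq_zero, map_pow]
    exact hN
  have hdeg : r.degree < f.degree := Polynomial.degree_modByMonic_lt g hm
  have hr0 : r = 0 := by
    ext n
    rw [Polynomial.coeff_zero]
    have hnil : r.coeff n ∈ nilradical C := by
      rw [nilradical_eq_sInf, Ideal.mem_sInf]
      intro 𝔭 h𝔭
      haveI : 𝔭.IsPrime := h𝔭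
      let φ : C →+* 𝔭.ResidueField := algebraMap C 𝔭.ResidueField
      have hsep : (f.map φ).Separable := hs.map
      have hmon : (f.map φ).Monic := hm.map φ
      have hdvd' : f.map φ ∣ (r.map φ) ^ N := by
        rw [← Polynomial.map_pow]
        exact Polynomial.map_dvd φ hdvd
      have hdvd'' : f.map φ ∣ r.map φ :=
        (hsep.squarefree.dvd_pow_iff_dvd hN0).1 hdvd'
      have hdeg' : (r.map φ).degree < (f.map φ).degree := by
        rw [hm.degree_map φ]
        exact lt_of_le_of_lt (Polynomial.degree_map_le) hdeg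
      have hz : r.map φ = 0 := Polynomial.eq_zero_of_dvd_of_degree_lt hdvd'' hdeg'
      have hc : φ (r.coeff n) = 0 := by
        rw [← Polynomial.coeff_map, hz, Polynomial.coeff_zero]
      exact Ideal.algebraMap_residueField_eq_zero.mp hc
    rw [nilradical_eq_zero] at hnil
    exact hnil
  rw [hr0, map_zero]

end Groth.Agent.H10.ARed
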