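import Mathlib
import Groth.Agent.H10.WeaklyEtaleField2

/-! Abstract form of the "base change of DVRs" argument: a DVR `W` receiving a ring `R` whose image
generates `W` as a fraction ring, an element `τ ∈ m_W` and a surjection `R → E` onto a von Neumann
regular ring such that the kernel goes into `τ · ψ(R)`.  Then `τ` is a uniformizer of `W` and the
residue field of `W` is a quotient of `E`. -/

set_option autoImplicit false
set_option linter.style.haveILetI false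
set_option linter.unusedSectionVars false
set_option linter.unusedVariables false
universe u

open IsLocalRing

namespace Groth.Agent.H10.VnrCore

variable {R E W : Type*} [CommRing R] [CommRing E] [CommRing W] [IsDomain W]
  [IsDiscreteValuationRing W] (ψ : R →+* W) (Phi : R →+* E) (τ : W)

theorem key_step (hE : IsVNR E) (hPhi : Function.Surjective Phi)
    (hker : ∀ x, Phi x = 0 → ∃ x₁, ψ x = τ * ψ x₁)
    (x : R) (hx : ψ x ∈ maximalIdeal W) :
    ∃ s x₁ : R, IsUnit (ψ s) ∧ ψ s * ψ x = τ * ψ x₁ := by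
  obtain ⟨e', he'⟩ := hE (Phi x)
  obtain ⟨y, rfl⟩ := hPhi e'
  have hmem : Phi (x * (1 - x * y)) = 0 := by
    rw [map_mul, map_sub, map_one, map_mul]
    linear_combination he'
  obtain ⟨x₁, hx₁⟩ := hker _ hmem
  refine ⟨1 - x * y, x₁, ?_, ?_⟩
  · rw [map_sub, map_one, map_mul]
    by_contra hnu
    have h1 : 1 - ψ x * ψ y ∈ maximalIdeal W := by
      rwa [mem_maximalIdeal, mem_nonunits_iff]
    have h2 : (1 : W) ∈ maximalIdeal W := by
      have := (maximalIdeal W).add_mem h1 ((maximalIdeal W).mul_mem_right (ψ y) hx)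
      rwa [sub_add_cancel] at this
    exact (maximalIdeal W).ne_top_iff_one.1 (IsLocalRing.maximalIdeal.isMaximal W).ne_top h2
  · rw [← map_mul, mul_comm, hx₁]

theorem decomp (hE : IsVNR E) (hPhi : Function.Surjective Phi)
    (hker : ∀ x, Phi x = 0 → ∃ x₁, ψ x = τ * ψ x₁) (hτ : τ ∈ maximalIdeal W)
    (x : R) (hx : ψ x ≠ 0) :
    ∃ (n : ℕ) (s y : R), IsUnit (ψ s) ∧ IsUnit (ψ y) ∧ ψ s * ψ x = τ ^ n * ψ y := by
  obtain ⟨ϖ, hϖ⟩ := IsDiscreteValuationRing.exists_irreducible W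
  obtain ⟨m, u, hu⟩ := IsDiscreteValuationRing.eq_unit_mul_pow_irreducible hx hϖ
  induction m using Nat.strong_induction_on generalizing x u with
  | _ m ih =>
    by_cases hxm : ψ x ∈ maximalIdeal W
    · obtain ⟨s₁, x₁, hs₁, hψ⟩ := key_step ψ Phi τ hE hPhi hker x hxm
      have hne : τ * ψ x₁ ≠ 0 := by
        rw [← hψ]
        exact mul_ne_zero hs₁.ne_zero hx
      have hτ0 : τ ≠ 0 := left_ne_zero_of_mul hne
      have hx₁0 : ψ x₁ ≠ 0 := right_ne_zero_of_mul hne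
      obtain ⟨e, uτ, huτ⟩ := IsDiscreteValuationRing.eq_unit_mul_pow_irreducible hτ0 hϖ
      obtain ⟨m₁, u₁, hu₁⟩ := IsDiscreteValuationRing.eq_unit_mul_pow_irreducible hx₁0 hϖ
      have he : e ≠ 0 := by
        rintro rfl
        rw [pow_zero, mul_one] at huτ
        rw [mem_maximalIdeal, mem_nonunits_iff, huτ] at hτ
        exact hτ uτ.isUnit
      have hm : m = e + m₁ := by
        obtain ⟨us, hus⟩ := hs₁
        have h3 : ((us * u : Wˣ) : W) * ϖ ^ m = ((uτ * u₁ : Wˣ) : W) * ϖ ^ (e + m₁) := by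
          rw [Units.val_mul, Units.val_mul, hus, mul_assoc, ← hu, hψ, huτ, hu₁, pow_add]
          ring
        exact IsDiscreteValuationRing.unit_mul_pow_congr_pow hϖ hϖ _ _ _ _ h3
      obtain ⟨n, s₂, y, hs₂, hy, h4⟩ := ih m₁ (by omega) x₁ hx₁0 u₁ hu₁
      refine ⟨n + 1, s₁ * s₂, y, ?_, hy, ?_⟩
      · rw [map_mul]; exact hs₁.mul hs₂
      · rw [map_mul, pow_succ]
        calc ψ s₁ * ψ s₂ * ψ x = ψ s₂ * (ψ s₁ * ψ x) := by ring
          _ = ψ s₂ * (τ * ψ x₁) := by rw [hψ]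
          _ = τ * (ψ s₂ * ψ x₁) := by ring
          _ = τ ^ n * τ * ψ y := by rw [h4]; ring
    · refine ⟨0, 1, x, by rw [map_one]; exact isUnit_one, ?_,
        by rw [map_one, one_mul, pow_zero, one_mul]⟩
      rwa [mem_maximalIdeal, mem_nonunits_iff, not_not] at hxm

theorem cross (hE : IsVNR E) (hPhi : Function.Surjective Phi)
    (hker : ∀ x, Phi x = 0 → ∃ x₁, ψ x = τ * ψ x₁) (hτ : τ ∈ maximalIdeal W)
    (w : W) (hw : w ≠ 0) (x y : R) (hy : ψ y ≠ 0) (hwxy : w * ψ y = ψ x) :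
    ∃ (n n' : ℕ) (a b : R), IsUnit (ψ a) ∧ IsUnit (ψ b) ∧ τ ^ n' ≠ 0 ∧
      w * τ ^ n' * ψ a = τ ^ n * ψ b := by
  have hx : ψ x ≠ 0 := by rw [← hwxy]; exact mul_ne_zero hw hy
  obtain ⟨n, s, y₁, hs, hy₁, h1⟩ := decomp ψ Phi τ hE hPhi hker hτ x hx
  obtain ⟨n', s', y₂, hs', hy₂, h2⟩ := decomp ψ Phi τ hE hPhi hker hτ y hy
  refine ⟨n, n', y₂ * s, y₁ * s', ?_, ?_, ?_, ?_⟩
  · rw [map_mul]; exact hy₂.mul hs
  · rw [map_mul]; exact hy₁.mul hs'
  · intro h0
    rw [h0, zero_mul] at h2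
    exact (mul_ne_zero hs'.ne_zero hy) h2
  · rw [map_mul, map_mul]
    calc w * τ ^ n' * (ψ y₂ * ψ s) = w * (τ ^ n' * ψ y₂) * ψ s := by ring
      _ = w * (ψ s' * ψ y) * ψ s := by rw [h2]
      _ = ψ s' * (ψ s * (w * ψ y)) := by ring
      _ = ψ s' * (ψ s * ψ x) := by rw [hwxy]
      _ = ψ s' * (τ ^ n * ψ y₁) := by rw [h1]
      _ = τ ^ n * (ψ y₁ * ψ s') := by ring

/-- Conclusion 1: `τ` generates the maximal ideal of `W`. -/
theorem maximalIdeal_eq (hE : IsVNR E) (hPhi : Function.Surjective Phi)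
    (hker : ∀ x, Phi x = 0 → ∃ x₁, ψ x = τ * ψ x₁) (hτ : τ ∈ maximalIdeal W)
    (hgen : ∀ w : W, ∃ x y : R, ψ y ≠ 0 ∧ w * ψ y = ψ x) :
    maximalIdeal W = Ideal.span {τ} := by
  apply le_antisymm
  · intro w hwm
    by_cases hw : w = 0
    · rw [hw]; exact Ideal.zero_mem _
    obtain ⟨x, y, hy, hwxy⟩ := hgen w
    obtain ⟨n, n', a, b, ha, hb, hn', h⟩ := cross ψ Phi τ hE hPhi hker hτ w hw x y hy hwxy
    rcases Nat.lt_or_ge n' n with hlt | hge
    · obtain ⟨k, rfl⟩ : ∃ k, n = n' + 1 + k := ⟨n - n' - 1, by omega⟩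
      have h5 : τ ^ n' * (w * ψ a) = τ ^ n' * (τ * τ ^ k * ψ b) := by
        rw [← mul_assoc, mul_comm (τ ^ n') w, h]; ring
      have h6 := mul_left_cancel₀ hn' h5
      obtain ⟨ua, hua⟩ := ha
      have h7 : w = τ * (τ ^ k * ψ b * ↑ua⁻¹) := by
        have : w = w * ψ a * ↑ua⁻¹ := by
          rw [← hua, mul_assoc, Units.mul_inv, mul_one]
        rw [this, h6]; ring
      rw [h7]
      exact Ideal.mul_mem_right _ _ (Ideal.mem_span_singleton_self τ)
    · exfalso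
      obtain ⟨k, rfl⟩ : ∃ k, n' = n + k := ⟨n' - n, by omega⟩
      have hn0 : τ ^ n ≠ 0 := by
        intro h0
        apply hn'
        rw [pow_add, h0, zero_mul]
      have h5 : τ ^ n * (w * τ ^ k * ψ a) = τ ^ n * ψ b := by
        rw [← h]; ring
      have h6 := mul_left_cancel₀ hn0 h5
      have hwu : IsUnit w := by
        have : IsUnit (w * (τ ^ k * ψ a)) := by
          rw [← mul_assoc, h6]; exact hb
        exact isUnit_of_mul_isUnit_left this
      rw [mem_maximalIdeal, mem_nonunits_iff] at hwm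
      exact hwm hwu
  · rw [Ideal.span_singleton_le_iff_mem]
    exact hτ

/-- Conclusion 2: the residue field of `W` is a quotient of `E`. -/
theorem residue_surjective' (hE : IsVNR E) (hPhi : Function.Surjective Phi)
    (hker : ∀ x, Phi x = 0 → ∃ x₁, ψ x = τ * ψ x₁) (hτ : τ ∈ maximalIdeal W)
    (hgen : ∀ w : W, ∃ x y : R, ψ y ≠ 0 ∧ w * ψ y = ψ x)
    (ε : E →+* ResidueField W) (hε : ∀ r, ε (Phi r) = residue W (ψ r)) :
    Function.Surjective ε := by
  intro wbar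
  obtain ⟨w, rfl⟩ := residue_surjective wbar
  by_cases hwm : w ∈ maximalIdeal W
  · exact ⟨0, by rw [map_zero, eq_comm, residue_eq_zero_iff]; exact hwm⟩
  have hwu : IsUnit w := by rwa [mem_maximalIdeal, mem_nonunits_iff, not_not] at hwm
  have hw : w ≠ 0 := hwu.ne_zero
  obtain ⟨x, y, hy, hwxy⟩ := hgen w
  obtain ⟨n, n', a, b, ha, hb, hn', h⟩ := cross ψ Phi τ hE hPhi hker hτ w hw x y hy hwxy
  have hτnu : ¬ IsUnit τ := by rwa [mem_maximalIdeal, mem_nonunits_iff] at hτ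
  have hnn : n = n' := by
    rcases Nat.lt_trichotomy n n' with hlt | heq | hgt
    · exfalso
      obtain ⟨k, rfl⟩ : ∃ k, n' = n + 1 + k := ⟨n' - n - 1, by omega⟩
      have hn0 : τ ^ n ≠ 0 := by
        intro h0
        apply hn'
        rw [pow_add, pow_add, h0, zero_mul, zero_mul]
      have h5 : τ ^ n * (τ * (w * τ ^ k * ψ a)) = τ ^ n * ψ b := by
        rw [← h]; ring
      have h6 := mul_left_cancel₀ hn0 h5
      have : IsUnit (τ * (w * τ ^ k * ψ a)) := by rw [h6]; exact hb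
      exact hτnu (isUnit_of_mul_isUnit_left this)
    · exact heq
    · exfalso
      obtain ⟨k, rfl⟩ : ∃ k, n = n' + 1 + k := ⟨n - n' - 1, by omega⟩
      have h5 : τ ^ n' * (w * ψ a) = τ ^ n' * (τ * (τ ^ k * ψ b)) := by
        rw [← mul_assoc, mul_comm (τ ^ n') w, h]; ring
      have h6 := mul_left_cancel₀ hn' h5
      have : IsUnit (τ * (τ ^ k * ψ b)) := by rw [← h6]; exact hwu.mul ha
      exact hτnu (isUnit_of_mul_isUnit_left this)
  subst hnn
  have h5 : τ ^ n * (w * ψ a) = τ ^ n * ψ b := by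
    rw [← h]; ring
  have h6 := mul_left_cancel₀ hn' h5
  obtain ⟨e₃, he₃⟩ := hE (Phi a)
  have hane : ε (Phi a) ≠ 0 := by
    rw [hε, Ne, residue_eq_zero_iff, mem_maximalIdeal, mem_nonunits_iff, not_not]
    exact ha
  have hinv : ε (Phi a) * ε e₃ = 1 := by
    have h7 := congrArg ε he₃
    rw [map_mul, map_mul] at h7
    have h8 : ε (Phi a) * (ε (Phi a) * ε e₃ - 1) = 0 := by
      linear_combination -h7
    rcases mul_eq_zero.1 h8 with h9 | h9
    · exact absurd h9 hane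
    · exact sub_eq_zero.1 h9
  refine ⟨Phi b * e₃, ?_⟩
  have h10 : residue W w * ε (Phi a) = ε (Phi b) := by
    rw [hε, hε, ← map_mul, h6]
  rw [map_mul, ← h10, mul_assoc, hinv, mul_one]

/-- The induced map `E → κ_W`. -/
theorem exists_eps (hPhi : Function.Surjective Phi)
    (hker : ∀ x, Phi x = 0 → ∃ x₁, ψ x = τ * ψ x₁) (hτ : τ ∈ maximalIdeal W) :
    ∃ ε : E →+* ResidueField W, ∀ r, ε (Phi r) = residue W (ψ r) := by
  have hle : RingHom.ker Phi ≤ RingHom.ker ((residue W).comp ψ) := by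
    intro x hx
    rw [RingHom.mem_ker] at hx ⊢
    obtain ⟨x₁, hx₁⟩ := hker x hx
    rw [RingHom.comp_apply, hx₁, residue_eq_zero_iff]
    exact Ideal.mul_mem_right _ _ hτ
  refine ⟨RingHom.liftOfSurjective Phi hPhi ⟨(residue W).comp ψ, hle⟩, fun r => ?_⟩
  exact RingHom.liftOfRightInverse_comp_apply _ _ _ _ r

end Groth.Agent.H10.VnrCore
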