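import Mathlib
import Groth.Agent.H10.WeaklyEtaleField2
import Groth.Agent.H10.AdjoinRootReduced
import Groth.Agent.H10.VnrCore
import Groth.Agent.H10.DvrBaseChange

/-! Tame base change of DVRs: if `A → U` is an extension of DVRs with ramification index `e`
invertible in the residue field and geometrically reduced residue extension, and `A → T` is an
extension of DVRs with algebraic residue extension whose ramification index is a multiple of `e`,
(here reducedness of `κ_U ⊗ F` for algebraic `F/κ_A` is the hypothesis, covering char. 0),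
then any DVR `W` dominating both and generated by them is weakly unramified over `T` with
geometrically reduced residue field extension. -/

set_option autoImplicit false
set_option linter.style.haveILetI false
set_option linter.unusedSectionVars false
set_option linter.unusedVariables false
universe u

open IsLocalRing TensorProduct Polynomial

namespace Groth.Agent.H10.TameCore

/-- `(FU ⊗[k] FT)[X]/(X^e - c)` is von Neumann regular when `FU/k` is geometrically reduced,
`FT/k` is algebraic, `e` is invertible in `k` and `c` is a unit. -/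
theorem vnr_adjoinRoot (k FU FT : Type u) [Field k] [Field FU] [Field FT] [Algebra k FU]
    [Algebra k FT] [IsReduced (FU ⊗[k] FT)] [Algebra.IsAlgebraic k FT]
    (e : ℕ) (he : (e : k) ≠ 0) (c : FU ⊗[k] FT) (hc : IsUnit c) :
    IsVNR (AdjoinRoot (X ^ e - C c : (FU ⊗[k] FT)[X])) := by
  have he0 : e ≠ 0 := by
    rintro rfl
    exact he (by simp)
  haveI : Algebra.IsIntegral k FT := Algebra.IsAlgebraic.isIntegral
  haveI : Algebra.IsIntegral FU (FU ⊗[k] FT) := inferInstance
  have hmon : (X ^ e - C c : (FU ⊗[k] FT)[X]).Monic := monic_X_pow_sub_C c he0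
  have hsep : (X ^ e - C c : (FU ⊗[k] FT)[X]).Separable := by
    have hu : IsUnit ((e : ℕ) : FU ⊗[k] FT) := by
      have : ((e : ℕ) : FU ⊗[k] FT) = algebraMap k (FU ⊗[k] FT) (e : k) := by
        rw [map_natCast]
      rw [this]
      exact (IsUnit.mk0 _ he).map _
    have := separable_X_pow_sub_C_unit hc.unit hu
    rwa [IsUnit.unit_spec] at this
  haveI := ARed.isReduced_adjoinRoot (FU ⊗[k] FT) _ hmon hsep
  haveI : Module.Finite (FU ⊗[k] FT) (AdjoinRoot (X ^ e - C c : (FU ⊗[k] FT)[X])) :=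
    hmon.finite_adjoinRoot
  haveI : Algebra.IsIntegral (FU ⊗[k] FT) (AdjoinRoot (X ^ e - C c : (FU ⊗[k] FT)[X])) :=
    Algebra.IsIntegral.of_finite _ _
  haveI : Algebra.IsIntegral FU (AdjoinRoot (X ^ e - C c : (FU ⊗[k] FT)[X])) :=
    Algebra.IsIntegral.trans (R := FU) (FU ⊗[k] FT)
  exact isVNR_of_isReduced_of_isIntegral FU _

theorem exists_eta {W : Type*} [CommRing W] [IsDomain W] [IsDiscreteValuationRing W]
    (P τ a b : W) (ha : IsUnit a) (hb : IsUnit b) (e k : ℕ) (he : 0 < e)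
    (hτ0 : τ ≠ 0) (hP0 : P ≠ 0) (h : a * P ^ e = b * τ ^ (e * k)) :
    ∃ η : W, P = η * τ ^ k ∧ a * η ^ e = b := by
  obtain ⟨ϖ, hϖ⟩ := IsDiscreteValuationRing.exists_irreducible W
  obtain ⟨m, v, hv⟩ := IsDiscreteValuationRing.eq_unit_mul_pow_irreducible hτ0 hϖ
  obtain ⟨n, v', hv'⟩ := IsDiscreteValuationRing.eq_unit_mul_pow_irreducible hP0 hϖ
  obtain ⟨ua, rfl⟩ := ha
  obtain ⟨ub, rfl⟩ := hb
  have h3 : ((ua * v' ^ e : Wˣ) : W) * ϖ ^ (n * e) = ((ub * v ^ (e * k) : Wˣ) : W) * ϖ ^ (m * (e * k)) := by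
    push_cast
    rw [pow_mul, pow_mul]
    calc (ua : W) * (v' : W) ^ e * (ϖ ^ n) ^ e = ua * ((v' : W) * ϖ ^ n) ^ e := by ring
      _ = ub * ((v : W) * ϖ ^ m) ^ (e * k) := by rw [← hv', ← hv, h]
      _ = _ := by ring
  have h4 : n * e = m * (e * k) :=
    IsDiscreteValuationRing.unit_mul_pow_congr_pow hϖ hϖ _ _ _ _ h3
  have h5 : n = m * k := by
    have : n * e = (m * k) * e := by rw [h4]; ring
    exact Nat.eq_of_mul_eq_mul_right he this
  refine ⟨((v' * (v⁻¹) ^ k : Wˣ) : W), ?_, ?_⟩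
  · have hvv : ((v⁻¹ : Wˣ) : W) * (v : W) = 1 := by rw [← Units.val_mul, inv_mul_cancel, Units.val_one]
    rw [hv', hv, h5]
    push_cast
    calc (v' : W) * ϖ ^ (m * k) = v' * ((((v⁻¹ : Wˣ) : W) * (v : W)) ^ k) * ϖ ^ (m * k) := by
          rw [hvv, one_pow, mul_one]
      _ = _ := by rw [pow_mul]; ring
  · have hη : P = ((v' * (v⁻¹) ^ k : Wˣ) : W) * τ ^ k := by
      have hvv : ((v⁻¹ : Wˣ) : W) * (v : W) = 1 := by rw [← Units.val_mul, inv_mul_cancel, Units.val_one]
      rw [hv', hv, h5]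
      push_cast
      calc (v' : W) * ϖ ^ (m * k) = v' * ((((v⁻¹ : Wˣ) : W) * (v : W)) ^ k) * ϖ ^ (m * k) := by
            rw [hvv, one_pow, mul_one]
        _ = _ := by rw [pow_mul]; ring
    have hτk : τ ^ (e * k) ≠ 0 := pow_ne_zero _ hτ0
    have h6 : (ua : W) * ((v' * (v⁻¹) ^ k : Wˣ) : W) ^ e * τ ^ (e * k) = ub * τ ^ (e * k) := by
      rw [← h, hη]
      ring
    exact mul_right_cancel₀ hτk h6

theorem geomReduced_of_root (k FU FT FW : Type u) [Field k] [Field FU] [Field FT] [Field FW]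
    [Algebra k FU] [Algebra k FT] [Algebra k FW] [Algebra FU FW] [Algebra FT FW]
    [IsScalarTower k FU FW] [IsScalarTower k FT FW]
    [Algebra.IsAlgebraic k FT] (hred : IsReduced (FU ⊗[k] AlgebraicClosure FT))
    (e : ℕ) (he : (e : k) ≠ 0) (c : FU ⊗[k] FT) (hc : IsUnit c) (η : FW)
    (hη : η ^ e = Algebra.TensorProduct.productMap
      (IsScalarTower.toAlgHom k FU FW) (IsScalarTower.toAlgHom k FT FW) c)
    (hsurj : Function.Surjective (Polynomial.eval₂RingHom (Algebra.TensorProduct.productMap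
      (IsScalarTower.toAlgHom k FU FW) (IsScalarTower.toAlgHom k FT FW)).toRingHom η)) :
    Algebra.IsGeometricallyReduced FT FW := by
  rw [Algebra.isGeometricallyReduced_field_iff]
  set Ω := AlgebraicClosure FT with hΩ
  haveI : IsScalarTower k FT Ω := inferInstance
  haveI : Algebra.IsAlgebraic k Ω := Algebra.IsAlgebraic.trans k FT Ω
  let ι : FU ⊗[k] FT →ₐ[k] FU ⊗[k] Ω :=
    Algebra.TensorProduct.map (AlgHom.id k FU) (IsScalarTower.toAlgHom k FT Ω)
  have hιc : IsUnit (ι c) := hc.map ι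
  have hvnr := vnr_adjoinRoot k FU Ω e he (ι c) hιc
  -- the map `FU ⊗[k] Ω → Ω ⊗[FT] FW`
  let g1 : FU ⊗[k] Ω →ₐ[k] FW ⊗[k] Ω :=
    Algebra.TensorProduct.map (IsScalarTower.toAlgHom k FU FW) (AlgHom.id k Ω)
  let g2 : FW ⊗[k] Ω →ₐ[k] Ω ⊗[k] FW := (Algebra.TensorProduct.comm k FW Ω).toAlgHom
  haveI : TensorProduct.CompatibleSMul FT k Ω FW := TensorProduct.CompatibleSMul.isScalarTower
  let g3 : Ω ⊗[k] FW →ₐ[k] Ω ⊗[FT] FW := Algebra.TensorProduct.mapOfCompatibleSMul FT k k Ω FW
  let g : FU ⊗[k] Ω →+* Ω ⊗[FT] FW := ((g3.comp g2).comp g1).toRingHom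
  have hg : ∀ (u : FU) (ω : Ω), g (u ⊗ₜ ω) = ω ⊗ₜ[FT] (algebraMap FU FW u) := fun u ω => rfl
  let pm : FU ⊗[k] FT →ₐ[k] FW := Algebra.TensorProduct.productMap
      (IsScalarTower.toAlgHom k FU FW) (IsScalarTower.toAlgHom k FT FW)
  have hgι : ∀ x : FU ⊗[k] FT, g (ι x) = (1 : Ω) ⊗ₜ[FT] pm x := by
    intro x
    induction x using TensorProduct.induction_on with
    | zero => simp
    | tmul u t =>
      have h1 : ι (u ⊗ₜ t) = u ⊗ₜ (algebraMap FT Ω t) := rfl
      rw [h1, hg]
      have h2 : pm (u ⊗ₜ t) = algebraMap FU FW u * algebraMap FT FW t := by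
        simp [pm]
      rw [h2, Algebra.algebraMap_eq_smul_one t, TensorProduct.smul_tmul, Algebra.smul_def, mul_comm]
    | add x y hx hy => rw [map_add, map_add, hx, hy, map_add, TensorProduct.tmul_add]
  have hroot : Polynomial.eval₂ g ((1 : Ω) ⊗ₜ[FT] η) (X ^ e - C (ι c)) = 0 := by
    rw [eval₂_sub, eval₂_pow, eval₂_X, eval₂_C, hgι, ← hη, Algebra.TensorProduct.tmul_pow, one_pow,
      sub_self]
  let γ : AdjoinRoot (X ^ e - C (ι c)) →+* Ω ⊗[FT] FW := AdjoinRoot.lift g _ hroot
  have hγs : Function.Surjective γ := by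
    have hcomp : (Algebra.TensorProduct.includeRight : FW →ₐ[FT] Ω ⊗[FT] FW).toRingHom.comp
        (Polynomial.eval₂RingHom pm.toRingHom η) =
        γ.comp ((AdjoinRoot.mk (X ^ e - C (ι c))).comp (Polynomial.mapRingHom ι.toRingHom)) := by
      apply Polynomial.ringHom_ext
      · intro a
        simp only [RingHom.comp_apply, coe_eval₂RingHom, eval₂_C, coe_mapRingHom, map_C]
        rw [AdjoinRoot.mk_C]
        show _ = AdjoinRoot.lift g _ hroot (AdjoinRoot.of _ _)
        rw [AdjoinRoot.lift_of]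
        exact (hgι a).symm
      · simp only [RingHom.comp_apply, coe_eval₂RingHom, eval₂_X, coe_mapRingHom, map_X]
        rw [AdjoinRoot.mk_X]
        show _ = AdjoinRoot.lift g _ hroot (AdjoinRoot.root _)
        rw [AdjoinRoot.lift_root]
        rfl
    intro z
    induction z using TensorProduct.induction_on with
    | zero => exact ⟨0, map_zero _⟩
    | tmul ω w =>
      obtain ⟨p, rfl⟩ := hsurj w
      have h1 := congrArg (fun f => f p) hcomp
      simp only [RingHom.comp_apply] at h1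
      refine ⟨AdjoinRoot.of _ ((1 : FU) ⊗ₜ ω) *
        (AdjoinRoot.mk (X ^ e - C (ι c))) ((mapRingHom ι.toRingHom) p), ?_⟩
      rw [map_mul, ← h1]
      show AdjoinRoot.lift g _ hroot (AdjoinRoot.of _ _) * _ = _
      rw [AdjoinRoot.lift_of, hg, map_one]
      show ω ⊗ₜ[FT] (1 : FW) * ((1 : Ω) ⊗ₜ[FT] _) = _
      rw [Algebra.TensorProduct.tmul_mul_tmul, mul_one, one_mul]
    | add x y hx hy =>
      obtain ⟨x', hx'⟩ := hx
      obtain ⟨y', hy'⟩ := hy
      exact ⟨x' + y', by rw [map_add, hx', hy']⟩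
  exact (hvnr.of_surjective γ hγs).isReduced

section Core

open Groth.Agent.H10.DvrBC

theorem ker_Phi_le' (A U T : Type u) [CommRing A] [IsLocalRing A] [CommRing U] [IsLocalRing U]
    [CommRing T] [IsLocalRing T] [Algebra A U] [Algebra A T]
    [IsLocalHom (algebraMap A U)] [IsLocalHom (algebraMap A T)] :
    RingHom.ker (Phi A U T) ≤
      (maximalIdeal U).map (Algebra.TensorProduct.includeLeft : U →ₐ[A] U ⊗[A] T) ⊔
      (maximalIdeal T).map (Algebra.TensorProduct.includeRight : T →ₐ[A] U ⊗[A] T) := by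
  intro x hx
  rw [RingHom.mem_ker] at hx
  have hx' : Algebra.TensorProduct.map (IsScalarTower.toAlgHom A U (ResidueField U))
      (IsScalarTower.toAlgHom A T (ResidueField T)) x = 0 := by
    have hinj : Function.Injective (Algebra.TensorProduct.mapOfCompatibleSMul (ResidueField A) A A
        (ResidueField U) (ResidueField T)) :=
      (Algebra.TensorProduct.equivOfCompatibleSMul (ResidueField A) A A (ResidueField U)
        (ResidueField T)).injective
    apply hinj
    rw [map_zero]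
    exact hx
  have hker := Algebra.TensorProduct.map_ker (IsScalarTower.toAlgHom A U (ResidueField U))
      (IsScalarTower.toAlgHom A T (ResidueField T)) residue_surjective residue_surjective
  have hxmem : x ∈ RingHom.ker (Algebra.TensorProduct.map
      (IsScalarTower.toAlgHom A U (ResidueField U))
      (IsScalarTower.toAlgHom A T (ResidueField T))) := hx'
  rw [hker] at hxmem
  have hkerU : RingHom.ker (IsScalarTower.toAlgHom A U (ResidueField U)) = maximalIdeal U :=
    IsLocalRing.ker_residue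
  have hkerT : RingHom.ker (IsScalarTower.toAlgHom A T (ResidueField T)) = maximalIdeal T :=
    IsLocalRing.ker_residue
  rw [hkerU, hkerT] at hxmem
  exact hxmem


variable (A U T W : Type u) [CommRing A] [IsDomain A] [IsDiscreteValuationRing A]
  [CommRing U] [IsDomain U] [IsDiscreteValuationRing U]
  [CommRing T] [IsDomain T] [IsDiscreteValuationRing T]
  [CommRing W] [IsDomain W] [IsDiscreteValuationRing W]
  [Algebra A U] [Algebra A T] [Algebra A W] [Algebra U W] [Algebra T W]
  [IsScalarTower A U W] [IsScalarTower A T W]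
  [IsLocalHom (algebraMap A U)] [IsLocalHom (algebraMap A T)] [IsLocalHom (algebraMap A W)]
  [IsLocalHom (algebraMap U W)] [IsLocalHom (algebraMap T W)]

theorem tame_core (hUW : Function.Injective (algebraMap U W))
    (hTW : Function.Injective (algebraMap T W))
    (hred : ∀ (F : Type u) [Field F] [Algebra (ResidueField A) F]
      [Algebra.IsAlgebraic (ResidueField A) F], IsReduced (ResidueField U ⊗[ResidueField A] F))
    [Algebra.IsAlgebraic (ResidueField A) (ResidueField T)]
    (e k : ℕ) (he : (e : ResidueField A) ≠ 0) (hk : 0 < k)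
    (πA : A) (πU : U) (πT : T) (uU : Uˣ) (uT : Tˣ)
    (hπU : maximalIdeal U = Ideal.span {πU}) (hπT : maximalIdeal T = Ideal.span {πT})
    (hπU0 : πU ≠ 0) (hπT0 : πT ≠ 0)
    (hU : algebraMap A U πA = uU * πU ^ e) (hT : algebraMap A T πA = uT * πT ^ (e * k))
    (hgen : ∀ w : W, ∃ x y : U ⊗[A] T, psi A U T W y ≠ 0 ∧ w * psi A U T W y = psi A U T W x) :
    (maximalIdeal T).map (algebraMap T W) = maximalIdeal W ∧
      Algebra.IsGeometricallyReduced (ResidueField T) (ResidueField W) := by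
  classical
  have he0 : 0 < e := by
    rcases Nat.eq_zero_or_pos e with rfl | h
    · exact absurd (by simp) he
    · exact h
  set τ := algebraMap T W πT with hτdef
  have hτ0 : τ ≠ 0 := (map_ne_zero_iff _ hTW).2 hπT0
  have hP0 : algebraMap U W πU ≠ 0 := (map_ne_zero_iff _ hUW).2 hπU0
  have hτm : τ ∈ maximalIdeal W := by
    rw [mem_maximalIdeal, mem_nonunits_iff]
    intro hu
    have h1 : πT ∈ maximalIdeal T := by rw [hπT]; exact Ideal.mem_span_singleton_self _
    rw [mem_maximalIdeal, mem_nonunits_iff] at h1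
    exact h1 (isUnit_of_map_unit (algebraMap T W) πT hu)
  have hrel : algebraMap U W uU * (algebraMap U W πU) ^ e = algebraMap T W uT * τ ^ (e * k) := by
    rw [← map_pow, ← map_mul, ← hU, hτdef, ← map_pow, ← map_mul, ← hT,
      ← IsScalarTower.algebraMap_apply, ← IsScalarTower.algebraMap_apply]
  obtain ⟨η, hη1, hη2⟩ := exists_eta (algebraMap U W πU) τ (algebraMap U W uU) (algebraMap T W uT)
    (uU.isUnit.map _) (uT.isUnit.map _) e k he0 hτ0 hP0 hrel
  -- the element `d = u_U⁻¹ ⊗ u_T`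
  set d : U ⊗[A] T := ((uU⁻¹ : Uˣ) : U) ⊗ₜ[A] (uT : T) with hd
  have hdu : IsUnit d := by
    refine ⟨⟨d, (uU : U) ⊗ₜ[A] ((uT⁻¹ : Tˣ) : T), ?_, ?_⟩, rfl⟩
    · rw [hd, Algebra.TensorProduct.tmul_mul_tmul, Units.inv_mul, Units.mul_inv]; rfl
    · rw [hd, Algebra.TensorProduct.tmul_mul_tmul, Units.mul_inv, Units.inv_mul]; rfl
  have hψd : psi A U T W d = η ^ e := by
    rw [hd, psi_tmul, ← hη2, ← mul_assoc, ← map_mul, Units.inv_mul, map_one, one_mul]
  -- the maps
  let ψ : (U ⊗[A] T)[X] →+* W := Polynomial.eval₂RingHom (psi A U T W).toRingHom η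
  have hψC : ∀ x : U ⊗[A] T, ψ (C x) = psi A U T W x := fun x => by simp [ψ]
  have hψX : ψ X = η := by simp [ψ]
  set cbar := Phi A U T d with hcbar
  have hcu : IsUnit cbar := hdu.map (Phi A U T)
  haveI hredT : IsReduced (ResidueField U ⊗[ResidueField A] ResidueField T) :=
    hred (ResidueField T)
  have hE : IsVNR (AdjoinRoot (X ^ e - C cbar)) :=
    vnr_adjoinRoot (ResidueField A) (ResidueField U) (ResidueField T) e he cbar hcu
  let Phi' : (U ⊗[A] T)[X] →+* AdjoinRoot (X ^ e - C cbar) :=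
    (AdjoinRoot.mk (X ^ e - C cbar)).comp (Polynomial.mapRingHom (Phi A U T).toRingHom)
  have hPhi : Function.Surjective Phi' :=
    AdjoinRoot.mk_surjective.comp (Polynomial.map_surjective _ (Phi_surjective A U T))
  -- the ideal of elements whose image is a multiple of `τ`
  let I : Ideal (U ⊗[A] T)[X] :=
    { carrier := {x | ∃ x₁, ψ x = τ * ψ x₁}
      zero_mem' := ⟨0, by simp⟩
      add_mem' := by
        rintro a b ⟨a₁, ha⟩ ⟨b₁, hb⟩
        exact ⟨a₁ + b₁, by rw [map_add, map_add, ha, hb, mul_add]⟩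
      smul_mem' := by
        rintro c x ⟨x₁, hx⟩
        exact ⟨c * x₁, by rw [smul_eq_mul, map_mul, map_mul, hx]; ring⟩ }
  have hI1 : C (πU ⊗ₜ[A] (1 : T)) ∈ I := by
    refine ⟨X * C ((1 : U) ⊗ₜ[A] (πT ^ (k - 1))), ?_⟩
    rw [hψC, map_mul, hψX, hψC, psi_tmul, psi_tmul, map_one, map_one, mul_one, one_mul, hη1,
      map_pow, ← hτdef]
    obtain ⟨k', rfl⟩ : ∃ k', k = k' + 1 := ⟨k - 1, by omega⟩
    rw [Nat.add_sub_cancel, pow_succ]
    ring
  have hI2 : C ((1 : U) ⊗ₜ[A] πT) ∈ I := by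
    refine ⟨1, ?_⟩
    rw [hψC, psi_tmul, map_one, map_one, one_mul, mul_one]
  have hI3 : X ^ e - C d ∈ I := by
    refine ⟨0, ?_⟩
    rw [map_sub, map_pow, hψX, hψC, hψd, sub_self, map_zero, mul_zero]
  have hkerle : (RingHom.ker (Phi A U T).toRingHom).map (C : (U ⊗[A] T) →+* (U ⊗[A] T)[X]) ≤ I := by
    rw [Ideal.map_le_iff_le_comap]
    refine le_trans (ker_Phi_le' A U T) (sup_le ?_ ?_)
    · rw [Ideal.map_le_iff_le_comap, hπU, Ideal.span_singleton_le_iff_mem]
      exact hI1
    · rw [Ideal.map_le_iff_le_comap, hπT, Ideal.span_singleton_le_iff_mem]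
      exact hI2
  have hker : ∀ x, Phi' x = 0 → ∃ x₁, ψ x = τ * ψ x₁ := by
    intro x hx
    rw [RingHom.comp_apply, AdjoinRoot.mk_eq_zero] at hx
    obtain ⟨qbar, hq⟩ := hx
    obtain ⟨q, rfl⟩ := Polynomial.map_surjective _ (Phi_surjective A U T) qbar
    have hz : x - (X ^ e - C d) * q ∈
        RingHom.ker (Polynomial.mapRingHom (Phi A U T).toRingHom) := by
      rw [RingHom.mem_ker, map_sub, map_mul, hq]
      simp only [coe_mapRingHom, Polynomial.map_sub, Polynomial.map_pow, map_X, map_C]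
      rw [sub_eq_zero]
      rfl
    rw [Polynomial.ker_mapRingHom] at hz
    have := I.add_mem (hkerle hz) (I.mul_mem_right q hI3)
    rwa [sub_add_cancel] at this
  have hgen' : ∀ w : W, ∃ x y : (U ⊗[A] T)[X], ψ y ≠ 0 ∧ w * ψ y = ψ x := by
    intro w
    obtain ⟨x, y, hy, h⟩ := hgen w
    exact ⟨C x, C y, by rwa [hψC], by rw [hψC, hψC]; exact h⟩
  have hmax := VnrCore.maximalIdeal_eq ψ Phi' τ hE hPhi hker hτm hgen'
  refine ⟨by rw [hπT, Ideal.map_span, Set.image_singleton, hmax], ?_⟩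
  obtain ⟨ε, hε⟩ := VnrCore.exists_eps ψ Phi' τ hPhi hker hτm
  have hεs := VnrCore.residue_surjective' ψ Phi' τ hE hPhi hker hτm hgen' ε hε
  have hρs : Function.Surjective ((residue W).comp ψ) := by
    intro w
    obtain ⟨x, rfl⟩ := hεs w
    obtain ⟨r, rfl⟩ := hPhi x
    exact ⟨r, (hε r).symm⟩
  have hcomp : (Polynomial.eval₂RingHom (eps A U T W).toRingHom (residue W η)).comp
      (Polynomial.mapRingHom (Phi A U T).toRingHom) = (residue W).comp ψ := by
    apply Polynomial.ringHom_ext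
    · intro a
      simp only [RingHom.comp_apply, coe_eval₂RingHom, eval₂_C, coe_mapRingHom, map_C]
      rw [hψC]
      exact eps_Phi A U T W a
    · simp only [RingHom.comp_apply, coe_eval₂RingHom, eval₂_X, coe_mapRingHom, map_X]
      rw [hψX]
  haveI : Algebra.IsAlgebraic (ResidueField A) (AlgebraicClosure (ResidueField T)) :=
    Algebra.IsAlgebraic.trans (ResidueField A) (ResidueField T) (AlgebraicClosure (ResidueField T))
  refine geomReduced_of_root (ResidueField A) (ResidueField U) (ResidueField T) (ResidueField W)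
    (hred (AlgebraicClosure (ResidueField T))) e he cbar hcu (residue W η) ?_ ?_
  · rw [← map_pow, ← hψd]
    exact (eps_Phi A U T W d).symm
  · intro w
    obtain ⟨r, hr⟩ := hρs w
    refine ⟨Polynomial.mapRingHom (Phi A U T).toRingHom r, ?_⟩
    rw [← hr, ← hcomp]
    rfl

end Core

end Groth.Agent.H10.TameCore
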