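import Mathlib
import Groth.Prelude.Def_EtRam
import Groth.Agent.H10.TameCore
import Groth.Agent.H10.EtRamSmooth
import Groth.Agent.H13.PerfectReduced

/-! EtRam: tame base change (S1982).  If `A → B` is tamely ramified (ramification index `e` prime to
the residue characteristic, residue extension geometrically reduced) then for a finite extension
`K₁/K` and a valuation ring `W` of a compositum such that `e` divides the ramification index of
`A → W ∩ K₁`, the extension `W ∩ K₁ → W` is weakly unramified with geometrically reduced residue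
field extension. -/

set_option autoImplicit false
set_option linter.style.haveILetI false
set_option linter.unusedSectionVars false
set_option linter.unusedVariables false
universe u

open IsLocalRing TensorProduct

namespace Groth.Agent.H10.EtRamTame

theorem exists_unit_mul_pow (A V : Type*) [CommRing A] [IsDomain A] [IsDiscreteValuationRing A]
    [CommRing V] [IsDomain V] [IsDiscreteValuationRing V] [Algebra A V]
    [IsLocalHom (algebraMap A V)]
    (hinj : Function.Injective (algebraMap A V)) (πA : A) (hπA : Irreducible πA) (πV : V)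
    (hπV : Irreducible πV) :
    Ideal.ramificationIdx' (maximalIdeal A) (maximalIdeal V) ≠ 0 ∧
    ∃ u : Vˣ, algebraMap A V πA =
      u * πV ^ Ideal.ramificationIdx' (maximalIdeal A) (maximalIdeal V) := by
  have h0 : algebraMap A V πA ≠ 0 := (map_ne_zero_iff _ hinj).2 hπA.ne_zero
  obtain ⟨n, u, hu⟩ := IsDiscreteValuationRing.eq_unit_mul_pow_irreducible h0 hπV
  have hmap : (maximalIdeal A).map (algebraMap A V) = Ideal.span {πV ^ n} := by
    rw [hπA.maximalIdeal_eq, Ideal.map_span, Set.image_singleton, hu]
    exact Ideal.span_singleton_eq_span_singleton.2 (associated_unit_mul_left _ _ u.isUnit)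
  have hn : Ideal.ramificationIdx' (maximalIdeal A) (maximalIdeal V) = n := by
    apply Ideal.ramificationIdx'_spec
    · rw [hmap, hπV.maximalIdeal_eq, Ideal.span_singleton_pow]
    · rw [hmap, hπV.maximalIdeal_eq, Ideal.span_singleton_pow,
        Ideal.span_singleton_le_span_singleton]
      intro hdvd
      have := (pow_dvd_pow_iff hπV.ne_zero hπV.not_isUnit).1 hdvd
      omega
  rw [hn]
  refine ⟨?_, u, hu⟩
  rintro rfl
  rw [pow_zero, mul_one] at hu
  have h1 : IsUnit (algebraMap A V πA) := by rw [hu]; exact u.isUnit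
  exact hπA.not_isUnit (isUnit_of_map_unit (algebraMap A V) πA h1)

/-- Reducedness of `K ⊗[k] F` for algebraic `F/k` in characteristic zero. -/
theorem isReduced_tensor_of_charZero (k K F : Type u) [Field k] [Field K] [Field F] [Algebra k K]
    [Algebra k F] [CharZero k] [Algebra.IsAlgebraic k F] : IsReduced (K ⊗[k] F) := by
  haveI : Algebra.IsSeparable k F := Algebra.IsAlgebraic.isSeparable_of_perfectField
  haveI := Groth.Agent.H13.isGeometricallyReduced_of_isSeparable k F
  exact Groth.Agent.H13.isReduced_tensorProduct_of_isGeometricallyReduced k F K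

theorem isReduced_tensor_of_geomRed (k K F : Type u) [Field k] [Field K] [Field F] [Algebra k K]
    [Algebra k F] [Algebra.IsGeometricallyReduced k K] [Algebra.IsAlgebraic k F] :
    IsReduced (K ⊗[k] F) := by
  haveI hred : IsReduced (F ⊗[k] K) := inferInstance
  exact isReduced_of_injective (Algebra.TensorProduct.comm k K F).toRingEquiv.toRingHom
      (Algebra.TensorProduct.comm k K F).injective


section Main

open Groth.Agent.H10.DvrBC Groth.Agent.H10.EtRamSm

variable (A B K L : Type u) [CommRing A] [IsDomain A] [IsDiscreteValuationRing A]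
  [CommRing B] [IsDomain B] [IsDiscreteValuationRing B] [Algebra A B] [IsLocalHom (algebraMap A B)]
  [Field K] [Field L] [Algebra A K] [IsFractionRing A K] [Algebra B L] [IsFractionRing B L]
  [Algebra K L] [Algebra A L] [IsScalarTower A K L] [IsScalarTower A B L]

theorem tame_result (hinj : Function.Injective (algebraMap A B))
    (htame : CharZero (IsLocalRing.ResidueField A) ∨
      ∃ p : ℕ, p.Prime ∧ CharP (IsLocalRing.ResidueField A) p ∧
        ¬ p ∣ Ideal.ramificationIdx' (IsLocalRing.maximalIdeal A) (IsLocalRing.maximalIdeal B) ∧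
        Algebra.IsGeometricallyReduced (IsLocalRing.ResidueField A) (IsLocalRing.ResidueField B))
    (K₁ : Type u) [Field K₁] [Algebra K K₁] [FiniteDimensional K K₁] :
    EtRam.ForallLocalExt B K L K₁ (fun M _ W f =>
      ∀ hA : ∀ a : A, (algebraMap K K₁) (algebraMap A K a) ∈ W.comap f,
        letI : Algebra A (W.comap f) := (RingHom.codRestrict ((algebraMap K K₁).comp (algebraMap A K)) (W.comap f) hA).toAlgebra
        letI : Algebra (W.comap f) W := (EtRam.inclOfComap W f).toAlgebra
        Ideal.ramificationIdx' (IsLocalRing.maximalIdeal A) (IsLocalRing.maximalIdeal B) ∣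
          Ideal.ramificationIdx' (IsLocalRing.maximalIdeal A) (IsLocalRing.maximalIdeal (W.comap f)) →
        EtRam.IsWeaklyUnramified (W.comap f) W ∧
          @Algebra.IsGeometricallyReduced (IsLocalRing.ResidueField (W.comap f)) (IsLocalRing.ResidueField W) _ _
            (IsLocalRing.ResidueField.map (EtRam.inclOfComap W f)).toAlgebra) := by
  intro M _ _ _ _ _ _ hgen W hW hA hdiv
  -- `M` is finite over `L`
  haveI hML : FiniteDimensional L M := by
    let φ : L ⊗[K] K₁ →ₐ[L] M :=
      Algebra.TensorProduct.productLeftAlgHom (Algebra.ofId L M) (IsScalarTower.toAlgHom K K₁ M)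
    have hφ : Function.Surjective φ := by
      rw [← AlgHom.range_eq_top, eq_top_iff, ← hgen]
      apply Algebra.adjoin_le
      rintro _ ⟨k, rfl⟩
      exact ⟨1 ⊗ₜ k, by simp [φ]⟩
    exact Module.Finite.of_surjective φ.toLinearMap hφ
  have hAM : ∀ a : A, algebraMap K₁ M (algebraMap K K₁ (algebraMap A K a)) =
      algebraMap L M (algebraMap B L (algebraMap A B a)) := by
    intro a
    rw [← IsScalarTower.algebraMap_apply K K₁ M, IsScalarTower.algebraMap_apply K L M,
      ← IsScalarTower.algebraMap_apply A K L, IsScalarTower.algebraMap_apply A B L]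
  -- `W` is a DVR
  letI algBM : Algebra B M := ((algebraMap L M).comp (algebraMap B L)).toAlgebra
  haveI : IsScalarTower B L M := .of_algebraMap_eq (fun _ => rfl)
  haveI hWdvr : IsDiscreteValuationRing W := isDVR_of_dominates_fin B L M W hW.1 hW.2
  -- `A₁ = W ∩ K₁` is a DVR
  letI algAK₁ : Algebra A K₁ := ((algebraMap K K₁).comp (algebraMap A K)).toAlgebra
  haveI : IsScalarTower A K K₁ := .of_algebraMap_eq (fun _ => rfl)
  have h1 : ∀ a : A, algebraMap A K₁ a ∈ W.comap (algebraMap K₁ M) := hA
  have h2 : ∀ a : A, a ∈ maximalIdeal A →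
      (W.comap (algebraMap K₁ M)).valuation (algebraMap A K₁ a) < 1 := by
    intro a ha
    rw [EtRamT.valuation_comap_lt_one_iff]
    show W.valuation (algebraMap K₁ M (algebraMap K K₁ (algebraMap A K a))) < 1
    rw [hAM]
    apply hW.2
    exact ((local_hom_TFAE (algebraMap A B)).out 0 2 rfl rfl).mp inferInstance
      (Ideal.mem_map_of_mem _ ha)
  haveI hA₁dvr : IsDiscreteValuationRing (W.comap (algebraMap K₁ M)) :=
    isDVR_of_dominates_fin A K K₁ _ h1 h2
  -- algebra structures
  letI algBW : Algebra B W :=
    (RingHom.codRestrict ((algebraMap L M).comp (algebraMap B L)) W hW.1).toAlgebra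
  haveI locBW : IsLocalHom (algebraMap B W) := EtRamT.isLocalHom_of_dominates _ W hW
  letI algA₁W : Algebra (W.comap (algebraMap K₁ M)) W :=
    (EtRam.inclOfComap W (algebraMap K₁ M)).toAlgebra
  haveI locA₁W : IsLocalHom (algebraMap (W.comap (algebraMap K₁ M)) W) :=
    EtRam.isLocalHom_inclOfComap W (algebraMap K₁ M)
  letI algAA₁ : Algebra A (W.comap (algebraMap K₁ M)) :=
    (RingHom.codRestrict ((algebraMap K K₁).comp (algebraMap A K))
      (W.comap (algebraMap K₁ M)) hA).toAlgebra
  letI algAW : Algebra A W := ((algebraMap B W).comp (algebraMap A B)).toAlgebra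
  haveI towABW : IsScalarTower A B W := .of_algebraMap_eq (fun _ => rfl)
  haveI towAA₁W : IsScalarTower A (W.comap (algebraMap K₁ M)) W :=
    .of_algebraMap_eq (fun a => Subtype.ext (hAM a).symm)
  haveI towAA₁K₁ : IsScalarTower A (W.comap (algebraMap K₁ M)) K₁ :=
    .of_algebraMap_eq (fun _ => rfl)
  haveI locAW : IsLocalHom (algebraMap A W) :=
    RingHom.isLocalHom_comp (algebraMap B W) (algebraMap A B)
  haveI locAA₁ : IsLocalHom (algebraMap A (W.comap (algebraMap K₁ M))) := by
    haveI : IsLocalHom ((algebraMap (W.comap (algebraMap K₁ M)) W).comp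
        (algebraMap A (W.comap (algebraMap K₁ M)))) := by
      rw [← IsScalarTower.algebraMap_eq A (W.comap (algebraMap K₁ M)) W]
      exact locAW
    exact isLocalHom_of_comp (algebraMap A (W.comap (algebraMap K₁ M)))
      (algebraMap (W.comap (algebraMap K₁ M)) W)
  -- injectivity
  have hBW : Function.Injective (algebraMap B W) := by
    intro x y h
    have := congrArg Subtype.val h
    exact IsFractionRing.injective B L ((algebraMap L M).injective this)
  have hA₁W : Function.Injective (algebraMap (W.comap (algebraMap K₁ M)) W) := by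
    intro x y h
    have := congrArg Subtype.val h
    exact Subtype.ext ((algebraMap K₁ M).injective this)
  have hAA₁ : Function.Injective (algebraMap A (W.comap (algebraMap K₁ M))) := by
    intro x y h
    have := congrArg Subtype.val h
    exact IsFractionRing.injective A K ((algebraMap K K₁).injective this)
  -- uniformizers
  obtain ⟨πA, hπA⟩ := IsDiscreteValuationRing.exists_irreducible A
  obtain ⟨πB, hπB⟩ := IsDiscreteValuationRing.exists_irreducible B
  obtain ⟨π₁, hπ₁⟩ := IsDiscreteValuationRing.exists_irreducible (W.comap (algebraMap K₁ M))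
  obtain ⟨he0, uB, huB⟩ := exists_unit_mul_pow A B hinj πA hπA πB hπB
  obtain ⟨he₁0, u₁, hu₁⟩ := exists_unit_mul_pow A (W.comap (algebraMap K₁ M)) hAA₁ πA hπA π₁ hπ₁
  obtain ⟨k, hk⟩ := hdiv
  have hkpos : 0 < k := by
    rcases Nat.eq_zero_or_pos k with rfl | h
    · rw [mul_zero] at hk; exact absurd hk he₁0
    · exact h
  rw [hk] at hu₁
  -- residue fields
  haveI hfin : Module.Finite (ResidueField A) (ResidueField (W.comap (algebraMap K₁ M))) :=
    residue_finite A K K₁ (W.comap (algebraMap K₁ M))
  haveI halg : Algebra.IsAlgebraic (ResidueField A)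
      (ResidueField (W.comap (algebraMap K₁ M))) := Algebra.IsAlgebraic.of_finite _ _
  have heκ : ((Ideal.ramificationIdx' (maximalIdeal A) (maximalIdeal B) : ℕ) : ResidueField A) ≠ 0 := by
    rcases htame with h | ⟨p, hp, hcp, hnd, _⟩
    · exact Nat.cast_ne_zero.2 he0
    · rw [Ne, CharP.cast_eq_zero_iff (ResidueField A) p]; exact hnd
  have hred : ∀ (F : Type u) [Field F] [Algebra (ResidueField A) F]
      [Algebra.IsAlgebraic (ResidueField A) F], IsReduced (ResidueField B ⊗[ResidueField A] F) := by
    intro F _ _ _
    rcases htame with h | ⟨p, hp, hcp, hnd, hgr⟩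
    · exact isReduced_tensor_of_charZero _ _ _
    · exact isReduced_tensor_of_geomRed _ _ _
  have hgen' := hgen_of_adjoin A B (W.comap (algebraMap K₁ M)) W L K₁ M
    Subtype.val_injective (fun _ => rfl) (fun _ => rfl) hgen
  obtain ⟨hwu, hgr⟩ := TameCore.tame_core A B (W.comap (algebraMap K₁ M)) W hBW hA₁W hred
    (Ideal.ramificationIdx' (maximalIdeal A) (maximalIdeal B)) k heκ hkpos πA πB π₁ uB u₁
    hπB.maximalIdeal_eq hπ₁.maximalIdeal_eq hπB.ne_zero hπ₁.ne_zero huB hu₁ hgen'
  refine ⟨hwu, ?_⟩
  have halgeq : (IsLocalRing.ResidueField.map (EtRam.inclOfComap W (algebraMap K₁ M))).toAlgebra =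
      (inferInstance : Algebra (ResidueField (W.comap (algebraMap K₁ M))) (ResidueField W)) := by
    apply Algebra.algebra_ext
    intro r
    obtain ⟨r, rfl⟩ := residue_surjective r
    rfl
  rw [halgeq]
  exact hgr

end Main

end Groth.Agent.H10.EtRamTame
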