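import Mathlib
import Groth.Agent.H10.TameCore

/-! Tame base change of DVRs, general version: `A → T` a tamely ramified extension of DVRs (finite
separable residue extension, ramification index invertible in the residue field) and `A → U` an
arbitrary extension of DVRs; a DVR `W` dominating both and generated by them is tamely ramified
over `U`: its ramification index divides that of `T/A` and the residue extension is separable. -/

set_option autoImplicit false
set_option linter.style.haveILetI false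
set_option linter.unusedSectionVars false
set_option linter.unusedVariables false
universe u

open IsLocalRing TensorProduct Polynomial

namespace Groth.Agent.H10.TameCore2

theorem exists_bezout (a b : ℕ) (ha : 0 < a) (hb : 0 < b) (hab : Nat.Coprime a b) :
    ∃ r s : ℕ, r * b = s * a + 1 := by
  rcases Nat.lt_or_ge 1 a with h1 | h1
  · obtain ⟨r, -, hr⟩ := Nat.exists_mul_mod_eq_one_of_coprime hab.symm h1
    refine ⟨r, b * r / a, ?_⟩
    have := Nat.div_add_mod (b * r) a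
    rw [hr] at this
    rw [mul_comm r b, mul_comm (b * r / a) a]
    exact this.symm
  · have : a = 1 := by omega
    subst this
    exact ⟨1, b - 1, by omega⟩

theorem exists_eta2 {W : Type*} [CommRing W] [IsDomain W] [IsDiscreteValuationRing W]
    (P Q α β : W) (hα : IsUnit α) (hβ : IsUnit β) (eU eT : ℕ) (heU : 0 < eU) (heT : 0 < eT)
    (hP0 : P ≠ 0) (hQ0 : Q ≠ 0) (hQm : Q ∈ maximalIdeal W) (h : α * P ^ eU = β * Q ^ eT) :
    ∃ (ϖ Y Yi : W) (a b r s : ℕ), a * Nat.gcd eU eT = eU ∧ 0 < a ∧ 0 < b ∧ Y * Yi = 1 ∧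
      α * Y ^ (Nat.gcd eU eT) = β ∧ P = ϖ ^ b * Yi ^ s ∧ Q = ϖ ^ a * Yi ^ r ∧
      ϖ ∈ maximalIdeal W := by
  obtain ⟨ϖ₀, hϖ₀⟩ := IsDiscreteValuationRing.exists_irreducible W
  obtain ⟨n₁, v₁, hv₁⟩ := IsDiscreteValuationRing.eq_unit_mul_pow_irreducible hP0 hϖ₀
  obtain ⟨n₂, v₂, hv₂⟩ := IsDiscreteValuationRing.eq_unit_mul_pow_irreducible hQ0 hϖ₀
  obtain ⟨uα, rfl⟩ := hα
  obtain ⟨uβ, rfl⟩ := hβ
  set g := Nat.gcd eU eT with hg
  have hgpos : 0 < g := Nat.gcd_pos_of_pos_left _ heU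
  obtain ⟨a, ha⟩ : g ∣ eU := Nat.gcd_dvd_left _ _
  obtain ⟨b, hb⟩ : g ∣ eT := Nat.gcd_dvd_right _ _
  have hapos : 0 < a := by
    rcases Nat.eq_zero_or_pos a with rfl | h
    · rw [mul_zero] at ha; omega
    · exact h
  have hbpos : 0 < b := by
    rcases Nat.eq_zero_or_pos b with rfl | h
    · rw [mul_zero] at hb; omega
    · exact h
  have hcop : Nat.Coprime a b := by
    have := Nat.coprime_div_gcd_div_gcd (m := eU) (n := eT) hgpos
    rw [← hg] at this
    rwa [ha, hb, Nat.mul_div_cancel_left _ hgpos, Nat.mul_div_cancel_left _ hgpos] at this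
  -- valuations
  have h3 : ((uα * v₁ ^ eU : Wˣ) : W) * ϖ₀ ^ (n₁ * eU) =
      ((uβ * v₂ ^ eT : Wˣ) : W) * ϖ₀ ^ (n₂ * eT) := by
    push_cast
    rw [pow_mul, pow_mul]
    calc (uα : W) * (v₁ : W) ^ eU * (ϖ₀ ^ n₁) ^ eU = uα * ((v₁ : W) * ϖ₀ ^ n₁) ^ eU := by ring
      _ = uβ * ((v₂ : W) * ϖ₀ ^ n₂) ^ eT := by rw [← hv₁, ← hv₂, h]
      _ = _ := by ring
  have h4 : n₁ * eU = n₂ * eT :=
    IsDiscreteValuationRing.unit_mul_pow_congr_pow hϖ₀ hϖ₀ _ _ _ _ h3
  have h5 : n₁ * a = n₂ * b := by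
    have : (n₁ * a) * g = (n₂ * b) * g := by
      calc (n₁ * a) * g = n₁ * (g * a) := by ring
        _ = n₂ * (g * b) := by rw [← ha, ← hb, h4]
        _ = _ := by ring
    exact Nat.eq_of_mul_eq_mul_right hgpos this
  obtain ⟨m, hm⟩ : b ∣ n₁ := by
    have : b ∣ n₁ * a := ⟨n₂, by rw [h5]; ring⟩
    exact (Nat.Coprime.dvd_mul_right hcop.symm).1 this
  have hn₂ : n₂ = a * m := by
    have : n₂ * b = (a * m) * b := by rw [← h5, hm]; ring
    exact Nat.eq_of_mul_eq_mul_right hbpos this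
  obtain ⟨r, s, hrs⟩ := exists_bezout a b hapos hbpos hcop
  -- divisibility
  have hdvd : ∀ (x y : W) (vx vy : Wˣ) (nx ny : ℕ), x = vx * ϖ₀ ^ nx → y = vy * ϖ₀ ^ ny →
      nx ≤ ny → x ∣ y := by
    intro x y vx vy nx ny hx hy hle
    rw [hx, hy, vx.isUnit.mul_left_dvd, vy.isUnit.dvd_mul_left]
    exact pow_dvd_pow _ hle
  have hPa : P ^ a = ((v₁ ^ a : Wˣ) : W) * ϖ₀ ^ (n₁ * a) := by
    rw [hv₁]; push_cast; rw [pow_mul]; ring
  have hQb : Q ^ b = ((v₂ ^ b : Wˣ) : W) * ϖ₀ ^ (n₂ * b) := by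
    rw [hv₂]; push_cast; rw [pow_mul]; ring
  have hPr : P ^ r = ((v₁ ^ r : Wˣ) : W) * ϖ₀ ^ (n₁ * r) := by
    rw [hv₁]; push_cast; rw [pow_mul]; ring
  have hQs : Q ^ s = ((v₂ ^ s : Wˣ) : W) * ϖ₀ ^ (n₂ * s) := by
    rw [hv₂]; push_cast; rw [pow_mul]; ring
  obtain ⟨Y, hY⟩ := hdvd _ _ _ _ _ _ hQb hPa h5.symm.le
  obtain ⟨Yi, hYi⟩ := hdvd _ _ _ _ _ _ hPa hQb h5.le
  obtain ⟨ϖ, hϖ⟩ := hdvd _ _ _ _ _ _ hQs hPr (by
    rw [hm, hn₂]
    calc a * m * s = m * (s * a) := by ring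
      _ ≤ m * (s * a + 1) := Nat.mul_le_mul_left _ (Nat.le_succ _)
      _ = b * m * r := by rw [← hrs]; ring)
  have hQb0 : Q ^ b ≠ 0 := pow_ne_zero _ hQ0
  have hPa0 : P ^ a ≠ 0 := pow_ne_zero _ hP0
  have hYYi : Y * Yi = 1 := by
    have : Q ^ b * (Y * Yi) = Q ^ b * 1 := by
      rw [mul_one, ← mul_assoc, ← hY, ← hYi]
    exact mul_left_cancel₀ hQb0 this
  have hYg : (uα : W) * Y ^ g = uβ := by
    have : Q ^ eT * ((uα : W) * Y ^ g) = Q ^ eT * uβ := by
      calc Q ^ eT * ((uα : W) * Y ^ g) = uα * (Q ^ b * Y) ^ g := by rw [hb, pow_mul']; ring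
        _ = uα * P ^ eU := by rw [← hY, ← pow_mul', ← ha]
        _ = Q ^ eT * uβ := by rw [h]; ring
    exact mul_left_cancel₀ (pow_ne_zero _ hQ0) this
  have hPY : P * Y ^ s = ϖ ^ b := by
    have : Q ^ (s * b) * (P * Y ^ s) = Q ^ (s * b) * ϖ ^ b := by
      calc Q ^ (s * b) * (P * Y ^ s) = P * (Q ^ b * Y) ^ s := by rw [pow_mul']; ring
        _ = P * (P ^ a) ^ s := by rw [← hY]
        _ = P ^ (s * a + 1) := by rw [← pow_mul', pow_succ]; ring
        _ = (P ^ r) ^ b := by rw [← hrs, pow_mul]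
        _ = (Q ^ s * ϖ) ^ b := by rw [hϖ]
        _ = _ := by rw [pow_mul]; ring
    exact mul_left_cancel₀ (pow_ne_zero _ hQ0) this
  have hQY : Q * Y ^ r = ϖ ^ a := by
    have : Q ^ (s * a) * (Q * Y ^ r) = Q ^ (s * a) * ϖ ^ a := by
      calc Q ^ (s * a) * (Q * Y ^ r) = Q ^ (s * a + 1) * Y ^ r := by rw [pow_succ]; ring
        _ = (Q ^ b * Y) ^ r := by rw [← hrs, pow_mul']; ring
        _ = (P ^ r) ^ a := by rw [← hY, ← pow_mul, ← pow_mul, mul_comm]
        _ = (Q ^ s * ϖ) ^ a := by rw [hϖ]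
        _ = _ := by rw [pow_mul]; ring
    exact mul_left_cancel₀ (pow_ne_zero _ hQ0) this
  refine ⟨ϖ, Y, Yi, a, b, r, s, by rw [mul_comm]; exact ha.symm, hapos, hbpos, hYYi, hYg, ?_, ?_, ?_⟩
  · calc P = P * (Y * Yi) ^ s := by rw [hYYi, one_pow, mul_one]
      _ = (P * Y ^ s) * Yi ^ s := by rw [mul_pow]; ring
      _ = _ := by rw [hPY]
  · calc Q = Q * (Y * Yi) ^ r := by rw [hYYi, one_pow, mul_one]
      _ = (Q * Y ^ r) * Yi ^ r := by rw [mul_pow]; ring
      _ = _ := by rw [hQY]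
  · rw [mem_maximalIdeal, mem_nonunits_iff]
    intro hu
    have h1 : IsUnit (Q * Y ^ r) := by rw [hQY]; exact hu.pow a
    rw [mem_maximalIdeal, mem_nonunits_iff] at hQm
    exact hQm (isUnit_of_mul_isUnit_left h1)

theorem isSeparable_of_root (k FU FT FW : Type u) [Field k] [Field FU] [Field FT] [Field FW]
    [Algebra k FU] [Algebra k FT] [Algebra k FW] [Algebra FU FW] [Algebra FT FW]
    [IsScalarTower k FU FW] [IsScalarTower k FT FW]
    [Algebra.IsSeparable k FT] (g : ℕ) (hg : (g : k) ≠ 0) (c : FU ⊗[k] FT) (hc : IsUnit c) (η : FW)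
    (hη : η ^ g = Algebra.TensorProduct.productMap
      (IsScalarTower.toAlgHom k FU FW) (IsScalarTower.toAlgHom k FT FW) c)
    (hsurj : Function.Surjective (Polynomial.eval₂RingHom (Algebra.TensorProduct.productMap
      (IsScalarTower.toAlgHom k FU FW) (IsScalarTower.toAlgHom k FT FW)).toRingHom η)) :
    Algebra.IsSeparable FU FW := by
  rw [← separableClosure.eq_top_iff, eq_top_iff]
  set S := separableClosure FU FW with hS
  set pm : FU ⊗[k] FT →ₐ[k] FW := Algebra.TensorProduct.productMap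
      (IsScalarTower.toAlgHom k FU FW) (IsScalarTower.toAlgHom k FT FW) with hpm
  have hpmS : ∀ x : FU ⊗[k] FT, pm x ∈ S := by
    intro x
    induction x using TensorProduct.induction_on with
    | zero => rw [map_zero]; exact zero_mem _
    | tmul u t =>
      have : pm (u ⊗ₜ t) = algebraMap FU FW u * algebraMap FT FW t := by simp [pm]
      rw [this]
      apply mul_mem
      · exact IntermediateField.algebraMap_mem _ u
      · rw [hS, mem_separableClosure_iff]
        have ht : IsSeparable k t := Algebra.IsSeparable.isSeparable _ t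
        have ht' := IsSeparable.map (IsScalarTower.toAlgHom k FT FW) (RingHom.injective _) ht
        exact IsSeparable.tower_top FU ht'
    | add x y hx hy => rw [map_add]; exact add_mem hx hy
  have hηS : η ∈ S := by
    have hc0 : pm c ≠ 0 := (hc.map pm).ne_zero
    let c' : S := ⟨pm c, hpmS c⟩
    have hc'0 : c' ≠ 0 := fun h => hc0 (congrArg Subtype.val h)
    have hgS : ((g : ℕ) : S) ≠ 0 := by
      have : ((g : ℕ) : S) = algebraMap k S (g : k) := by rw [map_natCast]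
      rw [this]
      exact (map_ne_zero_iff _ (algebraMap k S).injective).2 hg
    have hsep : (X ^ g - C c' : S[X]).Separable := Polynomial.separable_X_pow_sub_C c' hgS hc'0
    have hroot : Polynomial.aeval η (X ^ g - C c' : S[X]) = 0 := by
      rw [map_sub, map_pow, aeval_X, aeval_C, hη]
      exact sub_self _
    have hsepη : IsSeparable S η := hsep.of_dvd (minpoly.dvd S η hroot)
    have hmem : η ∈ separableClosure S FW := (mem_separableClosure_iff).2 hsepη
    rw [hS, separableClosure.separableClosure_eq_bot, IntermediateField.mem_bot] at hmem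
    obtain ⟨y, hy⟩ := hmem
    rw [← hy]
    exact y.2
  intro w _
  obtain ⟨p, rfl⟩ := hsurj w
  rw [coe_eval₂RingHom, eval₂_eq_sum_range]
  apply sum_mem
  intro i _
  exact mul_mem (hpmS _) (pow_mem hηS i)


section Core

open Groth.Agent.H10.DvrBC Groth.Agent.H10.TameCore

variable (A U T W : Type u) [CommRing A] [IsDomain A] [IsDiscreteValuationRing A]
  [CommRing U] [IsDomain U] [IsDiscreteValuationRing U]
  [CommRing T] [IsDomain T] [IsDiscreteValuationRing T]
  [CommRing W] [IsDomain W] [IsDiscreteValuationRing W]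
  [Algebra A U] [Algebra A T] [Algebra A W] [Algebra U W] [Algebra T W]
  [IsScalarTower A U W] [IsScalarTower A T W]
  [IsLocalHom (algebraMap A U)] [IsLocalHom (algebraMap A T)] [IsLocalHom (algebraMap A W)]
  [IsLocalHom (algebraMap U W)] [IsLocalHom (algebraMap T W)]

theorem tame_core2 (hUW : Function.Injective (algebraMap U W))
    (hTW : Function.Injective (algebraMap T W))
    [Module.Finite (ResidueField A) (ResidueField T)]
    [Algebra.IsSeparable (ResidueField A) (ResidueField T)]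
    (eU eT : ℕ) (heT : (eT : ResidueField A) ≠ 0) (heU : 0 < eU)
    (πA : A) (πU : U) (πT : T) (uU : Uˣ) (uT : Tˣ)
    (hπU : maximalIdeal U = Ideal.span {πU}) (hπT : maximalIdeal T = Ideal.span {πT})
    (hπU0 : πU ≠ 0) (hπT0 : πT ≠ 0)
    (hU : algebraMap A U πA = uU * πU ^ eU) (hT : algebraMap A T πA = uT * πT ^ eT)
    (hgen : ∀ w : W, ∃ x y : U ⊗[A] T, psi A U T W y ≠ 0 ∧ w * psi A U T W y = psi A U T W x) :
    (∃ (a : ℕ) (ϖ : W) (u : Wˣ), a ∣ eT ∧ maximalIdeal W = Ideal.span {ϖ} ∧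
      algebraMap U W πU = u * ϖ ^ a) ∧
      Algebra.IsSeparable (ResidueField U) (ResidueField W) := by
  classical
  have heT0 : 0 < eT := by
    rcases Nat.eq_zero_or_pos eT with rfl | h
    · exact absurd (by simp) heT
    · exact h
  have hP0 : algebraMap T W πT ≠ 0 := (map_ne_zero_iff _ hTW).2 hπT0
  have hQ0 : algebraMap U W πU ≠ 0 := (map_ne_zero_iff _ hUW).2 hπU0
  have hQm : algebraMap U W πU ∈ maximalIdeal W := by
    rw [mem_maximalIdeal, mem_nonunits_iff]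
    intro hu
    have h1 : πU ∈ maximalIdeal U := by rw [hπU]; exact Ideal.mem_span_singleton_self _
    rw [mem_maximalIdeal, mem_nonunits_iff] at h1
    exact h1 (isUnit_of_map_unit (algebraMap U W) πU hu)
  have hrel : algebraMap T W uT * (algebraMap T W πT) ^ eT =
      algebraMap U W uU * (algebraMap U W πU) ^ eU := by
    rw [← map_pow, ← map_mul, ← hT, ← map_pow, ← map_mul, ← hU,
      ← IsScalarTower.algebraMap_apply, ← IsScalarTower.algebraMap_apply]
  obtain ⟨ϖ, Y, Yi, a, b, r, s, hag, hapos, hbpos, hYYi, hYg, hPeq, hQeq, hϖm⟩ :=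
    exists_eta2 (algebraMap T W πT) (algebraMap U W πU) (algebraMap T W uT) (algebraMap U W uU)
      (uT.isUnit.map _) (uU.isUnit.map _) eT eU heT0 heU hP0 hQ0 hQm hrel
  set g := Nat.gcd eT eU with hgdef
  have hgpos : 0 < g := Nat.gcd_pos_of_pos_left _ heT0
  have hgκ : ((g : ℕ) : ResidueField A) ≠ 0 := by
    intro h0
    apply heT
    rw [← hag, Nat.cast_mul, h0, mul_zero]
  -- the element `d = u_U ⊗ u_T⁻¹`
  set d : U ⊗[A] T := (uU : U) ⊗ₜ[A] ((uT⁻¹ : Tˣ) : T) with hd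
  set di : U ⊗[A] T := ((uU⁻¹ : Uˣ) : U) ⊗ₜ[A] (uT : T) with hdi
  have hddi : d * di = 1 := by
    rw [hd, hdi, Algebra.TensorProduct.tmul_mul_tmul, Units.mul_inv, Units.inv_mul]; rfl
  have hdu : IsUnit d := ⟨⟨d, di, hddi, by rw [mul_comm]; exact hddi⟩, rfl⟩
  have hψd : psi A U T W d = Y ^ g := by
    rw [hd, psi_tmul, ← hYg]
    calc algebraMap T W ↑uT * Y ^ g * algebraMap T W ↑uT⁻¹
        = Y ^ g * (algebraMap T W ↑uT * algebraMap T W ↑uT⁻¹) := by ring
      _ = Y ^ g := by rw [← map_mul, Units.mul_inv, map_one, mul_one]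
  -- the maps
  let ψ₁ : (U ⊗[A] T)[X] →+* W := Polynomial.eval₂RingHom (psi A U T W).toRingHom Y
  have hψ₁C : ∀ x : U ⊗[A] T, ψ₁ (C x) = psi A U T W x := fun x => by simp [ψ₁]
  have hψ₁X : ψ₁ X = Y := by simp [ψ₁]
  let ψ : (U ⊗[A] T)[X][X] →+* W := Polynomial.eval₂RingHom ψ₁ ϖ
  have hψC : ∀ x : (U ⊗[A] T)[X], ψ (C x) = ψ₁ x := fun x => by simp [ψ]
  have hψX : ψ X = ϖ := by simp [ψ]
  -- the inverse of `Y` is in the image
  set yi : (U ⊗[A] T)[X] := C di * X ^ (g - 1) with hyi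
  have hψyi : ψ₁ yi = Yi := by
    have h1 : Y * ψ₁ yi = 1 := by
      rw [hyi, map_mul, map_pow, hψ₁X, hψ₁C]
      calc Y * (psi A U T W di * Y ^ (g - 1)) = psi A U T W di * Y ^ (g - 1 + 1) := by
            rw [pow_succ]; ring
        _ = psi A U T W di * psi A U T W d := by rw [Nat.sub_add_cancel hgpos, hψd]
        _ = 1 := by rw [← map_mul, mul_comm, hddi, map_one]
    calc ψ₁ yi = (Y * Yi) * ψ₁ yi := by rw [hYYi, one_mul]
      _ = Yi * (Y * ψ₁ yi) := by ring
      _ = Yi := by rw [h1, mul_one]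
  set cbar := Phi A U T d with hcbar
  have hcu : IsUnit cbar := hdu.map (Phi A U T)
  haveI hredT : IsReduced (ResidueField U ⊗[ResidueField A] ResidueField T) := by
    haveI : Algebra.FormallyUnramified (ResidueField A) (ResidueField T) :=
      Algebra.FormallyUnramified.of_isSeparable _ _
    exact Algebra.FormallyUnramified.isReduced_of_field (ResidueField U) _
  haveI : Algebra.IsAlgebraic (ResidueField A) (ResidueField T) := Algebra.IsAlgebraic.of_finite _ _
  have hE : IsVNR (AdjoinRoot (X ^ g - C cbar)) :=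
    vnr_adjoinRoot (ResidueField A) (ResidueField U) (ResidueField T) g hgκ cbar hcu
  let Phi₁ : (U ⊗[A] T)[X] →+* AdjoinRoot (X ^ g - C cbar) :=
    (AdjoinRoot.mk (X ^ g - C cbar)).comp (Polynomial.mapRingHom (Phi A U T).toRingHom)
  have hPhi₁ : Function.Surjective Phi₁ :=
    AdjoinRoot.mk_surjective.comp (Polynomial.map_surjective _ (Phi_surjective A U T))
  let Phi' : (U ⊗[A] T)[X][X] →+* AdjoinRoot (X ^ g - C cbar) :=
    Phi₁.comp (Polynomial.evalRingHom (0 : (U ⊗[A] T)[X]))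
  have hPhi : Function.Surjective Phi' := by
    intro z
    obtain ⟨y, rfl⟩ := hPhi₁ z
    exact ⟨C y, by simp [Phi']⟩
  -- the ideal of elements of `D[X]` whose image is a multiple of `ϖ`
  let I₁ : Ideal (U ⊗[A] T)[X] :=
    { carrier := {y | ∃ x₁ : (U ⊗[A] T)[X][X], ψ₁ y = ϖ * ψ x₁}
      zero_mem' := ⟨0, by simp⟩
      add_mem' := by
        rintro y z ⟨y₁, hy⟩ ⟨z₁, hz⟩
        exact ⟨y₁ + z₁, by rw [map_add, map_add, hy, hz, mul_add]⟩
      smul_mem' := by
        rintro c x ⟨x₁, hx⟩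
        exact ⟨C c * x₁, by rw [smul_eq_mul, map_mul, map_mul, hx, hψC]; ring⟩ }
  have hI1 : C (πU ⊗ₜ[A] (1 : T)) ∈ I₁ := by
    refine ⟨X ^ (a - 1) * C (yi ^ r), ?_⟩
    rw [hψ₁C, psi_tmul, map_one, mul_one, hQeq, map_mul, map_pow, hψX, hψC, map_pow, hψyi]
    obtain ⟨a', rfl⟩ : ∃ a', a = a' + 1 := ⟨a - 1, by omega⟩
    rw [Nat.add_sub_cancel, pow_succ]
    ring
  have hI2 : C ((1 : U) ⊗ₜ[A] πT) ∈ I₁ := by
    refine ⟨X ^ (b - 1) * C (yi ^ s), ?_⟩
    rw [hψ₁C, psi_tmul, map_one, one_mul, hPeq, map_mul, map_pow, hψX, hψC, map_pow, hψyi]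
    obtain ⟨b', rfl⟩ : ∃ b', b = b' + 1 := ⟨b - 1, by omega⟩
    rw [Nat.add_sub_cancel, pow_succ]
    ring
  have hI3 : X ^ g - C d ∈ I₁ := by
    refine ⟨0, ?_⟩
    rw [map_sub, map_pow, hψ₁X, hψ₁C, hψd, sub_self, map_zero, mul_zero]
  have hkerle : (RingHom.ker (Phi A U T).toRingHom).map
      (C : (U ⊗[A] T) →+* (U ⊗[A] T)[X]) ≤ I₁ := by
    rw [Ideal.map_le_iff_le_comap]
    refine le_trans (ker_Phi_le' A U T) (sup_le ?_ ?_)
    · rw [Ideal.map_le_iff_le_comap, hπU, Ideal.span_singleton_le_iff_mem]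
      exact hI1
    · rw [Ideal.map_le_iff_le_comap, hπT, Ideal.span_singleton_le_iff_mem]
      exact hI2
  have hker₁ : ∀ y, Phi₁ y = 0 → y ∈ I₁ := by
    intro x hx
    rw [RingHom.comp_apply, AdjoinRoot.mk_eq_zero] at hx
    obtain ⟨qbar, hq⟩ := hx
    obtain ⟨q, rfl⟩ := Polynomial.map_surjective _ (Phi_surjective A U T) qbar
    have hz : x - (X ^ g - C d) * q ∈
        RingHom.ker (Polynomial.mapRingHom (Phi A U T).toRingHom) := by
      rw [RingHom.mem_ker, map_sub, map_mul, hq]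
      simp only [coe_mapRingHom, Polynomial.map_sub, Polynomial.map_pow, map_X, map_C]
      rw [sub_eq_zero]
      rfl
    rw [Polynomial.ker_mapRingHom] at hz
    have := I₁.add_mem (hkerle hz) (I₁.mul_mem_right q hI3)
    rwa [sub_add_cancel] at this
  have hdecomp : ∀ x : (U ⊗[A] T)[X][X], ψ x = ϖ * ψ x.divX + ψ₁ (x.coeff 0) := by
    intro x
    conv_lhs => rw [← Polynomial.divX_mul_X_add x]
    rw [map_add, map_mul, hψX, hψC]
    ring
  have hker : ∀ x, Phi' x = 0 → ∃ x₁, ψ x = ϖ * ψ x₁ := by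
    intro x hx
    have hx0 : Phi₁ (x.coeff 0) = 0 := by
      have : Phi' x = Phi₁ (x.coeff 0) := by
        simp [Phi', Polynomial.coeff_zero_eq_eval_zero]
      rw [← this]
      exact hx
    obtain ⟨x₁, hx₁⟩ := hker₁ _ hx0
    refine ⟨x.divX + x₁, ?_⟩
    rw [hdecomp x, hx₁, map_add]
    ring
  have hgen' : ∀ w : W, ∃ x y : (U ⊗[A] T)[X][X], ψ y ≠ 0 ∧ w * ψ y = ψ x := by
    intro w
    obtain ⟨x, y, hy, h⟩ := hgen w
    exact ⟨C (C x), C (C y), by rwa [hψC, hψ₁C], by rw [hψC, hψC, hψ₁C, hψ₁C]; exact h⟩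
  have hmax := VnrCore.maximalIdeal_eq (R := (U ⊗[A] T)[X][X]) (E := AdjoinRoot (X ^ g - C cbar)) ψ Phi' ϖ hE hPhi hker hϖm hgen'
  have hYiu : IsUnit Yi := IsUnit.of_mul_eq_one Y (by rw [mul_comm]; exact hYYi)
  refine ⟨⟨a, ϖ, hYiu.unit ^ r, Dvd.intro _ hag, hmax, ?_⟩, ?_⟩
  · rw [hQeq, Units.val_pow_eq_pow_val, IsUnit.unit_spec, mul_comm]
  obtain ⟨ε, hε⟩ := VnrCore.exists_eps (R := (U ⊗[A] T)[X][X]) (E := AdjoinRoot (X ^ g - C cbar)) ψ Phi' ϖ hPhi hker hϖm
  have hεs := VnrCore.residue_surjective' (R := (U ⊗[A] T)[X][X]) (E := AdjoinRoot (X ^ g - C cbar)) ψ Phi' ϖ hE hPhi hker hϖm hgen' ε hε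
  have hρs : Function.Surjective ((residue W).comp ψ) := by
    intro w
    obtain ⟨x, rfl⟩ := hεs w
    obtain ⟨r, rfl⟩ := hPhi x
    exact ⟨r, (hε r).symm⟩
  have hcomp : (Polynomial.eval₂RingHom (eps A U T W).toRingHom (residue W Y)).comp
      (Polynomial.mapRingHom (Phi A U T).toRingHom) = (residue W).comp ψ₁ := by
    apply Polynomial.ringHom_ext
    · intro x
      simp only [RingHom.comp_apply, coe_eval₂RingHom, eval₂_C, coe_mapRingHom, map_C]
      rw [hψ₁C]
      exact eps_Phi A U T W x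
    · simp only [RingHom.comp_apply, coe_eval₂RingHom, eval₂_X, coe_mapRingHom, map_X]
      rw [hψ₁X]
  refine isSeparable_of_root (ResidueField A) (ResidueField U) (ResidueField T) (ResidueField W)
    g hgκ cbar hcu (residue W Y) ?_ ?_
  · rw [← map_pow, ← hψd]
    exact (eps_Phi A U T W d).symm
  · intro w
    obtain ⟨x, hx⟩ := hρs w
    refine ⟨Polynomial.mapRingHom (Phi A U T).toRingHom (x.coeff 0), ?_⟩
    have h1 : residue W (ψ x) = residue W (ψ₁ (x.coeff 0)) := by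
      rw [hdecomp x, map_add, map_mul]
      have : residue W ϖ = 0 := (residue_eq_zero_iff _).2 hϖm
      rw [this, zero_mul, zero_add]
    rw [← hx, RingHom.comp_apply, h1]
    have h2 := congrArg (fun f => f (x.coeff 0)) hcomp
    simp only [RingHom.comp_apply] at h2
    exact h2

end Core

end Groth.Agent.H10.TameCore2
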