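import Mathlib
import Groth.Agent.H10.TameCore2

/-! Refinement of `TameCore2.tame_core2`: the ramification index of `W/U` is exactly
`e_T / gcd(e_T, e_U)`. -/

set_option autoImplicit false
set_option linter.style.haveILetI false
set_option linter.unusedSectionVars false
set_option linter.unusedVariables false
universe u

open IsLocalRing TensorProduct Polynomial

namespace Groth.Agent.H10.TameCore3

open Groth.Agent.H10.TameCore2

section Core

open Groth.Agent.H10.DvrBC Groth.Agent.H10.TameCore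

variable (A U T W : Type u) [CommRing A] [IsDomain A] [IsDiscreteValuationRing A]
  [CommRing U] [IsDomain U] [IsDiscreteValuationRing U]
  [CommRing T] [IsDomain T] [IsDiscreteValuationRing T]
  [CommRing W] [IsDomain W] [IsDiscreteValuationRing W]
  [Algebra A U] [Algebra A T] [Algebra A W] [Algebra U W] [Algebra T W]
  [IsScalarTower A U W] [IsScalarTower A T W]
  [IsLocalHom (algebraMap A U)] [IsLocalHom (algebraMap A T)] [IsLocalHom (algebraMap A W)]
  [IsLocalHom (algebraMap U W)] [IsLocalHom (algebraMap T W)]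

theorem tame_core3 (hUW : Function.Injective (algebraMap U W))
    (hTW : Function.Injective (algebraMap T W))
    [Module.Finite (ResidueField A) (ResidueField T)]
    [Algebra.IsSeparable (ResidueField A) (ResidueField T)]
    (eU eT : ℕ) (heT : (eT : ResidueField A) ≠ 0) (heU : 0 < eU)
    (πA : A) (πU : U) (πT : T) (uU : Uˣ) (uT : Tˣ)
    (hπU : maximalIdeal U = Ideal.span {πU}) (hπT : maximalIdeal T = Ideal.span {πT})
    (hπU0 : πU ≠ 0) (hπT0 : πT ≠ 0)
    (hU : algebraMap A U πA = uU * πU ^ eU) (hT : algebraMap A T πA = uT * πT ^ eT)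
    (hgen : ∀ w : W, ∃ x y : U ⊗[A] T, psi A U T W y ≠ 0 ∧ w * psi A U T W y = psi A U T W x) :
    (∃ (a : ℕ) (ϖ : W) (u : Wˣ), a * Nat.gcd eT eU = eT ∧ maximalIdeal W = Ideal.span {ϖ} ∧
      algebraMap U W πU = u * ϖ ^ a) ∧
      Algebra.IsSeparable (ResidueField U) (ResidueField W) := by
  classical
  have heT0 : 0 < eT := by
    rcases Nat.eq_zero_or_pos eT with rfl | h
    · exact absurd (by simp) heT
    · exact h
  have hP0 : algebraMap T W πT ≠ 0 := (map_ne_zero_iff _ hTW).2 hπT0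
  have hQ0 : algebraMap U W πU ≠ 0 := (map_ne_zero_iff _ hUW).2 hπU0
  have hQm : algebraMap U W πU ∈ maximalIdeal W := by
    rw [mem_maximalIdeal, mem_nonunits_iff]
    intro hu
    have h1 : πU ∈ maximalIdeal U := by rw [hπU]; exact Ideal.mem_span_singleton_self _
    rw [mem_maximalIdeal, mem_nonunits_iff] at h1
    exact h1 (isUnit_of_map_unit (algebraMap U W) πU hu)
  have hrel : algebraMap T W uT * (algebraMap T W πT) ^ eT =
      algebraMap U W uU * (algebraMap U W πU) ^ eU := by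
    rw [← map_pow, ← map_mul, ← hT, ← map_pow, ← map_mul, ← hU,
      ← IsScalarTower.algebraMap_apply, ← IsScalarTower.algebraMap_apply]
  obtain ⟨ϖ, Y, Yi, a, b, r, s, hag, hapos, hbpos, hYYi, hYg, hPeq, hQeq, hϖm⟩ :=
    exists_eta2 (algebraMap T W πT) (algebraMap U W πU) (algebraMap T W uT) (algebraMap U W uU)
      (uT.isUnit.map _) (uU.isUnit.map _) eT eU heT0 heU hP0 hQ0 hQm hrel
  set g := Nat.gcd eT eU with hgdef
  have hgpos : 0 < g := Nat.gcd_pos_of_pos_left _ heT0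
  have hgκ : ((g : ℕ) : ResidueField A) ≠ 0 := by
    intro h0
    apply heT
    rw [← hag, Nat.cast_mul, h0, mul_zero]
  -- the element `d = u_U ⊗ u_T⁻¹`
  set d : U ⊗[A] T := (uU : U) ⊗ₜ[A] ((uT⁻¹ : Tˣ) : T) with hd
  set di : U ⊗[A] T := ((uU⁻¹ : Uˣ) : U) ⊗ₜ[A] (uT : T) with hdi
  have hddi : d * di = 1 := by
    rw [hd, hdi, Algebra.TensorProduct.tmul_mul_tmul, Units.mul_inv, Units.inv_mul]; rfl
  have hdu : IsUnit d := ⟨⟨d, di, hddi, by rw [mul_comm]; exact hddi⟩, rfl⟩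
  have hψd : psi A U T W d = Y ^ g := by
    rw [hd, psi_tmul, ← hYg]
    calc algebraMap T W ↑uT * Y ^ g * algebraMap T W ↑uT⁻¹
        = Y ^ g * (algebraMap T W ↑uT * algebraMap T W ↑uT⁻¹) := by ring
      _ = Y ^ g := by rw [← map_mul, Units.mul_inv, map_one, mul_one]
  -- the maps
  let ψ₁ : (U ⊗[A] T)[X] →+* W := Polynomial.eval₂RingHom (psi A U T W).toRingHom Y
  have hψ₁C : ∀ x : U ⊗[A] T, ψ₁ (C x) = psi A U T W x := fun x => by simp [ψ₁]
  have hψ₁X : ψ₁ X = Y := by simp [ψ₁]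
  let ψ : (U ⊗[A] T)[X][X] →+* W := Polynomial.eval₂RingHom ψ₁ ϖ
  have hψC : ∀ x : (U ⊗[A] T)[X], ψ (C x) = ψ₁ x := fun x => by simp [ψ]
  have hψX : ψ X = ϖ := by simp [ψ]
  -- the inverse of `Y` is in the image
  set yi : (U ⊗[A] T)[X] := C di * X ^ (g - 1) with hyi
  have hψyi : ψ₁ yi = Yi := by
    have h1 : Y * ψ₁ yi = 1 := by
      rw [hyi, map_mul, map_pow, hψ₁X, hψ₁C]
      calc Y * (psi A U T W di * Y ^ (g - 1)) = psi A U T W di * Y ^ (g - 1 + 1) := by
            rw [pow_succ]; ring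
        _ = psi A U T W di * psi A U T W d := by rw [Nat.sub_add_cancel hgpos, hψd]
        _ = 1 := by rw [← map_mul, mul_comm, hddi, map_one]
    calc ψ₁ yi = (Y * Yi) * ψ₁ yi := by rw [hYYi, one_mul]
      _ = Yi * (Y * ψ₁ yi) := by ring
      _ = Yi := by rw [h1, mul_one]
  set cbar := Phi A U T d with hcbar
  have hcu : IsUnit cbar := hdu.map (Phi A U T)
  haveI hredT : IsReduced (ResidueField U ⊗[ResidueField A] ResidueField T) := by
    haveI : Algebra.FormallyUnramified (ResidueField A) (ResidueField T) :=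
      Algebra.FormallyUnramified.of_isSeparable _ _
    exact Algebra.FormallyUnramified.isReduced_of_field (ResidueField U) _
  haveI : Algebra.IsAlgebraic (ResidueField A) (ResidueField T) := Algebra.IsAlgebraic.of_finite _ _
  have hE : IsVNR (AdjoinRoot (X ^ g - C cbar)) :=
    vnr_adjoinRoot (ResidueField A) (ResidueField U) (ResidueField T) g hgκ cbar hcu
  let Phi₁ : (U ⊗[A] T)[X] →+* AdjoinRoot (X ^ g - C cbar) :=
    (AdjoinRoot.mk (X ^ g - C cbar)).comp (Polynomial.mapRingHom (Phi A U T).toRingHom)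
  have hPhi₁ : Function.Surjective Phi₁ :=
    AdjoinRoot.mk_surjective.comp (Polynomial.map_surjective _ (Phi_surjective A U T))
  let Phi' : (U ⊗[A] T)[X][X] →+* AdjoinRoot (X ^ g - C cbar) :=
    Phi₁.comp (Polynomial.evalRingHom (0 : (U ⊗[A] T)[X]))
  have hPhi : Function.Surjective Phi' := by
    intro z
    obtain ⟨y, rfl⟩ := hPhi₁ z
    exact ⟨C y, by simp [Phi']⟩
  -- the ideal of elements of `D[X]` whose image is a multiple of `ϖ`
  let I₁ : Ideal (U ⊗[A] T)[X] :=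
    { carrier := {y | ∃ x₁ : (U ⊗[A] T)[X][X], ψ₁ y = ϖ * ψ x₁}
      zero_mem' := ⟨0, by simp⟩
      add_mem' := by
        rintro y z ⟨y₁, hy⟩ ⟨z₁, hz⟩
        exact ⟨y₁ + z₁, by rw [map_add, map_add, hy, hz, mul_add]⟩
      smul_mem' := by
        rintro c x ⟨x₁, hx⟩
        exact ⟨C c * x₁, by rw [smul_eq_mul, map_mul, map_mul, hx, hψC]; ring⟩ }
  have hI1 : C (πU ⊗ₜ[A] (1 : T)) ∈ I₁ := by
    refine ⟨X ^ (a - 1) * C (yi ^ r), ?_⟩
    rw [hψ₁C, psi_tmul, map_one, mul_one, hQeq, map_mul, map_pow, hψX, hψC, map_pow, hψyi]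
    obtain ⟨a', rfl⟩ : ∃ a', a = a' + 1 := ⟨a - 1, by omega⟩
    rw [Nat.add_sub_cancel, pow_succ]
    ring
  have hI2 : C ((1 : U) ⊗ₜ[A] πT) ∈ I₁ := by
    refine ⟨X ^ (b - 1) * C (yi ^ s), ?_⟩
    rw [hψ₁C, psi_tmul, map_one, one_mul, hPeq, map_mul, map_pow, hψX, hψC, map_pow, hψyi]
    obtain ⟨b', rfl⟩ : ∃ b', b = b' + 1 := ⟨b - 1, by omega⟩
    rw [Nat.add_sub_cancel, pow_succ]
    ring
  have hI3 : X ^ g - C d ∈ I₁ := by
    refine ⟨0, ?_⟩
    rw [map_sub, map_pow, hψ₁X, hψ₁C, hψd, sub_self, map_zero, mul_zero]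
  have hkerle : (RingHom.ker (Phi A U T).toRingHom).map
      (C : (U ⊗[A] T) →+* (U ⊗[A] T)[X]) ≤ I₁ := by
    rw [Ideal.map_le_iff_le_comap]
    refine le_trans (ker_Phi_le' A U T) (sup_le ?_ ?_)
    · rw [Ideal.map_le_iff_le_comap, hπU, Ideal.span_singleton_le_iff_mem]
      exact hI1
    · rw [Ideal.map_le_iff_le_comap, hπT, Ideal.span_singleton_le_iff_mem]
      exact hI2
  have hker₁ : ∀ y, Phi₁ y = 0 → y ∈ I₁ := by
    intro x hx
    rw [RingHom.comp_apply, AdjoinRoot.mk_eq_zero] at hx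
    obtain ⟨qbar, hq⟩ := hx
    obtain ⟨q, rfl⟩ := Polynomial.map_surjective _ (Phi_surjective A U T) qbar
    have hz : x - (X ^ g - C d) * q ∈
        RingHom.ker (Polynomial.mapRingHom (Phi A U T).toRingHom) := by
      rw [RingHom.mem_ker, map_sub, map_mul, hq]
      simp only [coe_mapRingHom, Polynomial.map_sub, Polynomial.map_pow, map_X, map_C]
      rw [sub_eq_zero]
      rfl
    rw [Polynomial.ker_mapRingHom] at hz
    have := I₁.add_mem (hkerle hz) (I₁.mul_mem_right q hI3)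
    rwa [sub_add_cancel] at this
  have hdecomp : ∀ x : (U ⊗[A] T)[X][X], ψ x = ϖ * ψ x.divX + ψ₁ (x.coeff 0) := by
    intro x
    conv_lhs => rw [← Polynomial.divX_mul_X_add x]
    rw [map_add, map_mul, hψX, hψC]
    ring
  have hker : ∀ x, Phi' x = 0 → ∃ x₁, ψ x = ϖ * ψ x₁ := by
    intro x hx
    have hx0 : Phi₁ (x.coeff 0) = 0 := by
      have : Phi' x = Phi₁ (x.coeff 0) := by
        simp [Phi', Polynomial.coeff_zero_eq_eval_zero]
      rw [← this]
      exact hx
    obtain ⟨x₁, hx₁⟩ := hker₁ _ hx0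
    refine ⟨x.divX + x₁, ?_⟩
    rw [hdecomp x, hx₁, map_add]
    ring
  have hgen' : ∀ w : W, ∃ x y : (U ⊗[A] T)[X][X], ψ y ≠ 0 ∧ w * ψ y = ψ x := by
    intro w
    obtain ⟨x, y, hy, h⟩ := hgen w
    exact ⟨C (C x), C (C y), by rwa [hψC, hψ₁C], by rw [hψC, hψC, hψ₁C, hψ₁C]; exact h⟩
  have hmax := VnrCore.maximalIdeal_eq (R := (U ⊗[A] T)[X][X]) (E := AdjoinRoot (X ^ g - C cbar)) ψ Phi' ϖ hE hPhi hker hϖm hgen'
  have hYiu : IsUnit Yi := IsUnit.of_mul_eq_one Y (by rw [mul_comm]; exact hYYi)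
  refine ⟨⟨a, ϖ, hYiu.unit ^ r, hag, hmax, ?_⟩, ?_⟩
  · rw [hQeq, Units.val_pow_eq_pow_val, IsUnit.unit_spec, mul_comm]
  obtain ⟨ε, hε⟩ := VnrCore.exists_eps (R := (U ⊗[A] T)[X][X]) (E := AdjoinRoot (X ^ g - C cbar)) ψ Phi' ϖ hPhi hker hϖm
  have hεs := VnrCore.residue_surjective' (R := (U ⊗[A] T)[X][X]) (E := AdjoinRoot (X ^ g - C cbar)) ψ Phi' ϖ hE hPhi hker hϖm hgen' ε hε
  have hρs : Function.Surjective ((residue W).comp ψ) := by
    intro w
    obtain ⟨x, rfl⟩ := hεs w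
    obtain ⟨r, rfl⟩ := hPhi x
    exact ⟨r, (hε r).symm⟩
  have hcomp : (Polynomial.eval₂RingHom (eps A U T W).toRingHom (residue W Y)).comp
      (Polynomial.mapRingHom (Phi A U T).toRingHom) = (residue W).comp ψ₁ := by
    apply Polynomial.ringHom_ext
    · intro x
      simp only [RingHom.comp_apply, coe_eval₂RingHom, eval₂_C, coe_mapRingHom, map_C]
      rw [hψ₁C]
      exact eps_Phi A U T W x
    · simp only [RingHom.comp_apply, coe_eval₂RingHom, eval₂_X, coe_mapRingHom, map_X]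
      rw [hψ₁X]
  refine isSeparable_of_root (ResidueField A) (ResidueField U) (ResidueField T) (ResidueField W)
    g hgκ cbar hcu (residue W Y) ?_ ?_
  · rw [← map_pow, ← hψd]
    exact (eps_Phi A U T W d).symm
  · intro w
    obtain ⟨x, hx⟩ := hρs w
    refine ⟨Polynomial.mapRingHom (Phi A U T).toRingHom (x.coeff 0), ?_⟩
    have h1 : residue W (ψ x) = residue W (ψ₁ (x.coeff 0)) := by
      rw [hdecomp x, map_add, map_mul]
      have : residue W ϖ = 0 := (residue_eq_zero_iff _).2 hϖm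
      rw [this, zero_mul, zero_add]
    rw [← hx, RingHom.comp_apply, h1]
    have h2 := congrArg (fun f => f (x.coeff 0)) hcomp
    simp only [RingHom.comp_apply] at h2
    exact h2

end Core

end Groth.Agent.H10.TameCore3
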