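import Mathlib
import Groth.Prelude.Def_EtRam
import Groth.Agent.H10.TameCore3
import Groth.Agent.H10.AdjoinRootDVR
import Groth.Agent.H10.EtRamTame
import Groth.Agent.H10.EtRamTower2
import Groth.Agent.H10.EtRamTot

/-! Abhyankar's lemma for a DVR `A` with uniformizer `π`: a tamely ramified finite separable
extension `L/K` becomes unramified over `A[π^{1/e}]` for suitable `e` prime to the residue
characteristic (S9329; forward direction of S9328). -/

set_option autoImplicit false
set_option linter.style.haveILetI false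
set_option linter.unusedSectionVars false
set_option linter.unusedVariables false
universe u

open IsLocalRing TensorProduct Polynomial

namespace Groth.Agent.H10.Abhyankar

section Gen

open Groth.Agent.H10.DvrBC

variable (A U T W : Type u) [CommRing A] [CommRing U] [CommRing T] [CommRing W] [IsDomain W]
  [Algebra A U] [Algebra A T] [Algebra A W] [Algebra U W] [Algebra T W]
  [IsScalarTower A U W] [IsScalarTower A T W]
  (FT M : Type u) [Field FT] [Field M] [IsDomain T]
  [Algebra T FT] [IsFractionRing T FT] [Algebra FT M] [Algebra W M] [Algebra U M]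

/-- If `M` is generated as an algebra over the fraction field of `T` by the image of `U`, every
element of `W ⊆ M` is a quotient of elements of the image of `U ⊗ T`. -/
theorem hgen_of_adjoin' (hWM : Function.Injective (algebraMap W M))
    (hUc : ∀ u : U, algebraMap W M (algebraMap U W u) = algebraMap U M u)
    (hTc : ∀ t : T, algebraMap W M (algebraMap T W t) = algebraMap FT M (algebraMap T FT t))
    (hgen : Algebra.adjoin FT (Set.range (algebraMap U M)) = ⊤) :
    ∀ w : W, ∃ x y : U ⊗[A] T, psi A U T W y ≠ 0 ∧ w * psi A U T W y = psi A U T W x := by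
  have hTinj : Function.Injective (fun t : T => algebraMap W M (algebraMap T W t)) := by
    intro t t' h
    simp only [hTc] at h
    exact IsFractionRing.injective T FT ((algebraMap FT M).injective h)
  have hpsi : ∀ (x : U) (y : T), psi A U T W (x ⊗ₜ y) = algebraMap U W x * algebraMap T W y := by
    intro x y
    simp [psi]
  have key : ∀ m : M, ∃ x y : U ⊗[A] T, psi A U T W y ≠ 0 ∧
      m * algebraMap W M (psi A U T W y) = algebraMap W M (psi A U T W x) := by
    intro m
    have hm : m ∈ Algebra.adjoin FT (Set.range (algebraMap U M)) := by rw [hgen]; trivial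
    induction hm using Algebra.adjoin_induction with
    | mem m hm =>
      obtain ⟨u, rfl⟩ := hm
      refine ⟨u ⊗ₜ 1, 1, ?_, ?_⟩
      · rw [map_one]; exact one_ne_zero
      · rw [map_one, map_one, mul_one, hpsi, map_one, mul_one, hUc]
    | algebraMap l =>
      obtain ⟨b, s, hs, rfl⟩ := IsFractionRing.div_surjective (A := T) l
      have hs0 : s ≠ 0 := nonZeroDivisors.ne_zero hs
      have hs1 : algebraMap T FT s ≠ 0 := by
        intro h
        exact hs0 (IsFractionRing.injective T FT (by rw [h, map_zero]))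
      refine ⟨1 ⊗ₜ b, 1 ⊗ₜ s, ?_, ?_⟩
      · rw [hpsi, map_one, one_mul]
        intro h
        apply hs0
        apply hTinj
        show algebraMap W M (algebraMap T W s) = algebraMap W M (algebraMap T W 0)
        rw [h, map_zero (algebraMap T W)]
      · rw [hpsi, hpsi, map_one, one_mul, one_mul, hTc, hTc, ← map_mul,
          div_mul_cancel₀ _ hs1]
    | add m₁ m₂ _ _ h₁ h₂ =>
      obtain ⟨x₁, y₁, hy₁, e₁⟩ := h₁
      obtain ⟨x₂, y₂, hy₂, e₂⟩ := h₂
      refine ⟨x₁ * y₂ + x₂ * y₁, y₁ * y₂, ?_, ?_⟩
      · rw [map_mul]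
        exact mul_ne_zero hy₁ hy₂
      · simp only [map_mul, map_add]
        rw [← e₁, ← e₂]
        ring
    | mul m₁ m₂ _ _ h₁ h₂ =>
      obtain ⟨x₁, y₁, hy₁, e₁⟩ := h₁
      obtain ⟨x₂, y₂, hy₂, e₂⟩ := h₂
      refine ⟨x₁ * x₂, y₁ * y₂, ?_, ?_⟩
      · rw [map_mul]
        exact mul_ne_zero hy₁ hy₂
      · simp only [map_mul]
        rw [← e₁, ← e₂]
        ring
  intro w
  obtain ⟨x, y, hy, h⟩ := key (algebraMap W M w)
  exact ⟨x, y, hy, hWM (by rw [map_mul]; exact h)⟩

end Gen


section Forward

open Groth.Agent.H10.DvrBC Groth.Agent.H10.EtRamSm Groth.Agent.H10.EtRamTame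
  Groth.Agent.H10.ARDvr Groth.Agent.H10.EtRamT

variable {A K L : Type u} [CommRing A] [IsDomain A] [IsDiscreteValuationRing A] [Field K]
  [Algebra A K] [IsFractionRing A K] [Field L] [Algebra K L] [Algebra A L] [IsScalarTower A K L]
  [FiniteDimensional K L] [Algebra.IsSeparable K L]
  (π : A) (n : ℕ)

local notation "A'" => AdjoinRoot (X ^ n - C π : A[X])
local notation "rt" => AdjoinRoot.root (X ^ n - C π : A[X])

theorem isLocalHom_algebraMap (hπ : Irreducible π) (hn : 1 ≤ n) [IsLocalRing A'] :
    IsLocalHom (algebraMap A A') := by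
  constructor
  intro a ha
  by_contra hna
  have hm : a ∈ maximalIdeal A := by rwa [mem_maximalIdeal, mem_nonunits_iff]
  rw [hπ.maximalIdeal_eq, Ideal.mem_span_singleton] at hm
  obtain ⟨c, rfl⟩ := hm
  rw [map_mul, ← root_pow] at ha
  have hz : (rt) ∈ maximalIdeal A' := by
    rw [ARDvr.maximalIdeal_eq hπ hn]; exact Ideal.mem_span_singleton_self _
  rw [mem_maximalIdeal, mem_nonunits_iff] at hz
  exact hz ((isUnit_pow_iff (by omega : n ≠ 0)).1 (isUnit_of_mul_isUnit_left ha))

variable (L' : Type u) [Field L'] [Algebra K L'] [Algebra (AdjoinRoot (X ^ n - C π : A[X])) L']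
  [Algebra L L'] [IsScalarTower K L L'] [FiniteDimensional K L']

theorem injective_algebraMap (hπ : Irreducible π) (hn : 1 ≤ n) [IsDomain A']
    [IsDiscreteValuationRing A']
    (hcompat : (algebraMap A' L').comp (AdjoinRoot.of (X ^ n - C π)) =
      (algebraMap K L').comp (algebraMap A K)) :
    Function.Injective (algebraMap A' L') := by
  rw [RingHom.injective_iff_ker_eq_bot]
  by_contra hne
  have hprime : (RingHom.ker (algebraMap A' L')).IsPrime := RingHom.ker_isPrime _
  have hmax : (RingHom.ker (algebraMap A' L')).IsMaximal := hprime.isMaximal hne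
  have heq := IsLocalRing.eq_maximalIdeal hmax
  have hz : (rt) ∈ RingHom.ker (algebraMap A' L') := by
    rw [heq, ARDvr.maximalIdeal_eq hπ hn]; exact Ideal.mem_span_singleton_self _
  rw [RingHom.mem_ker] at hz
  have h1 : algebraMap A' L' (algebraMap A A' π) = 0 := by
    rw [← root_pow, map_pow, hz, zero_pow (by omega)]
  have h2 : algebraMap K L' (algebraMap A K π) = 0 := by
    have := congrArg (fun f => f π) hcompat
    simp only [RingHom.comp_apply] at this
    rw [← this, ← AdjoinRoot.algebraMap_eq]
    exact h1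
  have h3 : algebraMap A K π = 0 := (map_eq_zero _).1 h2
  exact hπ.ne_zero (IsFractionRing.injective A K (by rw [h3, map_zero]))

theorem forward_core (hπ : Irreducible π) (hn : 1 ≤ n)
    (hcompat : (algebraMap A' L').comp (AdjoinRoot.of (X ^ n - C π)) =
      (algebraMap K L').comp (algebraMap A K))
    (hgen : Algebra.adjoin L (Set.range (algebraMap A' L')) = ⊤)
    (h : EtRam.IsTamelyRamified A (algebraMap A L))
    (hdvd : ∀ (V : ValuationSubring L) (hV : EtRam.Dominates A (algebraMap A L) V),
      letI : Algebra A V := (RingHom.codRestrict (algebraMap A L) V hV.1).toAlgebra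
      Ideal.ramificationIdx' (maximalIdeal A) (maximalIdeal V) ∣ n)
    [IsLocalRing A'] :
    EtRam.IsUnramifiedExt A' (algebraMap A' L') := by
  intro W hW locA'W
  letI algA'W : Algebra A' W := (RingHom.codRestrict (algebraMap A' L') W hW.1).toAlgebra
  haveI hdom : IsDomain A' := isDomain' hπ hn
  haveI hdvr : IsDiscreteValuationRing A' := isDVR hπ hn
  haveI locAA' : IsLocalHom (algebraMap A A') := isLocalHom_algebraMap π n hπ hn
  have hcompat' : ∀ a : A, algebraMap A' L' (algebraMap A A' a) =
      algebraMap K L' (algebraMap A K a) := by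
    intro a
    have := congrArg (fun f => f a) hcompat
    simp only [RingHom.comp_apply] at this
    rw [← this, ← AdjoinRoot.algebraMap_eq]
  letI algAL' : Algebra A L' := ((algebraMap K L').comp (algebraMap A K)).toAlgebra
  haveI towAKL' : IsScalarTower A K L' := .of_algebraMap_eq (fun _ => rfl)
  haveI towAA'L' : IsScalarTower A A' L' := .of_algebraMap_eq (fun a => (hcompat' a).symm)
  haveI towALL' : IsScalarTower A L L' := by
    refine .of_algebraMap_eq (fun a => ?_)
    show algebraMap K L' (algebraMap A K a) = algebraMap L L' (algebraMap A L a)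
    rw [IsScalarTower.algebraMap_apply K L L', ← IsScalarTower.algebraMap_apply A K L]
  -- `W` dominates `A`
  have hWA1 : ∀ a : A, algebraMap A L' a ∈ W := by
    intro a
    show algebraMap K L' (algebraMap A K a) ∈ W
    rw [← hcompat']
    exact hW.1 _
  have hWA2 : ∀ a : A, a ∈ maximalIdeal A → W.valuation (algebraMap A L' a) < 1 := by
    intro a ha
    show W.valuation (algebraMap K L' (algebraMap A K a)) < 1
    rw [← hcompat']
    apply hW.2
    exact ((local_hom_TFAE (algebraMap A A')).out 0 2 rfl rfl).mp inferInstance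
      (Ideal.mem_map_of_mem _ ha)
  haveI hWdvr : IsDiscreteValuationRing W := isDVR_of_dominates_fin A K L' W hWA1 hWA2
  -- `V = W ∩ L`
  have hV : EtRam.Dominates A (algebraMap A L) (W.comap (algebraMap L L')) := by
    refine ⟨fun a => ?_, fun a ha => ?_⟩
    · rw [ValuationSubring.mem_comap, ← IsScalarTower.algebraMap_apply A L L']
      exact hWA1 a
    · rw [valuation_comap_lt_one_iff, ← IsScalarTower.algebraMap_apply A L L']
      exact hWA2 a ha
  haveI hVdvr : IsDiscreteValuationRing (W.comap (algebraMap L L')) :=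
    isDVR_of_dominates_fin A K L _ hV.1 hV.2
  letI algAV : Algebra A (W.comap (algebraMap L L')) :=
    (RingHom.codRestrict (algebraMap A L) _ hV.1).toAlgebra
  haveI locAV : IsLocalHom (algebraMap A (W.comap (algebraMap L L'))) :=
    isLocalHom_of_dominates _ _ hV
  obtain ⟨hsep, htame⟩ := h (W.comap (algebraMap L L')) hV
  have hdvdV := hdvd (W.comap (algebraMap L L')) hV
  letI algVW : Algebra (W.comap (algebraMap L L')) W :=
    (EtRam.inclOfComap W (algebraMap L L')).toAlgebra
  haveI locVW : IsLocalHom (algebraMap (W.comap (algebraMap L L')) W) :=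
    EtRam.isLocalHom_inclOfComap W (algebraMap L L')
  letI algAW : Algebra A W := ((algebraMap A' W).comp (algebraMap A A')).toAlgebra
  haveI towAA'W : IsScalarTower A A' W := .of_algebraMap_eq (fun _ => rfl)
  haveI towAVW : IsScalarTower A (W.comap (algebraMap L L')) W := by
    refine .of_algebraMap_eq (fun a => Subtype.ext ?_)
    show algebraMap A' L' (algebraMap A A' a) = algebraMap L L' (algebraMap A L a)
    rw [hcompat', ← IsScalarTower.algebraMap_apply A L L']
    rfl
  haveI locAW : IsLocalHom (algebraMap A W) :=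
    RingHom.isLocalHom_comp (algebraMap A' W) (algebraMap A A')
  haveI towAVL : IsScalarTower A (W.comap (algebraMap L L')) L := .of_algebraMap_eq (fun _ => rfl)
  haveI hfin : Module.Finite (ResidueField A) (ResidueField (W.comap (algebraMap L L'))) :=
    residue_finite A K L (W.comap (algebraMap L L'))
  -- injectivity
  have hA'L' := injective_algebraMap π n L' hπ hn hcompat
  have hA'W : Function.Injective (algebraMap A' W) := by
    intro x y hxy
    exact hA'L' (congrArg Subtype.val hxy)
  have hVW : Function.Injective (algebraMap (W.comap (algebraMap L L')) W) := by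
    intro x y hxy
    have := congrArg Subtype.val hxy
    exact Subtype.ext ((algebraMap L L').injective this)
  have hAV : Function.Injective (algebraMap A (W.comap (algebraMap L L'))) := by
    intro x y hxy
    have h1 : algebraMap A L x = algebraMap A L y := congrArg Subtype.val hxy
    rw [IsScalarTower.algebraMap_apply A K L, IsScalarTower.algebraMap_apply A K L] at h1
    exact IsFractionRing.injective A K ((algebraMap K L).injective h1)
  -- uniformizers
  obtain ⟨πV, hπV⟩ := IsDiscreteValuationRing.exists_irreducible (W.comap (algebraMap L L'))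
  obtain ⟨heV0, uV, huV⟩ := exists_unit_mul_pow A (W.comap (algebraMap L L')) hAV π hπ πV hπV
  have heVκ : ((Ideal.ramificationIdx' (maximalIdeal A)
      (maximalIdeal (W.comap (algebraMap L L'))) : ℕ) : ResidueField A) ≠ 0 := by
    obtain ⟨p, hp⟩ := CharP.exists (ResidueField A)
    rcases CharP.char_is_prime_or_zero (ResidueField A) p with hpp | rfl
    · rw [Ne, CharP.cast_eq_zero_iff (ResidueField A) p]
      exact htame p hpp hp
    · haveI := CharP.charP_to_charZero (ResidueField A)
      exact Nat.cast_ne_zero.2 heV0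
  have hgen' := hgen_of_adjoin' A A' (W.comap (algebraMap L L')) W L L'
    Subtype.val_injective (fun _ => rfl) (fun _ => rfl) hgen
  have hz0 : (rt) ≠ 0 := by
    intro h0
    have h1 := root_pow (π := π) (n := n)
    rw [h0, zero_pow (by omega)] at h1
    have h2 : algebraMap A' L' (algebraMap A A' π) = 0 := by rw [← h1, map_zero]
    rw [hcompat'] at h2
    have h3 : algebraMap A K π = 0 := (map_eq_zero _).1 h2
    exact hπ.ne_zero (IsFractionRing.injective A K (by rw [h3, map_zero]))
  have hU : algebraMap A A' π = ((1 : (A')ˣ) : A') * (rt) ^ n := by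
    rw [Units.val_one, one_mul, root_pow]
  obtain ⟨⟨a, ϖ, u, hag, hmax, hzW⟩, hsepW⟩ := TameCore3.tame_core3 A A'
    (W.comap (algebraMap L L')) W hA'W hVW n
    (Ideal.ramificationIdx' (maximalIdeal A) (maximalIdeal (W.comap (algebraMap L L'))))
    heVκ hn π (rt) πV 1 uV (ARDvr.maximalIdeal_eq hπ hn) hπV.maximalIdeal_eq hz0 hπV.ne_zero
    hU huV hgen'
  have ha1 : a = 1 := by
    rw [Nat.gcd_eq_left hdvdV] at hag
    have : a * Ideal.ramificationIdx' (maximalIdeal A)
        (maximalIdeal (W.comap (algebraMap L L'))) =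
        1 * Ideal.ramificationIdx' (maximalIdeal A)
        (maximalIdeal (W.comap (algebraMap L L'))) := by rw [hag, one_mul]
    exact Nat.eq_of_mul_eq_mul_right (Nat.pos_of_ne_zero heV0) this
  refine ⟨?_, hsepW⟩
  show (maximalIdeal A').map (algebraMap A' W) = maximalIdeal W
  rw [ARDvr.maximalIdeal_eq hπ hn, Ideal.map_span, Set.image_singleton, hzW, ha1, pow_one, hmax]
  exact Ideal.span_singleton_eq_span_singleton.2 (associated_unit_mul_left _ _ u.isUnit)

end Forward

section Construct

open Groth.Agent.H10.ARDvr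

variable {A K L : Type u} [CommRing A] [IsDomain A] [IsDiscreteValuationRing A] [Field K]
  [Algebra A K] [IsFractionRing A K] [Field L] [Algebra K L] [Algebra A L] [IsScalarTower A K L]
  [FiniteDimensional K L] [Algebra.IsSeparable K L]
  (π : A) (n : ℕ)

local notation "A'" => AdjoinRoot (X ^ n - C π : A[X])

theorem exists_ext (hπ : Irreducible π) (hn : 1 ≤ n) (hnκ : (n : ResidueField A) ≠ 0) :
    ∃ (L' : Type u) (_ : Field L') (_ : Algebra K L') (_ : Algebra A' L') (_ : Algebra L L')
      (_ : IsScalarTower K L L'), FiniteDimensional K L' ∧ Algebra.IsSeparable K L' ∧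
      (algebraMap A' L').comp (AdjoinRoot.of (X ^ n - C π)) =
        (algebraMap K L').comp (algebraMap A K) ∧
      Algebra.adjoin L (Set.range (algebraMap A' L')) = ⊤ := by
  let Ω := AlgebraicClosure L
  have hAL : Function.Injective (algebraMap A L) := by
    rw [IsScalarTower.algebraMap_eq A K L]
    exact (algebraMap K L).injective.comp (IsFractionRing.injective A K)
  have hπL : algebraMap A L π ≠ 0 := (map_ne_zero_iff _ hAL).2 hπ.ne_zero
  have hnL : ((n : ℕ) : L) ≠ 0 := by
    intro h0
    apply hnκ
    have h1 : algebraMap A L (n : A) = 0 := by rw [map_natCast]; exact h0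
    have h2 : (n : A) = 0 := hAL (by rw [h1, map_zero])
    have h3 : residue A (n : A) = 0 := by rw [h2, map_zero]
    rwa [map_natCast] at h3
  obtain ⟨ζ, hζ⟩ := IsAlgClosed.exists_pow_nat_eq (algebraMap L Ω (algebraMap A L π))
    (by omega : 0 < n)
  have hsepPoly : (X ^ n - C (algebraMap A L π) : L[X]).Separable :=
    Polynomial.separable_X_pow_sub_C _ hnL hπL
  have hroot : Polynomial.aeval ζ (X ^ n - C (algebraMap A L π) : L[X]) = 0 := by
    rw [map_sub, map_pow, aeval_X, aeval_C, hζ, sub_self]
  have hint : IsIntegral L ζ :=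
    ⟨X ^ n - C (algebraMap A L π), monic_X_pow_sub_C _ (by omega), hroot⟩
  have hsepζ : IsSeparable L ζ := hsepPoly.of_dvd (minpoly.dvd L ζ hroot)
  haveI hfdL : FiniteDimensional L ↥(IntermediateField.adjoin L {ζ}) :=
    IntermediateField.adjoin.finiteDimensional hint
  haveI hsepL : Algebra.IsSeparable L ↥(IntermediateField.adjoin L {ζ}) :=
    (IntermediateField.isSeparable_adjoin_simple_iff_isSeparable L Ω).2 hsepζ
  haveI : FiniteDimensional K ↥(IntermediateField.adjoin L {ζ}) :=
    Module.Finite.trans L _
  haveI : Algebra.IsSeparable K ↥(IntermediateField.adjoin L {ζ}) :=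
    Algebra.IsSeparable.trans K L _
  let ζ' : ↥(IntermediateField.adjoin L {ζ}) := ⟨ζ, IntermediateField.mem_adjoin_simple_self L ζ⟩
  let i : A →+* ↥(IntermediateField.adjoin L {ζ}) :=
    (algebraMap K ↥(IntermediateField.adjoin L {ζ})).comp (algebraMap A K)
  have hi : ∀ a : A, ((i a : ↥(IntermediateField.adjoin L {ζ})) : Ω) =
      algebraMap L Ω (algebraMap A L a) := by
    intro a
    show algebraMap K Ω (algebraMap A K a) = _
    rw [IsScalarTower.algebraMap_apply K L Ω, ← IsScalarTower.algebraMap_apply A K L]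
  have hev : Polynomial.eval₂ i ζ' (X ^ n - C π : A[X]) = 0 := by
    rw [eval₂_sub, eval₂_pow, eval₂_X, eval₂_C]
    apply Subtype.ext
    show ζ ^ n - ((i π : ↥(IntermediateField.adjoin L {ζ})) : Ω) = 0
    rw [hi, hζ, sub_self]
  letI algA'L' : Algebra A' ↥(IntermediateField.adjoin L {ζ}) :=
    (AdjoinRoot.lift i ζ' hev).toAlgebra
  refine ⟨↥(IntermediateField.adjoin L {ζ}), inferInstance, inferInstance, algA'L', inferInstance,
    inferInstance, inferInstance, inferInstance, ?_, ?_⟩
  · exact AdjoinRoot.lift_comp_of hev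
  · rw [eq_top_iff]
    rintro ⟨y, hy⟩ -
    have hy' : y ∈ (IntermediateField.adjoin L {ζ}).toSubalgebra := hy
    rw [IntermediateField.adjoin_simple_toSubalgebra_of_isAlgebraic hint.isAlgebraic] at hy'
    have key : ∀ y ∈ Algebra.adjoin L {ζ},
        ∃ w ∈ Algebra.adjoin L (Set.range (algebraMap A' ↥(IntermediateField.adjoin L {ζ}))),
          (w : Ω) = y := by
      intro y hy
      induction hy using Algebra.adjoin_induction with
      | mem y hy =>
        rw [Set.mem_singleton_iff] at hy
        subst hy
        refine ⟨ζ', Algebra.subset_adjoin ⟨AdjoinRoot.root _, ?_⟩, rfl⟩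
        exact AdjoinRoot.lift_root hev
      | algebraMap l =>
        exact ⟨algebraMap L ↥(IntermediateField.adjoin L {ζ}) l, Subalgebra.algebraMap_mem _ _,
          rfl⟩
      | add x y _ _ hx hy =>
        obtain ⟨wx, hwx, rfl⟩ := hx
        obtain ⟨wy, hwy, rfl⟩ := hy
        exact ⟨wx + wy, Subalgebra.add_mem _ hwx hwy, rfl⟩
      | mul x y _ _ hx hy =>
        obtain ⟨wx, hwx, rfl⟩ := hx
        obtain ⟨wy, hwy, rfl⟩ := hy
        exact ⟨wx * wy, Subalgebra.mul_mem _ hwx hwy, rfl⟩
    obtain ⟨w, hw, hwy⟩ := key y hy'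
    have : w = ⟨y, hy⟩ := Subtype.ext hwy
    rw [← this]
    exact hw

end Construct

section Main

open Groth.Agent.H10.ARDvr Groth.Agent.H10.EtRamSm Groth.Agent.H10.EtRamT

variable {A K L : Type u} [CommRing A] [IsDomain A] [IsDiscreteValuationRing A] [Field K]
  [Algebra A K] [IsFractionRing A K] [Field L] [Algebra K L] [Algebra A L] [IsScalarTower A K L]
  [FiniteDimensional K L] [Algebra.IsSeparable K L]

/-- The ramification index of a valuation ring of `L` dominating `A` is at most `[L : K]`, and
is invertible in the residue field if `L/K` is tame. -/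
theorem ramIdx_le_and_ne (h : EtRam.IsTamelyRamified A (algebraMap A L))
    (V : ValuationSubring L) (hV : EtRam.Dominates A (algebraMap A L) V) :
    letI : Algebra A V := (RingHom.codRestrict (algebraMap A L) V hV.1).toAlgebra
    1 ≤ Ideal.ramificationIdx' (maximalIdeal A) (maximalIdeal V) ∧
    Ideal.ramificationIdx' (maximalIdeal A) (maximalIdeal V) ≤ Module.finrank K L ∧
    ((Ideal.ramificationIdx' (maximalIdeal A) (maximalIdeal V) : ℕ) : ResidueField A) ≠ 0 := by
  letI algAV : Algebra A V := (RingHom.codRestrict (algebraMap A L) V hV.1).toAlgebra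
  haveI hVdvr : IsDiscreteValuationRing V := isDVR_of_dominates_fin A K L V hV.1 hV.2
  haveI locAV : IsLocalHom (algebraMap A V) := isLocalHom_of_dominates _ V hV
  haveI towAVL : IsScalarTower A V L := .of_algebraMap_eq (fun _ => rfl)
  obtain ⟨hsep, htame⟩ := h V hV
  have hAV : Function.Injective (algebraMap A V) := by
    intro x y hxy
    have h1 : algebraMap A L x = algebraMap A L y := congrArg Subtype.val hxy
    rw [IsScalarTower.algebraMap_apply A K L, IsScalarTower.algebraMap_apply A K L] at h1
    exact IsFractionRing.injective A K ((algebraMap K L).injective h1)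
  obtain ⟨πA, hπA⟩ := IsDiscreteValuationRing.exists_irreducible A
  obtain ⟨πV, hπV⟩ := IsDiscreteValuationRing.exists_irreducible V
  obtain ⟨he0, u, hu⟩ := EtRamTame.exists_unit_mul_pow A V hAV πA hπA πV hπV
  refine ⟨Nat.pos_of_ne_zero he0, ?_, ?_⟩
  · have hπVm : πV ∈ maximalIdeal V := by
      rw [hπV.maximalIdeal_eq]; exact Ideal.mem_span_singleton_self _
    apply EtRamTot.le_finrank A V K L Subtype.val_injective πV hπVm hπV.ne_zero
    intro b hb
    have h1 : algebraMap A V b ∈ (maximalIdeal A).map (algebraMap A V) :=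
      Ideal.mem_map_of_mem _ hb
    have h2 := Ideal.le_pow_ramificationIdx' (p := maximalIdeal A) (P := maximalIdeal V) h1
    have h3 : ∀ k : ℕ, maximalIdeal V ^ k = Ideal.span {πV ^ k} := fun k => by
      rw [hπV.maximalIdeal_eq, Ideal.span_singleton_pow]
    rwa [h3] at h2
  · obtain ⟨p, hp⟩ := CharP.exists (ResidueField A)
    rcases CharP.char_is_prime_or_zero (ResidueField A) p with hpp | rfl
    · rw [Ne, CharP.cast_eq_zero_iff (ResidueField A) p]
      exact htame p hpp hp
    · haveI := CharP.charP_to_charZero (ResidueField A)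
      exact Nat.cast_ne_zero.2 he0

theorem abhyankar_exists (π : A) (hπ : maximalIdeal A = Ideal.span {π})
    (h : EtRam.IsTamelyRamified A (algebraMap A L)) :
    ∃ e₀ : ℕ, 0 < e₀ ∧ (e₀ : ResidueField A) ≠ 0 ∧
      ∀ d : ℕ, 0 < d → (d : ResidueField A) ≠ 0 →
        ∃ (L' : Type u) (_ : Field L') (_ : Algebra K L')
          (_ : Algebra (AdjoinRoot (X ^ (d * e₀) - C π : A[X])) L') (_ : L →ₐ[K] L'),
          FiniteDimensional K L' ∧ Algebra.IsSeparable K L' ∧
          (algebraMap (AdjoinRoot (X ^ (d * e₀) - C π : A[X])) L').comp (AdjoinRoot.of (X ^ (d * e₀) - C π)) =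
            (algebraMap K L').comp (algebraMap A K) ∧
          ∀ [IsLocalRing (AdjoinRoot (X ^ (d * e₀) - C π : A[X]))],
            EtRam.IsUnramifiedExt (AdjoinRoot (X ^ (d * e₀) - C π : A[X]))
              (algebraMap (AdjoinRoot (X ^ (d * e₀) - C π : A[X])) L') := by
  classical
  have hπirr : Irreducible π := (IsDiscreteValuationRing.irreducible_iff_uniformizer π).2 hπ
  set S : Finset ℕ := (Finset.Icc 1 (Module.finrank K L)).filter
    (fun k => ((k : ℕ) : ResidueField A) ≠ 0) with hS
  refine ⟨∏ k ∈ S, k, ?_, ?_, ?_⟩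
  · apply Finset.prod_pos
    intro k hk
    rw [hS, Finset.mem_filter, Finset.mem_Icc] at hk
    omega
  · rw [Nat.cast_prod, Finset.prod_ne_zero_iff]
    intro k hk
    rw [hS, Finset.mem_filter] at hk
    exact hk.2
  intro d hd hdκ
  have hn : 1 ≤ d * ∏ k ∈ S, k := by
    apply Nat.mul_pos hd
    apply Finset.prod_pos
    intro k hk
    rw [hS, Finset.mem_filter, Finset.mem_Icc] at hk
    omega
  have hnκ : ((d * ∏ k ∈ S, k : ℕ) : ResidueField A) ≠ 0 := by
    rw [Nat.cast_mul]
    apply mul_ne_zero hdκ
    rw [Nat.cast_prod, Finset.prod_ne_zero_iff]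
    intro k hk
    rw [hS, Finset.mem_filter] at hk
    exact hk.2
  obtain ⟨L', instF, instK, instA', instL, instTow, hfd, hsep, hcompat, hgen⟩ :=
    exists_ext (K := K) (L := L) π (d * ∏ k ∈ S, k) hπirr hn hnκ
  refine ⟨L', instF, instK, instA', IsScalarTower.toAlgHom K L L', hfd, hsep, hcompat, ?_⟩
  intro instLoc
  refine forward_core (K := K) π (d * ∏ k ∈ S, k) L' hπirr hn hcompat hgen h ?_
  intro V hV
  obtain ⟨h1, h2, h3⟩ := ramIdx_le_and_ne (K := K) h V hV
  apply Dvd.dvd.mul_left
  apply Finset.dvd_prod_of_mem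
  rw [hS, Finset.mem_filter, Finset.mem_Icc]
  exact ⟨⟨h1, h2⟩, h3⟩

end Main

end Groth.Agent.H10.Abhyankar
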