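import Mathlib
import Groth.Prelude.Def_EtRam
import Groth.Agent.H10.Abhyankar

/-! Abhyankar's lemma, converse direction and the equivalence (S9328). -/

set_option autoImplicit false
set_option linter.style.haveILetI false
set_option linter.unusedSectionVars false
set_option linter.unusedVariables false
universe u

open IsLocalRing TensorProduct Polynomial

namespace Groth.Agent.H10.Abhyankar

section Reverse

open Groth.Agent.H10.ARDvr Groth.Agent.H10.EtRamSm Groth.Agent.H10.EtRamT
  Groth.Agent.H10.EtRamTame

variable {A K L : Type u} [CommRing A] [IsDomain A] [IsDiscreteValuationRing A] [Field K]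
  [Algebra A K] [IsFractionRing A K] [Field L] [Algebra K L] [Algebra A L] [IsScalarTower A K L]
  [FiniteDimensional K L] [Algebra.IsSeparable K L]
  (π : A) (n : ℕ)

local notation "A'" => AdjoinRoot (X ^ n - C π : A[X])
local notation "rt" => AdjoinRoot.root (X ^ n - C π : A[X])

variable (L' : Type u) [Field L'] [Algebra K L'] [Algebra (AdjoinRoot (X ^ n - C π : A[X])) L']
  [Algebra L L'] [IsScalarTower K L L'] [FiniteDimensional K L']

theorem reverse_core (hπ : Irreducible π) (hn : 1 ≤ n) (hnκ : (n : ResidueField A) ≠ 0)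
    (hcompat : (algebraMap A' L').comp (AdjoinRoot.of (X ^ n - C π)) =
      (algebraMap K L').comp (algebraMap A K))
    (hunr : ∀ [IsLocalRing A'], EtRam.IsUnramifiedExt A' (algebraMap A' L')) :
    EtRam.IsTamelyRamified A (algebraMap A L) := by
  haveI hloc : IsLocalRing A' := isLocalRing' hπ hn
  haveI hdom : IsDomain A' := isDomain' hπ hn
  haveI hdvr : IsDiscreteValuationRing A' := isDVR hπ hn
  haveI locAA' : IsLocalHom (algebraMap A A') := isLocalHom_algebraMap π n hπ hn
  have hunr' : EtRam.IsUnramifiedExt A' (algebraMap A' L') := hunr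
  have hcompat' : ∀ a : A, algebraMap A' L' (algebraMap A A' a) =
      algebraMap K L' (algebraMap A K a) := by
    intro a
    have := congrArg (fun f => f a) hcompat
    simp only [RingHom.comp_apply] at this
    rw [← this, ← AdjoinRoot.algebraMap_eq]
  have hALL' : ∀ a : A, algebraMap A' L' (algebraMap A A' a) =
      algebraMap L L' (algebraMap A L a) := by
    intro a
    rw [hcompat', IsScalarTower.algebraMap_apply K L L', ← IsScalarTower.algebraMap_apply A K L]
  intro V hV locAV
  letI algAV : Algebra A V := (RingHom.codRestrict (algebraMap A L) V hV.1).toAlgebra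
  haveI hVdvr : IsDiscreteValuationRing V := isDVR_of_dominates_fin A K L V hV.1 hV.2
  obtain ⟨W, hWV⟩ := exists_dominates L L' V
  -- `W` dominates `A`
  have hWA : EtRam.Dominates A ((algebraMap A' L').comp (algebraMap A A')) W := by
    refine ⟨fun a => ?_, fun a ha => ?_⟩
    · rw [RingHom.comp_apply, hALL']
      exact hWV.1 ⟨algebraMap A L a, hV.1 a⟩
    · rw [RingHom.comp_apply, hALL']
      exact hWV.2 ⟨algebraMap A L a, hV.1 a⟩ ((V.valuation_lt_one_iff _).2 (hV.2 a ha))
  have hrtW := val_root_lt_one hπ hn W hWA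
  have hWA' : EtRam.Dominates A' (algebraMap A' L') W := by
    refine ⟨image_mem hπ hn W hWA, fun a' ha' => ?_⟩
    rw [ARDvr.maximalIdeal_eq hπ hn, Ideal.mem_span_singleton] at ha'
    obtain ⟨c, rfl⟩ := ha'
    rw [map_mul, map_mul]
    have h2 : W.valuation (algebraMap A' L' c) ≤ 1 :=
      (W.valuation_le_one_iff _).2 (image_mem hπ hn W hWA c)
    calc _ ≤ W.valuation (algebraMap A' L' (rt)) * 1 := by gcongr
      _ < 1 := by rwa [mul_one]
  letI algA'W : Algebra A' W := (RingHom.codRestrict (algebraMap A' L') W hWA'.1).toAlgebra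
  haveI locA'W : IsLocalHom (algebraMap A' W) := isLocalHom_of_dominates _ W hWA'
  obtain ⟨hwu, hsepW⟩ := hunr' W hWA'
  -- algebra structures
  letI algAL' : Algebra A L' := ((algebraMap K L').comp (algebraMap A K)).toAlgebra
  haveI towAKL' : IsScalarTower A K L' := .of_algebraMap_eq (fun _ => rfl)
  have hWA1 : ∀ a : A, algebraMap A L' a ∈ W := by
    intro a
    show algebraMap K L' (algebraMap A K a) ∈ W
    rw [← hcompat']
    exact hWA.1 a
  have hWA2 : ∀ a : A, a ∈ maximalIdeal A → W.valuation (algebraMap A L' a) < 1 := by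
    intro a ha
    show W.valuation (algebraMap K L' (algebraMap A K a)) < 1
    rw [← hcompat']
    exact hWA.2 a ha
  haveI hWdvr : IsDiscreteValuationRing W := isDVR_of_dominates_fin A K L' W hWA1 hWA2
  letI algVW : Algebra V W := (RingHom.codRestrict _ W hWV.1).toAlgebra
  haveI locVW : IsLocalHom (algebraMap V W) := isLocalHom_of_dominates _ W hWV
  letI algAW : Algebra A W := ((algebraMap A' W).comp (algebraMap A A')).toAlgebra
  haveI towAA'W : IsScalarTower A A' W := .of_algebraMap_eq (fun _ => rfl)
  haveI towAVW : IsScalarTower A V W := by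
    refine .of_algebraMap_eq (fun a => Subtype.ext ?_)
    exact hALL' a
  haveI locAW : IsLocalHom (algebraMap A W) :=
    RingHom.isLocalHom_comp (algebraMap A' W) (algebraMap A A')
  -- injectivity
  have hA'L' := injective_algebraMap π n L' hπ hn hcompat
  have hA'W : Function.Injective (algebraMap A' W) := by
    intro x y hxy
    exact hA'L' (congrArg Subtype.val hxy)
  have hVW : Function.Injective (algebraMap V W) := by
    intro x y hxy
    have h1 : algebraMap L L' (x : L) = algebraMap L L' (y : L) := congrArg Subtype.val hxy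
    exact Subtype.ext ((algebraMap L L').injective h1)
  have hAA' : Function.Injective (algebraMap A A') := by
    intro x y hxy
    have h1 : algebraMap K L' (algebraMap A K x) = algebraMap K L' (algebraMap A K y) := by
      rw [← hcompat', ← hcompat', hxy]
    exact IsFractionRing.injective A K ((algebraMap K L').injective h1)
  have hAW : Function.Injective (algebraMap A W) := hA'W.comp hAA'
  have hA0 : (maximalIdeal A).map (algebraMap A W) ≠ ⊥ := by
    rw [Ne, Ideal.map_eq_bot_iff_of_injective hAW]
    exact IsDiscreteValuationRing.not_a_field A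
  -- ramification indices
  have hrtirr : Irreducible (rt) :=
    (IsDiscreteValuationRing.irreducible_iff_uniformizer _).2 (ARDvr.maximalIdeal_eq hπ hn)
  have he1 : Ideal.ramificationIdx' (maximalIdeal A) (maximalIdeal A') = n := by
    obtain ⟨-, u, hu⟩ := exists_unit_mul_pow A A' hAA' π hπ (rt) hrtirr
    have h1 : ((1 : (A')ˣ) : A') * (rt) ^ n = (u : A') * (rt) ^
        Ideal.ramificationIdx' (maximalIdeal A) (maximalIdeal A') := by
      rw [← hu, Units.val_one, one_mul, root_pow]
    exact (IsDiscreteValuationRing.unit_mul_pow_congr_pow hrtirr hrtirr _ _ _ _ h1).symm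
  have he2 : Ideal.ramificationIdx' (maximalIdeal A') (maximalIdeal W) = 1 := by
    have hwu' : (maximalIdeal A').map (algebraMap A' W) = maximalIdeal W := hwu
    apply Ideal.ramificationIdx'_spec
    · rw [pow_one, hwu']
    · rw [hwu']
      obtain ⟨ϖ, hϖ⟩ := IsDiscreteValuationRing.exists_irreducible W
      rw [hϖ.maximalIdeal_eq, Ideal.span_singleton_pow, Ideal.span_singleton_le_span_singleton]
      intro hdvd
      have h1 : ϖ ^ 2 ∣ ϖ ^ 1 := by rwa [pow_one]
      have := (pow_dvd_pow_iff hϖ.ne_zero hϖ.not_isUnit).1 h1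
      omega
  have he : Ideal.ramificationIdx' (maximalIdeal A) (maximalIdeal W) = n := by
    rw [ramIdx_tower (A := A) (V := A') (W := W) hA'W hA0, he1, he2, mul_one]
  -- residue fields
  have hsurj : Function.Surjective (algebraMap (ResidueField A) (ResidueField A')) := by
    intro x
    obtain ⟨a', rfl⟩ := residue_surjective x
    obtain ⟨a, b, rfl⟩ := exists_eq_add_root_mul (π := π) (n := n) a'
    refine ⟨residue A a, ?_⟩
    show residue A' (algebraMap A A' a) = _
    rw [← sub_eq_zero, ← map_sub, residue_eq_zero_iff, ARDvr.maximalIdeal_eq hπ hn,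
      Ideal.mem_span_singleton]
    exact ⟨-b, by ring⟩
  haveI hsepAA' : Algebra.IsSeparable (ResidueField A) (ResidueField A') := by
    refine ⟨fun x => ?_⟩
    obtain ⟨y, rfl⟩ := hsurj x
    exact isSeparable_algebraMap y
  haveI := hsepW
  have hsepAW : Algebra.IsSeparable (ResidueField A) (ResidueField W) :=
    Algebra.IsSeparable.trans (ResidueField A) (ResidueField A') (ResidueField W)
  refine tame_bot hVW hA0 hsepAW ?_
  intro p hp hcp hdvd
  rw [he] at hdvd
  exact hnκ ((CharP.cast_eq_zero_iff (ResidueField A) p n).2 hdvd)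

end Reverse

section Iff

variable {A K L : Type u} [CommRing A] [IsDomain A] [IsDiscreteValuationRing A] [Field K]
  [Algebra A K] [IsFractionRing A K] [Field L] [Algebra K L] [Algebra A L] [IsScalarTower A K L]
  [FiniteDimensional K L] [Algebra.IsSeparable K L]

theorem abhyankar_iff (π : A) (hπ : maximalIdeal A = Ideal.span {π}) :
    EtRam.IsTamelyRamified A (algebraMap A L) ↔
      ∃ e : ℕ, 0 < e ∧ (e : ResidueField A) ≠ 0 ∧
        ∃ (L' : Type u) (_ : Field L') (_ : Algebra K L')
          (_ : Algebra (AdjoinRoot (X ^ e - C π : A[X])) L') (_ : L →ₐ[K] L'),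
          FiniteDimensional K L' ∧ Algebra.IsSeparable K L' ∧
          (algebraMap (AdjoinRoot (X ^ e - C π : A[X])) L').comp (AdjoinRoot.of (X ^ e - C π)) =
            (algebraMap K L').comp (algebraMap A K) ∧
          ∀ [IsLocalRing (AdjoinRoot (X ^ e - C π : A[X]))],
            EtRam.IsUnramifiedExt (AdjoinRoot (X ^ e - C π : A[X]))
              (algebraMap (AdjoinRoot (X ^ e - C π : A[X])) L') := by
  have hπirr : Irreducible π := (IsDiscreteValuationRing.irreducible_iff_uniformizer π).2 hπ
  constructor
  · intro h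
    obtain ⟨e₀, he₀, he₀κ, hall⟩ := abhyankar_exists (K := K) π hπ h
    obtain ⟨L', i1, i2, i3, σ, h1, h2, h3, h4⟩ :=
      hall 1 one_pos (by rw [Nat.cast_one]; exact one_ne_zero)
    exact ⟨1 * e₀, by omega, by rwa [one_mul], L', i1, i2, i3, σ, h1, h2, h3, h4⟩
  · rintro ⟨e, he, heκ, L', i1, i2, i3, σ, h1, h2, h3, h4⟩
    letI : Algebra L L' := σ.toRingHom.toAlgebra
    haveI : IsScalarTower K L L' := .of_algebraMap_eq (fun k => (σ.commutes k).symm)
    exact reverse_core (K := K) π e L' hπirr he heκ h3 h4

end Iff

end Groth.Agent.H10.Abhyankar
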