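import Mathlib
import Groth.Prelude.Def_EtRam
import Groth.Agent.H10.EtRamSmooth

/-! EtRam: base change of an unramified extension `K'/K` (relative to the DVR `A`) along an
extension of DVRs `A → B` stays unramified. -/

set_option autoImplicit false
set_option linter.style.haveILetI false
set_option linter.unusedSectionVars false
set_option linter.unusedVariables false
universe u

open IsLocalRing TensorProduct

namespace Groth.Agent.H10.EtRamUB

theorem adjoin_swap (FU FT M : Type u) [Field FU] [Field FT] [Field M] [Algebra FU M]
    [Algebra FT M] (h : Algebra.adjoin FU (Set.range (algebraMap FT M)) = ⊤) :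
    Algebra.adjoin FT (Set.range (algebraMap FU M)) = ⊤ := by
  rw [eq_top_iff]
  intro m hmtop
  clear hmtop
  have hm : m ∈ Algebra.adjoin FU (Set.range (algebraMap FT M)) := by rw [h]; trivial
  induction hm using Algebra.adjoin_induction with
  | mem m hm =>
    obtain ⟨k, rfl⟩ := hm
    exact Subalgebra.algebraMap_mem _ k
  | algebraMap l => exact Algebra.subset_adjoin ⟨l, rfl⟩
  | add m₁ m₂ _ _ h₁ h₂ => exact Subalgebra.add_mem _ h₁ h₂
  | mul m₁ m₂ _ _ h₁ h₂ => exact Subalgebra.mul_mem _ h₁ h₂

section Main

open Groth.Agent.H10.DvrBC Groth.Agent.H10.EtRamSm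

variable (A B K L K' : Type u) [CommRing A] [IsDomain A] [IsDiscreteValuationRing A]
  [CommRing B] [IsDomain B] [IsDiscreteValuationRing B] [Algebra A B] [IsLocalHom (algebraMap A B)]
  [Field K] [Field L] [Field K'] [Algebra A K] [IsFractionRing A K] [Algebra B L]
  [IsFractionRing B L]
  [Algebra K L] [Algebra A L] [IsScalarTower A K L] [IsScalarTower A B L]
  [Algebra K K'] [FiniteDimensional K K']

theorem unram_core (h : EtRam.IsUnramifiedExt A ((algebraMap K K').comp (algebraMap A K)))
    (M : Type u) [Field M] [Algebra K M] [Algebra L M] [Algebra K' M] [IsScalarTower K L M]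
    [IsScalarTower K K' M]
    (hgen : Algebra.adjoin L (Set.range (algebraMap K' M)) = ⊤) :
    EtRam.IsUnramifiedExt B ((algebraMap L M).comp (algebraMap B L)) := by
  intro W hW locBW
  letI algBW : Algebra B W :=
    (RingHom.codRestrict ((algebraMap L M).comp (algebraMap B L)) W hW.1).toAlgebra
  -- `M` is finite over `L`
  haveI hML : FiniteDimensional L M := by
    let φ : L ⊗[K] K' →ₐ[L] M :=
      Algebra.TensorProduct.productLeftAlgHom (Algebra.ofId L M) (IsScalarTower.toAlgHom K K' M)
    have hφ : Function.Surjective φ := by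
      rw [← AlgHom.range_eq_top, eq_top_iff, ← hgen]
      apply Algebra.adjoin_le
      rintro _ ⟨k, rfl⟩
      exact ⟨1 ⊗ₜ k, by simp [φ]⟩
    exact Module.Finite.of_surjective φ.toLinearMap hφ
  have hAM : ∀ a : A, algebraMap K' M (algebraMap K K' (algebraMap A K a)) =
      algebraMap L M (algebraMap B L (algebraMap A B a)) := by
    intro a
    rw [← IsScalarTower.algebraMap_apply K K' M, IsScalarTower.algebraMap_apply K L M,
      ← IsScalarTower.algebraMap_apply A K L, IsScalarTower.algebraMap_apply A B L]
  -- `W` is a DVR
  letI algBM : Algebra B M := ((algebraMap L M).comp (algebraMap B L)).toAlgebra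
  haveI : IsScalarTower B L M := .of_algebraMap_eq (fun _ => rfl)
  haveI hWdvr : IsDiscreteValuationRing W := isDVR_of_dominates_fin B L M W hW.1 hW.2
  -- `V = W ∩ K'` is a DVR dominating `A`
  letI algAK' : Algebra A K' := ((algebraMap K K').comp (algebraMap A K)).toAlgebra
  haveI : IsScalarTower A K K' := .of_algebraMap_eq (fun _ => rfl)
  have h1 : ∀ a : A, algebraMap A K' a ∈ W.comap (algebraMap K' M) := by
    intro a
    rw [ValuationSubring.mem_comap]
    show algebraMap K' M (algebraMap K K' (algebraMap A K a)) ∈ W
    rw [hAM]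
    exact hW.1 _
  have h2 : ∀ a : A, a ∈ maximalIdeal A →
      (W.comap (algebraMap K' M)).valuation (algebraMap A K' a) < 1 := by
    intro a ha
    rw [EtRamT.valuation_comap_lt_one_iff]
    show W.valuation (algebraMap K' M (algebraMap K K' (algebraMap A K a))) < 1
    rw [hAM]
    apply hW.2
    exact ((local_hom_TFAE (algebraMap A B)).out 0 2 rfl rfl).mp inferInstance
      (Ideal.mem_map_of_mem _ ha)
  have hV : EtRam.Dominates A ((algebraMap K K').comp (algebraMap A K))
      (W.comap (algebraMap K' M)) := ⟨h1, h2⟩
  haveI hVdvr : IsDiscreteValuationRing (W.comap (algebraMap K' M)) :=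
    isDVR_of_dominates_fin A K K' _ h1 h2
  letI algAV : Algebra A (W.comap (algebraMap K' M)) :=
    (RingHom.codRestrict ((algebraMap K K').comp (algebraMap A K)) _ hV.1).toAlgebra
  haveI locAV : IsLocalHom (algebraMap A (W.comap (algebraMap K' M))) :=
    EtRamT.isLocalHom_of_dominates _ _ hV
  obtain ⟨hU, hsep⟩ := h (W.comap (algebraMap K' M)) hV
  -- the remaining algebra structures
  letI algVW : Algebra (W.comap (algebraMap K' M)) W :=
    (EtRam.inclOfComap W (algebraMap K' M)).toAlgebra
  haveI locVW : IsLocalHom (algebraMap (W.comap (algebraMap K' M)) W) :=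
    EtRam.isLocalHom_inclOfComap W (algebraMap K' M)
  letI algAW : Algebra A W := ((algebraMap B W).comp (algebraMap A B)).toAlgebra
  haveI towABW : IsScalarTower A B W := .of_algebraMap_eq (fun _ => rfl)
  haveI towAVW : IsScalarTower A (W.comap (algebraMap K' M)) W :=
    .of_algebraMap_eq (fun a => Subtype.ext (hAM a).symm)
  haveI locAW : IsLocalHom (algebraMap A W) :=
    RingHom.isLocalHom_comp (algebraMap B W) (algebraMap A B)
  -- uniformizer of `B`
  obtain ⟨t, ht⟩ := IsDiscreteValuationRing.exists_irreducible B
  have htm : maximalIdeal B = Ideal.span {t} := ht.maximalIdeal_eq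
  -- the tensor product of residue fields
  haveI hfin : Module.Finite (ResidueField A) (ResidueField (W.comap (algebraMap K' M))) := by
    haveI towAVK' : IsScalarTower A (W.comap (algebraMap K' M)) K' :=
      .of_algebraMap_eq (fun _ => rfl)
    exact residue_finite A K K' (W.comap (algebraMap K' M))
  have hE : IsVNR (ResidueField (W.comap (algebraMap K' M)) ⊗[ResidueField A]
      ResidueField B) := by
    haveI : Algebra.FormallyUnramified (ResidueField A)
        (ResidueField (W.comap (algebraMap K' M))) :=
      Algebra.FormallyUnramified.of_isSeparable _ _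
    haveI hred : IsReduced (ResidueField B ⊗[ResidueField A]
        ResidueField (W.comap (algebraMap K' M))) :=
      Algebra.FormallyUnramified.isReduced_of_field (ResidueField B) _
    haveI hred' : IsReduced (ResidueField (W.comap (algebraMap K' M)) ⊗[ResidueField A]
        ResidueField B) :=
      isReduced_of_injective (Algebra.TensorProduct.comm (ResidueField A)
        (ResidueField (W.comap (algebraMap K' M))) (ResidueField B)).toRingEquiv.toRingHom
        (Algebra.TensorProduct.comm (ResidueField A)
        (ResidueField (W.comap (algebraMap K' M))) (ResidueField B)).injective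
    haveI : Algebra.IsIntegral (ResidueField A) (ResidueField (W.comap (algebraMap K' M))) :=
      Algebra.IsIntegral.of_finite _ _
    haveI : Algebra.IsIntegral (ResidueField B) (ResidueField B ⊗[ResidueField A]
        ResidueField (W.comap (algebraMap K' M))) := inferInstance
    have hvnr : IsVNR (ResidueField B ⊗[ResidueField A]
        ResidueField (W.comap (algebraMap K' M))) :=
      isVNR_of_isReduced_of_isIntegral (ResidueField B) _
    exact hvnr.of_surjective (Algebra.TensorProduct.comm (ResidueField A) (ResidueField B)
        (ResidueField (W.comap (algebraMap K' M)))).toRingEquiv.toRingHom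
        (Algebra.TensorProduct.comm (ResidueField A) (ResidueField B)
        (ResidueField (W.comap (algebraMap K' M)))).surjective
  have hgen' := hgen_of_adjoin A (W.comap (algebraMap K' M)) B W K' L M
    Subtype.val_injective (fun _ => rfl) (fun _ => rfl) (adjoin_swap L K' M hgen)
  refine ⟨map_maximalIdeal_eq A (W.comap (algebraMap K' M)) B W hU t htm hE hgen', ?_⟩
  have hsurj := eps_surjective A (W.comap (algebraMap K' M)) B W hU t htm hE hgen'
  rw [← separableClosure.eq_top_iff, eq_top_iff]
  intro w hwtop
  clear hwtop
  obtain ⟨d, rfl⟩ := hsurj w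
  induction d using TensorProduct.induction_on with
  | zero => rw [map_zero]; exact zero_mem _
  | tmul x y =>
    rw [eps_tmul]
    apply mul_mem
    · rw [mem_separableClosure_iff]
      have hx : IsSeparable (ResidueField A) x := Algebra.IsSeparable.isSeparable _ x
      have hx' := IsSeparable.map (IsScalarTower.toAlgHom (ResidueField A)
        (ResidueField (W.comap (algebraMap K' M))) (ResidueField W)) (RingHom.injective _) hx
      exact IsSeparable.tower_top (ResidueField B) hx'
    · exact IntermediateField.algebraMap_mem _ y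
  | add x y hx hy => rw [map_add]; exact add_mem hx hy

theorem unram_tensor (h : EtRam.IsUnramifiedExt A ((algebraMap K K').comp (algebraMap A K)))
    (F : Type u) [Field F] [Algebra (K' ⊗[K] L) F]
    (hF : Function.Surjective (algebraMap (K' ⊗[K] L) F)) :
    EtRam.IsUnramifiedExt B ((algebraMap (K' ⊗[K] L) F).comp
      ((Algebra.TensorProduct.includeRight : L →ₐ[K] K' ⊗[K] L).toRingHom.comp
        (algebraMap B L))) := by
  letI algLF : Algebra L F := ((algebraMap (K' ⊗[K] L) F).comp
    (Algebra.TensorProduct.includeRight : L →ₐ[K] K' ⊗[K] L).toRingHom).toAlgebra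
  letI algK'F : Algebra K' F := ((algebraMap (K' ⊗[K] L) F).comp
    (Algebra.TensorProduct.includeLeft : K' →ₐ[K] K' ⊗[K] L).toRingHom).toAlgebra
  letI algKF : Algebra K F := ((algebraMap (K' ⊗[K] L) F).comp
    (algebraMap K (K' ⊗[K] L))).toAlgebra
  haveI : IsScalarTower K L F := by
    refine .of_algebraMap_eq (fun k => ?_)
    show algebraMap (K' ⊗[K] L) F (algebraMap K (K' ⊗[K] L) k) =
      algebraMap (K' ⊗[K] L) F
        ((Algebra.TensorProduct.includeRight : L →ₐ[K] K' ⊗[K] L) (algebraMap K L k))
    rw [AlgHom.commutes]
  haveI : IsScalarTower K K' F := by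
    refine .of_algebraMap_eq (fun k => ?_)
    show algebraMap (K' ⊗[K] L) F (algebraMap K (K' ⊗[K] L) k) =
      algebraMap (K' ⊗[K] L) F
        ((Algebra.TensorProduct.includeLeft : K' →ₐ[K] K' ⊗[K] L) (algebraMap K K' k))
    rw [AlgHom.commutes]
  have hgen : Algebra.adjoin L (Set.range (algebraMap K' F)) = ⊤ := by
    rw [eq_top_iff]
    intro z hz
    clear hz
    obtain ⟨d, rfl⟩ := hF z
    induction d using TensorProduct.induction_on with
    | zero => rw [map_zero]; exact zero_mem _
    | tmul x y =>
      have hxy : algebraMap (K' ⊗[K] L) F (x ⊗ₜ y) = algebraMap K' F x * algebraMap L F y := by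
        show _ = algebraMap (K' ⊗[K] L) F (x ⊗ₜ 1) * algebraMap (K' ⊗[K] L) F (1 ⊗ₜ y)
        rw [← map_mul, Algebra.TensorProduct.tmul_mul_tmul, mul_one, one_mul]
      rw [hxy]
      exact mul_mem (Algebra.subset_adjoin ⟨x, rfl⟩) (Subalgebra.algebraMap_mem _ y)
    | add x y hx hy => rw [map_add]; exact add_mem hx hy
  exact unram_core A B K L K' h F hgen

end Main

end Groth.Agent.H10.EtRamUB
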