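import Mathlib
import Groth.Prelude.Def_EtRam
import Groth.Agent.H10.TameCore2
import Groth.Agent.H10.EtRamTame
import Groth.Agent.H10.EtRamUnramBC

/-! EtRam: base change of a tamely ramified extension `K'/K` (relative to the DVR `A`) along an
extension of DVRs `A → B` stays tamely ramified (S9307). -/

set_option autoImplicit false
set_option linter.style.haveILetI false
set_option linter.unusedSectionVars false
set_option linter.unusedVariables false
universe u

open IsLocalRing TensorProduct

namespace Groth.Agent.H10.EtRamTB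

section Main

open Groth.Agent.H10.DvrBC Groth.Agent.H10.EtRamSm Groth.Agent.H10.EtRamTame

variable (A B K L K' : Type u) [CommRing A] [IsDomain A] [IsDiscreteValuationRing A]
  [CommRing B] [IsDomain B] [IsDiscreteValuationRing B] [Algebra A B] [IsLocalHom (algebraMap A B)]
  [Field K] [Field L] [Field K'] [Algebra A K] [IsFractionRing A K] [Algebra B L]
  [IsFractionRing B L]
  [Algebra K L] [Algebra A L] [IsScalarTower A K L] [IsScalarTower A B L]
  [Algebra K K'] [FiniteDimensional K K']

theorem tame_bc_core (hinj : Function.Injective (algebraMap A B))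
    (h : EtRam.IsTamelyRamified A ((algebraMap K K').comp (algebraMap A K)))
    (M : Type u) [Field M] [Algebra K M] [Algebra L M] [Algebra K' M] [IsScalarTower K L M]
    [IsScalarTower K K' M]
    (hgen : Algebra.adjoin L (Set.range (algebraMap K' M)) = ⊤) :
    EtRam.IsTamelyRamified B ((algebraMap L M).comp (algebraMap B L)) := by
  intro W hW locBW
  letI algBW : Algebra B W :=
    (RingHom.codRestrict ((algebraMap L M).comp (algebraMap B L)) W hW.1).toAlgebra
  -- `M` is finite over `L`
  haveI hML : FiniteDimensional L M := by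
    let φ : L ⊗[K] K' →ₐ[L] M :=
      Algebra.TensorProduct.productLeftAlgHom (Algebra.ofId L M) (IsScalarTower.toAlgHom K K' M)
    have hφ : Function.Surjective φ := by
      rw [← AlgHom.range_eq_top, eq_top_iff, ← hgen]
      apply Algebra.adjoin_le
      rintro _ ⟨k, rfl⟩
      exact ⟨1 ⊗ₜ k, by simp [φ]⟩
    exact Module.Finite.of_surjective φ.toLinearMap hφ
  have hAM : ∀ a : A, algebraMap K' M (algebraMap K K' (algebraMap A K a)) =
      algebraMap L M (algebraMap B L (algebraMap A B a)) := by
    intro a
    rw [← IsScalarTower.algebraMap_apply K K' M, IsScalarTower.algebraMap_apply K L M,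
      ← IsScalarTower.algebraMap_apply A K L, IsScalarTower.algebraMap_apply A B L]
  -- `W` is a DVR
  letI algBM : Algebra B M := ((algebraMap L M).comp (algebraMap B L)).toAlgebra
  haveI : IsScalarTower B L M := .of_algebraMap_eq (fun _ => rfl)
  haveI hWdvr : IsDiscreteValuationRing W := isDVR_of_dominates_fin B L M W hW.1 hW.2
  -- `V = W ∩ K'` is a DVR dominating `A`
  letI algAK' : Algebra A K' := ((algebraMap K K').comp (algebraMap A K)).toAlgebra
  haveI : IsScalarTower A K K' := .of_algebraMap_eq (fun _ => rfl)
  have h1 : ∀ a : A, algebraMap A K' a ∈ W.comap (algebraMap K' M) := by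
    intro a
    rw [ValuationSubring.mem_comap]
    show algebraMap K' M (algebraMap K K' (algebraMap A K a)) ∈ W
    rw [hAM]
    exact hW.1 _
  have h2 : ∀ a : A, a ∈ maximalIdeal A →
      (W.comap (algebraMap K' M)).valuation (algebraMap A K' a) < 1 := by
    intro a ha
    rw [EtRamT.valuation_comap_lt_one_iff]
    show W.valuation (algebraMap K' M (algebraMap K K' (algebraMap A K a))) < 1
    rw [hAM]
    apply hW.2
    exact ((local_hom_TFAE (algebraMap A B)).out 0 2 rfl rfl).mp inferInstance
      (Ideal.mem_map_of_mem _ ha)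
  have hV : EtRam.Dominates A ((algebraMap K K').comp (algebraMap A K))
      (W.comap (algebraMap K' M)) := ⟨h1, h2⟩
  haveI hVdvr : IsDiscreteValuationRing (W.comap (algebraMap K' M)) :=
    isDVR_of_dominates_fin A K K' _ h1 h2
  letI algAV : Algebra A (W.comap (algebraMap K' M)) :=
    (RingHom.codRestrict ((algebraMap K K').comp (algebraMap A K)) _ hV.1).toAlgebra
  haveI locAV : IsLocalHom (algebraMap A (W.comap (algebraMap K' M))) :=
    EtRamT.isLocalHom_of_dominates _ _ hV
  obtain ⟨hsep, htame⟩ := h (W.comap (algebraMap K' M)) hV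
  -- the remaining algebra structures
  letI algVW : Algebra (W.comap (algebraMap K' M)) W :=
    (EtRam.inclOfComap W (algebraMap K' M)).toAlgebra
  haveI locVW : IsLocalHom (algebraMap (W.comap (algebraMap K' M)) W) :=
    EtRam.isLocalHom_inclOfComap W (algebraMap K' M)
  letI algAW : Algebra A W := ((algebraMap B W).comp (algebraMap A B)).toAlgebra
  haveI towABW : IsScalarTower A B W := .of_algebraMap_eq (fun _ => rfl)
  haveI towAVW : IsScalarTower A (W.comap (algebraMap K' M)) W :=
    .of_algebraMap_eq (fun a => Subtype.ext (hAM a).symm)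
  haveI locAW : IsLocalHom (algebraMap A W) :=
    RingHom.isLocalHom_comp (algebraMap B W) (algebraMap A B)
  haveI hfin : Module.Finite (ResidueField A) (ResidueField (W.comap (algebraMap K' M))) := by
    haveI towAVK' : IsScalarTower A (W.comap (algebraMap K' M)) K' :=
      .of_algebraMap_eq (fun _ => rfl)
    exact residue_finite A K K' (W.comap (algebraMap K' M))
  -- injectivity
  have hBW : Function.Injective (algebraMap B W) := by
    intro x y h
    have := congrArg Subtype.val h
    exact IsFractionRing.injective B L ((algebraMap L M).injective this)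
  have hVW : Function.Injective (algebraMap (W.comap (algebraMap K' M)) W) := by
    intro x y h
    have := congrArg Subtype.val h
    exact Subtype.ext ((algebraMap K' M).injective this)
  have hAV : Function.Injective (algebraMap A (W.comap (algebraMap K' M))) := by
    intro x y h
    have := congrArg Subtype.val h
    exact IsFractionRing.injective A K ((algebraMap K K').injective this)
  -- uniformizers
  obtain ⟨πA, hπA⟩ := IsDiscreteValuationRing.exists_irreducible A
  obtain ⟨πB, hπB⟩ := IsDiscreteValuationRing.exists_irreducible B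
  obtain ⟨πV, hπV⟩ := IsDiscreteValuationRing.exists_irreducible (W.comap (algebraMap K' M))
  obtain ⟨heB0, uB, huB⟩ := exists_unit_mul_pow A B hinj πA hπA πB hπB
  obtain ⟨heV0, uV, huV⟩ := exists_unit_mul_pow A (W.comap (algebraMap K' M)) hAV πA hπA πV hπV
  have heVκ : ((Ideal.ramificationIdx' (maximalIdeal A)
      (maximalIdeal (W.comap (algebraMap K' M))) : ℕ) : ResidueField A) ≠ 0 := by
    obtain ⟨p, hp⟩ := CharP.exists (ResidueField A)
    rcases CharP.char_is_prime_or_zero (ResidueField A) p with hpp | rfl
    · rw [Ne, CharP.cast_eq_zero_iff (ResidueField A) p]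
      exact htame p hpp hp
    · haveI := CharP.charP_to_charZero (ResidueField A)
      exact Nat.cast_ne_zero.2 heV0
  have hgen' := hgen_of_adjoin A B (W.comap (algebraMap K' M)) W L K' M
    Subtype.val_injective (fun _ => rfl) (fun _ => rfl) hgen
  obtain ⟨⟨a, ϖ, u, hadvd, hmax, hπBW⟩, hsepW⟩ := TameCore2.tame_core2 A B
    (W.comap (algebraMap K' M)) W hBW hVW
    (Ideal.ramificationIdx' (maximalIdeal A) (maximalIdeal B))
    (Ideal.ramificationIdx' (maximalIdeal A) (maximalIdeal (W.comap (algebraMap K' M))))
    heVκ (Nat.pos_of_ne_zero heB0) πA πB πV uB uV hπB.maximalIdeal_eq hπV.maximalIdeal_eq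
    hπB.ne_zero hπV.ne_zero huB huV hgen'
  refine ⟨hsepW, ?_⟩
  intro p hp hcp hdvd
  have hϖirr : Irreducible ϖ := (IsDiscreteValuationRing.irreducible_iff_uniformizer ϖ).2 hmax
  obtain ⟨-, u', hu'⟩ := exists_unit_mul_pow B W hBW πB hπB ϖ hϖirr
  have hae : a = Ideal.ramificationIdx' (maximalIdeal B) (maximalIdeal W) := by
    rw [hπBW] at hu'
    exact IsDiscreteValuationRing.unit_mul_pow_congr_pow hϖirr hϖirr _ _ _ _ hu'
  have hcpA : CharP (ResidueField A) p :=
    ((algebraMap (ResidueField A) (ResidueField B)).charP_iff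
      (algebraMap (ResidueField A) (ResidueField B)).injective p).2 hcp
  apply htame p hp hcpA
  rw [← hae] at hdvd
  exact dvd_trans hdvd hadvd

theorem tame_tensor (hinj : Function.Injective (algebraMap A B))
    (h : EtRam.IsTamelyRamified A ((algebraMap K K').comp (algebraMap A K)))
    (F : Type u) [Field F] [Algebra (K' ⊗[K] L) F]
    (hF : Function.Surjective (algebraMap (K' ⊗[K] L) F)) :
    EtRam.IsTamelyRamified B ((algebraMap (K' ⊗[K] L) F).comp
      ((Algebra.TensorProduct.includeRight : L →ₐ[K] K' ⊗[K] L).toRingHom.comp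
        (algebraMap B L))) := by
  letI algLF : Algebra L F := ((algebraMap (K' ⊗[K] L) F).comp
    (Algebra.TensorProduct.includeRight : L →ₐ[K] K' ⊗[K] L).toRingHom).toAlgebra
  letI algK'F : Algebra K' F := ((algebraMap (K' ⊗[K] L) F).comp
    (Algebra.TensorProduct.includeLeft : K' →ₐ[K] K' ⊗[K] L).toRingHom).toAlgebra
  letI algKF : Algebra K F := ((algebraMap (K' ⊗[K] L) F).comp
    (algebraMap K (K' ⊗[K] L))).toAlgebra
  haveI : IsScalarTower K L F := by
    refine .of_algebraMap_eq (fun k => ?_)
    show algebraMap (K' ⊗[K] L) F (algebraMap K (K' ⊗[K] L) k) =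
      algebraMap (K' ⊗[K] L) F
        ((Algebra.TensorProduct.includeRight : L →ₐ[K] K' ⊗[K] L) (algebraMap K L k))
    rw [AlgHom.commutes]
  haveI : IsScalarTower K K' F := by
    refine .of_algebraMap_eq (fun k => ?_)
    show algebraMap (K' ⊗[K] L) F (algebraMap K (K' ⊗[K] L) k) =
      algebraMap (K' ⊗[K] L) F
        ((Algebra.TensorProduct.includeLeft : K' →ₐ[K] K' ⊗[K] L) (algebraMap K K' k))
    rw [AlgHom.commutes]
  have hgen : Algebra.adjoin L (Set.range (algebraMap K' F)) = ⊤ := by
    rw [eq_top_iff]
    intro z hz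
    clear hz
    obtain ⟨d, rfl⟩ := hF z
    induction d using TensorProduct.induction_on with
    | zero => rw [map_zero]; exact zero_mem _
    | tmul x y =>
      have hxy : algebraMap (K' ⊗[K] L) F (x ⊗ₜ y) = algebraMap K' F x * algebraMap L F y := by
        show _ = algebraMap (K' ⊗[K] L) F (x ⊗ₜ 1) * algebraMap (K' ⊗[K] L) F (1 ⊗ₜ y)
        rw [← map_mul, Algebra.TensorProduct.tmul_mul_tmul, mul_one, one_mul]
      rw [hxy]
      exact mul_mem (Algebra.subset_adjoin ⟨x, rfl⟩) (Subalgebra.algebraMap_mem _ y)
    | add x y hx hy => rw [map_add]; exact add_mem hx hy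
  exact tame_bc_core A B K L K' hinj h F hgen

end Main

end Groth.Agent.H10.EtRamTB
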