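import Mathlib

/-! A generic "closed under subextensions and composita ⇒ closed under Galois closure" argument
for properties of finite separable field extensions. -/

set_option autoImplicit false
set_option linter.style.haveILetI false
set_option linter.unusedSectionVars false
set_option linter.unusedVariables false
universe u

namespace Groth.Agent.H10.GalClosureProp

variable {K : Type u} [Field K]
variable (P : ∀ (E : Type u) [Field E] [Algebra K E], Prop)

/-- `P` descends to subextensions of finite separable extensions. -/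
def SubHyp : Prop :=
  ∀ (E F : Type u) [Field E] [Field F] [Algebra K E] [Algebra K F] [Algebra E F]
    [IsScalarTower K E F] [FiniteDimensional K F] [Algebra.IsSeparable K F], P F → P E

/-- `P` passes to composita. -/
def CompHyp : Prop :=
  ∀ (K' L M : Type u) [Field K'] [Field L] [Field M] [Algebra K K'] [Algebra K L] [Algebra K M]
    [Algebra K' M] [Algebra L M] [IsScalarTower K K' M] [IsScalarTower K L M]
    [FiniteDimensional K K'] [FiniteDimensional K M] [Algebra.IsSeparable K M],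
    P K' → P L → Algebra.adjoin L (Set.range (algebraMap K' M)) = ⊤ → P M

variable {P}

theorem of_algEquiv (hsub : SubHyp P) (E F : Type u) [Field E] [Field F] [Algebra K E]
    [Algebra K F] [FiniteDimensional K F] [Algebra.IsSeparable K F] (e : E ≃ₐ[K] F) (h : P F) :
    P E := by
  letI : Algebra E F := e.toAlgHom.toRingHom.toAlgebra
  haveI : IsScalarTower K E F := .of_algebraMap_eq (fun x => (e.commutes x).symm)
  exact hsub E F h

section Inter

variable {Ω : Type u} [Field Ω] [Algebra K Ω]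

theorem of_le (hsub : SubHyp P) (E E' : IntermediateField K Ω) (hle : E ≤ E')
    [FiniteDimensional K E'] [Algebra.IsSeparable K E'] (h : P E') : P E := by
  letI : Algebra E E' := (IntermediateField.inclusion hle).toRingHom.toAlgebra
  haveI : IsScalarTower K E E' := .of_algebraMap_eq (fun x => rfl)
  exact hsub E E' h

theorem of_eq (E E' : IntermediateField K Ω) (heq : E = E') (h : P E) : P E' := by
  subst heq
  exact h

theorem sup (hcomp : CompHyp P) (E₁ E₂ : IntermediateField K Ω)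
    [FiniteDimensional K E₁] [FiniteDimensional K E₂] [Algebra.IsSeparable K E₁]
    [Algebra.IsSeparable K E₂] (h₁ : P E₁) (h₂ : P E₂) : P ↥(E₁ ⊔ E₂) := by
  letI : Algebra E₁ ↥(E₁ ⊔ E₂) :=
    (IntermediateField.inclusion (le_sup_left : E₁ ≤ E₁ ⊔ E₂)).toRingHom.toAlgebra
  letI : Algebra E₂ ↥(E₁ ⊔ E₂) :=
    (IntermediateField.inclusion (le_sup_right : E₂ ≤ E₁ ⊔ E₂)).toRingHom.toAlgebra
  haveI : IsScalarTower K E₁ ↥(E₁ ⊔ E₂) := .of_algebraMap_eq (fun x => rfl)
  haveI : IsScalarTower K E₂ ↥(E₁ ⊔ E₂) := .of_algebraMap_eq (fun x => rfl)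
  refine hcomp E₁ E₂ ↥(E₁ ⊔ E₂) h₁ h₂ ?_
  rw [eq_top_iff]
  rintro ⟨z, hz⟩ -
  have hz' : z ∈ (E₁ ⊔ E₂).toSubalgebra := hz
  rw [IntermediateField.sup_toSubalgebra_of_left, Algebra.sup_def] at hz'
  have key : ∀ z ∈ Algebra.adjoin K ((E₁.toSubalgebra : Set Ω) ∪ (E₂.toSubalgebra : Set Ω)),
      ∃ w ∈ Algebra.adjoin E₂ (Set.range (algebraMap E₁ ↥(E₁ ⊔ E₂))), (w : Ω) = z := by
    intro z hz
    induction hz using Algebra.adjoin_induction with
    | mem z hz =>
      rcases hz with hz | hz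
      · exact ⟨algebraMap E₁ ↥(E₁ ⊔ E₂) ⟨z, hz⟩, Algebra.subset_adjoin ⟨_, rfl⟩, rfl⟩
      · exact ⟨algebraMap E₂ ↥(E₁ ⊔ E₂) ⟨z, hz⟩, Subalgebra.algebraMap_mem _ _, rfl⟩
    | algebraMap k =>
      exact ⟨algebraMap E₂ ↥(E₁ ⊔ E₂) (algebraMap K E₂ k), Subalgebra.algebraMap_mem _ _, rfl⟩
    | add x y _ _ hx hy =>
      obtain ⟨wx, hwx, rfl⟩ := hx
      obtain ⟨wy, hwy, rfl⟩ := hy
      exact ⟨wx + wy, Subalgebra.add_mem _ hwx hwy, rfl⟩
    | mul x y _ _ hx hy =>
      obtain ⟨wx, hwx, rfl⟩ := hx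
      obtain ⟨wy, hwy, rfl⟩ := hy
      exact ⟨wx * wy, Subalgebra.mul_mem _ hwx hwy, rfl⟩
  obtain ⟨w, hw, hwz⟩ := key z hz'
  have : w = ⟨z, hz⟩ := Subtype.ext hwz
  rw [← this]
  exact hw

theorem fieldRange (hsub : SubHyp P) (L : Type u) [Field L] [Algebra K L] [FiniteDimensional K L]
    [Algebra.IsSeparable K L] (σ : L →ₐ[K] Ω) (h : P L) : P σ.fieldRange :=
  of_algEquiv hsub σ.fieldRange L σ.equivFieldRange.symm h

instance (L : Type u) [Field L] [Algebra K L] [FiniteDimensional K L] (σ : L →ₐ[K] Ω) :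
    FiniteDimensional K σ.fieldRange :=
  Module.Finite.equiv σ.equivFieldRange.toLinearEquiv

theorem isSeparable_fieldRange (L : Type u) [Field L] [Algebra K L] [Algebra.IsSeparable K L]
    (σ : L →ₐ[K] Ω) : Algebra.IsSeparable K σ.fieldRange :=
  AlgEquiv.Algebra.isSeparable σ.equivFieldRange

theorem finset_sup (hcomp : CompHyp P) {ι : Type*} (f : ι → IntermediateField K Ω)
    (hfin : ∀ i, FiniteDimensional K (f i)) (hsep : ∀ i, Algebra.IsSeparable K (f i))
    (hP : ∀ i, P (f i)) (S : Finset ι) (hS : S.Nonempty) :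
    FiniteDimensional K ↥(S.sup f) ∧ Algebra.IsSeparable K ↥(S.sup f) ∧ P ↥(S.sup f) := by
  induction hS using Finset.Nonempty.cons_induction with
  | singleton i =>
    rw [Finset.sup_singleton]
    exact ⟨hfin i, hsep i, hP i⟩
  | cons i S hi hS ih =>
    obtain ⟨h1, h2, h3⟩ := ih
    rw [Finset.sup_cons]
    haveI := hfin i
    haveI := hsep i
    exact ⟨inferInstance, inferInstance, sup hcomp (f i) (S.sup f) (hP i) h3⟩

end Inter

/-- Galois closure. -/
theorem exists_galois (hsub : SubHyp P) (hcomp : CompHyp P) (L : Type u) [Field L] [Algebra K L]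
    [FiniteDimensional K L] [Algebra.IsSeparable K L] (h : P L) :
    ∃ (M : Type u) (_ : Field M) (_ : Algebra K M) (_ : FiniteDimensional K M)
      (_ : IsGalois K M) (_ : L →ₐ[K] M), P M := by
  let Ω := AlgebraicClosure L
  haveI : Normal K Ω := inferInstance
  let f : (L →ₐ[K] Ω) → IntermediateField K Ω := fun σ => σ.fieldRange
  have hne : (Finset.univ : Finset (L →ₐ[K] Ω)).Nonempty :=
    ⟨IsScalarTower.toAlgHom K L Ω, Finset.mem_univ _⟩
  obtain ⟨h1, h2, h3⟩ := finset_sup hcomp f (fun σ => inferInstance)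
    (fun σ => isSeparable_fieldRange L σ) (fun σ => fieldRange hsub L σ h) Finset.univ hne
  have heq : (Finset.univ : Finset (L →ₐ[K] Ω)).sup f = IntermediateField.normalClosure K L Ω := by
    rw [normalClosure_def, Finset.sup_univ_eq_iSup]
  have h3' : P ↥(IntermediateField.normalClosure K L Ω) := of_eq _ _ heq h3
  haveI hsepN : Algebra.IsSeparable K ↥(IntermediateField.normalClosure K L Ω) := by
    rw [← heq]; exact h2
  exact ⟨↥(IntermediateField.normalClosure K L Ω), inferInstance, inferInstance, inferInstance,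
    ⟨⟩, IsScalarTower.toAlgHom K L _, h3'⟩

/-- Compositum of two extensions. -/
theorem exists_compositum (hsub : SubHyp P) (hcomp : CompHyp P) (L₁ L₂ : Type u) [Field L₁]
    [Field L₂] [Algebra K L₁] [Algebra K L₂] [FiniteDimensional K L₁] [FiniteDimensional K L₂]
    [Algebra.IsSeparable K L₁] [Algebra.IsSeparable K L₂] (h₁ : P L₁) (h₂ : P L₂) :
    ∃ (M : Type u) (_ : Field M) (_ : Algebra K M) (_ : FiniteDimensional K M)
      (_ : Algebra.IsSeparable K M) (_ : L₁ →ₐ[K] M) (_ : L₂ →ₐ[K] M), P M := by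
  let Ω := AlgebraicClosure K
  let σ₁ : L₁ →ₐ[K] Ω := IsAlgClosed.lift
  let σ₂ : L₂ →ₐ[K] Ω := IsAlgClosed.lift
  haveI := isSeparable_fieldRange L₁ σ₁
  haveI := isSeparable_fieldRange L₂ σ₂
  have hP := sup hcomp σ₁.fieldRange σ₂.fieldRange (fieldRange hsub L₁ σ₁ h₁)
    (fieldRange hsub L₂ σ₂ h₂)
  exact ⟨↥(σ₁.fieldRange ⊔ σ₂.fieldRange), inferInstance, inferInstance, inferInstance,
    inferInstance,
    (IntermediateField.inclusion le_sup_left).comp σ₁.equivFieldRange.toAlgHom,
    (IntermediateField.inclusion le_sup_right).comp σ₂.equivFieldRange.toAlgHom, hP⟩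

end Groth.Agent.H10.GalClosureProp
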