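import Mathlib
import Groth.Prelude.Def_EtRam
import Groth.Agent.H10.EtRamTameBC
import Groth.Agent.H10.EtRamTower2
import Groth.Agent.H10.GalClosureProp

/-! EtRam: composita and Galois closures of tamely ramified / unramified extensions (S1991). -/

set_option autoImplicit false
set_option linter.style.haveILetI false
set_option linter.unusedSectionVars false
set_option linter.unusedVariables false
universe u

open IsLocalRing TensorProduct

namespace Groth.Agent.H10.EtRamComp

open Groth.Agent.H10.EtRamT

section Compositum

variable (A K : Type u) [CommRing A] [IsDomain A] [IsDiscreteValuationRing A] [Field K]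
  [Algebra A K] [IsFractionRing A K]
  (K' L M : Type u) [Field K'] [Field L] [Field M] [Algebra K K'] [Algebra K L] [Algebra K M]
  [Algebra K' M] [Algebra L M] [IsScalarTower K K' M] [IsScalarTower K L M]
  [FiniteDimensional K K'] [FiniteDimensional K M] [Algebra.IsSeparable K M]

theorem tame_compositum
    (hK' : EtRam.IsTamelyRamified A ((algebraMap K K').comp (algebraMap A K)))
    (hL : EtRam.IsTamelyRamified A ((algebraMap K L).comp (algebraMap A K)))
    (hgen : Algebra.adjoin L (Set.range (algebraMap K' M)) = ⊤) :
    EtRam.IsTamelyRamified A ((algebraMap K M).comp (algebraMap A K)) := by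
  apply tame_comp A K L M hL
  intro V hV
  letI : Algebra A L := ((algebraMap K L).comp (algebraMap A K)).toAlgebra
  haveI : IsScalarTower A K L := .of_algebraMap_eq (fun _ => rfl)
  haveI : FiniteDimensional K L := FiniteDimensional.left K L M
  haveI : Algebra.IsSeparable K L := Algebra.isSeparable_tower_bot_of_isSeparable K L M
  haveI : IsDiscreteValuationRing V := isDVR_of_dominates A K L V hV
  letI algAV : Algebra A V := (RingHom.codRestrict _ V hV.1).toAlgebra
  haveI : IsLocalHom (algebraMap A V) := isLocalHom_of_dominates _ V hV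
  haveI : IsScalarTower A V L := .of_algebraMap_eq (fun _ => rfl)
  have hinj : Function.Injective (algebraMap A V) := by
    intro x y h
    have := congrArg Subtype.val h
    exact IsFractionRing.injective A K ((algebraMap K L).injective this)
  exact EtRamTB.tame_bc_core A V K L K' hinj hK' M hgen

theorem unram_compositum
    (hK' : EtRam.IsUnramifiedExt A ((algebraMap K K').comp (algebraMap A K)))
    (hL : EtRam.IsUnramifiedExt A ((algebraMap K L).comp (algebraMap A K)))
    (hgen : Algebra.adjoin L (Set.range (algebraMap K' M)) = ⊤) :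
    EtRam.IsUnramifiedExt A ((algebraMap K M).comp (algebraMap A K)) := by
  apply unram_comp A K L M hL
  intro V hV
  letI : Algebra A L := ((algebraMap K L).comp (algebraMap A K)).toAlgebra
  haveI : IsScalarTower A K L := .of_algebraMap_eq (fun _ => rfl)
  haveI : FiniteDimensional K L := FiniteDimensional.left K L M
  haveI : Algebra.IsSeparable K L := Algebra.isSeparable_tower_bot_of_isSeparable K L M
  haveI : IsDiscreteValuationRing V := isDVR_of_dominates A K L V hV
  letI algAV : Algebra A V := (RingHom.codRestrict _ V hV.1).toAlgebra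
  haveI : IsLocalHom (algebraMap A V) := isLocalHom_of_dominates _ V hV
  haveI : IsScalarTower A V L := .of_algebraMap_eq (fun _ => rfl)
  exact EtRamUB.unram_core A V K L K' hK' M hgen

end Compositum

section Galois

open Groth.Agent.H10.GalClosureProp

variable (A K : Type u) [CommRing A] [IsDomain A] [IsDiscreteValuationRing A] [Field K]
  [Algebra A K] [IsFractionRing A K]

theorem subHyp_tame : SubHyp (K := K) (fun E _ _ =>
    EtRam.IsTamelyRamified A ((algebraMap K E).comp (algebraMap A K))) := by
  intro E F _ _ _ _ _ _ _ _ h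
  exact tame_sub A K E F h

theorem subHyp_unram : SubHyp (K := K) (fun E _ _ =>
    EtRam.IsUnramifiedExt A ((algebraMap K E).comp (algebraMap A K))) := by
  intro E F _ _ _ _ _ _ _ _ h
  exact unram_sub A K E F h

theorem compHyp_tame : CompHyp (K := K) (fun E _ _ =>
    EtRam.IsTamelyRamified A ((algebraMap K E).comp (algebraMap A K))) := by
  intro K' L M _ _ _ _ _ _ _ _ _ _ _ _ _ h₁ h₂ hgen
  exact tame_compositum A K K' L M h₁ h₂ hgen

theorem compHyp_unram : CompHyp (K := K) (fun E _ _ =>
    EtRam.IsUnramifiedExt A ((algebraMap K E).comp (algebraMap A K))) := by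
  intro K' L M _ _ _ _ _ _ _ _ _ _ _ _ _ h₁ h₂ hgen
  exact unram_compositum A K K' L M h₁ h₂ hgen

theorem galois_result :
    (∀ (L : Type u) [Field L] [Algebra K L] [FiniteDimensional K L] [Algebra.IsSeparable K L],
      (EtRam.IsUnramifiedExt A ((algebraMap K L).comp (algebraMap A K)) →
        ∃ (M : Type u) (_ : Field M) (_ : Algebra K M) (_ : FiniteDimensional K M) (_ : IsGalois K M) (_ : L →ₐ[K] M),
          EtRam.IsUnramifiedExt A ((algebraMap K M).comp (algebraMap A K))) ∧
      (EtRam.IsTamelyRamified A ((algebraMap K L).comp (algebraMap A K)) →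
        ∃ (M : Type u) (_ : Field M) (_ : Algebra K M) (_ : FiniteDimensional K M) (_ : IsGalois K M) (_ : L →ₐ[K] M),
          EtRam.IsTamelyRamified A ((algebraMap K M).comp (algebraMap A K)))) ∧
    (∀ (L₁ L₂ : Type u) [Field L₁] [Field L₂] [Algebra K L₁] [Algebra K L₂] [FiniteDimensional K L₁] [FiniteDimensional K L₂]
      [Algebra.IsSeparable K L₁] [Algebra.IsSeparable K L₂],
      (EtRam.IsUnramifiedExt A ((algebraMap K L₁).comp (algebraMap A K)) →
        EtRam.IsUnramifiedExt A ((algebraMap K L₂).comp (algebraMap A K)) →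
        ∃ (M : Type u) (_ : Field M) (_ : Algebra K M) (_ : FiniteDimensional K M) (_ : Algebra.IsSeparable K M)
          (_ : L₁ →ₐ[K] M) (_ : L₂ →ₐ[K] M), EtRam.IsUnramifiedExt A ((algebraMap K M).comp (algebraMap A K))) ∧
      (EtRam.IsTamelyRamified A ((algebraMap K L₁).comp (algebraMap A K)) →
        EtRam.IsTamelyRamified A ((algebraMap K L₂).comp (algebraMap A K)) →
        ∃ (M : Type u) (_ : Field M) (_ : Algebra K M) (_ : FiniteDimensional K M) (_ : Algebra.IsSeparable K M)
          (_ : L₁ →ₐ[K] M) (_ : L₂ →ₐ[K] M), EtRam.IsTamelyRamified A ((algebraMap K M).comp (algebraMap A K)))) := by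
  refine ⟨fun L _ _ _ _ => ⟨fun h => ?_, fun h => ?_⟩,
    fun L₁ L₂ _ _ _ _ _ _ _ _ => ⟨fun h₁ h₂ => ?_, fun h₁ h₂ => ?_⟩⟩
  · exact exists_galois (subHyp_unram A K) (compHyp_unram A K) L h
  · exact exists_galois (subHyp_tame A K) (compHyp_tame A K) L h
  · exact exists_compositum (subHyp_unram A K) (compHyp_unram A K) L₁ L₂ h₁ h₂
  · exact exists_compositum (subHyp_tame A K) (compHyp_tame A K) L₁ L₂ h₁ h₂

end Galois

end Groth.Agent.H10.EtRamComp
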