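import Mathlib
import Groth.Agent.H20.EtaleNormal

/-! Étale algebras over Dedekind domains are finite products of Dedekind domains. -/

set_option autoImplicit false
set_option linter.style.haveILetI false
universe u

open IsLocalRing

namespace Groth.Agent.H10.EtDed

section Decomp

variable (B : Type u) [CommRing B]

/-- A minimal prime contained in a prime `m` with `B_m` a domain is the kernel of `B → B_m`. -/
theorem minimalPrime_eq_ker (m : Ideal B) [m.IsPrime] [IsDomain (Localization.AtPrime m)]
    {p : Ideal B} (hp : p ∈ minimalPrimes B) (hpm : p ≤ m) :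
    p = RingHom.ker (algebraMap B (Localization.AtPrime m)) := by
  have hker : (RingHom.ker (algebraMap B (Localization.AtPrime m))).IsPrime :=
    RingHom.ker_isPrime _
  have hle : RingHom.ker (algebraMap B (Localization.AtPrime m)) ≤ p := by
    intro x hx
    rw [RingHom.mem_ker, IsLocalization.map_eq_zero_iff m.primeCompl] at hx
    obtain ⟨s, hs⟩ := hx
    have hmem : (s : B) * x ∈ p := by rw [hs]; exact p.zero_mem
    rcases hp.1.1.mem_or_mem hmem with h | h
    · exact absurd (hpm h) s.2
    · exact h
  exact le_antisymm (hp.2 ⟨hker, bot_le⟩ hle) hle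

/-- A Noetherian ring all of whose localizations at maximal ideals are domains has finitely many
pairwise comaximal minimal primes with zero intersection. -/
theorem exists_primes_crt [IsNoetherianRing B]
    (h : ∀ (m : Ideal B) [m.IsMaximal], IsDomain (Localization.AtPrime m)) :
    ∃ (n : ℕ) (f : Fin n → Ideal B), (∀ i, (f i).IsPrime) ∧
      Pairwise (fun i j => IsCoprime (f i) (f j)) ∧ (⨅ i, f i) = ⊥ := by
  have hfin : (minimalPrimes B).Finite := minimalPrimes.finite_of_isNoetherianRing B
  have hred : IsReduced B := isReduced_ofLocalizationMaximal B (fun m hm => by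
    haveI := hm; haveI := h m; infer_instance)
  haveI := hfin.to_subtype
  let n := Nat.card (minimalPrimes B)
  let e : minimalPrimes B ≃ Fin n := Finite.equivFin _
  refine ⟨n, fun i => (e.symm i).1, fun i => (e.symm i).2.1.1, ?_, ?_⟩
  · intro i j hij
    rw [Ideal.isCoprime_iff_sup_eq]
    by_contra hne
    obtain ⟨m, hm, hle⟩ := Ideal.exists_le_maximal _ hne
    haveI := hm; haveI := h m
    have h1 := minimalPrime_eq_ker B m (e.symm i).2 (le_sup_left.trans hle)
    have h2 := minimalPrime_eq_ker B m (e.symm j).2 (le_sup_right.trans hle)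
    exact hij (e.symm.injective (Subtype.ext (h1.trans h2.symm)))
  · have h1 : (⨅ i, ((e.symm i).1 : Ideal B)) = sInf (minimalPrimes B) := by
      rw [sInf_eq_iInf']
      exact e.symm.iInf_comp (g := fun p : minimalPrimes B => (p : Ideal B))
    rw [h1]
    change sInf (⊥ : Ideal B).minimalPrimes = ⊥
    rw [Ideal.sInf_minimalPrimes]
    exact nilradical_eq_zero B

end Decomp

section Etale

variable (A B : Type u) [CommRing A] [IsDedekindDomain A] [CommRing B] [Algebra A B]
  [Algebra.Etale A B]
include A

theorem isDomain_localization (q : Ideal B) [q.IsPrime] : IsDomain (Localization.AtPrime q) := by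
  let p := q.under A
  haveI : q.LiesOver p := ⟨rfl⟩
  exact (Groth.Agent.H20.isDomain_and_isIntegrallyClosed_localization_of_etale p q).1

theorem isNoetherianRing : IsNoetherianRing B := Algebra.FiniteType.isNoetherianRing A B

theorem isPrincipal_maximalIdeal (q : Ideal B) [q.IsPrime] :
    (maximalIdeal (Localization.AtPrime q)).IsPrincipal := by
  let p := q.under A
  haveI : q.LiesOver p := ⟨rfl⟩
  letI := Localization.AtPrime.algebraOfLiesOver p q
  have hU : Algebra.IsUnramifiedAt A q := inferInstance
  have h := ((Algebra.isUnramifiedAt_iff_map_eq A p q).mp hU).2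
  rw [← h]
  have h2 : algebraMap A (Localization.AtPrime q) =
      (algebraMap (Localization.AtPrime p) (Localization.AtPrime q)).comp
        (algebraMap A (Localization.AtPrime p)) := IsScalarTower.algebraMap_eq _ _ _
  rw [h2, ← Ideal.map_map, IsLocalization.AtPrime.map_eq_maximalIdeal p (Localization.AtPrime p)]
  haveI : IsPrincipalIdealRing (Localization.AtPrime p) := by
    apply IsPrincipalIdealRing.of_finite_maximals
    refine (Set.finite_singleton (maximalIdeal (Localization.AtPrime p))).subset ?_
    intro I hI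
    exact IsLocalRing.eq_maximalIdeal hI
  obtain ⟨π, hπ⟩ := (IsPrincipalIdealRing.principal
    (maximalIdeal (Localization.AtPrime p))).principal
  rw [hπ, Ideal.submodule_span_eq, Ideal.map_span, Set.image_singleton]
  exact ⟨⟨_, rfl⟩⟩

theorem isDVR_of_not_isField (q : Ideal B) [q.IsPrime]
    (hq : ¬ IsField (Localization.AtPrime q)) :
    ∃ _ : IsDomain (Localization.AtPrime q),
      IsDiscreteValuationRing (Localization.AtPrime q) := by
  haveI := isDomain_localization A B q
  haveI : IsNoetherianRing B := isNoetherianRing A B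
  haveI : IsNoetherianRing (Localization.AtPrime q) :=
    IsLocalization.isNoetherianRing q.primeCompl _ inferInstance
  refine ⟨inferInstance, ?_⟩
  exact ((IsDiscreteValuationRing.TFAE _ hq).out 0 4).mpr (isPrincipal_maximalIdeal A B q)

theorem isDedekindDomain_of_isDomain [IsDomain B] : IsDedekindDomain B := by
  haveI : IsNoetherianRing B := isNoetherianRing A B
  haveI : IsDedekindDomainDvr B :=
    { is_dvr_at_nonzero_prime := fun P hP hPp => by
        haveI := hPp
        obtain ⟨_, h⟩ := isDVR_of_not_isField A B P (IsLocalization.AtPrime.not_isField B hP _)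
        exact h }
  infer_instance

end Etale

theorem main (A B : Type u) [CommRing A] [IsDedekindDomain A] [CommRing B] [Algebra A B]
    [Algebra.Etale A B] :
    (∃ (n : ℕ) (D : Fin n → Type u) (_ : ∀ i, CommRing (D i)) (_ : ∀ i, IsDedekindDomain (D i)),
      Nonempty (B ≃+* ∀ i, D i)) ∧
    ∀ (q : Ideal B) [q.IsMaximal], ¬ IsField (Localization.AtPrime q) →
      ∃ _ : IsDomain (Localization.AtPrime q),
        IsDiscreteValuationRing (Localization.AtPrime q) := by
  refine ⟨?_, fun q _ hq => isDVR_of_not_isField A B q hq⟩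
  haveI : IsNoetherianRing B := isNoetherianRing A B
  obtain ⟨n, f, hprime, hcop, hinf⟩ :=
    exists_primes_crt B (fun m _ => isDomain_localization A B m)
  let e1 : B ≃+* (B ⧸ ⨅ i, f i) :=
    (RingEquiv.quotientBot B).symm.trans (Ideal.quotEquivOfEq hinf.symm)
  let e2 : (B ⧸ ⨅ i, f i) ≃+* ∀ i, B ⧸ f i := Ideal.quotientInfRingEquivPiQuotient f hcop
  let e : B ≃+* ∀ i, B ⧸ f i := e1.trans e2
  let eA : B ≃ₐ[A] ∀ i, B ⧸ f i := AlgEquiv.ofRingEquiv (f := e) (fun a => by funext i; rfl)
  have hFE : Algebra.FormallyEtale A (∀ i, B ⧸ f i) := Algebra.FormallyEtale.of_equiv eA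
  have hFEi : ∀ i, Algebra.FormallyEtale A (B ⧸ f i) :=
    (Algebra.FormallyEtale.pi_iff _).mp hFE
  have hFP : ∀ i, Algebra.FinitePresentation A (B ⧸ f i) := fun i => by
    have : Algebra.FiniteType A (B ⧸ f i) :=
      Algebra.FiniteType.of_surjective (Ideal.Quotient.mkₐ A (f i))
        (Ideal.Quotient.mkₐ_surjective A (f i))
    exact Algebra.FinitePresentation.of_finiteType.mp this
  have hEt : ∀ i, Algebra.Etale A (B ⧸ f i) := fun i => ⟨hFEi i, hFP i⟩
  refine ⟨n, fun i => B ⧸ f i, fun i => inferInstance, fun i => ?_, ⟨e⟩⟩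
  haveI := hprime i
  haveI := hEt i
  exact isDedekindDomain_of_isDomain A (B ⧸ f i)

end Groth.Agent.H10.EtDed
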