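import Groth.Agent.H10.WeaklyEtaleField2
import Mathlib

set_option autoImplicit false

/-!
# Weakly étale algebras: residue field extensions are separable algebraic
-/

namespace Groth.Agent.H10

open TensorProduct
open scoped IntermediateField

universe u

/-- A weakly étale algebra is formally unramified. -/
theorem formallyUnramified_of_weaklyEtale (R S : Type*) [CommRing R] [CommRing S] [Algebra R S]
    [Algebra.WeaklyEtale R S] : Algebra.FormallyUnramified R S := by
  refine ⟨(Ideal.cotangent_subsingleton_iff _).2 ?_⟩
  have hpure : (RingHom.ker (Algebra.TensorProduct.lmul' R (S := S)).toRingHom).Pure := by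
    rw [← flat_iff_pure_ker_of_surjective]
    · exact Algebra.WeaklyEtale.flat_lmul' R S
    · intro b
      exact ⟨b ⊗ₜ[R] 1, by simp⟩
  change KaehlerDifferential.ideal R S * KaehlerDifferential.ideal R S = KaehlerDifferential.ideal R S
  apply le_antisymm Ideal.mul_le_right
  intro x hx
  obtain ⟨y, hy, hxy⟩ := (pure_iff_forall_exists_eq_mul _).1 hpure x hx
  rw [hxy]
  exact Ideal.mul_mem_mul hx hy

/-- A weakly étale field extension is separable algebraic. -/
theorem isSeparable_of_weaklyEtale_field (K L : Type u) [Field K] [Field L] [Algebra K L]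
    [Algebra.WeaklyEtale K L] : Algebra.IsSeparable K L := by
  refine ⟨fun x => ?_⟩
  have hx : IsIntegral K x := isIntegral_of_weaklyEtale K L x
  have h1 : Algebra.WeaklyEtale K ↥(K⟮x⟯.toSubalgebra) := weaklyEtale_subalgebra K L _
  have h2 : Algebra.WeaklyEtale K ↥(K⟮x⟯) := h1
  have h3 : Module.Finite K ↥(K⟮x⟯) := IntermediateField.adjoin.finiteDimensional hx
  have h4 : Algebra.FormallyUnramified K ↥(K⟮x⟯) := formallyUnramified_of_weaklyEtale K _
  have h5 : Algebra.IsSeparable K ↥(K⟮x⟯) := Algebra.FormallyUnramified.isSeparable K _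
  exact (IntermediateField.isSeparable_adjoin_simple_iff_isSeparable K L).1 h5

section Residue

variable (A B : Type u) [CommRing A] [CommRing B] [Algebra A B]
  [Algebra.WeaklyEtale A B] (p : Ideal A) [p.IsPrime] (q : Ideal B) [q.IsPrime] [q.LiesOver p]
  [Algebra (Localization.AtPrime p) (Localization.AtPrime q)]
  [Localization.AtPrime.IsLiesOverAlgebra p q]

/-- the canonical map from the fibre ring to the residue field. -/
noncomputable def fibreToResidue : p.ResidueField ⊗[A] B →ₐ[p.ResidueField] q.ResidueField :=
  Algebra.TensorProduct.lift (Algebra.ofId _ _) (IsScalarTower.toAlgHom A B _)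
    (fun _ _ => Commute.all _ _)

theorem fibreToResidue_surjective : Function.Surjective (fibreToResidue A B p q) := by
  have hWE : Algebra.WeaklyEtale p.ResidueField (fibreToResidue A B p q).range :=
    weaklyEtale_range _ _
  have hint : Algebra.IsIntegral p.ResidueField (fibreToResidue A B p q).range :=
    ⟨isIntegral_of_weaklyEtale _ _⟩
  have hB : ∀ b : B, algebraMap B q.ResidueField b ∈ (fibreToResidue A B p q).range := by
    intro b
    exact ⟨1 ⊗ₜ[A] b, by simp [fibreToResidue]⟩
  intro x
  obtain ⟨b, s, hs, rfl⟩ := IsFractionRing.div_surjective (A := B ⧸ q) x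
  obtain ⟨b, rfl⟩ := Ideal.Quotient.mk_surjective b
  obtain ⟨s, rfl⟩ := Ideal.Quotient.mk_surjective s
  rw [Ideal.algebraMap_quotient_residueField_mk, Ideal.algebraMap_quotient_residueField_mk,
    div_eq_mul_inv]
  have h1 := hB b
  have h2 : (algebraMap B q.ResidueField s)⁻¹ ∈ (fibreToResidue A B p q).range := by
    have := Subalgebra.inv_mem_of_algebraic (fibreToResidue A B p q).range
      (x := ⟨_, hB s⟩) (Algebra.IsIntegral.isIntegral (R := p.ResidueField)
        (⟨_, hB s⟩ : (fibreToResidue A B p q).range)).isAlgebraic.algebraMap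
    exact this
  exact mul_mem h1 h2

theorem weaklyEtale_residueField : Algebra.WeaklyEtale p.ResidueField q.ResidueField :=
  weaklyEtale_of_surjective _ (fibreToResidue A B p q) (fibreToResidue_surjective A B p q)

theorem isSeparable_residueField : Algebra.IsSeparable p.ResidueField q.ResidueField := by
  have := weaklyEtale_residueField A B p q
  exact isSeparable_of_weaklyEtale_field _ _

end Residue

end Groth.Agent.H10
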