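import Mathlib
import Groth.Prelude.Def_EtRam
import Groth.Agent.H10.EtaleDedekind
import Groth.Agent.H10.WeaklyEtaleResidue

/-! Fields generated by an integral étale algebra over a DVR are unramified over it. -/

set_option autoImplicit false
set_option linter.style.haveILetI false
set_option linter.unusedSectionVars false
set_option linter.unusedVariables false
universe u
open Polynomial IsLocalRing TensorProduct

namespace Groth.Agent.H10.EtRamEtale

section
variable (V C W : Type u) [CommRing V] [IsLocalRing V] [CommRing C] [CommRing W] [IsLocalRing W]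
  [Algebra V C] [Algebra V W] [Algebra C W] [IsScalarTower V C W] [IsLocalHom (algebraMap V W)]
  [Algebra.WeaklyEtale V C]

/-- the canonical map from the closed fibre to the residue field. -/
noncomputable def fibreToRes : ResidueField V ⊗[V] C →ₐ[ResidueField V] ResidueField W :=
  Algebra.TensorProduct.lift (Algebra.ofId _ _) (IsScalarTower.toAlgHom V C _)
    (fun _ _ => Commute.all _ _)

theorem isSeparable_residue_of_gen
    (hgen : ∀ x : W, ∃ c s : C, IsUnit (algebraMap C W s) ∧ x * algebraMap C W s = algebraMap C W c) :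
    Algebra.IsSeparable (ResidueField V) (ResidueField W) := by
  have hWE : Algebra.WeaklyEtale (ResidueField V) (fibreToRes V C W).range :=
    weaklyEtale_range _ _
  have hint : Algebra.IsIntegral (ResidueField V) (fibreToRes V C W).range :=
    ⟨isIntegral_of_weaklyEtale _ _⟩
  have hB : ∀ b : C, algebraMap C (ResidueField W) b ∈ (fibreToRes V C W).range := by
    intro b
    exact ⟨1 ⊗ₜ[V] b, by simp [fibreToRes]⟩
  have hsurj : Function.Surjective (fibreToRes V C W) := by
    intro x
    obtain ⟨x, rfl⟩ := residue_surjective x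
    obtain ⟨c, s, hs, hxs⟩ := hgen x
    have h1 := hB c
    have h2 : (algebraMap C (ResidueField W) s)⁻¹ ∈ (fibreToRes V C W).range := by
      have := Subalgebra.inv_mem_of_algebraic (fibreToRes V C W).range
        (x := ⟨_, hB s⟩) (Algebra.IsIntegral.isIntegral (R := ResidueField V)
          (⟨_, hB s⟩ : (fibreToRes V C W).range)).isAlgebraic.algebraMap
      exact this
    have h3 : residue W x = algebraMap C (ResidueField W) c * (algebraMap C (ResidueField W) s)⁻¹ := by
      have hs' : algebraMap C (ResidueField W) s ≠ 0 := by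
        rw [IsScalarTower.algebraMap_apply C W (ResidueField W)]
        exact (residue_ne_zero_iff_isUnit _).2 hs
      rw [eq_mul_inv_iff_mul_eq₀ hs', IsScalarTower.algebraMap_apply C W (ResidueField W),
        IsScalarTower.algebraMap_apply C W (ResidueField W), ← hxs, map_mul]
      rfl
    rw [h3]
    exact mul_mem h1 h2
  have := weaklyEtale_of_surjective _ (fibreToRes V C W) hsurj
  exact isSeparable_of_weaklyEtale_field _ _
end

variable (V : Type u) [CommRing V] [IsDomain V] [IsDiscreteValuationRing V]
  (C : Type u) [CommRing C] [Algebra V C] [Algebra.Etale V C] [Algebra.IsIntegral V C]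
  (M : Type u) [Field M] (g : V →+* M) (φ : C →+* M)

/-- the image of an integral algebra lies in every valuation subring containing the image of `V`. -/
theorem image_mem (hφ : φ.comp (algebraMap V C) = g) (W : ValuationSubring M)
    (h : ∀ a : V, g a ∈ W) (c : C) : φ c ∈ W := by
  obtain ⟨p, hp, hpc⟩ := Algebra.IsIntegral.isIntegral (R := V) c
  have hint : IsIntegral W (φ c) := by
    refine ⟨p.map (RingHom.codRestrict g W h), hp.map _, ?_⟩
    rw [eval₂_map]
    have h1 : (algebraMap W M).comp (RingHom.codRestrict g W h) = φ.comp (algebraMap V C) := by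
      rw [hφ]; ext a; rfl
    rw [h1, ← hom_eval₂, hpc, map_zero]
  obtain ⟨y, hy⟩ := IsIntegrallyClosed.isIntegral_iff.mp hint
  rw [← hy]
  exact y.2

/-- For an étale algebra the maximal ideal of a localization is generated by the prime below. -/
theorem maximalIdeal_eq_map (A B : Type u) [CommRing A] [CommRing B] [Algebra A B]
    [Algebra.Etale A B] (q : Ideal B) [q.IsPrime] :
    maximalIdeal (Localization.AtPrime q) =
      (q.under A).map (algebraMap A (Localization.AtPrime q)) := by
  let p := q.under A
  haveI : q.LiesOver p := ⟨rfl⟩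
  letI := Localization.AtPrime.algebraOfLiesOver p q
  have hU : Algebra.IsUnramifiedAt A q := inferInstance
  have h := ((Algebra.isUnramifiedAt_iff_map_eq A p q).mp hU).2
  rw [← h]

theorem unram_of_etale (hg : Function.Injective g) (hφ : φ.comp (algebraMap V C) = g)
    (hgen : ∀ x : M, ∃ c s : C, φ s ≠ 0 ∧ x * φ s = φ c) :
    EtRam.IsUnramifiedExt V g := by
  intro W hW hloc
  letI algVW : Algebra V W := (RingHom.codRestrict g W hW.1).toAlgebra
  have hφW := image_mem V C M g φ hφ W hW.1
  let ψ : C →+* W := RingHom.codRestrict φ W hφW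
  letI algCW : Algebra C W := ψ.toAlgebra
  haveI : IsScalarTower V C W := IsScalarTower.of_algebraMap_eq (fun v => Subtype.ext (by
    show g v = φ (algebraMap V C v)
    rw [← hφ]; rfl))
  obtain ⟨π, hπ⟩ := IsDiscreteValuationRing.exists_irreducible V
  have hgπ0 : g π ≠ 0 := fun h => hπ.ne_zero (hg (h.trans (map_zero g).symm))
  have hgπm : algebraMap V W π ∈ maximalIdeal W :=
    (W.valuation_lt_one_iff _).2 (hW.2 π hπ.not_isUnit)
  let 𝔪 : Ideal C := (maximalIdeal W).comap ψ
  haveI h𝔪 : 𝔪.IsPrime := Ideal.comap_isPrime ψ _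
  have hunit : ∀ s : 𝔪.primeCompl, IsUnit (ψ s) := fun s =>
    IsLocalRing.notMem_maximalIdeal.mp s.2
  let ψ' : Localization.AtPrime 𝔪 →+* W := IsLocalization.lift (M := 𝔪.primeCompl) hunit
  have hψ' : ∀ c, ψ' (algebraMap C (Localization.AtPrime 𝔪) c) = ψ c :=
    fun c => IsLocalization.lift_eq _ _
  haveI : IsDomain (Localization.AtPrime 𝔪) := EtDed.isDomain_localization V C 𝔪
  have hunder : 𝔪.under V = maximalIdeal V := by
    ext v
    constructor
    · intro hv
      by_contra hcon
      have hu : IsUnit v := IsLocalRing.notMem_maximalIdeal.mp hcon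
      have hv' : algebraMap V W v ∈ maximalIdeal W := by
        have : ψ (algebraMap V C v) ∈ maximalIdeal W := hv
        have h2 : ψ (algebraMap V C v) = algebraMap V W v :=
          (IsScalarTower.algebraMap_apply V C W _).symm
        rwa [h2] at this
      exact hv' (hu.map _)
    · intro hv
      rw [hπ.maximalIdeal_eq, Ideal.mem_span_singleton] at hv
      obtain ⟨w, rfl⟩ := hv
      show ψ (algebraMap V C (π * w)) ∈ maximalIdeal W
      have : ψ (algebraMap V C (π * w)) = algebraMap V W (π * w) :=
        (IsScalarTower.algebraMap_apply V C W _).symm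
      rw [this, map_mul]
      exact Ideal.mul_mem_right _ _ hgπm
  set D := Localization.AtPrime 𝔪 with hD
  have hmaxD : maximalIdeal D = Ideal.span {algebraMap V D π} := by
    rw [maximalIdeal_eq_map V C 𝔪, hunder, hπ.maximalIdeal_eq, Ideal.map_span, Set.image_singleton]
  have hψ'V : ∀ v : V, ψ' (algebraMap V D v) = algebraMap V W v := by
    intro v
    rw [IsScalarTower.algebraMap_apply V C D, hψ']
    exact (IsScalarTower.algebraMap_apply V C W _).symm
  have hπW0 : algebraMap V W π ≠ 0 := by
    intro h
    exact hgπ0 (congrArg Subtype.val h)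
  have hπD0 : algebraMap V D π ≠ 0 := by
    intro h
    apply hπW0
    rw [← hψ'V, h, map_zero]
  have hnf : ¬ IsField D := by
    rw [IsLocalRing.isField_iff_maximalIdeal_eq, hmaxD, Ideal.span_singleton_eq_bot]
    exact hπD0
  obtain ⟨_, hDdvr⟩ := EtDed.isDVR_of_not_isField V C 𝔪 hnf
  have hπDirr : Irreducible (algebraMap V D π) :=
    (IsDiscreteValuationRing.irreducible_iff_uniformizer _).2 hmaxD
  -- every nonzero element of `D` is a unit times a power of `π`
  have hψ'unit : ∀ u : D, IsUnit u → IsUnit (ψ' u) := fun u hu => hu.map ψ'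
  have hψ'inj : Function.Injective ψ' := by
    rw [injective_iff_map_eq_zero]
    intro d hd
    by_contra hd0
    obtain ⟨k, u, hu⟩ := IsDiscreteValuationRing.eq_unit_mul_pow_irreducible hd0 hπDirr
    rw [hu, map_mul, map_pow, hψ'V] at hd
    rcases mul_eq_zero.1 hd with h | h
    · exact (hψ'unit _ u.isUnit).ne_zero h
    · exact hπW0 (pow_eq_zero_iff (M₀ := W) (n := k) (by
        intro hk; rw [hk, pow_zero] at h; exact one_ne_zero h) |>.1 h)
  have hψ'surj : Function.Surjective ψ' := by
    intro x
    by_cases hx0 : x = 0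
    · exact ⟨0, by rw [hx0, map_zero]⟩
    obtain ⟨c, s, hs, hxs⟩ := hgen (x : M)
    have hxs' : x * ψ s = ψ c := Subtype.ext hxs
    have hψs0 : ψ s ≠ 0 := fun h => hs (congrArg Subtype.val h)
    have hs0 : algebraMap C D s ≠ 0 := fun h => hψs0 (by rw [← hψ', h, map_zero])
    have hc0 : algebraMap C D c ≠ 0 := by
      intro h
      have : x * ψ s = 0 := by rw [hxs', ← hψ', h, map_zero]
      rcases mul_eq_zero.1 this with h1 | h1
      · exact hx0 h1
      · exact hψs0 h1
    obtain ⟨a, u, hu⟩ := IsDiscreteValuationRing.eq_unit_mul_pow_irreducible hs0 hπDirr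
    obtain ⟨b, u', hu'⟩ := IsDiscreteValuationRing.eq_unit_mul_pow_irreducible hc0 hπDirr
    have hs1 : ψ s = ψ' u * algebraMap V W π ^ a := by
      rw [← hψ', hu, map_mul, map_pow, hψ'V]
    have hc1 : ψ c = ψ' u' * algebraMap V W π ^ b := by
      rw [← hψ', hu', map_mul, map_pow, hψ'V]
    have h1 : x * (ψ' u * algebraMap V W π ^ a) = ψ' u' * algebraMap V W π ^ b := by
      rw [← hs1, ← hc1, hxs']
    rcases le_or_gt a b with hab | hab
    · refine ⟨u' * ↑u⁻¹ * algebraMap V D π ^ (b - a), ?_⟩
      have hua : IsUnit (ψ' u) := hψ'unit _ u.isUnit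
      have hpa : algebraMap V W π ^ a ≠ 0 := pow_ne_zero _ hπW0
      apply mul_right_cancel₀ (mul_ne_zero hua.ne_zero hpa)
      rw [h1, map_mul, map_mul, map_pow, hψ'V]
      have h3 : ψ' (↑u⁻¹ : D) * ψ' (u : D) = 1 := by
        rw [← map_mul, Units.inv_mul, map_one]
      have h4 : algebraMap V W π ^ b = algebraMap V W π ^ (b - a) * algebraMap V W π ^ a := by
        rw [← pow_add]; congr 1; omega
      rw [h4]
      linear_combination (ψ' ↑u' * algebraMap V W π ^ (b - a) * algebraMap V W π ^ a) * h3
    · exfalso
      -- then `π` would be a unit in `W`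
      have hua : IsUnit (ψ' u') := hψ'unit _ u'.isUnit
      have hpb : algebraMap V W π ^ b ≠ 0 := pow_ne_zero _ hπW0
      have h4 : algebraMap V W π ^ a = algebraMap V W π ^ (a - b - 1) * algebraMap V W π *
          algebraMap V W π ^ b := by
        rw [← pow_succ, ← pow_add]; congr 1; omega
      have h5 : (x * ψ' u * algebraMap V W π ^ (a - b - 1)) * algebraMap V W π = ψ' u' := by
        apply mul_right_cancel₀ hpb
        rw [← h1, h4]; ring
      have : IsUnit (algebraMap V W π) := by
        have h6 : IsUnit ((x * ψ' u * algebraMap V W π ^ (a - b - 1)) * algebraMap V W π) := by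
          rw [h5]; exact hua
        exact isUnit_of_mul_isUnit_right h6
      exact hgπm this
  have hsep : Algebra.IsSeparable (ResidueField V) (ResidueField W) := by
    haveI : Algebra.WeaklyEtale V C := inferInstance
    apply isSeparable_residue_of_gen V C W
    intro x
    obtain ⟨d, rfl⟩ := hψ'surj x
    obtain ⟨c, s, rfl⟩ := IsLocalization.exists_mk'_eq 𝔪.primeCompl d
    refine ⟨c, s, hunit s, ?_⟩
    rw [show algebraMap C W = ψ from rfl, ← hψ', ← hψ', ← map_mul, IsLocalization.mk'_spec]
  refine ⟨?_, hsep⟩
  show (maximalIdeal V).map (algebraMap V W) = maximalIdeal W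
  apply le_antisymm
  · rw [Ideal.map_le_iff_le_comap]
    intro v hv
    exact (W.valuation_lt_one_iff _).2 (hW.2 v hv)
  · intro x hx
    obtain ⟨d, rfl⟩ := hψ'surj x
    have hd : d ∈ maximalIdeal D := by
      by_contra h
      exact hx (hψ'unit d (notMem_maximalIdeal.mp h))
    rw [hmaxD, Ideal.mem_span_singleton] at hd
    obtain ⟨e, rfl⟩ := hd
    rw [map_mul, hψ'V]
    refine Ideal.mul_mem_right _ _ (Ideal.mem_map_of_mem _ ?_)
    rw [hπ.maximalIdeal_eq]
    exact Ideal.mem_span_singleton_self π

end Groth.Agent.H10.EtRamEtale
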