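import Mathlib
import Groth.Prelude.Def_EtRam
import Groth.Prelude.Def_SGA1
import Groth.Agent.H10.EtRamEtale
import Groth.Agent.H10.EtRamCompositum
import Groth.Agent.H10.Abhyankar2
import Groth.Agent.H72.AdjoinRootEtale

/-! Kummer extensions of the fraction field of a DVR are tamely ramified; the Kummer cover of a
regular local ring is tamely ramified along a regular system of parameters (S2924). -/

set_option autoImplicit false
set_option linter.style.haveILetI false
set_option linter.unusedSectionVars false
set_option linter.unusedVariables false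
set_option linter.overlappingInstances false
set_option linter.unusedSimpArgs false
universe u
open Polynomial IsLocalRing TensorProduct
open scoped IntermediateField

namespace Groth.Agent.H10.KummerTame

section General

variable (V : Type u) [CommRing V] [IsDomain V] [IsDiscreteValuationRing V]

/-- unramified implies tamely ramified. -/
theorem tame_of_unram {L : Type u} [Field L] (g : V →+* L) (hg : Function.Injective g)
    (h : EtRam.IsUnramifiedExt V g) : EtRam.IsTamelyRamified V g := by
  intro W hW
  letI algVW : Algebra V W := (RingHom.codRestrict g W hW.1).toAlgebra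
  intro hloc
  obtain ⟨hw, hs⟩ := h W hW
  refine ⟨hs, fun p hp hchar hdvd => ?_⟩
  have hw' : (maximalIdeal V).map (algebraMap V W) = maximalIdeal W := hw
  obtain ⟨π, hπ⟩ := IsDiscreteValuationRing.exists_irreducible V
  have hπW0 : algebraMap V W π ≠ 0 := by
    intro h0
    exact hπ.ne_zero (hg ((congrArg Subtype.val h0).trans (map_zero g).symm))
  have hmW : maximalIdeal W = Ideal.span {algebraMap V W π} := by
    rw [← hw', hπ.maximalIdeal_eq, Ideal.map_span, Set.image_singleton]
  have he : Ideal.ramificationIdx' (maximalIdeal V) (maximalIdeal W) = 1 := by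
    apply Ideal.ramificationIdx'_spec
    · rw [pow_one, hw']
    · rw [hw']
      intro hle
      have hmem : algebraMap V W π ∈ maximalIdeal W ^ (1 + 1) := hle (by
        rw [hmW]; exact Ideal.mem_span_singleton_self _)
      rw [hmW, Ideal.span_singleton_pow, Ideal.mem_span_singleton] at hmem
      obtain ⟨w, hw2⟩ := hmem
      have h1 : algebraMap V W π * (1 - algebraMap V W π * w) = 0 := by
        linear_combination hw2
      rcases mul_eq_zero.1 h1 with h2 | h2
      · exact hπW0 h2
      · have hu : IsUnit (algebraMap V W π) :=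
          IsUnit.of_mul_eq_one w (by linear_combination -h2)
        have hm : algebraMap V W π ∈ maximalIdeal W := by
          rw [hmW]; exact Ideal.mem_span_singleton_self _
        exact hm hu
  rw [he] at hdvd
  exact hp.one_lt.ne' (Nat.dvd_one.1 hdvd)

variable (C : Type u) [CommRing C] [Algebra V C] [Algebra.Etale V C] [Algebra.IsIntegral V C]
  (M : Type u) [Field M] (g : V →+* M) (φ : C →+* M)

/-- Lemma U with the generation hypothesis phrased via `Subfield.closure`. -/
theorem unram_of_etale_closure (hg : Function.Injective g) (hφ : φ.comp (algebraMap V C) = g)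
    (hgen : Subfield.closure (Set.range φ) = ⊤) : EtRam.IsUnramifiedExt V g := by
  apply EtRamEtale.unram_of_etale V C M g φ hg hφ
  intro x
  have hx : x ∈ Subfield.closure (Set.range φ) := by rw [hgen]; trivial
  rw [Subfield.mem_closure_iff] at hx
  obtain ⟨y, hy, z, hz, rfl⟩ := hx
  have hr : Subring.closure (Set.range φ) = φ.range := by
    rw [← RingHom.coe_range, Subring.closure_eq]
  rw [hr] at hy hz
  obtain ⟨c, rfl⟩ := hy
  obtain ⟨s, rfl⟩ := hz
  by_cases hs : φ s = 0
  · refine ⟨0, 1, by rw [map_one]; exact one_ne_zero, ?_⟩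
    rw [hs, div_zero, zero_mul, map_zero]
  · exact ⟨c, s, hs, div_mul_cancel₀ _ hs⟩

end General

section Single

variable (V : Type u) [CommRing V] [IsDomain V] [IsDiscreteValuationRing V]
  (K E : Type u) [Field K] [Algebra V K] [IsFractionRing V K] [Field E] [Algebra K E]

/-- generation of a simple extension by fractions of the image of a ring containing the
generator and the image of `V`. -/
theorem closure_eq_top_of_adjoin (C : Type u) [CommRing C] [Algebra V C] (φ : C →+* E)
    (hφ : φ.comp (algebraMap V C) = (algebraMap K E).comp (algebraMap V K))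
    (t : E) (ht : t ∈ Set.range φ) (hgen : IntermediateField.adjoin K {t} = ⊤) :
    Subfield.closure (Set.range φ) = ⊤ := by
  have hK : ∀ k : K, algebraMap K E k ∈ Subfield.closure (Set.range φ) := by
    intro k
    obtain ⟨a, b, hb, rfl⟩ := IsFractionRing.div_surjective (A := V) k
    rw [map_div₀]
    have h1 : ∀ v : V, algebraMap K E (algebraMap V K v) ∈ Subfield.closure (Set.range φ) := by
      intro v
      apply Subfield.subset_closure
      exact ⟨algebraMap V C v, by rw [← RingHom.comp_apply, hφ]; rfl⟩
    exact div_mem (h1 a) (h1 b)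
  let F : IntermediateField K E := (Subfield.closure (Set.range φ)).toIntermediateField hK
  have hle : IntermediateField.adjoin K {t} ≤ F := by
    rw [IntermediateField.adjoin_simple_le_iff]
    exact Subfield.subset_closure ht
  rw [hgen] at hle
  rw [eq_top_iff]
  intro x _
  exact hle (show x ∈ (⊤ : IntermediateField K E) from trivial)

theorem unram_kummer_unit (t : E) (n : ℕ) (hn : 1 ≤ n) (a : V) (ha : IsUnit a)
    (hnu : IsUnit ((n : ℕ) : V)) (ht : t ^ n = algebraMap K E (algebraMap V K a))
    (hgen : IntermediateField.adjoin K {t} = ⊤) :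
    EtRam.IsUnramifiedExt V ((algebraMap K E).comp (algebraMap V K)) := by
  set f : V[X] := X ^ n - C a with hf
  have hmonic : f.Monic := monic_X_pow_sub_C a (by omega)
  obtain ⟨a', ha'⟩ := ha.exists_right_inv
  obtain ⟨v, hv⟩ := hnu.exists_right_inv
  haveI : Algebra.Etale V (AdjoinRoot f) := by
    apply Groth.Agent.H72.etale_adjoinRoot_of_derivative f hmonic (C (v * a') * X) (- C a')
    obtain ⟨m, rfl⟩ : ∃ m, n = m + 1 := ⟨n - 1, by omega⟩
    rw [hf]
    simp only [derivative_sub, derivative_X_pow, derivative_C, sub_zero, Nat.add_sub_cancel]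
    have h1 : C (((m + 1 : ℕ) : V)) * X ^ m * (C (v * a') * X) =
        C ((((m + 1 : ℕ) : V) * v) * a') * X ^ (m + 1) := by
      simp only [C_mul]; ring
    have h2 : (X ^ (m + 1) - C a) * (- C a') = - C a' * X ^ (m + 1) + C (a * a') := by
      simp only [C_mul]; ring
    rw [h1, h2, hv, ha', one_mul, C_1]
    ring
  haveI : Module.Finite V (AdjoinRoot f) := hmonic.finite_adjoinRoot
  haveI : Algebra.IsIntegral V (AdjoinRoot f) := Algebra.IsIntegral.of_finite V _
  let g : V →+* E := (algebraMap K E).comp (algebraMap V K)
  have hroot : eval₂ g t f = 0 := by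
    rw [hf, eval₂_sub, eval₂_pow, eval₂_X, eval₂_C, ht]
    exact sub_self _
  let φ : AdjoinRoot f →+* E := AdjoinRoot.lift g t hroot
  have hφ : φ.comp (algebraMap V (AdjoinRoot f)) = g := by
    ext x
    simp only [φ, RingHom.comp_apply, AdjoinRoot.algebraMap_eq, AdjoinRoot.lift_of]
  have hg : Function.Injective g :=
    (algebraMap K E).injective.comp (IsFractionRing.injective V K)
  apply unram_of_etale_closure V (AdjoinRoot f) E g φ hg hφ
  apply closure_eq_top_of_adjoin V K E (AdjoinRoot f) φ hφ t ?_ hgen
  exact ⟨AdjoinRoot.root f, AdjoinRoot.lift_root hroot⟩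

theorem tame_kummer_unif [FiniteDimensional K E] [Algebra.IsSeparable K E] (t : E) (n : ℕ)
    (hn : 1 ≤ n) (π : V) (hπ : Irreducible π) (hnκ : ((n : ℕ) : ResidueField V) ≠ 0)
    (ht : t ^ n = algebraMap K E (algebraMap V K π))
    (hgen : IntermediateField.adjoin K {t} = ⊤) :
    EtRam.IsTamelyRamified V ((algebraMap K E).comp (algebraMap V K)) := by
  letI algVE : Algebra V E := ((algebraMap K E).comp (algebraMap V K)).toAlgebra
  haveI : IsScalarTower V K E := .of_algebraMap_eq (fun _ => rfl)
  have hroot : eval₂ (algebraMap V E) t (X ^ n - C π : V[X]) = 0 := by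
    rw [eval₂_sub, eval₂_pow, eval₂_X, eval₂_C, ht]
    exact sub_self _
  letI algA'E : Algebra (AdjoinRoot (X ^ n - C π : V[X])) E :=
    (AdjoinRoot.lift (algebraMap V E) t hroot).toAlgebra
  have hcompat : (algebraMap (AdjoinRoot (X ^ n - C π : V[X])) E).comp
      (AdjoinRoot.of (X ^ n - C π)) = (algebraMap K E).comp (algebraMap V K) := by
    ext x
    show AdjoinRoot.lift (algebraMap V E) t hroot (AdjoinRoot.of _ x) = _
    rw [AdjoinRoot.lift_of]
    rfl
  show EtRam.IsTamelyRamified V (algebraMap V E)
  refine Abhyankar.reverse_core (A := V) (K := K) (L := E) π n E hπ hn hnκ hcompat ?_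
  intro hloc
  haveI := ARDvr.isDomain' hπ hn
  haveI := ARDvr.isDVR hπ hn
  have hinj := Abhyankar.injective_algebraMap (A := V) (K := K) π n E hπ hn hcompat
  apply unram_of_etale_closure (AdjoinRoot (X ^ n - C π : V[X])) (AdjoinRoot (X ^ n - C π : V[X]))
    E (algebraMap _ E) (algebraMap _ E) hinj (RingHom.ext fun x => rfl)
  apply closure_eq_top_of_adjoin V K E (AdjoinRoot (X ^ n - C π : V[X])) (algebraMap _ E)
    hcompat t ?_ hgen
  exact ⟨AdjoinRoot.root _, AdjoinRoot.lift_root hroot⟩

end Single

section Multi

variable (V : Type u) [CommRing V] [IsDomain V] [IsDiscreteValuationRing V]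
  (K M : Type u) [Field K] [Algebra V K] [IsFractionRing V K] [Field M] [Algebra K M]

theorem adjoin_gen_eq_top (t : M) :
    IntermediateField.adjoin K {IntermediateField.AdjoinSimple.gen K t} = ⊤ := by
  rw [eq_top_iff]
  rintro ⟨x, hx⟩ -
  rw [IntermediateField.mem_adjoin_simple_iff] at hx ⊢
  obtain ⟨r, s, h⟩ := hx
  refine ⟨r, s, Subtype.ext ?_⟩
  show x = _
  rw [h]
  simp [IntermediateField.AdjoinSimple.coe_gen]

open Groth.Agent.H10.GalClosureProp Groth.Agent.H10.EtRamComp in
theorem kummer_tame {ι : Type} [Fintype ι] (t : ι → M) (n : ι → ℕ) (a : ι → V) (i₀ : ι)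
    (hn : ∀ k, 1 ≤ n k) (hnu : ∀ k, IsUnit ((n k : ℕ) : V))
    (ht : ∀ k, t k ^ n k = algebraMap K M (algebraMap V K (a k)))
    (hπ : Irreducible (a i₀)) (ha : ∀ k, k ≠ i₀ → IsUnit (a k))
    (hgen : IntermediateField.adjoin K (Set.range t) = ⊤) :
    EtRam.IsTamelyRamified V ((algebraMap K M).comp (algebraMap V K)) := by
  classical
  have hnK : ∀ k, ((n k : ℕ) : K) ≠ 0 := by
    intro k
    have := ((hnu k).map (algebraMap V K)).ne_zero
    rwa [map_natCast] at this
  have ha0 : ∀ k, algebraMap V K (a k) ≠ 0 := by
    intro k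
    have h0 : a k ≠ 0 := by
      by_cases hk : k = i₀
      · rw [hk]; exact hπ.ne_zero
      · exact (ha k hk).ne_zero
    exact fun h => h0 (IsFractionRing.injective V K (h.trans (map_zero _).symm))
  have hroot : ∀ k, aeval (t k) (X ^ n k - C (algebraMap V K (a k)) : K[X]) = 0 := by
    intro k
    rw [map_sub, map_pow, aeval_X, aeval_C, ht]
    exact sub_self _
  have hsep : ∀ k, IsSeparable K (t k) := by
    intro k
    exact (separable_X_pow_sub_C _ (hnK k) (ha0 k)).of_dvd (minpoly.dvd K (t k) (hroot k))
  have hint : ∀ k, IsIntegral K (t k) := fun k => (hsep k).isIntegral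
  let f : ι → IntermediateField K M := fun k => K⟮t k⟯
  have hfin : ∀ k, FiniteDimensional K (f k) := fun k =>
    IntermediateField.adjoin.finiteDimensional (hint k)
  have hsepf : ∀ k, Algebra.IsSeparable K (f k) := fun k =>
    (IntermediateField.isSeparable_adjoin_simple_iff_isSeparable K M).2 (hsep k)
  have hP : ∀ k, EtRam.IsTamelyRamified V ((algebraMap K (f k)).comp (algebraMap V K)) := by
    intro k
    haveI := hfin k
    haveI := hsepf k
    have htk : (IntermediateField.AdjoinSimple.gen K (t k)) ^ n k =
        algebraMap K (f k) (algebraMap V K (a k)) := by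
      apply Subtype.ext
      show (t k) ^ n k = _
      rw [ht]
      rfl
    by_cases hk : k = i₀
    · have hnκ : ((n k : ℕ) : ResidueField V) ≠ 0 := by
        have := ((hnu k).map (residue V)).ne_zero
        rwa [map_natCast] at this
      exact tame_kummer_unif V K (f k) (IntermediateField.AdjoinSimple.gen K (t k)) (n k) (hn k)
        (a k) (hk ▸ hπ) hnκ htk (adjoin_gen_eq_top K M (t k))
    · apply tame_of_unram V _
        ((algebraMap K (f k)).injective.comp (IsFractionRing.injective V K))
      exact unram_kummer_unit V K (f k) (IntermediateField.AdjoinSimple.gen K (t k)) (n k) (hn k)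
        (a k) (ha k hk) (hnu k) htk (adjoin_gen_eq_top K M (t k))
  obtain ⟨h1, h2, h3⟩ := finset_sup (P := fun E _ _ =>
    EtRam.IsTamelyRamified V ((algebraMap K E).comp (algebraMap V K)))
    (compHyp_tame V K) f hfin hsepf hP Finset.univ ⟨i₀, Finset.mem_univ _⟩
  have htop : (Finset.univ : Finset ι).sup f = ⊤ := by
    rw [Finset.sup_univ_eq_iSup, ← hgen, ← Set.iUnion_singleton_eq_range,
      IntermediateField.adjoin_iUnion]
  rw [htop] at h1 h2 h3
  haveI := h1
  haveI := h2
  exact of_algEquiv (P := fun E _ _ =>
    EtRam.IsTamelyRamified V ((algebraMap K E).comp (algebraMap V K)))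
    (subHyp_tame V K) M ↥(⊤ : IntermediateField K M) IntermediateField.topEquiv.symm h3

end Multi

section Regular

variable (A : Type u) [CommRing A] [IsLocalRing A] [IsNoetherianRing A] [IsDomain A]

/-- elements of the maximal ideal with linearly independent cotangent classes do not divide
each other. -/
theorem not_dvd_of_linearIndependent {r : ℕ} (f : Fin r → A)
    (hm : ∀ i, f i ∈ maximalIdeal A)
    (hf : LinearIndependent (ResidueField A) (fun i => (maximalIdeal A).toCotangent ⟨f i, hm i⟩))
    (i k : Fin r) (hki : k ≠ i) : ¬ f i ∣ f k := by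
  rintro ⟨c, hc⟩
  have h1 : (⟨f k, hm k⟩ : maximalIdeal A) = c • ⟨f i, hm i⟩ := by
    apply Subtype.ext
    show f k = c • f i
    rw [hc, smul_eq_mul, mul_comm]
  have h2 : (maximalIdeal A).toCotangent ⟨f k, hm k⟩ =
      (residue A c) • (maximalIdeal A).toCotangent ⟨f i, hm i⟩ := by
    rw [h1, map_smul]
    rfl
  have h3 := hf.notMem_span_image (s := {i}) (x := k) (by simpa using hki)
  apply h3
  rw [Set.image_singleton, Submodule.mem_span_singleton]
  exact ⟨residue A c, h2.symm⟩

theorem ne_zero_of_linearIndependent {r : ℕ} (f : Fin r → A)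
    (hm : ∀ i, f i ∈ maximalIdeal A)
    (hf : LinearIndependent (ResidueField A) (fun i => (maximalIdeal A).toCotangent ⟨f i, hm i⟩))
    (i : Fin r) : f i ≠ 0 := by
  intro h0
  apply hf.ne_zero i
  have : (⟨f i, hm i⟩ : maximalIdeal A) = 0 := Subtype.ext h0
  rw [this, map_zero]

end Regular

section Main

variable (A : Type u) [CommRing A] [IsNoetherianRing A] [IsDomain A]

theorem isDomain_localization (P : Ideal A) [P.IsPrime] : IsDomain (Localization.AtPrime P) :=
  IsLocalization.isDomain_localization P.primeCompl_le_nonZeroDivisors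

theorem maximalIdeal_localization (p : A) [(Ideal.span {p}).IsPrime] :
    maximalIdeal (Localization.AtPrime (Ideal.span {p})) =
      Ideal.span {algebraMap A (Localization.AtPrime (Ideal.span {p})) p} := by
  rw [← Localization.AtPrime.map_eq_maximalIdeal, Ideal.map_span, Set.image_singleton]

theorem isDVR_localization (p : A) (hp0 : p ≠ 0) [(Ideal.span {p}).IsPrime] :
    haveI := isDomain_localization A (Ideal.span {p})
    IsDiscreteValuationRing (Localization.AtPrime (Ideal.span {p})) := by
  haveI := isDomain_localization A (Ideal.span {p})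
  haveI : IsNoetherianRing (Localization.AtPrime (Ideal.span {p})) :=
    IsLocalization.isNoetherianRing (Ideal.span {p}).primeCompl _ inferInstance
  have hinj : Function.Injective (algebraMap A (Localization.AtPrime (Ideal.span {p}))) :=
    IsLocalization.injective _ (Ideal.span {p}).primeCompl_le_nonZeroDivisors
  have hnf : ¬ IsField (Localization.AtPrime (Ideal.span {p})) := by
    rw [IsLocalRing.isField_iff_maximalIdeal_eq, maximalIdeal_localization,
      Ideal.span_singleton_eq_bot]
    exact fun h => hp0 (hinj (h.trans (map_zero _).symm))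
  refine ((IsDiscreteValuationRing.TFAE _ hnf).out 0 4).2 ?_
  rw [maximalIdeal_localization]
  exact ⟨⟨_, rfl⟩⟩

end Main

section Main2

variable (A : Type u) [CommRing A] [IsDomain A] (P : Ideal A) [P.IsPrime]
  [IsDomain (Localization.AtPrime P)] [IsDiscreteValuationRing (Localization.AtPrime P)]
  (r : ℕ) (f : Fin r → A) (n : Fin r → ℕ) (q : Ideal (SGA1.kummerAlg A f n)) [q.IsPrime]
  (hq : Ideal.comap (algebraMap A (SGA1.kummerAlg A f n)) q = ⊥)

local notation "V" => Localization.AtPrime P
local notation "B" => SGA1.kummerAlg A f n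
local notation "M" => Ideal.ResidueField q
local notation "g" => SGA1.genericResidueMap (algebraMap A (SGA1.kummerAlg A f n)) P q hq

theorem g_algebraMap (a : A) : g (algebraMap A V a) = algebraMap B M (algebraMap A B a) :=
  IsLocalization.lift_eq _ _

theorem g_injective : Function.Injective g := by
  rw [injective_iff_map_eq_zero]
  intro v hv
  obtain ⟨a, s, rfl⟩ := IsLocalization.exists_mk'_eq P.primeCompl v
  have h1 : g (algebraMap A V a) = 0 := by
    rw [← IsLocalization.mk'_spec V a s, map_mul, hv, zero_mul]
  rw [g_algebraMap] at h1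
  have h2 : algebraMap A B a ∈ q := by
    rwa [← Ideal.ker_algebraMap_residueField q, RingHom.mem_ker]
  have h3 : a ∈ Ideal.comap (algebraMap A B) q := h2
  rw [hq, Ideal.mem_bot] at h3
  rw [h3, IsLocalization.mk'_zero]

theorem tame_aux (K : Type u) [Field K] [Algebra (Localization.AtPrime P) K]
    [IsFractionRing (Localization.AtPrime P) K] (i : Fin r) (hn : ∀ k, 1 ≤ n k) (hnu : ∀ k, IsUnit ((n k : ℕ) : A))
    (hπ : Irreducible (algebraMap A V (f i))) (ha : ∀ k, k ≠ i → f k ∉ P) :
    EtRam.IsTamelyRamified V g := by
  have hg := g_injective A P r f n q hq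
  letI algKM : Algebra K M := (IsFractionRing.lift hg).toAlgebra
  have hgK0 : ∀ v, IsFractionRing.lift hg (algebraMap V K v) = g v :=
    fun v => IsFractionRing.lift_algebraMap hg v
  have hgK1 : ∀ v, algebraMap K M (algebraMap V K v) = g v := hgK0
  have hgK : g = (algebraMap K M).comp (algebraMap V K) := by
    refine RingHom.ext (fun v => ?_)
    rw [RingHom.comp_apply]
    exact (hgK1 v).symm
  rw [hgK]
  let t : Fin r → M := fun k => algebraMap B M (Ideal.Quotient.mk _ (MvPolynomial.X k))
  have hAM : ∀ a : A, algebraMap K M (algebraMap V K (algebraMap A V a)) =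
      algebraMap B M (algebraMap A B a) := by
    intro a
    rw [← g_algebraMap A P r f n q hq, hgK1]
  apply kummer_tame V K M t n (fun k => algebraMap A V (f k)) i hn
  · intro k
    have := (hnu k).map (algebraMap A V)
    rwa [map_natCast] at this
  · intro k
    rw [hAM]
    show (algebraMap B M (Ideal.Quotient.mk _ (MvPolynomial.X k))) ^ n k = _
    rw [← map_pow, ← map_pow]
    congr 1
    have h1 : algebraMap A B (f k) = Ideal.Quotient.mk _ (MvPolynomial.C (f k)) := rfl
    rw [h1, ← sub_eq_zero, ← map_sub, Ideal.Quotient.eq_zero_iff_mem]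
    exact Ideal.subset_span ⟨k, rfl⟩
  · exact hπ
  · intro k hk
    exact IsLocalization.map_units V (⟨f k, ha k hk⟩ : P.primeCompl)
  · rw [eq_top_iff]
    intro x _
    have hB : ∀ b : B, algebraMap B M b ∈ IntermediateField.adjoin K (Set.range t) := by
      intro b
      obtain ⟨p, rfl⟩ := Ideal.Quotient.mk_surjective b
      induction p using MvPolynomial.induction_on with
      | C a =>
        have : algebraMap B M (Ideal.Quotient.mk _ (MvPolynomial.C a)) =
            algebraMap K M (algebraMap V K (algebraMap A V a)) := (hAM a).symm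
        rw [this]
        exact IntermediateField.algebraMap_mem _ _
      | add p q hp hq =>
        rw [map_add, map_add]
        exact add_mem hp hq
      | mul_X p k hp =>
        rw [map_mul, map_mul]
        exact mul_mem hp (IntermediateField.subset_adjoin K _ ⟨k, rfl⟩)
    obtain ⟨b, s, hs, rfl⟩ := IsFractionRing.div_surjective (A := B ⧸ q) x
    obtain ⟨b, rfl⟩ := Ideal.Quotient.mk_surjective b
    obtain ⟨s, rfl⟩ := Ideal.Quotient.mk_surjective s
    rw [Ideal.algebraMap_quotient_residueField_mk, Ideal.algebraMap_quotient_residueField_mk]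
    exact div_mem (hB b) (hB s)

end Main2

section Main3

variable (A : Type u) [CommRing A] [IsNoetherianRing A] [IsDomain A] [IsLocalRing A]

theorem kummer_cover_tame (r : ℕ) (f : Fin r → A)
    (hm : ∀ i, f i ∈ maximalIdeal A)
    (hf : LinearIndependent (ResidueField A) (fun i => (maximalIdeal A).toCotangent ⟨f i, hm i⟩))
    [∀ i, (Ideal.span {f i}).IsPrime] (n : Fin r → ℕ) (hn : ∀ i, 1 ≤ n i)
    (hu : ∀ i, IsUnit ((n i : ℕ) : ResidueField A)) :
    SGA1.IsTameAlong f (algebraMap A (SGA1.kummerAlg A f n)) := by
  intro i q _ hq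
  have hfi0 := ne_zero_of_linearIndependent A f hm hf i
  haveI : IsDomain (Localization.AtPrime (Ideal.span {f i})) :=
    isDomain_localization A (Ideal.span {f i})
  haveI : IsDiscreteValuationRing (Localization.AtPrime (Ideal.span {f i})) :=
    isDVR_localization A (f i) hfi0
  apply tame_aux A (Ideal.span {f i}) r f n q hq (FractionRing A) i hn
  · intro k
    have : IsUnit (residue A ((n k : ℕ) : A)) := by rw [map_natCast]; exact hu k
    exact isUnit_of_map_unit (residue A) _ this
  · exact (IsDiscreteValuationRing.irreducible_iff_uniformizer _).2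
      (maximalIdeal_localization A (f i))
  · intro k hk
    have hnd := not_dvd_of_linearIndependent A f hm hf i k hk
    rwa [Ideal.mem_span_singleton]

end Main3

end Groth.Agent.H10.KummerTame
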