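import Mathlib
import Groth.Prelude.Def_EtRam
import Groth.Agent.H10.AS1
import Groth.Agent.H10.KummerTame

set_option autoImplicit false
set_option linter.style.haveILetI false
set_option linter.unusedSectionVars false
set_option linter.unusedVariables false
universe u
open Polynomial IsLocalRing
open scoped IntermediateField

namespace Groth.Agent.H10.AS

section CaseA

variable (p : ℕ) [hpf : Fact p.Prime] (A K L : Type u) [CommRing A] [IsDomain A]
  [IsDiscreteValuationRing A] [Field K] [Algebra A K] [IsFractionRing A K] [Field L] [Algebra K L]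
  [Algebra A L] [IsScalarTower A K L] [CharP K p] (z : L) (a : A)
  (hz : z ^ p - z = algebraMap K L (algebraMap A K a))
  (hgen : IntermediateField.adjoin K {z} = ⊤)

include K in
theorem charP_A : CharP A p := RingHom.charP (algebraMap A K) (IsFractionRing.injective A K) p

include hz hgen in
theorem unram_of_mem : EtRam.IsUnramifiedExt A (algebraMap A L) := by
  haveI := charP_A p A K
  have hmonic : (f p A a).Monic := f_monic p A a
  haveI : Algebra.Etale A (AdjoinRoot (f p A a)) := by
    apply Groth.Agent.H72.etale_adjoinRoot_of_derivative (f p A a) hmonic (-1) 0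
    rw [derivative_f]
    ring
  haveI : Module.Finite A (AdjoinRoot (f p A a)) := hmonic.finite_adjoinRoot
  haveI : Algebra.IsIntegral A (AdjoinRoot (f p A a)) := Algebra.IsIntegral.of_finite A _
  have hroot : eval₂ (algebraMap A L) z (f p A a) = 0 := by
    unfold f
    rw [eval₂_sub, eval₂_sub, eval₂_pow, eval₂_X, eval₂_C, hz,
      ← IsScalarTower.algebraMap_apply A K L]
    exact sub_self _
  let ψ : AdjoinRoot (f p A a) →+* L := AdjoinRoot.lift (algebraMap A L) z hroot
  have hψ : ψ.comp (algebraMap A (AdjoinRoot (f p A a))) = algebraMap A L := by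
    ext x
    simp only [ψ, RingHom.comp_apply, AdjoinRoot.algebraMap_eq, AdjoinRoot.lift_of]
  have hψ' : ψ.comp (algebraMap A (AdjoinRoot (f p A a))) =
      (algebraMap K L).comp (algebraMap A K) := by
    rw [hψ, IsScalarTower.algebraMap_eq A K L]
  have hg : Function.Injective (algebraMap A L) := by
    rw [IsScalarTower.algebraMap_eq A K L]
    exact (algebraMap K L).injective.comp (IsFractionRing.injective A K)
  apply KummerTame.unram_of_etale_closure A (AdjoinRoot (f p A a)) L (algebraMap A L) ψ hg hψ
  apply KummerTame.closure_eq_top_of_adjoin A K L (AdjoinRoot (f p A a)) ψ hψ' z ?_ hgen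
  exact ⟨AdjoinRoot.root _, AdjoinRoot.lift_root hroot⟩

end CaseA

end Groth.Agent.H10.AS
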