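import Mathlib
import Groth.Prelude.Def_EtRam
import Groth.Agent.H10.AS11
import Groth.Agent.H10.AS2

set_option autoImplicit false
set_option linter.style.haveILetI false
set_option linter.unusedSectionVars false
set_option linter.unusedVariables false
universe u
open Polynomial IsLocalRing
open scoped IntermediateField

namespace Groth.Agent.H10.AS

section CaseC6

variable (p : ℕ) [hpf : Fact p.Prime] (A K L : Type u) [CommRing A] [IsDomain A]
  [IsDiscreteValuationRing A] [Field K] [Algebra A K] [IsFractionRing A K] [Field L] [Algebra K L]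
  [Algebra A L] [IsScalarTower A K L] [CharP K p] (π : A) (hπ : Irreducible π)
  (ξ : K) (z : L) (hz : z ^ p - z = algebraMap K L ξ)
  (hgen : IntermediateField.adjoin K {z} = ⊤)
  (n : ℕ) (a : A) (m : ℕ) (hm : 0 < m) (hnm : n = p * m)
  (ha : ∀ r : A, residue A a ≠ residue A r ^ p)
  (hξ : ξ * algebraMap A K π ^ n = algebraMap A K a)
  (W : ValuationSubring L) (hW : EtRam.Dominates A (algebraMap A L) W)
  [Algebra A W] [IsLocalHom (algebraMap A W)]
  (hAW : ∀ a : A, ((algebraMap A W a : W) : L) = algebraMap A L a)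

include K in
theorem charP_residue : CharP (ResidueField A) p := by
  haveI := charP_A p A K
  rw [CharP.charP_iff_prime_eq_zero hpf.out]
  have : ((p : ℕ) : ResidueField A) = residue A ((p : ℕ) : A) := (map_natCast _ _).symm
  rw [this, CharP.cast_eq_zero, map_zero]

include hπ hz hm hnm hξ hW ha hAW hgen in
theorem adjoin_ybar_eq_top :
    Algebra.adjoin (ResidueField A) {ybar p A K L π hπ ξ z hz n a m hm hnm hξ W hW} = ⊤ := by
  rw [eq_top_iff]
  intro r _
  obtain ⟨x, rfl⟩ := IsLocalRing.residue_surjective r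
  obtain ⟨d, hd⟩ := exists_repr_W p A K L π hπ ξ z hz hgen n a m hm hnm ha hξ W hW hAW x
  rw [hd, map_sum]
  apply sum_mem
  intro j _
  rw [map_mul, map_pow]
  apply mul_mem
  · have : residue W (algebraMap A W (d j)) =
        algebraMap (ResidueField A) (ResidueField W) (residue A (d j)) := rfl
    rw [this]
    exact Subalgebra.algebraMap_mem _ _
  · exact pow_mem (Algebra.subset_adjoin (Set.mem_singleton _)) j

include hAW in
theorem isIntegral_ybar :
    IsIntegral (ResidueField A) (ybar p A K L π hπ ξ z hz n a m hm hnm hξ W hW) := by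
  refine ⟨X ^ p - C (residue A a), monic_X_pow_sub_C _ hpf.out.ne_zero, ?_⟩
  rw [← aeval_def, map_sub, map_pow, aeval_X, aeval_C,
    ybar_pow p A K L π hπ ξ z hz n a m hm hnm hξ W hW hAW, sub_self]

include hπ hz hm hnm hξ hW ha hAW hgen in
theorem finrank_residue_C : Module.finrank (ResidueField A) (ResidueField W) = p := by
  let pb := PowerBasis.ofAdjoinEqTop
    (isIntegral_ybar p A K L π hπ ξ z hz n a m hm hnm hξ W hW hAW)
    (adjoin_ybar_eq_top p A K L π hπ ξ z hz hgen n a m hm hnm ha hξ W hW hAW)
  rw [pb.finrank]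
  show (minpoly (ResidueField A) (ybar p A K L π hπ ξ z hz n a m hm hnm hξ W hW)).natDegree = p
  rw [minpoly_ybar p A K L π hπ ξ z hz n a m hm hnm ha hξ W hW hAW,
    natDegree_X_pow_sub_C]

include hπ hz hm hnm hξ hW ha hAW hgen in
theorem isPurelyInseparable_C :
    IsPurelyInseparable (ResidueField A) (ResidueField W) := by
  haveI := charP_residue p A K
  haveI : ExpChar (ResidueField A) p := ExpChar.prime hpf.out
  haveI : CharP (ResidueField W) p :=
    charP_of_injective_algebraMap (algebraMap (ResidueField A) (ResidueField W)).injective p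
  rw [isPurelyInseparable_iff_pow_mem (ResidueField A) p]
  intro r
  refine ⟨1, ?_⟩
  rw [pow_one]
  have hr : r ∈ Algebra.adjoin (ResidueField A)
      {ybar p A K L π hπ ξ z hz n a m hm hnm hξ W hW} := by
    rw [adjoin_ybar_eq_top p A K L π hπ ξ z hz hgen n a m hm hnm ha hξ W hW hAW]; trivial
  induction hr using Algebra.adjoin_induction with
  | mem x hx =>
    rw [Set.mem_singleton_iff] at hx
    rw [hx, ybar_pow p A K L π hπ ξ z hz n a m hm hnm hξ W hW hAW]
    exact ⟨_, rfl⟩
  | algebraMap c => exact ⟨c ^ p, by rw [map_pow]⟩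
  | add x y _ _ hx hy =>
    rw [add_pow_char]
    exact add_mem hx hy
  | mul x y _ _ hx hy =>
    rw [mul_pow]
    exact mul_mem hx hy

end CaseC6

end Groth.Agent.H10.AS
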