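import Mathlib
import Groth.Prelude.Def_EtRam
import Groth.Agent.H10.AS1
import Groth.Agent.H10.AS3
import Groth.Agent.H10.AS4

set_option autoImplicit false
set_option linter.style.haveILetI false
set_option linter.unusedSectionVars false
set_option linter.unusedVariables false
universe u
open Polynomial IsLocalRing
open scoped IntermediateField

namespace Groth.Agent.H10.AS

section CaseB

variable (p : ℕ) [hpf : Fact p.Prime] (A K L : Type u) [CommRing A] [IsDomain A]
  [IsDiscreteValuationRing A] [Field K] [Algebra A K] [IsFractionRing A K] [Field L] [Algebra K L]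
  [Algebra A L] [IsScalarTower A K L] [CharP K p] (π : A) (hπ : Irreducible π)
  (ξ : K) (z : L) (hz : z ^ p - z = algebraMap K L ξ)
  (n : ℕ) (a : Aˣ) (hn : 0 < n) (hpn : ¬ p ∣ n)
  (hξ : ξ * algebraMap A K π ^ n = algebraMap A K a)
  (W : ValuationSubring L) (hW : EtRam.Dominates A (algebraMap A L) W)

include hπ hξ in
theorem xi_eq : ξ = algebraMap A K π ^ (-(n : ℤ)) * algebraMap A K a := by
  have hπK : algebraMap A K π ≠ 0 := fun h =>
    hπ.ne_zero (IsFractionRing.injective A K (h.trans (map_zero _).symm))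
  rw [← hξ, zpow_neg, zpow_natCast]
  field_simp

include hπ hξ hW in
theorem v_xi : W.valuation (algebraMap K L ξ) = W.valuation (algebraMap A L π) ^ (-(n : ℤ)) :=
  v_algebraMap A K L π W hW ξ (-(n : ℤ)) a (xi_eq A K π hπ ξ n a hξ)

include hπ hξ hW hn in
theorem one_lt_v_xi : 1 < W.valuation (algebraMap K L ξ) := by
  rw [v_xi A K L π hπ ξ n a hξ W hW]
  have := (zpow_lt_zpow_iff_right_of_lt_one₀ (v_pi_pos A K L π hπ W)
    (v_pi_lt_one A L π hπ W hW) (m := 0) (n := -(n : ℤ))).2 (by omega)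
  rwa [zpow_zero] at this

include hπ hξ hW hn hz in
theorem one_lt_v_z : 1 < W.valuation z := by
  by_contra hle
  push Not at hle
  have h1 : W.valuation (z ^ p - z) ≤ 1 := by
    apply Valuation.map_sub_le
    · rw [map_pow]; exact pow_le_one' hle p
    · exact hle
  rw [hz] at h1
  exact not_le.2 (one_lt_v_xi A K L π hπ ξ n a hn hξ W hW) h1

include hπ hξ hW hn hz in
theorem v_z_pow : W.valuation z ^ p = W.valuation (algebraMap A L π) ^ (-(n : ℤ)) := by
  have h1 := one_lt_v_z p A K L π hπ ξ z hz n a hn hξ W hW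
  have h2 : W.valuation z < W.valuation (z ^ p) := by
    rw [map_pow]
    calc W.valuation z = W.valuation z ^ 1 := (pow_one _).symm
      _ < W.valuation z ^ p := pow_lt_pow_right₀ h1 hpf.out.one_lt
  rw [← v_xi A K L π hπ ξ n a hξ W hW, ← hz, Valuation.map_sub_eq_of_lt_left _ h2, map_pow]

include hπ hξ hW hn hz in
theorem v_term_pow (c : K) (k : ℤ) (u : Aˣ)
    (hc : c = algebraMap A K π ^ k * algebraMap A K u) (j : ℕ) :
    W.valuation (algebraMap K L c * z ^ j) ^ p =
      W.valuation (algebraMap A L π) ^ ((p : ℤ) * k - (n : ℤ) * j) := by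
  have h0 : W.valuation (algebraMap A L π) ≠ 0 := (v_pi_pos A K L π hπ W).ne'
  rw [map_mul, mul_pow, v_algebraMap A K L π W hW c k u hc, map_pow, ← pow_mul, mul_comm j p,
    pow_mul, v_z_pow p A K L π hπ ξ z hz n a hn hξ W hW, ← zpow_natCast, ← zpow_mul,
    ← zpow_natCast, ← zpow_mul, ← zpow_add₀ h0]
  congr 1
  ring

include hπ hξ hW hn hz hpn in
theorem v_term_ne (c c' : K) (hc : c ≠ 0) (hc' : c' ≠ 0) (j j' : ℕ) (hj : j < p) (hj' : j' < p)
    (hjj' : j ≠ j') :
    W.valuation (algebraMap K L c * z ^ j) ≠ W.valuation (algebraMap K L c' * z ^ j') := by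
  intro heq
  obtain ⟨k, u, hku⟩ := exists_zpow_unit A K π hπ c hc
  obtain ⟨k', u', hku'⟩ := exists_zpow_unit A K π hπ c' hc'
  have h1 := v_term_pow p A K L π hπ ξ z hz n a hn hξ W hW c k u hku j
  have h2 := v_term_pow p A K L π hπ ξ z hz n a hn hξ W hW c' k' u' hku' j'
  rw [heq, h2] at h1
  have h3 := zpow_right_injective₀ (v_pi_pos A K L π hπ W)
    (ne_of_lt (v_pi_lt_one A L π hπ W hW)) h1
  have h4 : (p : ℤ) ∣ (n : ℤ) * ((j : ℤ) - j') := ⟨k - k', by linarith⟩
  have hpz : Prime (p : ℤ) := Nat.prime_iff_prime_int.1 hpf.out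
  rcases hpz.dvd_or_dvd h4 with h5 | h5
  · exact hpn (Int.natCast_dvd_natCast.1 h5)
  · have h6 : |(j : ℤ) - j'| < p := by
      rw [abs_lt]; constructor <;> omega
    have := Int.eq_zero_of_abs_lt_dvd h5 h6
    omega

include hπ hξ hW hn hz hpn in
theorem z_notMem_range : z ∉ Set.range (algebraMap K L) := by
  rintro ⟨c, hc⟩
  have hc0 : c ≠ 0 := by
    rintro rfl
    have := one_lt_v_z p A K L π hπ ξ z hz n a hn hξ W hW
    rw [← hc, map_zero, map_zero] at this
    exact not_lt.2 zero_le this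
  have := v_term_ne p A K L π hπ ξ z hz n a hn hpn hξ W hW c 1 hc0 one_ne_zero 0 1
    hpf.out.pos hpf.out.one_lt zero_ne_one
  apply this
  rw [pow_zero, mul_one, map_one, one_mul, pow_one, hc]

include hπ hξ hW hn hz in
theorem term_mem_iff (c : K) (j : ℕ) :
    algebraMap K L c * z ^ j ∈ W ↔ ∃ a' : A, algebraMap A K a' = c ^ p * ξ ^ j := by
  rw [← mem_iff A K L π hπ W hW, ← W.valuation_le_one_iff, ← W.valuation_le_one_iff,
    ← pow_le_one_iff (M := W.ValueGroup) hpf.out.ne_zero]
  have h1 : W.valuation z ^ p = W.valuation (algebraMap K L ξ) := by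
    rw [v_z_pow p A K L π hπ ξ z hz n a hn hξ W hW, v_xi A K L π hπ ξ n a hξ W hW]
  have h2 : W.valuation (algebraMap K L c * z ^ j) ^ p =
      W.valuation (algebraMap K L (c ^ p * ξ ^ j)) := by
    rw [map_mul, mul_pow, map_pow, ← pow_mul, mul_comm j p, pow_mul, h1, map_mul, map_pow,
      map_pow, map_mul, map_pow, map_pow]
  rw [h2]

end CaseB

end Groth.Agent.H10.AS
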