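import Mathlib
import Groth.Prelude.Def_EtRam
import Groth.Agent.H10.AS2
import Groth.Agent.H10.AS6
import Groth.Agent.H10.AS12

set_option autoImplicit false
set_option linter.style.haveILetI false
set_option linter.unusedSectionVars false
set_option linter.unusedVariables false
universe u
open Polynomial IsLocalRing
open scoped IntermediateField

namespace Groth.Agent.H10.AS

/-- Case (4): a unique dominating valuation ring, weakly unramified, with purely inseparable residue
field extension of degree `p`. -/
def Case4 (p : ℕ) (A L : Type u) [CommRing A] [IsDomain A] [IsDiscreteValuationRing A] [Field L]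
    [Algebra A L] : Prop :=
  (∃ V : ValuationSubring L, EtRam.Dominates A (algebraMap A L) V) ∧
    (∀ V V' : ValuationSubring L, EtRam.Dominates A (algebraMap A L) V →
      EtRam.Dominates A (algebraMap A L) V' → V = V') ∧
    ∀ (V : ValuationSubring L) (h : EtRam.Dominates A (algebraMap A L) V),
      letI : Algebra A V := (RingHom.codRestrict (algebraMap A L) V h.1).toAlgebra
      ∀ [IsLocalHom (algebraMap A V)],
        EtRam.IsWeaklyUnramified A V ∧
          IsPurelyInseparable (IsLocalRing.ResidueField A) (IsLocalRing.ResidueField V) ∧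
          Module.finrank (IsLocalRing.ResidueField A) (IsLocalRing.ResidueField V) = p

section CaseC7

variable (p : ℕ) [hpf : Fact p.Prime] (A K L : Type u) [CommRing A] [IsDomain A]
  [IsDiscreteValuationRing A] [Field K] [Algebra A K] [IsFractionRing A K] [Field L] [Algebra K L]
  [Algebra A L] [IsScalarTower A K L] [CharP K p] (π : A) (hπ : Irreducible π)
  (ξ : K) (z : L) (hz : z ^ p - z = algebraMap K L ξ)
  (hgen : IntermediateField.adjoin K {z} = ⊤)
  (n : ℕ) (a : A) (m : ℕ) (hm : 0 < m) (hnm : n = p * m)
  (ha : ∀ r : A, residue A a ≠ residue A r ^ p)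
  (hξ : ξ * algebraMap A K π ^ n = algebraMap A K a)

include hπ hz hm hnm hξ ha hgen in
theorem case4_C : Case4 p A L := by
  refine ⟨Groth.Agent.H10.EtRamTot.exists_dominates' A L (algebraMap A L), ?_, ?_⟩
  · intro V V' hV hV'
    ext x
    constructor
    · letI : Algebra A V := (RingHom.codRestrict (algebraMap A L) V hV.1).toAlgebra
      haveI : IsLocalHom (algebraMap A V) :=
        Groth.Agent.H10.EtRamT.isLocalHom_of_dominates (algebraMap A L) V hV
      exact mem_of_mem_C p A K L π hπ ξ z hz hgen n a m hm hnm ha hξ V hV (fun _ => rfl) V' hV' x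
    · letI : Algebra A V' := (RingHom.codRestrict (algebraMap A L) V' hV'.1).toAlgebra
      haveI : IsLocalHom (algebraMap A V') :=
        Groth.Agent.H10.EtRamT.isLocalHom_of_dominates (algebraMap A L) V' hV'
      exact mem_of_mem_C p A K L π hπ ξ z hz hgen n a m hm hnm ha hξ V' hV' (fun _ => rfl) V hV x
  · intro V hV
    letI : Algebra A V := (RingHom.codRestrict (algebraMap A L) V hV.1).toAlgebra
    intro hloc
    exact ⟨weaklyUnramified_C p A K L π hπ ξ z hz hgen n a m hm hnm ha hξ V hV (fun _ => rfl),
      isPurelyInseparable_C p A K L π hπ ξ z hz hgen n a m hm hnm ha hξ V hV (fun _ => rfl),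
      finrank_residue_C p A K L π hπ ξ z hz hgen n a m hm hnm ha hξ V hV (fun _ => rfl)⟩

end CaseC7

end Groth.Agent.H10.AS
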