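import Mathlib
import Groth.Prelude.Def_EtRam
import Groth.Agent.H10.AS13

set_option autoImplicit false
set_option linter.style.haveILetI false
set_option linter.unusedSectionVars false
set_option linter.unusedVariables false
universe u
open Polynomial IsLocalRing
open scoped IntermediateField

namespace Groth.Agent.H10.AS

section Trichotomy

variable (p : ℕ) [hpf : Fact p.Prime] (A K L : Type u) [CommRing A] [IsDomain A]
  [IsDiscreteValuationRing A] [Field K] [Algebra A K] [IsFractionRing A K] [Field L] [Algebra K L]
  [Algebra A L] [IsScalarTower A K L] [CharP K p] (π : A) (hπ : Irreducible π)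

/-- the four cases. -/
def Cases : Prop :=
  Module.finrank K L = 1 ∨
    (EtRam.IsUnramifiedExt A (algebraMap A L) ∧ Module.finrank K L = p) ∨
    (EtRam.IsTotallyRamified A (algebraMap A L) ∧ Module.finrank K L = p) ∨ Case4 p A L

include hπ in
theorem pi_K_ne_zero : algebraMap A K π ≠ 0 := fun h =>
  hπ.ne_zero (IsFractionRing.injective A K (h.trans (map_zero _).symm))

include hπ in
theorem cases_of_pole (N : ℕ) : ∀ (ξ : K) (z : L), z ^ p - z = algebraMap K L ξ →
    IntermediateField.adjoin K {z} = ⊤ →
    (∃ b : A, ξ * algebraMap A K π ^ N = algebraMap A K b) → Cases p A K L := by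
  have hπK := pi_K_ne_zero A K π hπ
  induction N with
  | zero =>
    intro ξ z hz hgen ⟨b, hb⟩
    rw [pow_zero, mul_one] at hb
    subst hb
    rcases finrank_eq p K L _ z hz hgen with h | h
    · exact Or.inl h
    · exact Or.inr (Or.inl ⟨unram_of_mem p A K L z b hz hgen, h⟩)
  | succ N ih =>
    intro ξ z hz hgen ⟨b, hb⟩
    by_cases hbm : b ∈ maximalIdeal A
    · -- lower the pole order
      rw [hπ.maximalIdeal_eq, Ideal.mem_span_singleton] at hbm
      obtain ⟨b', rfl⟩ := hbm
      apply ih ξ z hz hgen
      refine ⟨b', ?_⟩
      apply mul_right_cancel₀ hπK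
      rw [mul_assoc, ← pow_succ, hb, map_mul, mul_comm]
    · have hbu : IsUnit b := IsLocalRing.notMem_maximalIdeal.1 hbm
      by_cases hpN : p ∣ N + 1
      · obtain ⟨m, hm⟩ := hpN
        have hm0 : 0 < m := by
          rcases Nat.eq_zero_or_pos m with h | h
          · rw [h, mul_zero] at hm; omega
          · exact h
        by_cases hres : ∀ r : A, residue A b ≠ residue A r ^ p
        · exact Or.inr (Or.inr (Or.inr
            (case4_C p A K L π hπ ξ z hz hgen (N + 1) b m hm0 hm hres hb)))
        · push Not at hres
          obtain ⟨r, hr⟩ := hres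
          haveI := charP_L p K L
          -- modify the generator
          let c : K := algebraMap A K r / algebraMap A K π ^ m
          have hz' : (z - algebraMap K L c) ^ p - (z - algebraMap K L c) =
              algebraMap K L (ξ - (c ^ p - c)) := by
            rw [sub_pow_char, map_sub, map_sub, map_pow, ← hz]
            ring
          have hgen' : IntermediateField.adjoin K {z - algebraMap K L c} = ⊤ := by
            rw [eq_top_iff, ← hgen, IntermediateField.adjoin_simple_le_iff]
            have h2 := add_mem
              (IntermediateField.mem_adjoin_simple_self K (z - algebraMap K L c))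
              (IntermediateField.algebraMap_mem K⟮z - algebraMap K L c⟯ c)
            rwa [sub_add_cancel] at h2
          apply ih (ξ - (c ^ p - c)) (z - algebraMap K L c) hz' hgen'
          -- the new pole order is smaller
          have hbr : b - r ^ p ∈ maximalIdeal A := by
            rw [← IsLocalRing.residue_eq_zero_iff, map_sub, map_pow, hr, sub_self]
          obtain ⟨q, hq⟩ : ∃ q, p = q + 2 := ⟨p - 2, by have := hpf.out.two_le; omega⟩
          have hexp : N + 1 = m + (m * q + m) := by rw [hm, hq]; ring
          have hmem : b - r ^ p + r * π ^ (m * q + m) ∈ maximalIdeal A := by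
            apply Ideal.add_mem _ hbr
            apply Ideal.mul_mem_left
            rw [hπ.maximalIdeal_eq]
            exact Ideal.pow_mem_of_mem _ (Ideal.mem_span_singleton_self π) _ (by omega)
          rw [hπ.maximalIdeal_eq, Ideal.mem_span_singleton] at hmem
          obtain ⟨b'', hb''⟩ := hmem
          refine ⟨b'', ?_⟩
          apply mul_right_cancel₀ hπK
          rw [mul_assoc, ← pow_succ, sub_mul, hb]
          have h1 : c ^ p * algebraMap A K π ^ (N + 1) = algebraMap A K (r ^ p) := by
            simp only [c]
            rw [div_pow, ← pow_mul, hm, mul_comm m p, map_pow]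
            field_simp
          have h2 : c * algebraMap A K π ^ (N + 1) = algebraMap A K (r * π ^ (m * q + m)) := by
            simp only [c]
            rw [hexp, pow_add, map_mul, map_pow]
            field_simp
          rw [sub_mul, h1, h2, ← map_mul, mul_comm b'' π, ← hb'']
          simp only [map_sub, map_add]
          ring
      · have h1 := totallyRamified_B p A K L π hπ ξ z hz hgen (N + 1) hbu.unit (Nat.succ_pos N)
          hpN (by rw [hb]; rfl)
        have h2 := finrank_eq_p_B p A K L π hπ ξ z hz hgen (N + 1) hbu.unit (Nat.succ_pos N)
          hpN (by rw [hb]; rfl)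
        exact Or.inr (Or.inr (Or.inl ⟨h1, h2⟩))

end Trichotomy

end Groth.Agent.H10.AS
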