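import Mathlib
import Groth.Prelude.Def_EtRam
import Groth.Agent.H10.AS14

set_option autoImplicit false
set_option linter.style.haveILetI false
set_option linter.unusedSectionVars false
set_option linter.unusedVariables false
universe u
open Polynomial IsLocalRing
open scoped IntermediateField

namespace Groth.Agent.H10.AS

theorem main (p : ℕ) (hp : p.Prime) (A K L : Type u) [CommRing A] [IsDomain A]
    [IsDiscreteValuationRing A] [Field K] [Algebra A K] [IsFractionRing A K] [Field L]
    [Algebra K L] [Algebra A L]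
    [IsScalarTower A K L] [CharP K p] (π : A) (hπ : IsLocalRing.maximalIdeal A = Ideal.span {π})
    (ξ : K) (z : L) (hz : z ^ p - z = algebraMap K L ξ)
    (hgen : IntermediateField.adjoin K {z} = ⊤) :
    IsGalois K L ∧ Cases p A K L ∧
      ((∃ a : A, algebraMap A K a = ξ) → Module.finrank K L = 1 ∨
        (EtRam.IsUnramifiedExt A (algebraMap A L) ∧ Module.finrank K L = p)) ∧
      (∀ (n : ℕ) (a : Aˣ), 0 < n → ¬ p ∣ n →
        ξ * algebraMap A K π ^ n = algebraMap A K a →
          (EtRam.IsTotallyRamified A (algebraMap A L) ∧ Module.finrank K L = p)) ∧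
      (∀ (n : ℕ) (a : A), 0 < n → p ∣ n →
        (∀ r : A, IsLocalRing.residue A a ≠ IsLocalRing.residue A r ^ p) →
          ξ * algebraMap A K π ^ n = algebraMap A K a → Case4 p A L) := by
  haveI : Fact p.Prime := ⟨hp⟩
  have hπi : Irreducible π := (IsDiscreteValuationRing.irreducible_iff_uniformizer π).2 hπ
  refine ⟨isGalois p K L ξ z hz hgen, ?_, ?_, ?_, ?_⟩
  · obtain ⟨a, b, hb, rfl⟩ := IsFractionRing.div_surjective (A := A) ξ
    have hb0 : b ≠ 0 := nonZeroDivisors.ne_zero hb
    obtain ⟨N, u, hu⟩ := IsDiscreteValuationRing.eq_unit_mul_pow_irreducible hb0 hπi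
    apply cases_of_pole p A K L π hπi N _ z hz hgen
    refine ⟨a * ((u⁻¹ : Aˣ) : A), ?_⟩
    have hπK := pi_K_ne_zero A K π hπi
    have huK : algebraMap A K (u : A) ≠ 0 := fun h =>
      u.ne_zero (IsFractionRing.injective A K (h.trans (map_zero _).symm))
    have h1 : algebraMap A K ((u⁻¹ : Aˣ) : A) = (algebraMap A K (u : A))⁻¹ := by
      apply eq_inv_of_mul_eq_one_left
      rw [← map_mul, Units.inv_mul, map_one]
    rw [hu, map_mul, map_mul, map_pow, h1]
    field_simp
  · rintro ⟨a, rfl⟩
    rcases finrank_eq p K L _ z hz hgen with h | h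
    · exact Or.inl h
    · exact Or.inr ⟨unram_of_mem p A K L z a hz hgen, h⟩
  · intro n a hn hpn hξ
    exact ⟨totallyRamified_B p A K L π hπi ξ z hz hgen n a hn hpn hξ,
      finrank_eq_p_B p A K L π hπi ξ z hz hgen n a hn hpn hξ⟩
  · intro n a hn hpn ha hξ
    obtain ⟨m, hm⟩ := hpn
    have hm0 : 0 < m := by
      rcases Nat.eq_zero_or_pos m with h | h
      · rw [h, mul_zero] at hm; omega
      · exact h
    exact case4_C p A K L π hπi ξ z hz hgen n a m hm0 hm ha hξ

end Groth.Agent.H10.AS
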