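import Mathlib
import Groth.Agent.H8.DVR

/-! Let `R → S` be flat with `S` Noetherian, `p` a prime of `R` with `R_p` a DVR and `S/pS`
reduced.  Then `S_q` is a DVR for every associated prime `q` of `S/pS`. -/

set_option autoImplicit false
set_option linter.style.haveILetI false
set_option linter.unusedSectionVars false
set_option linter.unusedVariables false
universe u

open IsLocalRing

namespace Groth.Agent.H10.AnUnram

theorem main (R S : Type u) [CommRing R] [CommRing S] [Algebra R S] [Module.Flat R S]
    [IsNoetherianRing S] (p : Ideal R) [p.IsPrime] [IsDomain (Localization.AtPrime p)]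
    [IsDiscreteValuationRing (Localization.AtPrime p)]
    (hp : IsReduced (S ⧸ p.map (algebraMap R S)))
    (q : Ideal S) [q.IsPrime] (hq : q ∈ associatedPrimes S (S ⧸ p.map (algebraMap R S))) :
    ∃ _ : IsDomain (Localization.AtPrime q), IsDiscreteValuationRing (Localization.AtPrime q) := by
  set P := p.map (algebraMap R S) with hP
  have hrad : P.IsRadical := (Ideal.isRadical_iff_quotient_reduced P).2 hp
  -- unpack the associated prime
  obtain ⟨-, xb, hxb⟩ := (isAssociatedPrime_iff (M := S ⧸ P)).1 hq
  obtain ⟨x, rfl⟩ := Ideal.Quotient.mk_surjective xb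
  have hqx : ∀ r : S, r ∈ q ↔ r * x ∈ P := by
    intro r
    rw [hxb, Submodule.mem_colon_singleton, Submodule.mem_bot, ← Ideal.Quotient.eq_zero_iff_mem]
    rfl
  have hPq : P ≤ q := fun r hr => (hqx r).2 (P.mul_mem_right x hr)
  have hxP : x ∉ P := by
    intro h
    have : (1 : S) ∈ q := (hqx 1).2 (by rwa [one_mul])
    exact (Ideal.IsPrime.ne_top inferInstance) ((Ideal.eq_top_iff_one q).2 this)
  have hxq : x ∉ q := fun h => hxP (hrad ⟨2, by rw [pow_two]; exact (hqx x).1 h⟩)
  -- `q` is minimal over `P`
  have hmin : ∀ q' : Ideal S, q'.IsPrime → P ≤ q' → q' ≤ q → q ≤ q' := by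
    intro q' hq' hPq' hq'q y hy
    have : y * x ∈ q' := hPq' ((hqx y).1 hy)
    rcases hq'.mem_or_mem this with h | h
    · exact h
    · exact absurd (hq'q h) hxq
  -- `q` lies over `p`
  have hcomap : q.comap (algebraMap R S) = p := by
    have hle : p ≤ q.comap (algebraMap R S) := by
      rw [← Ideal.map_le_iff_le_comap]; exact hPq
    haveI : q.LiesOver (q.comap (algebraMap R S)) := ⟨rfl⟩
    obtain ⟨q', hq'le, hq'prime, hq'lo⟩ :=
      Ideal.exists_ideal_le_liesOver_of_le (p := p) (q := q.comap (algebraMap R S)) q hle
    have hPq' : P ≤ q' := by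
      rw [hP, Ideal.map_le_iff_le_comap]
      exact (hq'lo.over).le
    have hqq' : q' = q := le_antisymm hq'le (hmin q' hq'prime hPq' hq'le)
    rw [← hqq']
    exact hq'lo.over.symm
  -- the local homomorphism `R_p → S_q`
  let φ : Localization.AtPrime p →+* Localization.AtPrime q :=
    Localization.localRingHom p q (algebraMap R S) hcomap.symm
  have hφflat : φ.Flat :=
    RingHom.Flat.localRingHom (f := algebraMap R S) (RingHom.flat_algebraMap_iff.2 inferInstance)
      q p hcomap.symm
  haveI hφloc : IsLocalHom φ := Localization.isLocalHom_localRingHom p q (algebraMap R S) hcomap.symm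
  have hφmap : ∀ r : R, φ (algebraMap R (Localization.AtPrime p) r) =
      algebraMap S (Localization.AtPrime q) (algebraMap R S r) :=
    fun r => Localization.localRingHom_to_map p q (algebraMap R S) hcomap.symm r
  obtain ⟨t, ht⟩ := IsDiscreteValuationRing.exists_irreducible (Localization.AtPrime p)
  have hmp : maximalIdeal (Localization.AtPrime p) = Ideal.span {t} := ht.maximalIdeal_eq
  -- `φ t` is a nonzerodivisor
  have hreg : φ t ∈ nonZeroDivisors (Localization.AtPrime q) := by
    letI := φ.toAlgebra
    haveI : Module.Flat (Localization.AtPrime p) (Localization.AtPrime q) := hφflat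
    have ht0 : t ∈ nonZeroDivisors (Localization.AtPrime p) :=
      mem_nonZeroDivisors_of_ne_zero ht.ne_zero
    have h1 : IsSMulRegular (Localization.AtPrime q) t :=
      Module.Flat.isSMulRegular_of_nonZeroDivisors ht0
    rw [mem_nonZeroDivisors_iff_right]
    intro a ha
    apply h1
    show t • a = t • (0 : Localization.AtPrime q)
    rw [smul_zero, Algebra.smul_def, mul_comm]
    exact ha
  -- the maximal ideal of `S_q` is generated by `φ t`
  have hmq : maximalIdeal (Localization.AtPrime q) = Ideal.span {φ t} := by
    apply le_antisymm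
    · rw [← IsLocalization.AtPrime.map_eq_maximalIdeal q (Localization.AtPrime q), Ideal.map_le_iff_le_comap]
      intro y hy
      rw [Ideal.mem_comap]
      have hyx : y * x ∈ P := (hqx y).1 hy
      have hxu : IsUnit (algebraMap S (Localization.AtPrime q) x) :=
        IsLocalization.map_units (Localization.AtPrime q) (⟨x, hxq⟩ : q.primeCompl)
      have hPmap : P.map (algebraMap S (Localization.AtPrime q)) = Ideal.span {φ t} := by
        rw [hP, Ideal.map_map]
        have : (algebraMap S (Localization.AtPrime q)).comp (algebraMap R S) =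
            φ.comp (algebraMap R (Localization.AtPrime p)) := by
          ext r
          exact (hφmap r).symm
        rw [this, ← Ideal.map_map, IsLocalization.AtPrime.map_eq_maximalIdeal p (Localization.AtPrime p), hmp, Ideal.map_span,
          Set.image_singleton]
      have h2 : algebraMap S (Localization.AtPrime q) (y * x) ∈ Ideal.span {φ t} := by
        rw [← hPmap]
        exact Ideal.mem_map_of_mem _ hyx
      rw [map_mul] at h2
      obtain ⟨u, hu⟩ := hxu
      have : algebraMap S (Localization.AtPrime q) y =
          algebraMap S (Localization.AtPrime q) y * algebraMap S (Localization.AtPrime q) x *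
            ↑u⁻¹ := by
        rw [← hu, mul_assoc, Units.mul_inv, mul_one]
      rw [this]
      exact Ideal.mul_mem_right _ _ h2
    · rw [Ideal.span_singleton_le_iff_mem]
      have htm : t ∈ maximalIdeal (Localization.AtPrime p) := by
        rw [hmp]; exact Ideal.mem_span_singleton_self t
      exact ((local_hom_TFAE φ).out 0 2 rfl rfl).mp hφloc (Ideal.mem_map_of_mem _ htm)
  haveI : IsNoetherianRing (Localization.AtPrime q) :=
    IsLocalization.isNoetherianRing q.primeCompl (Localization.AtPrime q) inferInstance
  exact Groth.Agent.H8.isDiscreteValuationRing_of_maximalIdeal_eq_span (φ t) hreg hmq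

end Groth.Agent.H10.AnUnram
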