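import Mathlib
import Groth.Agent.H84.RHomUnit

set_option autoImplicit false
universe u
open CategoryTheory CategoryTheory.Limits CochainComplex CochainComplex.HomComplex

namespace Groth.Agent.H10.BD

open Groth.Agent.H84.RHom

variable {A : Type u} [CommRing A] (I : DRing.Cx A)

/-- the dual complex `Hom•(K, I)` -/
noncomputable abbrev Dc (K : DRing.Cx A) : DRing.Cx A := DRing.homCx K I

/-- contravariant functoriality of the dual -/
noncomputable abbrev Dmap {K K' : DRing.Cx A} (f : K ⟶ K') : Dc I K' ⟶ Dc I K := homCxPre f I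

lemma Dmap_f_apply {K K' : DRing.Cx A} (f : K ⟶ K') (p : ℤ) (z : Cochain K' I p) :
    ((Dmap I f).f p).hom z = (Cochain.ofHom f).comp z (zero_add p) := rfl

lemma Dmap_id (K : DRing.Cx A) : Dmap I (𝟙 K) = 𝟙 _ := by
  ext p (z : Cochain K I p)
  change (Cochain.ofHom (𝟙 K)).comp z (zero_add p) = z
  simp

lemma Dmap_comp {K K' K'' : DRing.Cx A} (f : K ⟶ K') (g : K' ⟶ K'') :
    Dmap I (f ≫ g) = Dmap I g ≫ Dmap I f := by
  ext p (z : Cochain K'' I p)
  change (Cochain.ofHom (f ≫ g)).comp z (zero_add p) =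
    (Cochain.ofHom f).comp ((Cochain.ofHom g).comp z (zero_add p)) (zero_add p)
  rw [Cochain.ofHom_comp, Cochain.comp_assoc_of_first_is_zero_cochain]

lemma Dmap_zero (K K' : DRing.Cx A) : Dmap I (0 : K ⟶ K') = 0 := by
  ext p (z : Cochain K' I p)
  change (Cochain.ofHom (0 : K ⟶ K')).comp z (zero_add p) = 0
  simp

lemma Dmap_add {K K' : DRing.Cx A} (f g : K ⟶ K') : Dmap I (f + g) = Dmap I f + Dmap I g := by
  ext p (z : Cochain K' I p)
  change (Cochain.ofHom (f + g)).comp z (zero_add p) =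
    (Cochain.ofHom f).comp z (zero_add p) + (Cochain.ofHom g).comp z (zero_add p)
  simp


lemma sign1 (n p : ℤ) : (n + 1).negOnePow * (n * (p + 1)).negOnePow = -(n * p).negOnePow := by
  rw [mul_add, mul_one, Int.negOnePow_succ, Int.negOnePow_add]
  have := Int.units_mul_self n.negOnePow
  calc -n.negOnePow * ((n * p).negOnePow * n.negOnePow)
      = -((n.negOnePow * n.negOnePow) * (n * p).negOnePow) := by
        rw [neg_mul, mul_comm (n * p).negOnePow, ← mul_assoc]
    _ = _ := by rw [this, one_mul]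

lemma sign2 (n p : ℤ) :
    (n + 1).negOnePow * (n * (p + 1)).negOnePow * (p + 1).negOnePow = ((n + 1) * p).negOnePow := by
  rw [sign1, add_mul, one_mul, Int.negOnePow_succ, Int.negOnePow_add]
  simp

/-- the pairing of an element of `K^n` with a cochain of degree `p` -/
noncomputable def pairLin (K : DRing.Cx A) (n p q : ℤ) (h : n + p = q) (x : K.X n) :
    Cochain K I p →ₗ[A] I.X q where
  toFun z := (z.v n q h).hom x
  map_add' z z' := by simp
  map_smul' a z := by simp

lemma pairLin_apply (K : DRing.Cx A) (n p q : ℤ) (h : n + p = q) (x : K.X n) (z : Cochain K I p) :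
    pairLin I K n p q h x z = (z.v n q h).hom x := rfl

/-- evaluation at `x ∈ K^n` as a cochain of degree `n` from `Hom•(K, I)` to `I` -/
noncomputable def evCochain (K : DRing.Cx A) (n : ℤ) (x : K.X n) : Cochain (Dc I K) I n :=
  Cochain.mk (fun p q hpq => ModuleCat.ofHom
    (((n * p).negOnePow : ℤˣ) • pairLin I K n p q (by omega) x))

lemma evCochain_v_apply (K : DRing.Cx A) (n : ℤ) (x : K.X n) (p q : ℤ) (hpq : p + n = q)
    (z : Cochain K I p) :
    ((evCochain I K n x).v p q hpq).hom z =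
      ((n * p).negOnePow : ℤˣ) • (z.v n q (by omega)).hom x := rfl

lemma evCochain_ext (K : DRing.Cx A) (n : ℤ) (Φ Ψ : Cochain (Dc I K) I n)
    (h : ∀ (p q : ℤ) (hpq : p + n = q) (z : Cochain K I p),
      (Φ.v p q hpq).hom z = (Ψ.v p q hpq).hom z) : Φ = Ψ := by
  exact Cochain.ext _ _ (fun p q hpq => ModuleCat.hom_ext (LinearMap.ext (fun z => h p q hpq z)))

/-- evaluation as a linear map -/
noncomputable def evLin (K : DRing.Cx A) (n : ℤ) : K.X n →ₗ[A] Cochain (Dc I K) I n where
  toFun x := evCochain I K n x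
  map_add' x y := by
    refine evCochain_ext I K n _ _ (fun p q hpq z => ?_)
    rw [Cochain.add_v, ModuleCat.hom_add, LinearMap.add_apply, evCochain_v_apply,
      evCochain_v_apply, evCochain_v_apply, map_add, smul_add]
  map_smul' a x := by
    refine evCochain_ext I K n _ _ (fun p q hpq z => ?_)
    rw [Cochain.smul_v, ModuleCat.hom_smul, LinearMap.smul_apply, evCochain_v_apply,
      evCochain_v_apply, map_smul, RingHom.id_apply, smul_comm]

lemma evLin_apply (K : DRing.Cx A) (n : ℤ) (x : K.X n) : evLin I K n x = evCochain I K n x := rfl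

lemma δ_v_apply (K : DRing.Cx A) (p p' : ℤ) (hp : p + 1 = p') (z : Cochain K I p) (n q : ℤ)
    (hq : n + p' = q) (q' n' : ℤ) (hq' : q' + 1 = q) (hn' : n + 1 = n') (x : K.X n) :
    ((δ p p' z).v n q hq).hom x = (I.d q' q).hom ((z.v n q' (by omega)).hom x) +
      (p'.negOnePow : ℤˣ) • (z.v n' q (by omega)).hom ((K.d n n').hom x) := by
  rw [δ_v p p' hp z n q hq q' n' (by omega) hn']
  simp

lemma evLin_d (K : DRing.Cx A) (n n' : ℤ) (hn : n + 1 = n') (x : K.X n) :
    evLin I K n' ((K.d n n').hom x) = δ n n' (evLin I K n x) := by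
  subst hn
  refine evCochain_ext I K _ _ _ (fun p q hpq z => ?_)
  rw [evLin_apply, evLin_apply, evCochain_v_apply,
    δ_v n (n + 1) rfl (evCochain I K n x) p q hpq (q - 1) (p + 1) rfl rfl]
  rw [ModuleCat.hom_add, LinearMap.add_apply, ModuleCat.hom_comp, LinearMap.comp_apply,
    evCochain_v_apply]
  have h1 : (ModuleCat.Hom.hom ((n + 1).negOnePow • (Dc I K).d p (p + 1) ≫
      (evCochain I K n x).v (p + 1) q (by omega))) z =
      ((n + 1).negOnePow : ℤˣ) • ((n * (p + 1)).negOnePow : ℤˣ) •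
        ((δ p (p + 1) z).v n q (by omega)).hom x := rfl
  have h2 : ∀ (u : ℤˣ) (y : I.X (q - 1)), (I.d (q - 1) q).hom (u • y) = u • (I.d (q - 1) q).hom y := by
    intro u y
    rw [Units.smul_def, Units.smul_def, map_zsmul]
  rw [h1, δ_v_apply I K p (p + 1) rfl z n q (by omega) (q - 1) (n + 1) (by omega) rfl x, h2]
  simp only [smul_add, smul_smul]
  rw [sign1, ← mul_assoc, sign2, Units.neg_smul]
  abel


/-- the biduality chain map `K ⟶ Hom•(Hom•(K, I), I)` -/
noncomputable def evc (K : DRing.Cx A) : K ⟶ Dc I (Dc I K) where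
  f n := ModuleCat.ofHom (evLin I K n)
  comm' n n' hn := by
    ext x
    exact (evLin_d I K n n' hn x).symm

lemma evc_f_apply (K : DRing.Cx A) (n : ℤ) (x : K.X n) :
    ((evc I K).f n).hom x = evCochain I K n x := rfl

/-- the double dual of a morphism -/
noncomputable abbrev DDmap {K K' : DRing.Cx A} (f : K ⟶ K') : Dc I (Dc I K) ⟶ Dc I (Dc I K') :=
  Dmap I (Dmap I f)

lemma DDmap_id (K : DRing.Cx A) : DDmap I (𝟙 K) = 𝟙 _ := by
  rw [DDmap, Dmap_id, Dmap_id]

lemma DDmap_comp {K K' K'' : DRing.Cx A} (f : K ⟶ K') (g : K' ⟶ K'') :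
    DDmap I (f ≫ g) = DDmap I f ≫ DDmap I g := by
  rw [DDmap, Dmap_comp, Dmap_comp]

lemma DDmap_zero (K K' : DRing.Cx A) : DDmap I (0 : K ⟶ K') = 0 := by
  rw [DDmap, Dmap_zero, Dmap_zero]

lemma evc_naturality {K K' : DRing.Cx A} (f : K ⟶ K') :
    evc I K ≫ DDmap I f = f ≫ evc I K' := by
  ext n x
  refine evCochain_ext I K' n _ _ (fun p q hpq z => ?_)
  change (((Cochain.ofHom (Dmap I f)).comp (evCochain I K n x) (zero_add n)).v p q hpq).hom z =
    ((evCochain I K' n ((f.f n).hom x)).v p q hpq).hom z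
  rw [Cochain.zero_cochain_comp_v, Cochain.ofHom_v, ModuleCat.hom_comp, LinearMap.comp_apply,
    evCochain_v_apply, evCochain_v_apply, Dmap_f_apply, Cochain.zero_cochain_comp_v,
    Cochain.ofHom_v, ModuleCat.hom_comp, LinearMap.comp_apply]

end Groth.Agent.H10.BD
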