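import Mathlib
import Groth.Agent.H10.BD1

set_option autoImplicit false
universe u
open CategoryTheory CategoryTheory.Limits CochainComplex CochainComplex.HomComplex

namespace Groth.Agent.H10.BD

open Groth.Agent.H84.RHom

variable {A : Type u} [CommRing A] (I : DRing.Cx A)

/-- the dual of a short complex of complexes -/
noncomputable def DS (S : ShortComplex (DRing.Cx A)) : ShortComplex (DRing.Cx A) :=
  ShortComplex.mk (Dmap I S.g) (Dmap I S.f) (by rw [← Dmap_comp, S.zero, Dmap_zero])

/-- the double dual of a short complex of complexes -/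
noncomputable def DDS (S : ShortComplex (DRing.Cx A)) : ShortComplex (DRing.Cx A) :=
  ShortComplex.mk (DDmap I S.f) (DDmap I S.g) (by rw [← DDmap_comp, S.zero, DDmap_zero])

lemma DDS_eq (S : ShortComplex (DRing.Cx A)) : DDS I S = DS I (DS I S) := rfl

/-- the evaluation morphism of short complexes -/
noncomputable def evS (S : ShortComplex (DRing.Cx A)) : S ⟶ DDS I S where
  τ₁ := evc I S.X₁
  τ₂ := evc I S.X₂
  τ₃ := evc I S.X₃
  comm₁₂ := evc_naturality I S.f
  comm₂₃ := evc_naturality I S.g

variable {I}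

lemma DS_shortExact [∀ q, Injective (I.X q)] (S : ShortComplex (DRing.Cx A)) (hS : S.ShortExact) :
    (DS I S).ShortExact := by
  refine HomologicalComplex.shortExact_of_degreewise_shortExact _ (fun n => ?_)
  have hSp : ∀ p : ℤ, (S.map (HomologicalComplex.eval _ _ p)).ShortExact :=
    fun p => hS.map_of_exact _
  refine ShortComplex.ShortExact.mk' ?_ ?_ ?_
  · rw [ShortComplex.moduleCat_exact_iff]
    intro (z : Cochain S.X₂ I n) hz
    replace hz : (Cochain.ofHom S.f).comp z (zero_add n) = 0 := hz
    have hz' : ∀ (p q : ℤ) (hpq : p + n = q), S.f.f p ≫ z.v p q hpq = 0 := by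
      intro p q hpq
      have := Cochain.congr_v hz p q hpq
      rwa [Cochain.zero_cochain_comp_v, Cochain.ofHom_v, Cochain.zero_v] at this
    let w : Cochain S.X₃ I n := Cochain.mk (fun p q hpq =>
      (hSp p).gIsCokernel.desc (CokernelCofork.ofπ (z.v p q hpq) (hz' p q hpq)))
    refine ⟨w, ?_⟩
    change (Cochain.ofHom S.g).comp w (zero_add n) = z
    refine Cochain.ext _ _ (fun p q hpq => ?_)
    rw [Cochain.zero_cochain_comp_v, Cochain.ofHom_v, Cochain.mk_v]
    exact (hSp p).gIsCokernel.fac (CokernelCofork.ofπ (z.v p q hpq) (hz' p q hpq))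
      WalkingParallelPair.one
  · rw [ModuleCat.mono_iff_injective]
    intro (z : Cochain S.X₃ I n) (z' : Cochain S.X₃ I n) h
    replace h : (Cochain.ofHom S.g).comp z (zero_add n) = (Cochain.ofHom S.g).comp z' (zero_add n) := h
    refine Cochain.ext _ _ (fun p q hpq => ?_)
    have := Cochain.congr_v h p q hpq
    rw [Cochain.zero_cochain_comp_v, Cochain.ofHom_v, Cochain.zero_cochain_comp_v,
      Cochain.ofHom_v] at this
    have he : Epi (S.g.f p) := (hSp p).epi_g
    exact (cancel_epi (S.g.f p)).1 this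
  · rw [ModuleCat.epi_iff_surjective]
    intro (w : Cochain S.X₁ I n)
    have hm : ∀ p, Mono (S.f.f p) := fun p => (hSp p).mono_f
    refine ⟨(Cochain.mk (fun p q hpq => Injective.factorThru (w.v p q hpq) (S.f.f p)) :
      Cochain S.X₂ I n), ?_⟩
    change (Cochain.ofHom S.f).comp _ (zero_add n) = w
    refine Cochain.ext _ _ (fun p q hpq => ?_)
    rw [Cochain.zero_cochain_comp_v, Cochain.ofHom_v, Cochain.mk_v]
    exact Injective.comp_factorThru (w.v p q hpq) (S.f.f p)

lemma DDS_shortExact [∀ q, Injective (I.X q)] (S : ShortComplex (DRing.Cx A)) (hS : S.ShortExact) :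
    (DDS I S).ShortExact :=
  DS_shortExact (DS I S) (DS_shortExact S hS)

end Groth.Agent.H10.BD
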