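import Mathlib
import Groth.Agent.H10.BD2

set_option autoImplicit false
universe u
open CategoryTheory CategoryTheory.Limits CochainComplex CochainComplex.HomComplex Pretriangulated

namespace Groth.Agent.H10.BD

open Groth.Agent.H84.RHom DerivedCategory ZeroObject

attribute [local instance] HasDerivedCategory.standard

variable {A : Type u} [CommRing A] (I : DRing.Cx A)

/-- `K` is `I`-reflexive: the biduality map is a quasi-isomorphism -/
def Refl (K : DRing.Cx A) : Prop := QuasiIso (evc I K)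

/-- `K` is `I`-reflexive in degree `n` -/
def ReflAt (K : DRing.Cx A) (n : ℤ) : Prop := QuasiIsoAt (evc I K) n

lemma refl_iff_forall (K : DRing.Cx A) : Refl I K ↔ ∀ n, ReflAt I K n := quasiIso_iff _

lemma refl_iff_isIso (K : DRing.Cx A) : Refl I K ↔ IsIso (Q.map (evc I K)) :=
  (isIso_Q_map_iff_quasiIso _ (evc I K)).symm

section SES

variable [∀ q, Injective (I.X q)] (S : ShortComplex (DRing.Cx A)) (hS : S.ShortExact)

/-- the morphism of distinguished triangles induced by the evaluation maps -/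
noncomputable def evTri :
    triangleOfSES hS ⟶ triangleOfSES (DDS_shortExact (I := I) S hS) :=
  triangleOfSES.map hS (DDS_shortExact (I := I) S hS) (evS I S)

include hS

lemma refl_X₂ (h₁ : Refl I S.X₁) (h₃ : Refl I S.X₃) : Refl I S.X₂ := by
  rw [refl_iff_isIso] at h₁ h₃ ⊢
  exact isIso₂_of_isIso₁₃ (evTri I S hS) (triangleOfSES_distinguished hS)
    (triangleOfSES_distinguished _) h₁ h₃

lemma refl_X₃ (h₁ : Refl I S.X₁) (h₂ : Refl I S.X₂) : Refl I S.X₃ := by
  rw [refl_iff_isIso] at h₁ h₂ ⊢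
  exact isIso₃_of_isIso₁₂ (evTri I S hS) (triangleOfSES_distinguished hS)
    (triangleOfSES_distinguished _) h₁ h₂

lemma refl_X₁ (h₂ : Refl I S.X₂) (h₃ : Refl I S.X₃) : Refl I S.X₁ := by
  rw [refl_iff_isIso] at h₂ h₃ ⊢
  exact isIso₁_of_isIso₂₃ (evTri I S hS) (triangleOfSES_distinguished hS)
    (triangleOfSES_distinguished _) h₂ h₃

end SES

section QI

variable [I.IsKInjective]

instance quasiIso_Dmap {K K' : DRing.Cx A} (f : K ⟶ K') [QuasiIso f] : QuasiIso (Dmap I f) :=
  quasiIso_homCxPre_of_isKInjective f I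

instance quasiIso_DDmap {K K' : DRing.Cx A} (f : K ⟶ K') [QuasiIso f] : QuasiIso (DDmap I f) :=
  quasiIso_homCxPre_of_isKInjective (Dmap I f) I

lemma reflAt_iff_of_quasiIso {K K' : DRing.Cx A} (f : K ⟶ K') [QuasiIso f] (n : ℤ) :
    ReflAt I K n ↔ ReflAt I K' n := by
  have h := evc_naturality I f
  have h1 : QuasiIsoAt (evc I K ≫ DDmap I f) n ↔ QuasiIsoAt (evc I K) n :=
    quasiIsoAt_iff_comp_right _ _ n
  have h2 : QuasiIsoAt (f ≫ evc I K') n ↔ QuasiIsoAt (evc I K') n :=
    quasiIsoAt_iff_comp_left _ _ n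
  rw [ReflAt, ReflAt, ← h1, h, h2]

lemma refl_iff_of_quasiIso {K K' : DRing.Cx A} (f : K ⟶ K') [QuasiIso f] :
    Refl I K ↔ Refl I K' := by
  rw [refl_iff_forall, refl_iff_forall]
  exact forall_congr' (fun n => reflAt_iff_of_quasiIso I f n)

lemma reflAt_iff_of_iso {K K' : DRing.Cx A} (e : Q.obj K ≅ Q.obj K') (n : ℤ) :
    ReflAt I K n ↔ ReflAt I K' n := by
  obtain ⟨K'', s, hs, g, hg⟩ := right_fac e.hom
  have hs' : QuasiIso s := (isIso_Q_map_iff_quasiIso _ s).1 hs
  have hg' : QuasiIso g := by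
    rw [← isIso_Q_map_iff_quasiIso _ g]
    have : Q.map g = Q.map s ≫ e.hom := by rw [hg, IsIso.hom_inv_id_assoc]
    rw [this]
    infer_instance
  rw [← reflAt_iff_of_quasiIso I s n, reflAt_iff_of_quasiIso I g n]

lemma refl_iff_of_iso {K K' : DRing.Cx A} (e : Q.obj K ≅ Q.obj K') :
    Refl I K ↔ Refl I K' := by
  rw [refl_iff_forall, refl_iff_forall]
  exact forall_congr' (fun n => reflAt_iff_of_iso I e n)

end QI

section Zero

lemma isZero_Dc {K : DRing.Cx A} (hK : IsZero K) : IsZero (Dc I K) := by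
  rw [IsZero.iff_id_eq_zero, ← Dmap_id, (IsZero.iff_id_eq_zero K).1 hK, Dmap_zero]

lemma refl_of_isZero {K : DRing.Cx A} (hK : IsZero K) : Refl I K := by
  have h2 : IsZero (Dc I (Dc I K)) := isZero_Dc I (isZero_Dc I hK)
  have : IsIso (evc I K) := ⟨0, hK.eq_of_src _ _, h2.eq_of_src _ _⟩
  exact inferInstanceAs (QuasiIso (evc I K))

lemma refl_of_acyclic [I.IsKInjective] {K : DRing.Cx A} (hK : K.Acyclic) : Refl I K := by
  have h0 : IsZero (0 : DRing.Cx A) := isZero_zero _
  have : QuasiIso (0 : K ⟶ 0) := by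
    rw [quasiIso_iff]
    intro n
    rw [quasiIsoAt_iff_exactAt _ _ (hK n), HomologicalComplex.exactAt_iff_isZero_homology]
    exact (HomologicalComplex.homologyFunctor _ _ n).map_isZero h0
  exact (refl_iff_of_quasiIso I (0 : K ⟶ 0)).2 (refl_of_isZero I h0)

end Zero

end Groth.Agent.H10.BD
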