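import Mathlib
import Groth.Agent.H10.BD3
import Groth.Agent.H9.RH.Cohomology
import Groth.Agent.H28.ExtFinite2

set_option autoImplicit false
universe u
open CategoryTheory CategoryTheory.Limits CochainComplex CochainComplex.HomComplex Pretriangulated

namespace Groth.Agent.H10.BD

open Groth.Agent.H84.RHom DerivedCategory

attribute [local instance] HasDerivedCategory.standard

variable {A : Type u} [CommRing A] (I : DRing.Cx A)

/-- the hypotheses on `I`: a bounded complex of injective modules -/
structure BInj (a b : ℤ) : Prop where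
  vanishes : DRing.VanishesOutside I a b
  injective : ∀ q : ℤ, Module.Injective A (I.X q)

variable {I} {a b : ℤ}

lemma BInj.isKInjective (hI : BInj I a b) : I.IsKInjective :=
  Groth.Agent.H35.isKInjective_of_vanishesBelow A I a (fun j hj => hI.vanishes j (Or.inl hj))
    hI.injective

lemma BInj.injective_X (hI : BInj I a b) (q : ℤ) : Injective (I.X q) :=
  (Module.injective_iff_injective_object A (I.X q)).1 (hI.injective q)

lemma BInj.isGE (hI : BInj I a b) : (Q.obj I).IsGE a := by
  have : I.IsStrictlyGE a := by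
    rw [CochainComplex.isStrictlyGE_iff]
    exact fun j hj => hI.vanishes j (Or.inl hj)
  infer_instance

lemma isZero_homology_Dc_of_subsingleton (hI : BInj I a b) (X : DRing.Cx A) (n : ℤ)
    (h : Subsingleton (Q.obj X ⟶ (Q.obj I)⟦n⟧)) :
    IsZero ((homologyFunctor (ModuleCat.{u} A) n).obj (Q.obj (Dc I X))) := by
  have := hI.isKInjective
  have e := Groth.Agent.H9.RH.homologyEquiv X I n
  have : Subsingleton ((Dc I X).homology n : ModuleCat.{u} A) := e.toEquiv.subsingleton
  have hz : IsZero ((Dc I X).homology n : ModuleCat.{u} A) := ModuleCat.isZero_of_subsingleton _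
  exact IsZero.of_iso hz ((homologyFunctorFactors (ModuleCat.{u} A) n).app (Dc I X))

lemma isLE_Dc (hI : BInj I a b) (X : DRing.Cx A) (t s : ℤ) (hs : b - t ≤ s) [(Q.obj X).IsGE t] :
    (Q.obj (Dc I X)).IsLE s := by
  rw [DerivedCategory.isLE_iff]
  intro n hn
  exact isZero_homology_Dc_of_subsingleton hI X n
    (Groth.Agent.H28.ExtFinite.subsingleton_hom_shift_of_injAmp I a b hI.vanishes hI.injective
      (Q.obj X) t n (by omega))

lemma isGE_Dc (hI : BInj I a b) (X : DRing.Cx A) (t s : ℤ) (hs : s ≤ a - t) [(Q.obj X).IsLE t] :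
    (Q.obj (Dc I X)).IsGE s := by
  rw [DerivedCategory.isGE_iff]
  intro n hn
  have := hI.isGE
  have : ((Q.obj I)⟦n⟧).IsGE (a - n) := Groth.Agent.H28.ExtFinite.isGE_shift' _ a n
  exact isZero_homology_Dc_of_subsingleton hI X n
    (Groth.Agent.H28.ExtFinite.subsingleton_hom_of_isLE_of_isGE _ _ t (a - n) (by omega))

lemma isGE_DDc (hI : BInj I a b) (X : DRing.Cx A) (t s : ℤ) (hs : s ≤ t - (b - a))
    [(Q.obj X).IsGE t] : (Q.obj (Dc I (Dc I X))).IsGE s := by
  have := isLE_Dc hI X t (b - t) le_rfl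
  exact isGE_Dc hI (Dc I X) (b - t) s (by omega)

lemma isLE_DDc (hI : BInj I a b) (X : DRing.Cx A) (t s : ℤ) (hs : t + (b - a) ≤ s)
    [(Q.obj X).IsLE t] : (Q.obj (Dc I (Dc I X))).IsLE s := by
  have := isGE_Dc hI X t (a - t) le_rfl
  exact isLE_Dc hI (Dc I X) (a - t) s (by omega)

end Groth.Agent.H10.BD
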