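import Mathlib
import Groth.Agent.H10.BD4
import Groth.Agent.H9.RG.Elem

set_option autoImplicit false
universe u
open CategoryTheory CategoryTheory.Limits CochainComplex CochainComplex.HomComplex Pretriangulated

namespace Groth.Agent.H10.BD

open Groth.Agent.H84.RHom DerivedCategory Groth.Agent.H30.KInjCls

attribute [local instance] HasDerivedCategory.standard

variable {A : Type u} [CommRing A] (I : DRing.Cx A)

/-- the ring in degree `0` -/
noncomputable abbrev S0 (A : Type u) [CommRing A] : DRing.Cx A :=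
  (CochainComplex.singleFunctor (ModuleCat.{u} A) 0).obj (ModuleCat.of A A)

/-- the generator of `S0` -/
noncomputable def one0 : (S0 A).X 0 :=
  (HomologicalComplex.singleObjXSelf (ComplexShape.up ℤ) 0 (ModuleCat.of A A)).inv.hom (1 : A)

lemma S0_d (i j : ℤ) : (S0 A).d i j = 0 := HomologicalComplex.single_obj_d _ _ _ _ _

lemma exists_smul_one0 (x : (S0 A).X 0) : ∃ a : A, x = a • one0 := by
  let e := (HomologicalComplex.singleObjXSelf (ComplexShape.up ℤ) 0 (ModuleCat.of A A))
  refine ⟨e.hom.hom x, ?_⟩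
  have h1 : e.inv.hom (e.hom.hom x) = x := by
    rw [← LinearMap.comp_apply, ← ModuleCat.hom_comp, e.hom_inv_id]
    rfl
  calc x = e.inv.hom (e.hom.hom x) := h1.symm
    _ = e.inv.hom ((e.hom.hom x : A) • (1 : A)) := by rw [smul_eq_mul, mul_one]
    _ = _ := map_smul _ _ _

/-- evaluation at the generator, `Hom•(A[0], I) ⟶ I` -/
noncomputable def lam : Dc I (S0 A) ⟶ I where
  f p := ModuleCat.ofHom (pairLin I (S0 A) 0 p p (zero_add p) one0)
  comm' p p' hp := by
    ext (z : Cochain (S0 A) I p)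
    change (I.d p p').hom ((z.v 0 p (zero_add p)).hom one0) = ((δ p p' z).v 0 p' (zero_add p')).hom one0
    rw [δ_v_apply I (S0 A) p p' hp z 0 p' (zero_add p') p 1 hp rfl, S0_d, ModuleCat.hom_zero,
      LinearMap.zero_apply, map_zero, smul_zero, add_zero]

lemma lam_f_apply (p : ℤ) (z : Cochain (S0 A) I p) :
    ((lam I).f p).hom z = (z.v 0 p (zero_add p)).hom one0 := rfl

lemma lam_f_eq (p : ℤ) (z : Cochain (S0 A) I p) :
    ((lam I).f p).hom z = (Cochain.fromSingleEquiv (zero_add p) z).hom (1 : A) := rfl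

instance isIso_lam : IsIso (lam I) := by
  have : ∀ p, IsIso ((lam I).f p) := fun p => by
    rw [ConcreteCategory.isIso_iff_bijective]
    constructor
    · intro (z : Cochain (S0 A) I p) (z' : Cochain (S0 A) I p) h
      replace h : (Cochain.fromSingleEquiv (zero_add p) z).hom (1 : A) =
        (Cochain.fromSingleEquiv (zero_add p) z').hom (1 : A) := h
      apply (Cochain.fromSingleEquiv (zero_add p)).injective
      ext
      exact h
    · intro y
      refine ⟨(Cochain.fromSingleEquiv (zero_add p)).symm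
        (ModuleCat.ofHom (LinearMap.toSpanSingleton A _ y)), ?_⟩
      change (Cochain.fromSingleEquiv (zero_add p) ((Cochain.fromSingleEquiv (zero_add p)).symm
        (ModuleCat.ofHom (LinearMap.toSpanSingleton A _ y)))).hom (1 : A) = y
      rw [AddEquiv.apply_symm_apply]
      change (LinearMap.toSpanSingleton A _ y) (1 : A) = y
      rw [LinearMap.toSpanSingleton_apply, one_smul]
  exact HomologicalComplex.Hom.isIso_of_components _

lemma evCochain_one0 : evCochain I (S0 A) 0 one0 = Cochain.ofHom (lam I) := by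
  refine evCochain_ext I _ 0 _ _ (fun p q hpq z => ?_)
  obtain rfl : p = q := by omega
  rw [evCochain_v_apply, Cochain.ofHom_v, lam_f_apply, zero_mul, Int.negOnePow_zero, one_smul]


section DA

lemma equivHomShift_zero (L : DRing.Cx A) :
    Cocycle.equivHomShift ((shiftFunctorZero (DRing.Cx A) ℤ).inv.app L) =
      Cocycle.ofHom (𝟙 L) := by
  ext p
  simp [Cocycle.equivHomShift_apply,
    Cochain.rightUnshift_v _ 0 (zero_add 0) p p (add_zero p) p (add_zero p),
    CochainComplex.shiftFunctorZero_inv_app_f]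

/-- the class of the identity cocycle -/
noncomputable def u₀ : Q.obj I ⟶ (Q.obj I)⟦(0 : ℤ)⟧ := toD I I 0 (Cocycle.ofHom (𝟙 I))

instance isIso_u₀ : IsIso (u₀ I) := by
  have h : Cocycle.equivHomShift.symm (Cocycle.ofHom (𝟙 I)) =
      (shiftFunctorZero (DRing.Cx A) ℤ).inv.app I := by
    rw [AddEquiv.symm_apply_eq, equivHomShift_zero]
  dsimp only [u₀, toD, ShiftedHom.map]
  rw [h]
  infer_instance

/-- the class of the evaluation at the generator -/
noncomputable def u₁ : Q.obj (Dc I (S0 A)) ⟶ (Q.obj I)⟦(0 : ℤ)⟧ := Q.map (lam I) ≫ u₀ I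

instance isIso_u₁ : IsIso (u₁ I) := by
  dsimp only [u₁]
  infer_instance

lemma toD_ofHom_lam : toD (Dc I (S0 A)) I 0 (Cocycle.ofHom (lam I)) = u₁ I := by
  have h : Cocycle.ofHom (lam I) = (Cocycle.ofHom (𝟙 I)).precomp (lam I) := by
    ext p
    simp
  rw [h, toD_precomp]
  rfl

/-- the cocycle attached to an element of `A` -/
noncomputable def cocA (a : A) : Cocycle (Dc I (S0 A)) I 0 :=
  Cocycle.mk (evCochain I (S0 A) 0 (a • one0)) 1 rfl (by
    have := evLin_d I (S0 A) 0 1 rfl (a • one0)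
    rw [S0_d, ModuleCat.hom_zero, LinearMap.zero_apply, map_zero] at this
    exact this.symm)

lemma cocA_coe (a : A) : ((cocA I a : Cocycle (Dc I (S0 A)) I 0) : Cochain (Dc I (S0 A)) I 0) =
    evCochain I (S0 A) 0 (a • one0) := rfl

lemma toD_cocA (a : A) : toD (Dc I (S0 A)) I 0 (cocA I a) = a • u₁ I := by
  rw [← toD_ofHom_lam]
  refine Groth.Agent.H9.RH.toD_smul _ _ 0 a _ _ ?_
  rw [cocA_coe, Cocycle.ofHom_coe, ← evCochain_one0]
  exact map_smul (evLin I (S0 A) 0) a one0

lemma smul_u₁_eq (a : A) : a • u₁ I = Q.map (lam I) ≫ (a • 𝟙 (Q.obj I)) ≫ u₀ I := by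
  rw [Linear.smul_comp, Category.id_comp, Linear.comp_smul]
  rfl


variable {I} {a b : ℤ}

lemma cocycle_eq_zero_of_subsingleton (hI : BInj I a b) (X : DRing.Cx A) (n : ℤ)
    (h : Subsingleton (Q.obj X ⟶ (Q.obj I)⟦n⟧)) (y : Cochain X I n) (m' : ℤ) (hm' : n + 1 = m')
    (hy : δ n m' y = 0) (m : ℤ) (hm : m + 1 = n) : ∃ w : Cochain X I m, δ m n w = y := by
  have := hI.isKInjective
  let yc : Cocycle X I n := Cocycle.mk y m' hm' hy
  have h0 : toD X I n yc = 0 := h.elim _ _
  rw [toD_eq_zero_iff, mem_coboundaries_iff yc m hm] at h0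
  exact h0

theorem refl_S0 (hI : BInj I a b)
    (hEnd : Function.Bijective (fun x : A => x • 𝟙 (Q.obj I)))
    (hext : ∀ n : ℤ, n ≠ 0 → Subsingleton (Q.obj I ⟶ (Q.obj I)⟦n⟧)) : Refl I (S0 A) := by
  have hKI := hI.isKInjective
  rw [refl_iff_forall]
  intro n
  refine Groth.Agent.H9.RG.quasiIsoAt_of_elem _ (n - 1) n (n + 1) (by omega) rfl ?_ ?_
  · -- injectivity
    intro z _ hw
    by_cases hn : n = 0
    · subst hn
      obtain ⟨c, rfl⟩ := exists_smul_one0 z
      obtain ⟨(w : Cochain (Dc I (S0 A)) I (0 - 1)), hw⟩ := hw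
      replace hw : δ (0 - 1) 0 w = evCochain I (S0 A) 0 (c • one0) := hw
      have h0 : toD (Dc I (S0 A)) I 0 (cocA I c) = 0 := by
        rw [toD_eq_zero_iff, mem_coboundaries_iff _ (0 - 1) (by omega)]
        exact ⟨w, hw⟩
      rw [toD_cocA, smul_u₁_eq] at h0
      have h1 : c • 𝟙 (Q.obj I) = 0 := by
        have := congrArg (fun f => inv (Q.map (lam I)) ≫ f ≫ inv (u₀ I)) h0
        simpa using this
      have h2 : c = 0 := hEnd.1 (by simpa using h1)
      exact ⟨0, by rw [h2, zero_smul, map_zero]⟩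
    · have hz : IsZero ((S0 A).X n) := HomologicalComplex.isZero_single_obj_X _ _ _ _ hn
      have : Subsingleton ((S0 A).X n) := ModuleCat.subsingleton_of_isZero hz
      exact ⟨0, Subsingleton.elim _ _⟩
  · -- surjectivity
    intro (y : Cochain (Dc I (S0 A)) I n) hy
    replace hy : δ n (n + 1) y = 0 := hy
    by_cases hn : n = 0
    · subst hn
      let yc : Cocycle (Dc I (S0 A)) I 0 := Cocycle.mk y (0 + 1) rfl hy
      obtain ⟨c, hc⟩ := hEnd.2 (inv (Q.map (lam I)) ≫ toD _ I 0 yc ≫ inv (u₀ I))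
      replace hc : c • 𝟙 (Q.obj I) = inv (Q.map (lam I)) ≫ toD _ I 0 yc ≫ inv (u₀ I) := hc
      have h1 : toD _ I 0 yc = toD _ I 0 (cocA I c) := by
        rw [toD_cocA, smul_u₁_eq, hc]
        simp
      have h2 : toD _ I 0 (yc - cocA I c) = 0 := by
        have := map_sub (toDHom (Dc I (S0 A)) I 0) yc (cocA I c)
        change toD _ I 0 (yc - cocA I c) = toD _ I 0 yc - toD _ I 0 (cocA I c) at this
        rw [this, h1, sub_self]
      rw [toD_eq_zero_iff, mem_coboundaries_iff _ (0 - 1) (by omega)] at h2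
      obtain ⟨w, hw⟩ := h2
      refine ⟨c • one0, by rw [S0_d]; rfl, w, ?_⟩
      change y = evCochain I (S0 A) 0 (c • one0) + δ (0 - 1) 0 w
      rw [hw]
      change y = evCochain I (S0 A) 0 (c • one0) + (y - evCochain I (S0 A) 0 (c • one0))
      abel
    · have hs : Subsingleton (Q.obj (Dc I (S0 A)) ⟶ (Q.obj I)⟦n⟧) := by
        have := hext n hn
        refine ⟨fun f g => ?_⟩
        have := this.elim (inv (Q.map (lam I)) ≫ f) (inv (Q.map (lam I)) ≫ g)
        exact (cancel_epi _).1 this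
      obtain ⟨w, hw⟩ := cocycle_eq_zero_of_subsingleton hI _ n hs y (n + 1) rfl hy (n - 1)
        (by omega)
      refine ⟨0, by rw [map_zero], w, ?_⟩
      have h0 : ((evc I (S0 A)).f n).hom 0 = 0 := map_zero _
      rw [h0, zero_add]
      exact hw.symm

end DA

end Groth.Agent.H10.BD
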