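import Mathlib
import Groth.Agent.H10.BD5
import Groth.Agent.H28.Bidual

set_option autoImplicit false
universe u
open CategoryTheory CategoryTheory.Limits CochainComplex CochainComplex.HomComplex Pretriangulated
open HomologicalComplex

namespace Groth.Agent.H10.BD

open Groth.Agent.H84.RHom DerivedCategory

attribute [local instance] HasDerivedCategory.standard

variable {A : Type u} [CommRing A] (I : DRing.Cx A)

/-- the cone of the biduality map has no cohomology in degree `m` -/
def CAt (K : DRing.Cx A) (m : ℤ) : Prop :=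
  Epi (homologyMap (evc I K) m) ∧ Mono (homologyMap (evc I K) (m + 1))

lemma refl_iff_forall_CAt (K : DRing.Cx A) : Refl I K ↔ ∀ m, CAt I K m := by
  rw [refl_iff_forall]
  constructor
  · intro h m
    have h1 := h m
    have h2 := h (m + 1)
    rw [ReflAt, quasiIsoAt_iff_isIso_homologyMap] at h1 h2
    exact ⟨inferInstance, inferInstance⟩
  · intro h n
    rw [ReflAt, quasiIsoAt_iff_isIso_homologyMap]
    have h1 := (h n).1
    have h2 : ∀ n' : ℤ, n' + 1 = n → Mono (homologyMap (evc I K) n) := by
      intro n' hn'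
      subst hn'
      exact (h n').2
    have := h2 (n - 1) (by omega)
    exact isIso_of_mono_of_epi _

variable {I}

lemma CAt_X₃ [∀ q, Injective (I.X q)] (S : ShortComplex (DRing.Cx A)) (hS : S.ShortExact)
    (h₂ : Refl I S.X₂) (m : ℤ) (h₁ : CAt I S.X₁ (m + 1)) : CAt I S.X₃ m := by
  have hS₂ := DDS_shortExact (I := I) S hS
  have h2 : ∀ n, IsIso (homologyMap (evS I S).τ₂ n) := fun n => by
    have := (refl_iff_forall I S.X₂).1 h₂ n
    rwa [ReflAt, quasiIsoAt_iff_isIso_homologyMap] at this
  constructor
  · refine HomologySequence.epi_homologyMap_τ₃ (evS I S) hS hS₂ m inferInstance ?_ ?_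
    · intro j hj
      obtain rfl : m + 1 = j := hj
      exact h₁.1
    · intro j _
      infer_instance
  · refine HomologySequence.mono_homologyMap_τ₃ (evS I S) hS hS₂ (m + 1) h₁.1 inferInstance ?_
    intro j hj
    obtain rfl : m + 1 + 1 = j := hj
    exact h₁.2


/-- a module in degree `0` -/
noncomputable abbrev sg (M : ModuleCat.{u} A) : DRing.Cx A :=
  (HomologicalComplex.single (ModuleCat.{u} A) (ComplexShape.up ℤ) 0).obj M

/-- a short complex of modules in degree `0` -/
noncomputable abbrev sgS (S : ShortComplex (ModuleCat.{u} A)) : ShortComplex (DRing.Cx A) :=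
  S.map (HomologicalComplex.single (ModuleCat.{u} A) (ComplexShape.up ℤ) 0)

lemma sgS_shortExact (S : ShortComplex (ModuleCat.{u} A)) (hS : S.ShortExact) :
    (sgS S).ShortExact := hS.map_of_exact _

lemma isZero_sg {M : ModuleCat.{u} A} (hM : IsZero M) : IsZero (sg M) :=
  (HomologicalComplex.single (ModuleCat.{u} A) (ComplexShape.up ℤ) 0).map_isZero hM

instance isLE_sg (M : ModuleCat.{u} A) : (Q.obj (sg M)).IsLE 0 := by
  have : (sg M).IsStrictlyLE 0 := inferInstance
  infer_instance

instance isGE_sg (M : ModuleCat.{u} A) : (Q.obj (sg M)).IsGE 0 := by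
  have : (sg M).IsStrictlyGE 0 := inferInstance
  infer_instance

variable {a b : ℤ}

lemma CAt_sg_of_large (hI : BInj I a b) (M : ModuleCat.{u} A) (m : ℤ) (hm1 : b - a < m)
    (hm2 : 0 ≤ m) : CAt I (sg M) m := by
  constructor
  · have := isLE_DDc hI (sg M) 0 (b - a) (by omega)
    have hz : IsZero ((Dc I (Dc I (sg M))).homology m) :=
      IsZero.of_iso (isZero_of_isLE (Q.obj (Dc I (Dc I (sg M)))) (b - a) m hm1)
        ((homologyFunctorFactors (ModuleCat.{u} A) m).app _).symm
    exact ⟨fun g h _ => hz.eq_of_src g h⟩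
  · have hz : IsZero ((sg M).homology (m + 1)) := by
      rw [← exactAt_iff_isZero_homology]
      exact ShortComplex.exact_of_isZero_X₂ _
        (HomologicalComplex.isZero_single_obj_X (ComplexShape.up ℤ) 0 M (m + 1) (by omega))
    exact ⟨fun g h _ => hz.eq_of_tgt g h⟩

section Free

variable (hI : BInj I a b) (hEnd : Function.Bijective (fun x : A => x • 𝟙 (Q.obj I)))
  (hext : ∀ n : ℤ, n ≠ 0 → Subsingleton (Q.obj I ⟶ (Q.obj I)⟦n⟧))

include hI hEnd hext

lemma refl_sg_free : ∀ k : ℕ, Refl I (sg (ModuleCat.of A (Fin k → A))) := by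
  have := hI.injective_X
  intro k
  induction k with
  | zero =>
    exact refl_of_isZero I (isZero_sg (ModuleCat.isZero_of_subsingleton _))
  | succ k ih =>
    exact refl_X₂ I _ (sgS_shortExact _ (Groth.Agent.H28.Bidual.freeSC_shortExact k))
      (refl_S0 hI hEnd hext) ih

theorem refl_sg_of_finite [IsNoetherianRing A] (M : ModuleCat.{u} A) [Module.Finite A M] :
    Refl I (sg M) := by
  have := hI.injective_X
  have key : ∀ (j : ℕ) (M : ModuleCat.{u} A) [Module.Finite A M] (m : ℤ),
      b - a < m + j → 0 ≤ m + j → CAt I (sg M) m := by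
    intro j
    induction j with
    | zero =>
      intro M _ m h1 h2
      exact CAt_sg_of_large hI M m (by simpa using h1) (by simpa using h2)
    | succ j ih =>
      intro M _ m h1 h2
      obtain ⟨k, N, f, g, w, hN, hS⟩ := Groth.Agent.H28.Bidual.exists_pres M
      exact CAt_X₃ (sgS (ShortComplex.mk f g w)) (sgS_shortExact _ hS)
        (refl_sg_free hI hEnd hext k) m
        (ih N (m + 1) (by push_cast at h1; omega) (by push_cast at h2; omega))
  rw [refl_iff_forall_CAt]
  intro m
  exact key (max (b - a + 1 - m) (0 - m)).toNat M m (by omega) (by omega)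

end Free

end Groth.Agent.H10.BD
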