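import Mathlib
import Groth.Agent.H10.BD6
import Groth.Agent.H45.Derived.BoundedInduction

set_option autoImplicit false
universe u
open CategoryTheory CategoryTheory.Limits CochainComplex CochainComplex.HomComplex Pretriangulated
open HomologicalComplex

namespace Groth.Agent.H10.BD

open Groth.Agent.H84.RHom DerivedCategory ZeroObject

attribute [local instance] HasDerivedCategory.standard

variable {A : Type u} [CommRing A] (I : DRing.Cx A)

/-- reflexivity as a property of objects of `D(A)` -/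
def ReflD : ObjectProperty (Dual.D A) :=
  fun X => ∃ K : DRing.Cx A, Nonempty (Q.obj K ≅ X) ∧ Refl I K

instance : (ReflD I).IsClosedUnderIsomorphisms where
  of_iso e h := by
    obtain ⟨K, ⟨eK⟩, hK⟩ := h
    exact ⟨K, ⟨eK ≪≫ e⟩, hK⟩

lemma reflD_iff [I.IsKInjective] (K : DRing.Cx A) : ReflD I (Q.obj K) ↔ Refl I K := by
  constructor
  · rintro ⟨K', ⟨e⟩, hK'⟩
    exact (refl_iff_of_iso I e).1 hK'
  · intro h
    exact ⟨K, ⟨Iso.refl _⟩, h⟩

lemma reflD_of_isZero {X : Dual.D A} (hX : IsZero X) : ReflD I X :=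
  ⟨0, ⟨(Q.map_isZero (isZero_zero _)).iso hX⟩, refl_of_isZero I (isZero_zero _)⟩

/-- every distinguished triangle comes from a short exact sequence of complexes -/
lemma exists_ses_of_distTriang (T : Triangle (Dual.D A)) (hT : T ∈ distTriang (Dual.D A)) :
    ∃ (S : ShortComplex (DRing.Cx A)), S.ShortExact ∧ Nonempty (Q.obj S.X₁ ≅ T.obj₁) ∧
      Nonempty (Q.obj S.X₂ ≅ T.obj₂) ∧ Nonempty (Q.obj S.X₃ ≅ T.obj₃) := by
  have hT' := inv_rot_of_distTriang T hT
  rw [mem_distTriang_iff] at hT'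
  obtain ⟨X, Y, f, ⟨e⟩⟩ := hT'
  refine ⟨mappingCone.triangleRotateShortComplex f, ?_, ⟨?_⟩, ⟨?_⟩, ⟨?_⟩⟩
  · refine HomologicalComplex.shortExact_of_degreewise_shortExact _ (fun n => ?_)
    exact (mappingCone.triangleRotateShortComplexSplitting f n).shortExact
  · exact (Triangle.π₂.mapIso e).symm
  · exact (Triangle.π₃.mapIso e).symm
  · have e1 : T.obj₃⟦(-1 : ℤ)⟧ ≅ Q.obj X := Triangle.π₁.mapIso e
    exact ((Q.commShiftIso (1 : ℤ)).app X) ≪≫ (CategoryTheory.shiftFunctor (Dual.D A) (1 : ℤ)).mapIso e1.symm ≪≫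
      (shiftFunctorCompIsoId (Dual.D A) (-1 : ℤ) 1 (by norm_num)).app T.obj₃


section Tri

variable {I} {a b : ℤ} (hI : BInj I a b)

include hI

lemma reflD_obj₂ (T : Triangle (Dual.D A)) (hT : T ∈ distTriang (Dual.D A))
    (h₁ : ReflD I T.obj₁) (h₃ : ReflD I T.obj₃) : ReflD I T.obj₂ := by
  have := hI.isKInjective
  have := hI.injective_X
  obtain ⟨S, hS, ⟨e₁⟩, ⟨e₂⟩, ⟨e₃⟩⟩ := exists_ses_of_distTriang T hT
  have h₁' : Refl I S.X₁ := (reflD_iff I _).1 ((ReflD I).prop_of_iso e₁.symm h₁)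
  have h₃' : Refl I S.X₃ := (reflD_iff I _).1 ((ReflD I).prop_of_iso e₃.symm h₃)
  exact (ReflD I).prop_of_iso e₂ ((reflD_iff I _).2 (refl_X₂ I S hS h₁' h₃'))

lemma reflD_obj₃ (T : Triangle (Dual.D A)) (hT : T ∈ distTriang (Dual.D A))
    (h₁ : ReflD I T.obj₁) (h₂ : ReflD I T.obj₂) : ReflD I T.obj₃ := by
  have := hI.isKInjective
  have := hI.injective_X
  obtain ⟨S, hS, ⟨e₁⟩, ⟨e₂⟩, ⟨e₃⟩⟩ := exists_ses_of_distTriang T hT
  have h₁' : Refl I S.X₁ := (reflD_iff I _).1 ((ReflD I).prop_of_iso e₁.symm h₁)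
  have h₂' : Refl I S.X₂ := (reflD_iff I _).1 ((ReflD I).prop_of_iso e₂.symm h₂)
  exact (ReflD I).prop_of_iso e₃ ((reflD_iff I _).2 (refl_X₃ I S hS h₁' h₂'))

lemma reflD_obj₁ (T : Triangle (Dual.D A)) (hT : T ∈ distTriang (Dual.D A))
    (h₂ : ReflD I T.obj₂) (h₃ : ReflD I T.obj₃) : ReflD I T.obj₁ := by
  have := hI.isKInjective
  have := hI.injective_X
  obtain ⟨S, hS, ⟨e₁⟩, ⟨e₂⟩, ⟨e₃⟩⟩ := exists_ses_of_distTriang T hT
  have h₂' : Refl I S.X₂ := (reflD_iff I _).1 ((ReflD I).prop_of_iso e₂.symm h₂)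
  have h₃' : Refl I S.X₃ := (reflD_iff I _).1 ((ReflD I).prop_of_iso e₃.symm h₃)
  exact (ReflD I).prop_of_iso e₁ ((reflD_iff I _).2 (refl_X₁ I S hS h₂' h₃'))

lemma reflD_shift_one_iff (X : Dual.D A) : ReflD I (X⟦(1 : ℤ)⟧) ↔ ReflD I X := by
  have hT := rot_of_distTriang _ (contractible_distinguished X)
  have h0 : ReflD I (contractibleTriangle X).rotate.obj₂ := reflD_of_isZero I (isZero_zero _)
  constructor
  · intro h
    exact reflD_obj₁ hI _ hT h0 h
  · intro h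
    exact reflD_obj₃ hI _ hT h h0

lemma reflD_shift_iff (X : Dual.D A) (n : ℤ) : ReflD I (X⟦n⟧) ↔ ReflD I X := by
  induction n using Int.induction_on with
  | zero => exact (ReflD I).prop_iff_of_iso ((CategoryTheory.shiftFunctorZero (Dual.D A) ℤ).app X)
  | succ n ih =>
    rw [← ih, ← reflD_shift_one_iff hI (X⟦(n : ℤ)⟧)]
    exact (ReflD I).prop_iff_of_iso ((CategoryTheory.shiftFunctorAdd' (Dual.D A) (n : ℤ) 1 _ rfl).app X)
  | pred n ih =>
    rw [← ih, ← reflD_shift_one_iff hI (X⟦(-(n : ℤ) - 1)⟧)]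
    exact (ReflD I).prop_iff_of_iso
      ((CategoryTheory.shiftFunctorAdd' (Dual.D A) (-(n : ℤ) - 1) 1 (-(n : ℤ)) (by omega)).app X).symm

end Tri


section Bounded

variable {I} {a b : ℤ} (hI : BInj I a b)
  (hEnd : Function.Bijective (fun x : A => x • 𝟙 (Q.obj I)))
  (hext : ∀ n : ℤ, n ≠ 0 → Subsingleton (Q.obj I ⟶ (Q.obj I)⟦n⟧))

include hI hEnd hext

theorem reflD_of_bounded [IsNoetherianRing A] (Z : Dual.D A) (c d : ℤ) [Z.IsGE c] [Z.IsLE d]
    (hZ : ∀ q : ℤ, Module.Finite A (Dual.HD A Z q)) : ReflD I Z := by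
  have := hI.isKInjective
  refine Groth.Agent.H45.bounded_induction' (ReflD I) (Groth.Agent.H28.ExtFinite.FinMod (A := A))
    ?_ ?_ ?_ ?_ Z c d inferInstance inferInstance hZ
  · intro Z hZ
    exact reflD_of_isZero I hZ
  · intro T hT h1 h3
    exact reflD_obj₂ hI T hT h1 h3
  · intro M n hM
    have hM' : Module.Finite A M := hM
    let e := ((DerivedCategory.singleFunctors (ModuleCat.{u} A)).shiftIso (-n) n 0 (by omega)).app M
    refine (ReflD I).prop_of_iso e ?_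
    change ReflD I ((Q.obj (sg M))⟦-n⟧)
    rw [reflD_shift_iff hI]
    exact (reflD_iff I (sg M)).2 (refl_sg_of_finite hI hEnd hext M)
  · intro M hM
    have : Subsingleton M := ModuleCat.subsingleton_of_isZero hM
    exact (inferInstance : Module.Finite A M)

end Bounded

end Groth.Agent.H10.BD
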