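import Mathlib
import Groth.Agent.H10.BD7

set_option autoImplicit false
universe u
open CategoryTheory CategoryTheory.Limits CochainComplex CochainComplex.HomComplex Pretriangulated
open HomologicalComplex

namespace Groth.Agent.H10.BD

open Groth.Agent.H84.RHom DerivedCategory ZeroObject

attribute [local instance] HasDerivedCategory.standard

variable {A : Type u} [CommRing A]

lemma quasiIsoAt_iff_isIso_Q {K L : DRing.Cx A} (f : K ⟶ L) (n : ℤ) :
    QuasiIsoAt f n ↔ IsIso ((DerivedCategory.homologyFunctor (ModuleCat.{u} A) n).map (Q.map f)) := by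
  rw [quasiIsoAt_iff_isIso_homologyMap]
  exact (NatIso.isIso_map_iff (homologyFunctorFactors (ModuleCat.{u} A) n) f).symm

lemma quasiIsoAt_f_of_isGE (S : ShortComplex (DRing.Cx A)) (hS : S.ShortExact) (t n : ℤ)
    (h : n < t) [(Q.obj S.X₃).IsGE t] : QuasiIsoAt S.f n := by
  rw [quasiIsoAt_iff_isIso_Q]
  exact Groth.Agent.H45.isIso_homologyMap_mor₁ (triangleOfSES hS) (triangleOfSES_distinguished hS)
    (n - 1) n (by omega) (isZero_of_isGE (Q.obj S.X₃) t (n - 1) (by omega))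
    (isZero_of_isGE (Q.obj S.X₃) t n h)

lemma quasiIsoAt_g_of_isLE (S : ShortComplex (DRing.Cx A)) (hS : S.ShortExact) (t n : ℤ)
    (h : t < n) [(Q.obj S.X₁).IsLE t] : QuasiIsoAt S.g n := by
  rw [quasiIsoAt_iff_isIso_Q]
  exact Groth.Agent.H45.isIso_homologyMap_mor₂ (triangleOfSES hS) (triangleOfSES_distinguished hS)
    n (n + 1) rfl (isZero_of_isLE (Q.obj S.X₁) t n h)
    (isZero_of_isLE (Q.obj S.X₁) t (n + 1) (by omega))

variable {I : DRing.Cx A} {a b : ℤ} (hI : BInj I a b)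

include hI

lemma reflAt_X₁_iff_X₂ (S : ShortComplex (DRing.Cx A)) (hS : S.ShortExact) (t n : ℤ)
    (hn1 : n < t) (hn2 : n + (b - a) < t) [(Q.obj S.X₃).IsGE t] :
    ReflAt I S.X₁ n ↔ ReflAt I S.X₂ n := by
  have := hI.injective_X
  have h1 : QuasiIsoAt S.f n := quasiIsoAt_f_of_isGE S hS t n hn1
  have : (Q.obj (DDS I S).X₃).IsGE (t - (b - a)) := isGE_DDc hI S.X₃ t _ le_rfl
  have h2 : QuasiIsoAt (DDmap I S.f) n :=
    quasiIsoAt_f_of_isGE (DDS I S) (DDS_shortExact S hS) (t - (b - a)) n (by omega)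
  have h := evc_naturality I S.f
  have h3 : QuasiIsoAt (evc I S.X₁ ≫ DDmap I S.f) n ↔ QuasiIsoAt (evc I S.X₁) n :=
    quasiIsoAt_iff_comp_right _ _ n
  have h4 : QuasiIsoAt (S.f ≫ evc I S.X₂) n ↔ QuasiIsoAt (evc I S.X₂) n :=
    quasiIsoAt_iff_comp_left _ _ n
  rw [ReflAt, ReflAt, ← h3, h, h4]

lemma reflAt_X₂_iff_X₃ (S : ShortComplex (DRing.Cx A)) (hS : S.ShortExact) (t n : ℤ)
    (hn1 : t < n) (hn2 : t + (b - a) < n) [(Q.obj S.X₁).IsLE t] :
    ReflAt I S.X₂ n ↔ ReflAt I S.X₃ n := by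
  have := hI.injective_X
  have h1 : QuasiIsoAt S.g n := quasiIsoAt_g_of_isLE S hS t n hn1
  have : (Q.obj (DDS I S).X₁).IsLE (t + (b - a)) := isLE_DDc hI S.X₁ t _ le_rfl
  have h2 : QuasiIsoAt (DDmap I S.g) n :=
    quasiIsoAt_g_of_isLE (DDS I S) (DDS_shortExact S hS) (t + (b - a)) n (by omega)
  have h := evc_naturality I S.g
  have h3 : QuasiIsoAt (evc I S.X₂ ≫ DDmap I S.g) n ↔ QuasiIsoAt (evc I S.X₂) n :=
    quasiIsoAt_iff_comp_right _ _ n
  have h4 : QuasiIsoAt (S.g ≫ evc I S.X₃) n ↔ QuasiIsoAt (evc I S.X₃) n :=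
    quasiIsoAt_iff_comp_left _ _ n
  rw [ReflAt, ReflAt, ← h3, h, h4]


omit hI in
lemma finite_HD_iff_of_quasiIsoAt {K L : DRing.Cx A} (f : K ⟶ L) (j : ℤ) (h : QuasiIsoAt f j) :
    Module.Finite A (Dual.HD A (Q.obj K) j) ↔ Module.Finite A (Dual.HD A (Q.obj L) j) := by
  rw [quasiIsoAt_iff_isIso_Q] at h
  let e := (asIso ((DerivedCategory.homologyFunctor (ModuleCat.{u} A) j).map (Q.map f))).toLinearEquiv
  exact ⟨fun _ => Module.Finite.equiv e, fun _ => Module.Finite.equiv e.symm⟩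

omit hI in
lemma isGE_X₃_truncLE (K : DRing.Cx A) (q q' : ℤ) (h : q + 1 = q') :
    (Q.obj (K.shortComplexTruncLE q).X₃).IsGE q' := by
  have : (Q.obj (K.truncGE q')).IsGE q' := inferInstance
  exact TStructure.t.isGE_of_iso (asIso (Q.map (K.shortComplexTruncLEX₃ToTruncGE q q' h))).symm q'

theorem refl_of_finite [IsNoetherianRing A]
    (hEnd : Function.Bijective (fun x : A => x • 𝟙 (Q.obj I)))
    (hext : ∀ n : ℤ, n ≠ 0 → Subsingleton (Q.obj I ⟶ (Q.obj I)⟦n⟧))
    (K : DRing.Cx A) (hK : ∀ i : ℤ, Module.Finite A (Dual.HD A (Q.obj K) i)) : Refl I K := by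
  have hKI := hI.isKInjective
  rw [refl_iff_forall]
  intro n
  obtain ⟨c, hc1, hc2⟩ : ∃ c : ℤ, b - a ≤ c ∧ 0 ≤ c := ⟨max (b - a) 0, le_max_left _ _, le_max_right _ _⟩
  let q : ℤ := n + c + 1
  let q' : ℤ := n - c - 2
  -- first truncation
  let S := K.shortComplexTruncLE q
  have hS : S.ShortExact := K.shortComplexTruncLE_shortExact q
  have : (Q.obj S.X₃).IsGE (q + 1) := isGE_X₃_truncLE K q (q + 1) rfl
  refine (reflAt_X₁_iff_X₂ hI S hS (q + 1) n (by omega) (by omega)).1 ?_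
  -- second truncation
  let K' : DRing.Cx A := K.truncLE q
  have hK'LE : (Q.obj K').IsLE q := inferInstance
  have hK' : ∀ i : ℤ, Module.Finite A (Dual.HD A (Q.obj K') i) := by
    intro i
    by_cases hi : i ≤ q
    · exact (finite_HD_iff_of_quasiIsoAt (K.ιTruncLE q) i (K.quasiIsoAt_ιTruncLE q i hi)).2 (hK i)
    · have hz : IsZero ((DerivedCategory.homologyFunctor (ModuleCat.{u} A) i).obj (Q.obj K')) :=
        isZero_of_isLE _ q i (by omega)
      have : Subsingleton (Dual.HD A (Q.obj K') i) := ModuleCat.subsingleton_of_isZero hz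
      infer_instance
  let S' := K'.shortComplexTruncLE q'
  have hS' : S'.ShortExact := K'.shortComplexTruncLE_shortExact q'
  have : (Q.obj S'.X₁).IsLE q' := by
    have : (Q.obj (K'.truncLE q')).IsLE q' := inferInstance
    exact this
  change ReflAt I S'.X₂ n
  refine (reflAt_X₂_iff_X₃ hI S' hS' q' n (by omega) (by omega)).2 ?_
  -- the bounded piece
  have hGE : (Q.obj S'.X₃).IsGE (q' + 1) := isGE_X₃_truncLE K' q' (q' + 1) rfl
  have hg : ∀ j : ℤ, q' < j → QuasiIsoAt S'.g j := fun j hj => quasiIsoAt_g_of_isLE S' hS' q' j hj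
  have hLE : (Q.obj S'.X₃).IsLE q := by
    rw [DerivedCategory.isLE_iff]
    intro j hj
    have h1 := hg j (by omega)
    rw [quasiIsoAt_iff_isIso_Q] at h1
    exact IsZero.of_iso (isZero_of_isLE (Q.obj K') q j hj)
      (asIso ((DerivedCategory.homologyFunctor (ModuleCat.{u} A) j).map (Q.map S'.g))).symm
  have hfin : ∀ j : ℤ, Module.Finite A (Dual.HD A (Q.obj S'.X₃) j) := by
    intro j
    by_cases hj : q' < j
    · exact (finite_HD_iff_of_quasiIsoAt S'.g j (hg j hj)).1 (hK' j)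
    · have hz : IsZero ((DerivedCategory.homologyFunctor (ModuleCat.{u} A) j).obj (Q.obj S'.X₃)) :=
        isZero_of_isGE _ (q' + 1) j (by omega)
      have : Subsingleton (Dual.HD A (Q.obj S'.X₃) j) := ModuleCat.subsingleton_of_isZero hz
      infer_instance
  have hR : Refl I S'.X₃ :=
    (reflD_iff I _).1 (reflD_of_bounded hI hEnd hext (Q.obj S'.X₃) (q' + 1) q hfin)
  exact (refl_iff_forall I _).1 hR n

end Groth.Agent.H10.BD
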