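import Mathlib
import Groth.Agent.H10.BD8
import Groth.Agent.H9.RH.HDEquiv
import Groth.Agent.H35.InjAmp

set_option autoImplicit false
universe u
open CategoryTheory CategoryTheory.Limits CochainComplex CochainComplex.HomComplex Pretriangulated
open HomologicalComplex

namespace Groth.Agent.H10.BD

open Groth.Agent.H84.RHom DerivedCategory ZeroObject

attribute [local instance] HasDerivedCategory.standard

variable {A : Type u} [CommRing A]

/-- the dual is well defined on `D(A)` -/
lemma nonempty_Q_Dc_iso (I : DRing.Cx A) [I.IsKInjective] {X Y : DRing.Cx A}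
    (e : Q.obj X ≅ Q.obj Y) : Nonempty (Q.obj (Dc I Y) ≅ Q.obj (Dc I X)) := by
  obtain ⟨Z, s, hs, g, hg⟩ := right_fac e.hom
  have hs' : QuasiIso s := (isIso_Q_map_iff_quasiIso _ s).1 hs
  have hg' : QuasiIso g := by
    rw [← isIso_Q_map_iff_quasiIso _ g]
    have : Q.map g = Q.map s ≫ e.hom := by rw [hg, IsIso.hom_inv_id_assoc]
    rw [this]
    infer_instance
  exact ⟨asIso (Q.map (Dmap I g)) ≪≫ (asIso (Q.map (Dmap I s))).symm⟩

/-- **biduality** with respect to a dualizing complex -/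
theorem biduality [IsNoetherianRing A] (ω : Dual.D A) (hω : Dual.IsDualizing A ω)
    (K : DRing.Cx A) [DRing.HasRHomCx K]
    (hK : ∀ i : ℤ, Module.Finite A (Dual.HD A (DRing.toD K) i)) :
    (∀ i : ℤ, Module.Finite A (Dual.HD A ((DRing.RHomCx K).obj ω) i)) ∧
      ∀ (E : DRing.Cx A) [DRing.HasRHomCx E], Nonempty (DRing.toD E ≅ (DRing.RHomCx K).obj ω) →
        Nonempty ((DRing.RHomCx E).obj ω ≅ DRing.toD K) := by
  obtain ⟨a, b, hab⟩ := hω.finite_injective_dimension
  have hamp : DRing.HasInjAmplitudeIn A a b ω :=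
    Groth.Agent.H35.hasInjAmplitudeIn_of_ext_vanishing ω a b (fun J i hi => hab (A ⧸ J) i hi)
  constructor
  · intro i
    obtain ⟨e⟩ := Groth.Agent.H9.RH.nonempty_HD_RHomCx_equiv K ω i
    have := Groth.Agent.H28.ExtFinite.finite_hom_of_injAmp (DRing.toD K) ω hK
      hω.finite_cohomology a b hamp i
    exact Module.Finite.equiv e.symm
  · obtain ⟨I, hIv, hIinj, ⟨eI⟩⟩ := hamp
    have hI : BInj I a b := ⟨hIv, hIinj⟩
    have hKI := hI.isKInjective
    have hEnd : Function.Bijective (fun x : A => x • 𝟙 (Q.obj I)) := by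
      have h1 := hω.toEnd_bijective
      have h2 : (fun x : A => x • 𝟙 (Q.obj I)) =
          (fun u : ω ⟶ ω => eI.hom ≫ u ≫ eI.inv) ∘ (fun x : A => x • 𝟙 ω) := by
        funext x
        simp
      rw [h2]
      refine Function.Bijective.comp ?_ h1
      constructor
      · intro u v h
        have := congrArg (fun f => eI.inv ≫ f ≫ eI.hom) h
        simpa using this
      · intro f
        exact ⟨eI.inv ≫ f ≫ eI.hom, by simp⟩
    have hext : ∀ n : ℤ, n ≠ 0 → Subsingleton (Q.obj I ⟶ (Q.obj I)⟦n⟧) := by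
      intro n hn
      have := hω.ext_self_subsingleton n hn
      refine ⟨fun f g => ?_⟩
      have h := this.elim (eI.inv ≫ f ≫ (CategoryTheory.shiftFunctor (Dual.D A) n).map eI.hom)
        (eI.inv ≫ g ≫ (CategoryTheory.shiftFunctor (Dual.D A) n).map eI.hom)
      have h' := (cancel_epi eI.inv).1 h
      exact (cancel_mono _).1 h'
    have hR : Refl I K := refl_of_finite hI hEnd hext K hK
    have hR' : IsIso (Q.map (evc I K)) := (refl_iff_isIso I K).1 hR
    intro E _ ⟨e⟩
    let e' : Q.obj E ≅ Q.obj (Dc I K) :=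
      e ≪≫ (DRing.RHomCx K).mapIso eI.symm ≪≫ RHomCxIso K I hKI
    obtain ⟨d⟩ := nonempty_Q_Dc_iso I e'
    exact ⟨(DRing.RHomCx E).mapIso eI.symm ≪≫ RHomCxIso E I hKI ≪≫ d.symm ≪≫
      (asIso (Q.map (evc I K))).symm⟩

end Groth.Agent.H10.BD
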