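import Mathlib
import Groth.Agent.H33.RDLes

/-!
# Towers of short exact sequences with injective middle terms (helper10)

A `Tower` is a sequence of short exact sequences `0 → Z k → I k → Z (k+1) → 0` with `I k`
injective.  It yields an injective resolution of `Z 0`, and for a left exact functor `F`
canonical maps `π n : F (Z n) ⟶ RⁿF (Z 0)` (dimension shifting), natural with respect to morphisms
of towers.
-/

set_option autoImplicit false
universe v v' u u'
open CategoryTheory CategoryTheory.Limits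

namespace Groth.Agent.H10.CD

/-- A tower of short exact sequences `0 → Z k → I k → Z (k+1) → 0` with `I k` injective. -/
structure Tower (A : Type u) [Category.{v} A] [Abelian A] where
  Z : ℕ → A
  I : ℕ → A
  i : ∀ k, Z k ⟶ I k
  q : ∀ k, I k ⟶ Z (k + 1)
  w : ∀ k, i k ≫ q k = 0
  ses : ∀ k, (ShortComplex.mk (i k) (q k) (w k)).ShortExact
  inj : ∀ k, Injective (I k)

namespace Tower

variable {A : Type u} [Category.{v} A] [Abelian A]

attribute [reassoc (attr := simp)] Tower.w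

instance (T : Tower A) (k : ℕ) : Injective (T.I k) := T.inj k
instance (T : Tower A) (k : ℕ) : Mono (T.i k) := (T.ses k).mono_f
instance (T : Tower A) (k : ℕ) : Epi (T.q k) := (T.ses k).epi_g

/-- morphisms of towers -/
structure Hom (T T' : Tower A) where
  fZ : ∀ k, T.Z k ⟶ T'.Z k
  fI : ∀ k, T.I k ⟶ T'.I k
  commi : ∀ k, T.i k ≫ fI k = fZ k ≫ T'.i k
  commq : ∀ k, T.q k ≫ fZ (k + 1) = fI k ≫ T'.q k

attribute [reassoc] Hom.commi Hom.commq

/-- the differential `I k ⟶ I (k+1)` -/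
noncomputable def d (T : Tower A) (k : ℕ) : T.I k ⟶ T.I (k + 1) := T.q k ≫ T.i (k + 1)

@[reassoc (attr := simp)]
lemma d_comp_d (T : Tower A) (k : ℕ) : T.d k ≫ T.d (k + 1) = 0 := by
  simp [d]

@[reassoc (attr := simp)]
lemma i_comp_d (T : Tower A) (k : ℕ) : T.i k ≫ T.d k = 0 := by
  simp [d]

/-- the cochain complex `I 0 ⟶ I 1 ⟶ ...` -/
noncomputable abbrev cocomplex (T : Tower A) : CochainComplex A ℕ :=
  CochainComplex.of T.I T.d T.d_comp_d

@[simp] lemma cocomplex_X (T : Tower A) (k : ℕ) : T.cocomplex.X k = T.I k := rfl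

@[simp] lemma cocomplex_d (T : Tower A) (k : ℕ) : T.cocomplex.d k (k + 1) = T.d k := by
  simp [cocomplex]

/-- `Z k` is the kernel of `d k` -/
lemma exact_i_d (T : Tower A) (k : ℕ) :
    (ShortComplex.mk (T.i k) (T.d k) (T.i_comp_d k)).Exact := by
  let φ : ShortComplex.mk (T.i k) (T.q k) (T.w k) ⟶ ShortComplex.mk (T.i k) (T.d k) (T.i_comp_d k) :=
    { τ₁ := 𝟙 _
      τ₂ := 𝟙 _
      τ₃ := T.i (k + 1)
      comm₁₂ := by simp
      comm₂₃ := by simp [d] }
  have : Epi φ.τ₁ := by dsimp [φ]; infer_instance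
  have : IsIso φ.τ₂ := by dsimp [φ]; infer_instance
  have : Mono φ.τ₃ := by dsimp [φ]; infer_instance
  exact (ShortComplex.exact_iff_of_epi_of_isIso_of_mono φ).1 (T.ses k).exact

lemma exact_d_d (T : Tower A) (k : ℕ) :
    (ShortComplex.mk (T.d k) (T.d (k + 1)) (T.d_comp_d k)).Exact := by
  let φ : ShortComplex.mk (T.d k) (T.d (k + 1)) (T.d_comp_d k) ⟶
      ShortComplex.mk (T.i (k + 1)) (T.d (k + 1)) (T.i_comp_d (k + 1)) :=
    { τ₁ := T.q k
      τ₂ := 𝟙 _
      τ₃ := 𝟙 _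
      comm₁₂ := by simp [d]
      comm₂₃ := by simp }
  have : Epi φ.τ₁ := by dsimp [φ]; infer_instance
  have : IsIso φ.τ₂ := by dsimp [φ]; infer_instance
  have : Mono φ.τ₃ := by dsimp [φ]; infer_instance
  exact (ShortComplex.exact_iff_of_epi_of_isIso_of_mono φ).2 (T.exact_i_d (k + 1))

/-- the augmentation `Z 0 ⟶ I 0` as a morphism of complexes -/
noncomputable def ι (T : Tower A) : (CochainComplex.single₀ A).obj (T.Z 0) ⟶ T.cocomplex :=
  (CochainComplex.fromSingle₀Equiv _ _).symm ⟨T.i 0, by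
    change T.i 0 ≫ T.cocomplex.d 0 1 = 0
    rw [cocomplex_d]
    exact T.i_comp_d 0⟩

@[simp]
lemma ι_f_zero (T : Tower A) : T.ι.f 0 = T.i 0 :=
  CochainComplex.fromSingle₀Equiv_symm_apply_f_zero _ _

lemma cocomplex_exactAt_succ (T : Tower A) (n : ℕ) : T.cocomplex.ExactAt (n + 1) := by
  rw [HomologicalComplex.exactAt_iff' _ n (n + 1) (n + 2) (by simp)
    (by simp only [CochainComplex.next]; rfl)]
  refine (ShortComplex.exact_iff_of_iso ?_).2 (T.exact_d_d n)
  exact ShortComplex.isoMk (Iso.refl _) (Iso.refl _) (Iso.refl _)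
    (by change 𝟙 _ ≫ T.d n = T.cocomplex.d n (n + 1) ≫ 𝟙 _
        rw [cocomplex_d, Category.id_comp, Category.comp_id])
    (by change 𝟙 _ ≫ T.d (n + 1) = T.cocomplex.d (n + 1) (n + 2) ≫ 𝟙 _
        rw [cocomplex_d, Category.id_comp, Category.comp_id])

/-- the injective resolution of `Z 0` attached to a tower -/
noncomputable def resolution (T : Tower A) : InjectiveResolution (T.Z 0) where
  cocomplex := T.cocomplex
  injective := fun n => T.inj n
  ι := T.ι
  quasiIso := ⟨fun n => by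
    cases n
    · rw [CochainComplex.quasiIsoAt₀_iff, ShortComplex.quasiIso_iff_of_zeros]
      · refine (ShortComplex.exact_and_mono_f_iff_of_iso ?_).2
          ⟨T.exact_i_d 0, by dsimp; infer_instance⟩
        exact ShortComplex.isoMk (Iso.refl _) (Iso.refl _) (Iso.refl _)
          (by change 𝟙 _ ≫ T.i 0 = T.ι.f 0 ≫ 𝟙 _
              rw [ι_f_zero, Category.id_comp, Category.comp_id])
          (by change 𝟙 _ ≫ T.d 0 = T.cocomplex.d 0 1 ≫ 𝟙 _
              rw [cocomplex_d, Category.id_comp, Category.comp_id])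
      all_goals rfl
    · rw [quasiIsoAt_iff_exactAt]
      · exact T.cocomplex_exactAt_succ _
      · apply CochainComplex.exactAt_succ_single_obj⟩

/-- `Z k` is a kernel of `d k` -/
noncomputable def isLimitKernelFork (T : Tower A) (k : ℕ) :
    IsLimit (KernelFork.ofι (T.i k) (T.i_comp_d k)) :=
  (T.exact_i_d k).fIsKernel

section Functor

variable {B : Type u'} [Category.{v'} B] [Abelian B] (F : A ⥤ B) [F.Additive]

/-- the complex `F(I •)` -/
noncomputable abbrev M (T : Tower A) : CochainComplex B ℕ :=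
  (F.mapHomologicalComplex _).obj T.cocomplex

/-- `F(i n)`, typed in terms of `M` -/
noncomputable def iM (T : Tower A) (n : ℕ) : F.obj (T.Z n) ⟶ (T.M F).X n := F.map (T.i n)

/-- `F(q k)`, typed in terms of `M` -/
noncomputable def qM (T : Tower A) (k : ℕ) : (T.M F).X k ⟶ F.obj (T.Z (k + 1)) := F.map (T.q k)

lemma M_d (T : Tower A) (k : ℕ) : (T.M F).d k (k + 1) = T.qM F k ≫ T.iM F (k + 1) := by
  change F.map (T.cocomplex.d k (k + 1)) = F.map (T.q k) ≫ F.map (T.i (k + 1))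
  rw [cocomplex_d, ← F.map_comp]
  rfl

@[reassoc (attr := simp)]
lemma iM_qM (T : Tower A) (k : ℕ) : T.iM F k ≫ T.qM F k = 0 := by
  change F.map (T.i k) ≫ F.map (T.q k) = 0
  rw [← F.map_comp, T.w, F.map_zero]

@[reassoc (attr := simp)]
lemma iM_d (T : Tower A) (k : ℕ) : T.iM F k ≫ (T.M F).d k (k + 1) = 0 := by
  rw [M_d, iM_qM_assoc, zero_comp]

/-- `F(Z n) ⟶ cycles_n(F(I •))` -/
noncomputable def ζ (T : Tower A) (n : ℕ) : F.obj (T.Z n) ⟶ (T.M F).cycles n :=
  (T.M F).liftCycles (T.iM F n) (n + 1) (by simp) (T.iM_d F n)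

@[reassoc (attr := simp)]
lemma ζ_iCycles (T : Tower A) (n : ℕ) : T.ζ F n ≫ (T.M F).iCycles n = T.iM F n := by
  simp [ζ]

instance isIso_ζ [PreservesFiniteLimits F] (T : Tower A) (n : ℕ) : IsIso (T.ζ F n) := by
  have h₁ := KernelFork.mapIsLimit _ (T.isLimitKernelFork n) F
  have hz : (T.M F).iCycles n ≫ F.map (T.d n) = 0 := by
    have hz := (T.M F).iCycles_d n (n + 1)
    rw [M_d] at hz
    refine Eq.trans ?_ hz
    change _ ≫ F.map (T.q n ≫ T.i (n + 1)) = _
    rw [F.map_comp]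
    rfl
  obtain ⟨l₀, hl⟩ := KernelFork.IsLimit.lift' h₁ ((T.M F).iCycles n) hz
  let l : (T.M F).cycles n ⟶ F.obj (T.Z n) := l₀
  have hl' : l ≫ T.iM F n = (T.M F).iCycles n := hl
  have : Mono (T.iM F n) := by
    dsimp only [iM]
    have : F.PreservesMonomorphisms := preservesMonomorphisms_of_preservesLimitsOfShape F
    exact F.map_mono (T.i n)
  refine ⟨l, ?_, ?_⟩
  · rw [← cancel_mono (T.iM F n), Category.assoc, hl', Category.id_comp, ζ_iCycles]
  · rw [← cancel_mono ((T.M F).iCycles n), Category.assoc, Category.id_comp, ζ_iCycles, hl']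

lemma qM_ζ (T : Tower A) (k : ℕ) :
    T.qM F k ≫ T.ζ F (k + 1) = (T.M F).toCycles k (k + 1) := by
  rw [← cancel_mono ((T.M F).iCycles (k + 1)), Category.assoc, ζ_iCycles,
    HomologicalComplex.toCycles_i, M_d]

variable [HasInjectiveResolutions A]

/-- the dimension-shifting map `F(Z n) ⟶ RⁿF(Z 0)` -/
noncomputable def π (T : Tower A) (n : ℕ) : F.obj (T.Z n) ⟶ (F.rightDerived n).obj (T.Z 0) :=
  T.ζ F n ≫ (T.M F).homologyπ n ≫ (T.resolution.isoRightDerivedObj F n).inv

instance epi_π [PreservesFiniteLimits F] (T : Tower A) (n : ℕ) : Epi (T.π F n) := by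
  dsimp only [π]
  infer_instance

@[reassoc]
lemma qM_π (T : Tower A) (k : ℕ) : T.qM F k ≫ T.π F (k + 1) = 0 := by
  dsimp only [π]
  rw [reassoc_of% (qM_ζ F T k), HomologicalComplex.toCycles_comp_homologyπ_assoc, zero_comp]

@[reassoc]
lemma map_q_π (T : Tower A) (k : ℕ) : F.map (T.q k) ≫ T.π F (k + 1) = 0 := qM_π F T k

lemma exact_map_q_π [PreservesFiniteLimits F] (T : Tower A) (k : ℕ) :
    (ShortComplex.mk (F.map (T.q k)) (T.π F (k + 1)) (map_q_π F T k)).Exact := by
  have h : (ShortComplex.mk ((T.M F).toCycles k (k + 1)) ((T.M F).homologyπ (k + 1))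
      ((T.M F).toCycles_comp_homologyπ k (k + 1))).Exact :=
    ShortComplex.exact_of_g_is_cokernel _ ((T.M F).homologyIsCokernel k (k + 1) (by simp))
  refine (ShortComplex.exact_iff_of_iso ?_).2 h
  refine ShortComplex.isoMk (Iso.refl _) (asIso (T.ζ F (k + 1)))
    (T.resolution.isoRightDerivedObj F (k + 1)) ?_ ?_
  · exact (Category.id_comp _).trans (qM_ζ F T k).symm
  · dsimp only [π, asIso_hom]
    simp only [Category.assoc, Iso.inv_hom_id, Category.comp_id]

instance isIso_π_zero [PreservesFiniteLimits F] (T : Tower A) : IsIso (T.π F 0) := by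
  dsimp only [π]
  have := CochainComplex.isIso_homologyπ₀ (T.M F)
  infer_instance

lemma epi_map_q [PreservesFiniteLimits F] (T : Tower A) (k : ℕ)
    (h : IsZero ((F.rightDerived (k + 1)).obj (T.Z 0))) : Epi (F.map (T.q k)) :=
  (exact_map_q_π F T k).epi_f (h.eq_of_tgt _ _)

lemma map_ses_shortExact [PreservesFiniteLimits F] (T : Tower A) (k : ℕ)
    (h : IsZero ((F.rightDerived (k + 1)).obj (T.Z 0))) :
    ((ShortComplex.mk (T.i k) (T.q k) (T.w k)).map F).ShortExact := by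
  have h₁ : ((ShortComplex.mk (T.i k) (T.q k) (T.w k)).map F).Exact :=
    (T.ses k).exact.map_of_mono_of_preservesKernel F (T.ses k).mono_f inferInstance
  have : F.PreservesMonomorphisms := preservesMonomorphisms_of_preservesLimitsOfShape F
  have h₂ : Mono ((ShortComplex.mk (T.i k) (T.q k) (T.w k)).map F).f := F.map_mono (T.i k)
  have h₃ : Epi ((ShortComplex.mk (T.i k) (T.q k) (T.w k)).map F).g := epi_map_q F T k h
  exact ShortComplex.ShortExact.mk' h₁ h₂ h₃

end Functor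

namespace Hom

variable {T T' : Tower A} (φ : Hom T T')

lemma comm_d (k : ℕ) : T.d k ≫ φ.fI (k + 1) = φ.fI k ≫ T'.d k := by
  simp only [d, Category.assoc, φ.commi (k + 1), reassoc_of% (φ.commq k)]

/-- the induced morphism of cochain complexes -/
noncomputable def cocomplexMap : T.cocomplex ⟶ T'.cocomplex :=
  CochainComplex.ofHom φ.fI (fun k => by
    rw [cocomplex_d, cocomplex_d]
    exact (φ.comm_d k).symm)

@[simp] lemma cocomplexMap_f (k : ℕ) : φ.cocomplexMap.f k = φ.fI k := rfl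

variable {B : Type u'} [Category.{v'} B] [Abelian B] (F : A ⥤ B) [F.Additive]

lemma map_fZ_ζ (n : ℕ) :
    F.map (φ.fZ n) ≫ T'.ζ F n = T.ζ F n ≫
      HomologicalComplex.cyclesMap ((F.mapHomologicalComplex _).map φ.cocomplexMap) n := by
  rw [← cancel_mono ((T'.M F).iCycles n), Category.assoc, Category.assoc, ζ_iCycles,
    HomologicalComplex.cyclesMap_i, ζ_iCycles_assoc]
  change F.map (φ.fZ n) ≫ F.map (T'.i n) = F.map (T.i n) ≫ F.map (φ.fI n)
  rw [← F.map_comp, ← F.map_comp, φ.commi]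

omit [Abelian A] in
lemma comp_aux {C : Type*} [Category C] {X₁ X₂ X₃ X₄ Y₁ Y₂ Y₃ Y₄ : C}
    (f : X₁ ⟶ Y₁) (z' : Y₁ ⟶ Y₂) (z : X₁ ⟶ X₂) (cm : X₂ ⟶ Y₂) (p' : Y₂ ⟶ Y₃) (p : X₂ ⟶ X₃)
    (hm : X₃ ⟶ Y₃) (a' : Y₃ ⟶ Y₄) (a : X₃ ⟶ X₄) (r : X₄ ⟶ Y₄)
    (h1 : f ≫ z' = z ≫ cm) (h3 : cm ≫ p' = p ≫ hm) (h2 : a ≫ r = hm ≫ a') :
    f ≫ z' ≫ p' ≫ a' = (z ≫ p ≫ a) ≫ r := by
  rw [reassoc_of% h1, reassoc_of% h3, ← h2]
  simp only [Category.assoc]

variable [HasInjectiveResolutions A]

/-- naturality of the dimension shifting maps -/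
lemma π_naturality (n : ℕ) :
    F.map (φ.fZ n) ≫ T'.π F n = T.π F n ≫ (F.rightDerived n).map (φ.fZ 0) := by
  have h0 : T.ι.f 0 ≫ φ.fI 0 = φ.fZ 0 ≫ T'.ι.f 0 := by
    rw [ι_f_zero, ι_f_zero]
    exact φ.commi 0
  have h2 := T.resolution.isoRightDerivedObj_inv_naturality (φ.fZ 0) T'.resolution
    φ.cocomplexMap h0 F n
  exact comp_aux _ _ _ _ _ _ _ _ _ _ (map_fZ_ζ φ F n)
    (HomologicalComplex.homologyπ_naturality
      ((F.mapHomologicalComplex _).map φ.cocomplexMap) n).symm h2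

end Hom

section Vanishing

variable {B : Type u'} [Category.{v'} B] [Abelian B] (F : A ⥤ B) [F.Additive] [EnoughInjectives A]

/-- dimension shifting for vanishing: `RⁱF(Z k) = 0` as soon as `R^{i+k}F(Z 0) = 0` (`i ≥ 1`). -/
lemma isZero_rightDerived_Z (T : Tower A) (k : ℕ) :
    ∀ (i : ℕ), 1 ≤ i → IsZero ((F.rightDerived (i + k)).obj (T.Z 0)) →
      IsZero ((F.rightDerived i).obj (T.Z k)) := by
  induction k with
  | zero => intro i _ h; exact h
  | succ k ih =>
    intro i hi h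
    obtain ⟨j, rfl⟩ : ∃ j, i = j + 1 := ⟨i - 1, by omega⟩
    have h' : IsZero ((F.rightDerived (j + 1 + 1)).obj (T.Z k)) :=
      ih (j + 1 + 1) (by omega) (by
        have e : j + 1 + 1 + k = j + 1 + (k + 1) := by omega
        rw [e]
        exact h)
    obtain ⟨-, -, δ, hδ⟩ := Groth.Agent.H33.RDLes.exists_les F _ (T.ses k)
    obtain ⟨w₁, w₂, e₁, -⟩ := hδ (j + 1)
    exact e₁.isZero_X₂ ((F.isZero_rightDerived_obj_injective_succ j (T.I k)).eq_of_src _ _)
      (h'.eq_of_tgt _ _)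

end Vanishing

end Tower

end Groth.Agent.H10.CD
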