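import Mathlib
import Groth.Agent.H10.CD1
import Groth.Agent.H5.PRes

/-!
# The one-step embedding of a complex into a contractible complex of injectives (helper10)

For a cochain complex `C` in an abelian category with enough injectives: `Icx C` is the
"coinduced" complex on `Injective.under (C.X p)`, `ιcx C : C ⟶ Icx C` is a monomorphism, and
`Sus C` is its cokernel.  Morphisms of complexes lift (non-functorially) to morphisms of the
short exact sequences `0 → C → Icx C → Sus C → 0`.
-/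

set_option autoImplicit false
universe v v' u u'
open CategoryTheory CategoryTheory.Limits

namespace Groth.Agent.H10.CD

open Groth.Agent.H5.PRes

section Exact

variable {B : Type u'} [Category.{v'} B] [Abelian B]

/-- a short complex with a contraction is exact -/
lemma exact_of_contraction (S : ShortComplex B) (r : S.X₂ ⟶ S.X₁) (s : S.X₃ ⟶ S.X₂)
    (h : r ≫ S.f + S.g ≫ s = 𝟙 _) : S.Exact := by
  rw [ShortComplex.exact_iff_exact_up_to_refinements]
  intro A x₂ hx₂
  refine ⟨A, 𝟙 A, inferInstance, x₂ ≫ r, ?_⟩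
  rw [Category.id_comp, Category.assoc]
  have := congrArg (x₂ ≫ ·) h
  simp only [Preadditive.comp_add, reassoc_of% hx₂, zero_comp, add_zero, Category.comp_id] at this
  exact this.symm

variable {A : Type u} [Category.{v} A] [Abelian A] (F : A ⥤ B) [F.Additive]

lemma coind_d (J : ℤ → A) (p : ℤ) :
    (coind J).d p (p + 1) = (biprod.snd ≫ biprod.inl : J p ⊞ J (p + 1) ⟶ J (p + 1) ⊞ J (p + 1 + 1)) := by
  dsimp [coind]
  rw [CochainComplex.of_d]

/-- the image under an additive functor of a coinduced complex is acyclic -/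
lemma exactAt_map_coind (J : ℤ → A) (q : ℤ) :
    ((F.mapHomologicalComplex (ComplexShape.up ℤ)).obj (coind J)).ExactAt q := by
  obtain ⟨p, rfl⟩ : ∃ p, q = p + 1 := ⟨q - 1, by omega⟩
  rw [HomologicalComplex.exactAt_iff' _ p (p + 1) (p + 1 + 1) (by simp) (by simp)]
  let r : J (p + 1) ⊞ J (p + 1 + 1) ⟶ J p ⊞ J (p + 1) := biprod.fst ≫ biprod.inr
  let s : J (p + 1 + 1) ⊞ J (p + 1 + 1 + 1) ⟶ J (p + 1) ⊞ J (p + 1 + 1) := biprod.fst ≫ biprod.inr
  refine exact_of_contraction _ (F.map r) (F.map s) ?_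
  let d₁ : J p ⊞ J (p + 1) ⟶ J (p + 1) ⊞ J (p + 1 + 1) := (coind J).d p (p + 1)
  let d₂ : J (p + 1) ⊞ J (p + 1 + 1) ⟶ J (p + 1 + 1) ⊞ J (p + 1 + 1 + 1) :=
    (coind J).d (p + 1) (p + 1 + 1)
  have h₁ : d₁ = biprod.snd ≫ biprod.inl := coind_d J p
  have h₂ : d₂ = biprod.snd ≫ biprod.inl := coind_d J (p + 1)
  change F.map r ≫ F.map d₁ + F.map d₂ ≫ F.map s = 𝟙 (F.obj (J (p + 1) ⊞ J (p + 1 + 1)))
  rw [h₁, h₂, ← F.map_comp, ← F.map_comp, ← F.map_add, ← F.map_id]
  congr 1
  dsimp [r, s]
  ext <;> simp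

end Exact

section OneStep

variable {A : Type u} [Category.{v} A] [Abelian A] [EnoughInjectives A]

/-- the injective hull objects -/
noncomputable abbrev Jf (C : CochainComplex A ℤ) : ℤ → A := fun p => Injective.under (C.X p)

/-- the contractible complex of injectives receiving `C` -/
noncomputable def Icx (C : CochainComplex A ℤ) : CochainComplex A ℤ := coind (Jf C)

/-- the embedding `C ⟶ Icx C` -/
noncomputable def ιcx (C : CochainComplex A ℤ) : C ⟶ Icx C :=
  toCoind C (Jf C) (fun p => Injective.ι (C.X p))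

instance mono_ιcx_f (C : CochainComplex A ℤ) (p : ℤ) : Mono ((ιcx C).f p) :=
  mono_of_mono_fac (toCoind_f_fst C (Jf C) (fun p => Injective.ι (C.X p)) p)

instance mono_ιcx (C : CochainComplex A ℤ) : Mono (ιcx C) :=
  HomologicalComplex.mono_of_mono_f _ (fun p => mono_ιcx_f C p)

instance injective_Icx_X (C : CochainComplex A ℤ) (p : ℤ) : Injective ((Icx C).X p) := by
  change Injective (Jf C p ⊞ Jf C (p + 1))
  infer_instance

/-- the cokernel of `C ⟶ Icx C` -/
noncomputable def Sus (C : CochainComplex A ℤ) : CochainComplex A ℤ := cokernel (ιcx C)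

/-- the projection `Icx C ⟶ Sus C` -/
noncomputable def qcx (C : CochainComplex A ℤ) : Icx C ⟶ Sus C := cokernel.π (ιcx C)

@[reassoc (attr := simp)]
lemma ιcx_qcx (C : CochainComplex A ℤ) : ιcx C ≫ qcx C = 0 := cokernel.condition _

/-- the short exact sequence `0 → C → Icx C → Sus C → 0` -/
noncomputable def Scx (C : CochainComplex A ℤ) : ShortComplex (CochainComplex A ℤ) :=
  ShortComplex.mk (ιcx C) (qcx C) (ιcx_qcx C)

lemma Scx_shortExact (C : CochainComplex A ℤ) : (Scx C).ShortExact :=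
  ShortComplex.ShortExact.mk' (S := Scx C) (ShortComplex.exact_cokernel (ιcx C)) (mono_ιcx C)
    (by dsimp [Scx, qcx]; exact coequalizer.π_epi)

lemma Icx_exactAt (C : CochainComplex A ℤ) (q : ℤ) : (Icx C).ExactAt q := by
  have := exactAt_map_coind (𝟭 A) (Jf C) q
  exact this

lemma map_Icx_exactAt {B : Type u'} [Category.{v'} B] [Abelian B] (F : A ⥤ B) [F.Additive]
    (C : CochainComplex A ℤ) (q : ℤ) :
    ((F.mapHomologicalComplex (ComplexShape.up ℤ)).obj (Icx C)).ExactAt q :=
  exactAt_map_coind F (Jf C) q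

section Lift

variable {C C' : CochainComplex A ℤ} (f : C ⟶ C')

/-- a (chosen) extension of `f.f p` to the injective hulls -/
noncomputable def jmap (p : ℤ) : Jf C p ⟶ Jf C' p :=
  Injective.factorThru (f.f p ≫ Injective.ι (C'.X p)) (Injective.ι (C.X p))

@[reassoc (attr := simp)]
lemma ι_jmap (p : ℤ) : Injective.ι (C.X p) ≫ jmap f p = f.f p ≫ Injective.ι (C'.X p) :=
  Injective.comp_factorThru _ _

/-- a (chosen) lift of `f` to the complexes `Icx` -/
noncomputable def Imap : Icx C ⟶ Icx C' :=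
  CochainComplex.ofHom (X := coind (Jf C)) (Y := coind (Jf C'))
    (fun p => biprod.map (jmap f p) (jmap f (p + 1))) (fun p => by
      rw [coind_d, coind_d]
      change biprod.map (jmap f p) (jmap f (p + 1)) ≫ biprod.snd ≫ biprod.inl =
        (biprod.snd ≫ biprod.inl) ≫ biprod.map (jmap f (p + 1)) (jmap f (p + 1 + 1))
      ext <;> simp)

@[reassoc (attr := simp)]
lemma ιcx_Imap : ιcx C ≫ Imap f = f ≫ ιcx C' := by
  ext p : 1
  change (biprod.lift (Injective.ι (C.X p)) (C.d p (p + 1) ≫ Injective.ι (C.X (p + 1))) :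
      C.X p ⟶ Jf C p ⊞ Jf C (p + 1)) ≫ biprod.map (jmap f p) (jmap f (p + 1)) =
    f.f p ≫ (biprod.lift (Injective.ι (C'.X p)) (C'.d p (p + 1) ≫ Injective.ι (C'.X (p + 1))) :
      C'.X p ⟶ Jf C' p ⊞ Jf C' (p + 1))
  ext <;> simp

/-- the induced map on cokernels -/
noncomputable def Smap : Sus C ⟶ Sus C' :=
  cokernel.map (ιcx C) (ιcx C') f (Imap f) (ιcx_Imap f)

@[reassoc (attr := simp)]
lemma qcx_Smap : qcx C ≫ Smap f = Imap f ≫ qcx C' :=
  cokernel.π_desc _ _ _

/-- the induced morphism of short exact sequences -/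
noncomputable def ScxMap : Scx C ⟶ Scx C' where
  τ₁ := f
  τ₂ := Imap f
  τ₃ := Smap f
  comm₁₂ := (ιcx_Imap f).symm
  comm₂₃ := (qcx_Smap f).symm

end Lift

end OneStep

end Groth.Agent.H10.CD
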