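import Mathlib
import Groth.Agent.H10.CD2

/-!
# Iterated cokernel complexes and the dimension shifting chain map (helper10)

`sus k C` is the `k`-fold iterate of `C ↦ Sus C = coker (C ⟶ Icx C)`.  For every degree `p` the
objects `(sus k C).X p`, `(Icx (sus k C)).X p` form a `Tower` resolving `C.X p`; this yields a chain
map `πcx : F(sus n C) ⟶ (RⁿF)(C)`, natural with respect to chosen lifts `susMap`.
-/

set_option autoImplicit false
universe v v' u u'
open CategoryTheory CategoryTheory.Limits

namespace Groth.Agent.H10.CD

variable {A : Type u} [Category.{v} A] [Abelian A] [EnoughInjectives A]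

/-- iterated cokernel complexes -/
noncomputable def sus : ℕ → CochainComplex A ℤ → CochainComplex A ℤ
  | 0, C => C
  | k + 1, C => Sus (sus k C)

@[simp] lemma sus_zero (C : CochainComplex A ℤ) : sus 0 C = C := rfl
@[simp] lemma sus_succ (k : ℕ) (C : CochainComplex A ℤ) : sus (k + 1) C = Sus (sus k C) := rfl

/-- chosen lifts of a morphism to the iterated cokernel complexes -/
noncomputable def susMap : ∀ (k : ℕ) {C C' : CochainComplex A ℤ} (_ : C ⟶ C'), sus k C ⟶ sus k C'
  | 0, _, _, f => f
  | k + 1, _, _, f => Smap (susMap k f)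

@[simp] lemma susMap_zero {C C' : CochainComplex A ℤ} (f : C ⟶ C') : susMap 0 f = f := rfl
@[simp] lemma susMap_succ (k : ℕ) {C C' : CochainComplex A ℤ} (f : C ⟶ C') :
    susMap (k + 1) f = Smap (susMap k f) := rfl

/-- the tower in degree `p` -/
noncomputable def tower (C : CochainComplex A ℤ) (p : ℤ) : Tower A where
  Z k := (sus k C).X p
  I k := (Icx (sus k C)).X p
  i k := (ιcx (sus k C)).f p
  q k := (qcx (sus k C)).f p
  w k := by
    have := congrArg (fun φ => φ.f p) (ιcx_qcx (sus k C))
    exact this
  ses k := (Scx_shortExact (sus k C)).map_of_exact (HomologicalComplex.eval A _ p)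
  inj k := injective_Icx_X _ p

/-- the morphism of towers induced by the differentials -/
noncomputable def towerD (C : CochainComplex A ℤ) (p q : ℤ) : Tower.Hom (tower C p) (tower C q) where
  fZ k := (sus k C).d p q
  fI k := (Icx (sus k C)).d p q
  commi k := ((ιcx (sus k C)).comm p q).symm ▸ rfl
  commq k := ((qcx (sus k C)).comm p q).symm ▸ rfl

/-- the morphism of towers induced by a morphism of complexes (and the chosen lifts) -/
noncomputable def towerMap {C C' : CochainComplex A ℤ} (f : C ⟶ C') (p : ℤ) :
    Tower.Hom (tower C p) (tower C' p) where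
  fZ k := (susMap k f).f p
  fI k := (Imap (susMap k f)).f p
  commi k := by
    have := congrArg (fun φ => φ.f p) (ιcx_Imap (susMap k f))
    exact this
  commq k := by
    have := congrArg (fun φ => φ.f p) (qcx_Smap (susMap k f))
    exact this

section Pi

variable {B : Type u'} [Category.{v'} B] [Abelian B] (F : A ⥤ B) [F.Additive] (n : ℕ)
  [(F.rightDerived n).Additive]

/-- the dimension shifting chain map `F(sus n C) ⟶ (RⁿF)(C)` -/
noncomputable def πcx (C : CochainComplex A ℤ) :
    (F.mapHomologicalComplex (ComplexShape.up ℤ)).obj (sus n C) ⟶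
      ((F.rightDerived n).mapHomologicalComplex (ComplexShape.up ℤ)).obj C where
  f p := (tower C p).π F n
  comm' p q _ := ((towerD C p q).π_naturality F n).symm

lemma πcx_f (C : CochainComplex A ℤ) (p : ℤ) : (πcx F n C).f p = (tower C p).π F n := rfl

/-- naturality of `πcx` with respect to the chosen lifts -/
lemma πcx_naturality {C C' : CochainComplex A ℤ} (f : C ⟶ C') :
    (F.mapHomologicalComplex (ComplexShape.up ℤ)).map (susMap n f) ≫ πcx F n C' =
      πcx F n C ≫ ((F.rightDerived n).mapHomologicalComplex (ComplexShape.up ℤ)).map f := by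
  ext p : 1
  exact (towerMap f p).π_naturality F n

instance epi_πcx_f [PreservesFiniteLimits F] (C : CochainComplex A ℤ) (p : ℤ) :
    Epi ((πcx F n C).f p) := by
  rw [πcx_f]
  exact Tower.epi_π F (tower C p) n

end Pi

end Groth.Agent.H10.CD
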