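import Mathlib
import Groth.Agent.H10.CD3

/-!
# `Q (sus k C) ≅ (Q C)⟦k⟧` in the derived category (helper10)
-/

set_option autoImplicit false
universe w v u
open CategoryTheory CategoryTheory.Limits DerivedCategory ZeroObject

namespace Groth.Agent.H10.CD

variable {A : Type u} [Category.{v} A] [Abelian A] [EnoughInjectives A] [HasDerivedCategory.{w} A]

omit [EnoughInjectives A] in
lemma isZero_Q_obj_of_exactAt (L : CochainComplex A ℤ) (hL : ∀ m, L.ExactAt m) :
    IsZero (DerivedCategory.Q.obj L) := by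
  have hz : IsZero (0 : CochainComplex A ℤ) := isZero_zero _
  have : QuasiIso (0 : L ⟶ (0 : CochainComplex A ℤ)) := by
    rw [quasiIso_iff]
    intro i
    rw [quasiIsoAt_iff_exactAt _ _ (hL i)]
    exact ShortComplex.exact_of_isZero_X₂ _
      ((HomologicalComplex.eval A (ComplexShape.up ℤ) i).map_isZero hz)
  exact IsZero.of_iso (DerivedCategory.Q.map_isZero hz)
    (asIso (DerivedCategory.Q.map (0 : L ⟶ (0 : CochainComplex A ℤ))))

lemma isZero_Q_Icx (C : CochainComplex A ℤ) : IsZero (Q.obj (Icx C)) :=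
  isZero_Q_obj_of_exactAt _ (Icx_exactAt C)

/-- the connecting isomorphism `Q (Sus C) ⟶ (Q C)⟦1⟧` -/
noncomputable def δcx (C : CochainComplex A ℤ) : Q.obj (Sus C) ⟶ (Q.obj C)⟦(1 : ℤ)⟧ :=
  triangleOfSESδ (Scx_shortExact C)

instance isIso_δcx (C : CochainComplex A ℤ) : IsIso (δcx C) := by
  have hT := triangleOfSES_distinguished (Scx_shortExact C)
  exact (Pretriangulated.Triangle.isZero₂_iff_isIso₃ _ hT).1 (isZero_Q_Icx C)

lemma δcx_naturality {C C' : CochainComplex A ℤ} (f : C ⟶ C') :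
    δcx C ≫ (Q.map f)⟦(1 : ℤ)⟧' = Q.map (Smap f) ≫ δcx C' :=
  triangleOfSESδ_naturality (Scx_shortExact C) (Scx_shortExact C') (ScxMap f)

/-- `Q (sus k C) ≅ (Q C)⟦k⟧` -/
noncomputable def E : ∀ (k : ℕ) (C : CochainComplex A ℤ), Q.obj (sus k C) ≅ (Q.obj C)⟦(k : ℤ)⟧
  | 0, C => (shiftFunctorZero (DerivedCategory A) ℤ).symm.app (Q.obj C)
  | k + 1, C => @asIso _ _ _ _ (δcx (sus k C)) (isIso_δcx _) ≪≫ (shiftFunctor (DerivedCategory A) (1 : ℤ)).mapIso (E k C) ≪≫
      (shiftFunctorAdd' (DerivedCategory A) (k : ℤ) 1 ((k + 1 : ℕ) : ℤ) (by simp)).symm.app (Q.obj C)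

lemma E_naturality (k : ℕ) {C C' : CochainComplex A ℤ} (f : C ⟶ C') :
    (E k C).hom ≫ (Q.map f)⟦(k : ℤ)⟧' = Q.map (susMap k f) ≫ (E k C').hom := by
  induction k with
  | zero =>
    dsimp [E]
    exact ((shiftFunctorZero (DerivedCategory A) ℤ).inv.naturality (Q.map f)).symm
  | succ k ih =>
    dsimp [E]
    simp only [Category.assoc]
    have h1 := (shiftFunctorAdd' (DerivedCategory A) (k : ℤ) 1 ((k + 1 : ℕ) : ℤ)
      (by simp)).inv.naturality (Q.map f)
    dsimp at h1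
    rw [← h1, ← Functor.map_comp_assoc, ih, Functor.map_comp_assoc,
      reassoc_of% (δcx_naturality (susMap k f))]

/-- the desuspended complex `(sus n C)⟦-n⟧` -/
noncomputable abbrev Dcx (n : ℕ) (C : CochainComplex A ℤ) : CochainComplex A ℤ :=
  (sus n C)⟦(-(n : ℤ))⟧

/-- the chosen lift on desuspended complexes -/
noncomputable abbrev DcxMap (n : ℕ) {C C' : CochainComplex A ℤ} (f : C ⟶ C') : Dcx n C ⟶ Dcx n C' :=
  (susMap n f)⟦(-(n : ℤ))⟧'

/-- `Q ((sus n C)⟦-n⟧) ≅ Q C` -/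
noncomputable def aIso (n : ℕ) (C : CochainComplex A ℤ) : Q.obj (Dcx n C) ≅ Q.obj C :=
  (Q.commShiftIso (-(n : ℤ))).app (sus n C) ≪≫
    (shiftFunctor (DerivedCategory A) (-(n : ℤ))).mapIso (E n C) ≪≫
    (shiftFunctorCompIsoId (DerivedCategory A) (n : ℤ) (-(n : ℤ)) (add_neg_cancel _)).app (Q.obj C)

lemma aIso_naturality (n : ℕ) {C C' : CochainComplex A ℤ} (f : C ⟶ C') :
    (aIso n C).hom ≫ Q.map f = Q.map (DcxMap n f) ≫ (aIso n C').hom := by
  dsimp [aIso]
  simp only [Category.assoc]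
  have h1 := (Q.commShiftIso (-(n : ℤ))).hom.naturality (susMap n f)
  have h2 := (shiftFunctorCompIsoId (DerivedCategory A) (n : ℤ) (-(n : ℤ))
    (add_neg_cancel _)).hom.naturality (Q.map f)
  dsimp at h1 h2
  rw [← h2, reassoc_of% h1, ← Functor.map_comp_assoc, E_naturality, Functor.map_comp_assoc]

end Groth.Agent.H10.CD
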