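import Mathlib
import Groth.Agent.H10.CD4
import Groth.Agent.H45.Resolution.ColimitQuasiIso

/-!
# `πcx` is a quasi-isomorphism on complexes of `P`-objects (helper10)
-/

set_option autoImplicit false
universe w v v' u u'
open CategoryTheory CategoryTheory.Limits

namespace Groth.Agent.H10.CD

section General

variable {B : Type u'} [Category.{v'} B] [Abelian B]

/-- in a short exact sequence of complexes, if the first two terms are acyclic so is the third -/
lemma acyclic_X₃_of_acyclic {S : ShortComplex (CochainComplex B ℤ)} (hS : S.ShortExact)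
    (h₁ : S.X₁.Acyclic) (h₂ : S.X₂.Acyclic) : S.X₃.Acyclic := by
  intro i
  rw [HomologicalComplex.exactAt_iff_isZero_homology]
  have hz₁ : IsZero (S.X₁.homology (i + 1)) :=
    (S.X₁.exactAt_iff_isZero_homology (i + 1)).1 (h₁ (i + 1))
  have hz₂ : IsZero (S.X₂.homology i) := (S.X₂.exactAt_iff_isZero_homology i).1 (h₂ i)
  exact (hS.homology_exact₃ i (i + 1) (by simp)).isZero_X₂ (hz₂.eq_of_src _ _)
    (hz₁.eq_of_tgt _ _)

/-- four term exact sequence `0 → X' → Y → X → Z → 0` of complexes with `X'`, `Y` acyclic: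
the last map is a quasi-isomorphism -/
lemma quasiIso_of_four_term {X' Y X Z : CochainComplex B ℤ} (a : X' ⟶ Y) (g : Y ⟶ X) (π : X ⟶ Z)
    (w₁ : a ≫ g = 0) (w₂ : g ≫ π = 0) [Mono a] [Epi π]
    (e₁ : (ShortComplex.mk a g w₁).Exact) (e₂ : (ShortComplex.mk g π w₂).Exact)
    (hX' : X'.Acyclic) (hY : Y.Acyclic) : QuasiIso π := by
  let l : Y ⟶ kernel π := kernel.lift π g w₂
  have hl : l ≫ kernel.ι π = g := kernel.lift_ι _ _ _
  have w : a ≫ l = 0 := by
    rw [← cancel_mono (kernel.ι π), Category.assoc, hl, w₁, zero_comp]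
  have hepi : Epi l := (ShortComplex.exact_iff_epi_kernel_lift (ShortComplex.mk g π w₂)).1 e₂
  have hex : (ShortComplex.mk a l w).Exact := by
    let φ : ShortComplex.mk a l w ⟶ ShortComplex.mk a g w₁ :=
      { τ₁ := 𝟙 _
        τ₂ := 𝟙 _
        τ₃ := kernel.ι π
        comm₁₂ := by simp
        comm₂₃ := by simp [hl] }
    have : Epi φ.τ₁ := by dsimp [φ]; infer_instance
    have : IsIso φ.τ₂ := by dsimp [φ]; infer_instance
    have : Mono φ.τ₃ := by dsimp [φ]; infer_instance
    exact (ShortComplex.exact_iff_of_epi_of_isIso_of_mono φ).2 e₁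
  have hS₁ : (ShortComplex.mk a l w).ShortExact := ShortComplex.ShortExact.mk' hex ‹_› hepi
  have hK : (kernel π).Acyclic := acyclic_X₃_of_acyclic hS₁ hX' hY
  have hS₂ : (ShortComplex.mk (kernel.ι π) π (kernel.condition π)).ShortExact :=
    ShortComplex.ShortExact.mk' (ShortComplex.exact_kernel π) inferInstance ‹_›
  exact Groth.Agent.H45.quasiIso_g_of_shortExact_of_acyclic hS₂ hK

end General

section Main

variable {A : Type u} [Category.{v} A] [Abelian A] [EnoughInjectives A]
  {B : Type u'} [Category.{v'} B] [Abelian B] (F : A ⥤ B) [F.Additive] [PreservesFiniteLimits F]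

local notation "Fc" => F.mapHomologicalComplex (ComplexShape.up ℤ)

/-- the terms of `sus k C` are `F`-acyclic in positive degrees `i` as soon as `R^{i+k}F` vanishes on
the terms of `C` -/
lemma isZero_rightDerived_sus_X (C : CochainComplex A ℤ) (k : ℕ) (p : ℤ) (i : ℕ) (hi : 1 ≤ i)
    (h : IsZero ((F.rightDerived (i + k)).obj (C.X p))) :
    IsZero ((F.rightDerived i).obj ((sus k C).X p)) :=
  Tower.isZero_rightDerived_Z F (tower C p) k i hi h

/-- `F` applied to `0 → sus k C → Icx (sus k C) → sus (k+1) C → 0` is short exact when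
`R^{k+1}F` vanishes on the terms of `C` -/
lemma map_Scx_shortExact (C : CochainComplex A ℤ) (k : ℕ)
    (h : ∀ p, IsZero ((F.rightDerived (k + 1)).obj (C.X p))) :
    ((Scx (sus k C)).map Fc).ShortExact := by
  rw [HomologicalComplex.shortExact_iff_degreewise_shortExact]
  intro p
  exact Tower.map_ses_shortExact F (tower C p) k (h p)

/-- `F (sus k C)` is acyclic for `k < n` when the terms of `C` have `RⁱF = 0` for `i < n`. -/
lemma acyclic_map_sus (n : ℕ) (C : CochainComplex A ℤ)
    (hC : ∀ (p : ℤ) (i : ℕ), i < n → IsZero ((F.rightDerived i).obj (C.X p))) :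
    ∀ k : ℕ, k < n → ((Fc).obj (sus k C)).Acyclic := by
  intro k
  induction k with
  | zero =>
    intro hn q
    have hz : ∀ p, IsZero (((Fc).obj (sus 0 C)).X p) := fun p =>
      (hC p 0 hn).of_iso ((F.rightDerivedZeroIsoSelf).symm.app (C.X p))
    rw [HomologicalComplex.exactAt_iff]
    exact ShortComplex.exact_of_isZero_X₂ _ (hz q)
  | succ k ih =>
    intro hk
    have hS := map_Scx_shortExact F C k (fun p => hC p (k + 1) hk)
    exact acyclic_X₃_of_acyclic hS (ih (by omega)) (fun q => map_Icx_exactAt F (sus k C) q)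

variable (n : ℕ) [(F.rightDerived n).Additive]

/-- `πcx` is a quasi-isomorphism on complexes whose terms have `RⁱF = 0` for `i < n` -/
theorem quasiIso_πcx (C : CochainComplex A ℤ)
    (hC : ∀ (p : ℤ) (i : ℕ), i < n → IsZero ((F.rightDerived i).obj (C.X p))) :
    QuasiIso (πcx F n C) := by
  obtain _ | m := n
  · -- `n = 0`: `πcx` is an isomorphism
    have : ∀ p, IsIso ((πcx F 0 C).f p) := fun p => by
      rw [πcx_f]
      exact Tower.isIso_π_zero F (tower C p)
    have : IsIso (πcx F 0 C) := HomologicalComplex.Hom.isIso_of_components _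
    infer_instance
  · have hS := Scx_shortExact (sus m C)
    have w₁ : (Fc).map (ιcx (sus m C)) ≫ (Fc).map (qcx (sus m C)) = 0 := by
      rw [← Functor.map_comp, ιcx_qcx, Functor.map_zero]
    have w₂ : (Fc).map (qcx (sus m C)) ≫ πcx F (m + 1) C = 0 := by
      ext p : 1
      exact Tower.map_q_π F (tower C p) m
    have : Mono ((Fc).map (ιcx (sus m C))) := by
      have : F.PreservesMonomorphisms := preservesMonomorphisms_of_preservesLimitsOfShape F
      exact HomologicalComplex.mono_of_mono_f _ (fun p => F.map_mono ((ιcx (sus m C)).f p))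
    have : Epi (πcx F (m + 1) C) := HomologicalComplex.epi_of_epi_f _ (fun p => epi_πcx_f F (m + 1) C p)
    have e₁ : (ShortComplex.mk _ _ w₁).Exact := by
      rw [HomologicalComplex.exact_iff_degreewise_exact]
      intro p
      exact ((tower C p).ses m).exact.map_of_mono_of_preservesKernel F
        ((tower C p).ses m).mono_f inferInstance
    have e₂ : (ShortComplex.mk _ _ w₂).Exact := by
      rw [HomologicalComplex.exact_iff_degreewise_exact]
      intro p
      exact Tower.exact_map_q_π F (tower C p) m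
    exact quasiIso_of_four_term _ _ _ w₁ w₂ e₁ e₂
      (acyclic_map_sus F (m + 1) C hC m (by omega)) (fun q => map_Icx_exactAt F (sus m C) q)

end Main

end Groth.Agent.H10.CD
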