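import Mathlib
import Groth.Agent.H33.OpCx
import Groth.Agent.H5.PRes

/-!
# Left resolutions of unbounded complexes by a class `P` of finite resolution dimension (helper10)

Dual of `Groth.Agent.H5.PRes.exists_resolution`, obtained through the explicit opposite complexes of
`Groth.Agent.H33.OpCx`.
-/

set_option autoImplicit false
universe v u
open CategoryTheory CategoryTheory.Limits Opposite

namespace Groth.Agent.H10.CD

open Groth.Agent.H33.OpCx

variable {A : Type u} [Category.{v} A] [Abelian A] (P : ObjectProperty A) (E : ℕ → ObjectProperty A)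

theorem exists_left_resolution
    (hP_iso : ∀ ⦃X Y : A⦄, (X ≅ Y) → P X → P Y)
    (hP_ext : ∀ S : ShortComplex A, S.ShortExact → P S.X₁ → P S.X₃ → P S.X₂)
    (hP_epi : ∀ X : A, ∃ (Y : A) (p : Y ⟶ X), P Y ∧ Epi p)
    (hE0 : ∀ X, E 0 X → P X)
    (hE : ∀ (m : ℕ) (S : ShortComplex A), S.ShortExact → E (m + 1) S.X₃ → P S.X₂ → E m S.X₁)
    (m : ℕ) (X : CochainComplex A ℤ) (hX : ∀ p, E m (X.X p)) :
    ∃ (L : CochainComplex A ℤ) (f : L ⟶ X), QuasiIso f ∧ ∀ p, P (L.X p) := by
  let P' : ObjectProperty Aᵒᵖ := fun Y => P Y.unop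
  let E' : ℕ → ObjectProperty Aᵒᵖ := fun m Y => E m Y.unop
  obtain ⟨L', f, hf, hL'⟩ := Groth.Agent.H5.PRes.exists_resolution P' E'
    (fun X Y e hX => hP_iso e.unop.symm hX)
    (fun X Y hX hY => by
      have hS := (ShortComplex.Splitting.ofHasBinaryBiproduct X Y).shortExact.unop
      exact hP_ext _ hS hY hX)
    (fun X => by
      obtain ⟨Y, p, hY, hp⟩ := hP_epi X.unop
      exact ⟨op Y, p.op, hY, inferInstance⟩)
    (fun X hX => hE0 _ hX)
    (fun m S hS h₁ h₂ => hE m _ hS.unop h₁ h₂) m (opC X) (fun p => hX (-p))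
  have h1 : QuasiIso (unopM f) := quasiIso_unopM f
  refine ⟨unopC L', unopM f ≫ (unopOpIso X).hom, inferInstance, fun p => hL' (-p)⟩

end Groth.Agent.H10.CD
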