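import Mathlib
import Groth.Agent.H30.LerayB
import Groth.Agent.H33.RDLes

/-!
# The class of objects with cohomology concentrated in degree `n` (helper10)

For a left exact functor `F` of cohomological dimension `≤ n`: the class `Pn F n` of objects `X` with
`RⁱF X = 0` for `i ≠ n`, the dimension filtration `En F n m`, and the fact that `RⁿF` sends acyclic
complexes of `Pn`-objects to acyclic complexes.
-/

set_option autoImplicit false
universe v v' u u'
open CategoryTheory CategoryTheory.Limits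

namespace Groth.Agent.H10.CD

open Groth.Agent.H30.Leray

section Abstract

variable {A : Type u} [Category.{v} A] [Abelian A] {B : Type u'} [Category.{v'} B] [Abelian B]
  (G : A ⥤ B) [G.Additive] (P : ObjectProperty A) (E : ℕ → ObjectProperty A) (N : ℕ)
  (hEN : ∀ X, E N X) (hE0 : ∀ X, E 0 X → P X)
  (hE : ∀ (m : ℕ) (S : ShortComplex A), S.ShortExact → E (m + 1) S.X₃ → P S.X₂ → E m S.X₁)
  (hG : ∀ S : ShortComplex A, S.ShortExact → P S.X₁ → P S.X₂ → P S.X₃ → (S.map G).ShortExact)
  (K : CochainComplex A ℤ) (hK : ∀ m, K.ExactAt m) (hKP : ∀ m, P (K.X m))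

include hEN hE hK hKP in
lemma E_kernel (k : ℕ) (hk : k ≤ N) (q : ℤ) : E (N - k) (kernel (K.d q (q + 1))) := by
  induction k generalizing q with
  | zero => exact hEN _
  | succ k ih =>
    have h := ih (by omega) (q + 1)
    have e : N - k = (N - (k + 1)) + 1 := by omega
    rw [e] at h
    exact hE (N - (k + 1)) (T K q) (T_shortExact K hK q) h (hKP q)

include hEN hE0 hE hK hKP in
lemma P_kernel (q : ℤ) : P (kernel (K.d q (q + 1))) := by
  have := E_kernel P E N hEN hE K hK hKP N le_rfl q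
  rw [Nat.sub_self] at this
  exact hE0 _ this

include hEN hE0 hE hG hK hKP in
lemma map_T_shortExact' (q : ℤ) : ((T K q).map G).ShortExact :=
  hG _ (T_shortExact K hK q) (P_kernel P E N hEN hE0 hE K hK hKP q) (hKP q)
    (P_kernel P E N hEN hE0 hE K hK hKP (q + 1))

include hEN hE0 hE hG hK hKP in
/-- `G` maps an acyclic complex of `P`-objects to an acyclic complex -/
theorem exactAt_map_of_P (m : ℤ) :
    ((G.mapHomologicalComplex (ComplexShape.up ℤ)).obj K).ExactAt m := by
  obtain ⟨p, rfl⟩ : ∃ p : ℤ, m = p + 1 := ⟨m - 1, by omega⟩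
  rw [HomologicalComplex.exactAt_iff' _ p (p + 1) (p + 1 + 1) (by simp) (by simp)]
  have h₀ := map_T_shortExact' G P E N hEN hE0 hE hG K hK hKP p
  have h₁ := map_T_shortExact' G P E N hEN hE0 hE hG K hK hKP (p + 1)
  have h₂ := map_T_shortExact' G P E N hEN hE0 hE hG K hK hKP (p + 1 + 1)
  have e1 : Epi (G.map (T K p).g) := h₀.epi_g
  have e2 : Mono (G.map (T K (p + 1 + 1)).f) := h₂.mono_f
  exact exact_of_factor' _ _ _ (G.map (T K p).g) (G.map (T K (p + 1)).f)
    (G.map (T K (p + 1)).g) (G.map (T K (p + 1 + 1)).f) e1 e2 _ h₁.exact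
    (by
      change G.map (K.d p (p + 1)) = _
      rw [d_eq, G.map_comp]
      rfl)
    (by
      change G.map (K.d (p + 1) (p + 1 + 1)) = _
      rw [d_eq, G.map_comp]
      rfl)

end Abstract

section Concrete

variable {A : Type u} [Category.{v} A] [Abelian A] [EnoughInjectives A]
  {B : Type u'} [Category.{v'} B] [Abelian B] (F : A ⥤ B) [F.Additive] (n : ℕ)

/-- objects with `RⁱF = 0` for all `i ≠ n` -/
def Pn : ObjectProperty A := fun X => ∀ i : ℕ, i ≠ n → IsZero ((F.rightDerived i).obj X)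

/-- objects with `RⁱF = 0` for all `i` with `i + m < n` -/
def En (m : ℕ) : ObjectProperty A := fun X =>
  ∀ i : ℕ, i + m < n → IsZero ((F.rightDerived i).obj X)

lemma Pn_iso ⦃X Y : A⦄ (e : X ≅ Y) (hX : Pn F n X) : Pn F n Y := fun i hi =>
  (hX i hi).of_iso ((F.rightDerived i).mapIso e.symm)

lemma Pn_ext (S : ShortComplex A) (hS : S.ShortExact) (h₁ : Pn F n S.X₁) (h₃ : Pn F n S.X₃) :
    Pn F n S.X₂ := fun i hi => by
  obtain ⟨-, hex, -⟩ := Groth.Agent.H33.RDLes.exists_les F S hS
  exact (hex i).isZero_X₂ ((h₁ i hi).eq_of_src _ _) ((h₃ i hi).eq_of_tgt _ _)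

lemma En_top (X : A) : En F n n X := fun i hi => by omega

lemma En_peel (m : ℕ) (S : ShortComplex A) (hS : S.ShortExact) (h₃ : En F n (m + 1) S.X₃)
    (h₂ : Pn F n S.X₂) : En F n m S.X₁ := by
  intro i hi
  obtain ⟨hmono, hex, δ, hδ⟩ := Groth.Agent.H33.RDLes.exists_les F S hS
  rcases i with _ | j
  · -- `R⁰F(X₁) ↪ R⁰F(X₂) = 0`
    have h0 : IsZero ((F.rightDerived 0).obj S.X₂) := h₂ 0 (by omega)
    exact IsZero.of_mono ((F.rightDerived 0).map S.f) h0
  · obtain ⟨w₁, w₂, -, e₂⟩ := hδ j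
    have h3 : IsZero ((F.rightDerived j).obj S.X₃) := h₃ j (by omega)
    have h2 : IsZero ((F.rightDerived (j + 1)).obj S.X₂) := h₂ (j + 1) (by omega)
    exact e₂.isZero_X₂ (h3.eq_of_src _ _) (h2.eq_of_tgt _ _)

variable (hdim : ∀ (X : A) (i : ℕ), n < i → IsZero ((F.rightDerived i).obj X))

include hdim in
lemma En_zero (X : A) (h : En F n 0 X) : Pn F n X := fun i hi => by
  rcases Nat.lt_or_ge i n with h1 | h1
  · exact h i (by omega)
  · exact hdim X i (by omega)

include hdim in
/-- `RⁿF` is exact on short exact sequences of `Pn`-objects -/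
lemma map_shortExact_of_Pn (S : ShortComplex A) (hS : S.ShortExact) (h₁ : Pn F n S.X₁)
    (_ : Pn F n S.X₂) (h₃ : Pn F n S.X₃) : (S.map (F.rightDerived n)).ShortExact := by
  obtain ⟨hmono, hex, δ, hδ⟩ := Groth.Agent.H33.RDLes.exists_les F S hS
  have hm : Mono ((F.rightDerived n).map S.f) := by
    obtain _ | j := n
    · exact hmono
    · obtain ⟨w₁, w₂, -, e₂⟩ := hδ j
      exact e₂.mono_g ((h₃ j (by omega)).eq_of_src _ _)
  have he : Epi ((F.rightDerived n).map S.g) := by
    obtain ⟨w₁, w₂, e₁, -⟩ := hδ n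
    exact e₁.epi_f ((h₁ (n + 1) (by omega)).eq_of_tgt _ _)
  exact ShortComplex.ShortExact.mk' (hex n) hm he

include hdim in
/-- `RⁿF` maps acyclic complexes of `Pn`-objects to acyclic complexes -/
theorem exactAt_map_rightDerived [(F.rightDerived n).Additive] (K : CochainComplex A ℤ)
    (hK : ∀ m, K.ExactAt m) (hKP : ∀ m, Pn F n (K.X m)) (m : ℤ) :
    (((F.rightDerived n).mapHomologicalComplex (ComplexShape.up ℤ)).obj K).ExactAt m :=
  exactAt_map_of_P (F.rightDerived n) (Pn F n) (En F n) n (En_top F n) (En_zero F n hdim)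
    (En_peel F n) (map_shortExact_of_Pn F n hdim) K hK hKP m

end Concrete

end Groth.Agent.H10.CD
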