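import Mathlib
import Groth.Agent.H10.CD5
import Groth.Agent.H10.CD6
import Groth.Agent.H10.CD7
import Groth.Agent.H5.FinDimDeriv
import Groth.Agent.H45.MultiDer.Main
import Groth.Agent.H45.MultiDer.HomotopyInv

/-!
# `RF ≅ L(RⁿF)[-n]` for a left exact functor of cohomological dimension `≤ n` (helper10)
-/

set_option autoImplicit false
universe w w' v v' u u'
open CategoryTheory CategoryTheory.Limits

namespace Groth.Agent.H10.CD

section Unit

variable {A : Type u} [Category.{v} A] [Abelian A] [HasDerivedCategory.{w} A]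
  {H : Type*} [Category H]
  (Φ : HomotopyCategory A (ComplexShape.up ℤ) ⥤ H)
  (RF : DerivedCategory A ⥤ H)
  (α : HomotopyCategory.quotient A (ComplexShape.up ℤ) ⋙ Φ ⟶ DerivedCategory.Q ⋙ RF)

/-- the unit on the homotopy category -/
noncomputable def αh : Φ ⟶ DerivedCategory.Qh ⋙ RF :=
  CategoryTheory.Quotient.natTransLift _
    { app := fun K => α.app K
      naturality := fun K L f => α.naturality f }

lemma αh_app (K : CochainComplex A ℤ) :
    (αh Φ RF α).app ((HomotopyCategory.quotient _ _).obj K) = α.app K := rfl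

/-- a right derived functor with respect to quasi-isomorphisms of complexes is also a right derived
functor with respect to quasi-isomorphisms in the homotopy category -/
lemma isRightDerivedFunctor_αh
    [RF.IsRightDerivedFunctor α (HomologicalComplex.quasiIso A (ComplexShape.up ℤ))] :
    RF.IsRightDerivedFunctor (αh Φ RF α)
      (HomotopyCategory.quasiIso A (ComplexShape.up ℤ)) := by
  let W := HomologicalComplex.quasiIso A (ComplexShape.up ℤ)
  let β : ∀ (E : Functor.LeftExtension DerivedCategory.Qh Φ),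
      HomotopyCategory.quotient A (ComplexShape.up ℤ) ⋙ Φ ⟶ DerivedCategory.Q ⋙ E.right :=
    fun E =>
    { app := fun K => E.hom.app ((HomotopyCategory.quotient _ _).obj K)
      naturality := fun K L f => E.hom.naturality ((HomotopyCategory.quotient _ _).map f) }
  constructor
  constructor
  refine ⟨Limits.IsInitial.ofUniqueHom
    (fun E => StructuredArrow.homMk (RF.rightDerivedDesc α W E.right (β E)) ?_) ?_⟩
  · ext X
    obtain ⟨K, rfl⟩ := X.quotient_obj_surjective
    exact RF.rightDerived_fac_app α W E.right (β E) K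
  · intro E m
    ext Y
    have h1 : m.right = RF.rightDerivedDesc α W E.right (β E) := by
      apply RF.rightDerived_ext α W
      rw [Functor.rightDerived_fac]
      ext K
      have := congr_app m.w ((HomotopyCategory.quotient _ _).obj K)
      simp only [NatTrans.comp_app, Functor.whiskeringLeft_obj_map,
        Functor.whiskerLeft_app] at this
      exact this
    exact congr_app h1 Y

end Unit

section Bridge

open Groth.Agent.H30.Leray

variable {A : Type u} [Category.{v} A] [Abelian A] [HasDerivedCategory.{w} A] [EnoughInjectives A]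
  {B : Type u'} [Category.{v'} B] [Abelian B] [HasDerivedCategory.{w'} B]
  (F : A ⥤ B) [F.Additive] [PreservesFiniteLimits F]
  (RF : DerivedCategory A ⥤ DerivedCategory B)
  (α : F.mapHomologicalComplex (ComplexShape.up ℤ) ⋙ DerivedCategory.Q ⟶ DerivedCategory.Q ⋙ RF)

/-- comparison of the two descriptions of the functor to be derived -/
noncomputable def θ : HomotopyCategory.quotient A (ComplexShape.up ℤ) ⋙ H5.FinDimDeriv.G F ≅
    F.mapHomologicalComplex (ComplexShape.up ℤ) ⋙ DerivedCategory.Q :=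
  (Functor.associator _ _ _).symm ≪≫
    Functor.isoWhiskerRight (F.mapHomotopyCategoryFactors (ComplexShape.up ℤ)) DerivedCategory.Qh ≪≫
    Functor.associator _ _ _ ≪≫
    Functor.isoWhiskerLeft _ (DerivedCategory.quotientCompQhIso B)

lemma isIso_unit_aux' (W₂ : MorphismProperty (HomotopyCategory A (ComplexShape.up ℤ)))
    (hW : W₂ = (H5.FinDimDeriv.ℬ A).trW)
    [DerivedCategory.Qh.IsLocalization W₂]
    (β : H5.FinDimDeriv.G F ⟶ DerivedCategory.Qh ⋙ RF)
    [RF.IsRightDerivedFunctor β W₂]
    (m : ℕ) (hm : ∀ X : A, IsZero ((F.rightDerived m).obj X))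
    (K : CochainComplex A ℤ) (hK : ∀ p, acyclic F (K.X p)) :
    IsIso (β.app ((HomotopyCategory.quotient A (ComplexShape.up ℤ)).obj K)) := by
  subst hW
  have := H5.FinDimDeriv.isRightDerivabilityStructure F m hm
  exact (H5.FinDimDeriv.derives F m hm).isIso_of_isRightDerivedFunctor β
    ⟨(HomotopyCategory.quotient A (ComplexShape.up ℤ)).obj K,
      ObjectProperty.le_isoClosure _ _ ((H5.Termwise.termwise_quotient_obj_iff K).2 hK)⟩

/-- the unit of the total right derived functor of a left exact functor of finite cohomological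
dimension is an isomorphism at termwise acyclic complexes -/
theorem isIso_α_app
    [RF.IsRightDerivedFunctor α (HomologicalComplex.quasiIso A (ComplexShape.up ℤ))]
    (m : ℕ) (hm : ∀ X : A, IsZero ((F.rightDerived m).obj X))
    (K : CochainComplex A ℤ) (hK : ∀ p, acyclic F (K.X p)) :
    IsIso (α.app K) := by
  let α' : HomotopyCategory.quotient A (ComplexShape.up ℤ) ⋙ H5.FinDimDeriv.G F ⟶
      DerivedCategory.Q ⋙ RF := (θ F).hom ≫ α
  have h1 : RF.IsRightDerivedFunctor α' (HomologicalComplex.quasiIso A (ComplexShape.up ℤ)) := by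
    rw [Functor.isRightDerivedFunctor_iff_isLeftKanExtension]
    rw [Functor.isLeftKanExtension_iff_of_iso₂ α' α (θ F) (Iso.refl RF) (by
      ext K; simp [α'])]
    rw [← Functor.isRightDerivedFunctor_iff_isLeftKanExtension (W :=
      HomologicalComplex.quasiIso A (ComplexShape.up ℤ))]
    infer_instance
  have h2 := isRightDerivedFunctor_αh (H5.FinDimDeriv.G F) RF α'
  have h3 := isIso_unit_aux' F RF _ (HomotopyCategory.quasiIso_eq_trW_subcategoryAcyclic A)
    (αh (H5.FinDimDeriv.G F) RF α') m hm K hK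
  rw [αh_app] at h3
  have h4 : α.app K = (θ F).inv.app K ≫ α'.app K := by
    simp [α']
  rw [h4]
  haveI : IsIso ((θ F).inv.app K) := inferInstance
  haveI : IsIso (α'.app K) := h3
  exact IsIso.comp_isIso

end Bridge

section HypSec

variable {A : Type u} [Category.{v} A] [Abelian A] [EnoughInjectives A]
  {B : Type u'} [Category.{v'} B] [Abelian B]
  (F : A ⥤ B) [F.Additive] (n : ℕ)

/-- complexes whose terms are in `Pn` -/
def kf : ObjectProperty (CochainComplex A ℤ) := fun K => ∀ p, Pn F n (K.X p)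

lemma Pn_of_isZero (X : A) (hX : IsZero X) : Pn F n X := fun i _ => by
  haveI := Groth.Agent.H33.RDLes.rightDerived_additive F i
  exact (F.rightDerived i).map_isZero hX

lemma Pn_biprod (X Y : A) (hX : Pn F n X) (hY : Pn F n Y) : Pn F n (X ⊞ Y) := by
  let S : ShortComplex A := ShortComplex.mk (biprod.inl : X ⟶ X ⊞ Y) biprod.snd (by simp)
  have hS : S.ShortExact := (ShortComplex.Splitting.ofHasBinaryBiproduct X Y).shortExact
  exact Pn_ext F n S hS hX hY

lemma kf_mappingCone {K L : CochainComplex A ℤ} (f : K ⟶ L) (hK : kf F n K) (hL : kf F n L) :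
    kf F n (CochainComplex.mappingCone f) := fun p =>
  Pn_iso F n (HomologicalComplex.homotopyCofiber.XIsoBiprod f p (p + 1) rfl).symm
    (Pn_biprod F n _ _ (hK _) (hL _))

variable (hdim : ∀ (X : A) (i : ℕ), n < i → IsZero ((F.rightDerived i).obj X))
  (hP : ∀ X : A, ∃ (Y : A) (p : Y ⟶ X), Epi p ∧
    ∀ i : ℕ, i ≠ n → IsZero ((F.rightDerived i).obj Y))

include hdim hP in
lemma hyp_kf : Groth.Agent.H5.ResDerivLeft.Hyp (kf F n) where
  zero := fun p => Pn_of_isZero F n _
    ((HomologicalComplex.eval A (ComplexShape.up ℤ) p).map_isZero (isZero_zero _))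
  shift := fun K m hK p => hK _
  cone := fun {K L} f hK hL p =>
    Pn_iso F n (HomologicalComplex.homotopyCofiber.XIsoBiprod f p (p + 1) rfl).symm
      (Pn_biprod F n _ _ (hK _) (hL _))
  res := fun X => by
    obtain ⟨L, f, hf, hL⟩ := exists_left_resolution (Pn F n) (En F n) (Pn_iso F n) (Pn_ext F n)
      (fun X => by
        obtain ⟨Y, p, hp, hY⟩ := hP X
        exact ⟨Y, p, hY, hp⟩)
      (En_zero F n hdim) (En_peel F n) n X (fun p => En_top F n _)
    exact ⟨L, f, hL, hf⟩

end HypSec

section Inverts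

variable {A : Type u} [Category.{v} A] [Abelian A] [EnoughInjectives A]
  {B : Type u'} [Category.{v'} B] [Abelian B] [HasDerivedCategory.{w'} B]
  (F : A ⥤ B) [F.Additive] (n : ℕ) [(F.rightDerived n).Additive]

/-- the functor to be left derived -/
noncomputable abbrev GQ : CochainComplex A ℤ ⥤ DerivedCategory B :=
  (F.rightDerived n).mapHomologicalComplex (ComplexShape.up ℤ) ⋙ DerivedCategory.Q

lemma GQ_inverts_he :
    (HomologicalComplex.homotopyEquivalences A (ComplexShape.up ℤ)).IsInvertedBy (GQ F n) :=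
  Groth.Agent.H45.MultiDer.isInvertedBy₁ _ (fun _ _ _ _ h =>
    DerivedCategory.Q_map_eq_of_homotopy _ ((F.rightDerived n).mapHomotopy h))

variable (hdim : ∀ (X : A) (i : ℕ), n < i → IsZero ((F.rightDerived i).obj X))

include hdim in
lemma quasiIso_G_map ⦃P P' : CochainComplex A ℤ⦄ (φ : P ⟶ P') (hP : kf F n P) (hP' : kf F n P')
    (hφ : QuasiIso φ) :
    QuasiIso (((F.rightDerived n).mapHomologicalComplex (ComplexShape.up ℤ)).map φ) := by
  rw [Groth.Agent.H30.Leray.quasiIso_iff_exactAt_mappingCone]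
  have hE := (Groth.Agent.H30.Leray.quasiIso_iff_exactAt_mappingCone φ).1 hφ
  intro m
  exact (exactAt_map_rightDerived F n hdim (CochainComplex.mappingCone φ) hE
    (kf_mappingCone F n φ hP hP') m).of_iso
    (CochainComplex.mappingCone.mapHomologicalComplexIso φ (F.rightDerived n))

include hdim in
lemma GQ_inverts ⦃P P' : CochainComplex A ℤ⦄ (φ : P ⟶ P') (hP : kf F n P) (hP' : kf F n P')
    (hφ : QuasiIso φ) : IsIso ((GQ F n).map φ) := by
  have := quasiIso_G_map F n hdim φ hP hP' hφ
  exact (DerivedCategory.isIso_Q_map_iff_quasiIso _ _).2 this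

end Inverts

section Main

variable {A : Type u} [Category.{v} A] [Abelian A] [HasDerivedCategory.{w} A] [EnoughInjectives A]
  {B : Type u'} [Category.{v'} B] [Abelian B] [HasDerivedCategory.{w'} B]
  (F : A ⥤ B) [F.Additive] [PreservesFiniteLimits F] (n : ℕ) [(F.rightDerived n).Additive]
  (hdim : ∀ (X : A) (i : ℕ), n < i → IsZero ((F.rightDerived i).obj X))
  (RF : DerivedCategory A ⥤ DerivedCategory B)
  (α : F.mapHomologicalComplex (ComplexShape.up ℤ) ⋙ DerivedCategory.Q ⟶ DerivedCategory.Q ⋙ RF)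
  [RF.IsRightDerivedFunctor α (HomologicalComplex.quasiIso A (ComplexShape.up ℤ))]

local notation "Fc" => F.mapHomologicalComplex (ComplexShape.up ℤ)
local notation "Gc" => Functor.mapHomologicalComplex (Functor.rightDerived F n) (ComplexShape.up ℤ)

include hdim in
lemma acyclic_Dcx_X (C : CochainComplex A ℤ) (p : ℤ) :
    Groth.Agent.H30.Leray.acyclic F ((Dcx n C).X p) := fun i hi =>
  isZero_rightDerived_sus_X F C n _ i hi (hdim _ _ (by omega))

include hdim in
lemma isIso_α_app_Dcx (C : CochainComplex A ℤ) : IsIso (α.app (Dcx n C)) :=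
  isIso_α_app F RF α (n + 1) (fun X => hdim X _ (by omega)) (Dcx n C)
    (acyclic_Dcx_X F n hdim C)

/-- the inverse of the unit at the desuspended complex -/
noncomputable def αinv (C : CochainComplex A ℤ) :
    RF.obj (DerivedCategory.Q.obj (Dcx n C)) ⟶ DerivedCategory.Q.obj ((Fc).obj (Dcx n C)) :=
  @inv _ _ _ _ (α.app (Dcx n C)) (isIso_α_app_Dcx F n hdim RF α C)

lemma αinv_naturality {C C' : CochainComplex A ℤ} (f : C ⟶ C') :
    RF.map (DerivedCategory.Q.map (DcxMap n f)) ≫ αinv F n hdim RF α C' =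
      αinv F n hdim RF α C ≫ DerivedCategory.Q.map ((Fc).map (DcxMap n f)) := by
  have := isIso_α_app_Dcx F n hdim RF α C
  have := isIso_α_app_Dcx F n hdim RF α C'
  dsimp only [αinv]
  rw [← cancel_epi (α.app (Dcx n C)), ← cancel_mono (α.app (Dcx n C'))]
  simp only [Category.assoc, IsIso.inv_hom_id, IsIso.hom_inv_id_assoc, Category.comp_id]
  exact (α.naturality (DcxMap n f)).symm

/-- the second half of the comparison map -/
noncomputable def βcx (C : CochainComplex A ℤ) :
    DerivedCategory.Q.obj ((Fc).obj (Dcx n C)) ⟶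
      (DerivedCategory.Q.obj ((Gc).obj C))⟦(-(n : ℤ))⟧ :=
  DerivedCategory.Q.map (((Fc).commShiftIso (-(n : ℤ))).hom.app (sus n C)) ≫
    (DerivedCategory.Q.commShiftIso (-(n : ℤ))).hom.app ((Fc).obj (sus n C)) ≫
    (DerivedCategory.Q.map (πcx F n C))⟦(-(n : ℤ))⟧'

lemma βcx_naturality {C C' : CochainComplex A ℤ} (f : C ⟶ C') :
    DerivedCategory.Q.map ((Fc).map (DcxMap n f)) ≫ βcx F n C' =
      βcx F n C ≫ (DerivedCategory.Q.map ((Gc).map f))⟦(-(n : ℤ))⟧' := by
  dsimp only [βcx]
  have h1 := ((Fc).commShiftIso (-(n : ℤ))).hom.naturality (susMap n f)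
  have h2 := (DerivedCategory.Q.commShiftIso (-(n : ℤ))).hom.naturality ((Fc).map (susMap n f))
  have h3 := πcx_naturality F n f
  dsimp at h1 h2
  simp only [Category.assoc]
  rw [← Functor.map_comp_assoc, h1, Functor.map_comp_assoc, reassoc_of% h2,
    ← Functor.map_comp, ← Functor.map_comp, ← Functor.map_comp, ← Functor.map_comp, h3]

lemma isIso_βcx (C : CochainComplex A ℤ)
    (hC : ∀ (p : ℤ) (i : ℕ), i < n → IsZero ((F.rightDerived i).obj (C.X p))) :
    IsIso (βcx F n C) := by
  have := quasiIso_πcx F n C hC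
  have : IsIso (DerivedCategory.Q.map (πcx F n C)) :=
    (DerivedCategory.isIso_Q_map_iff_quasiIso _ _).2 this
  dsimp only [βcx]
  infer_instance

/-- the comparison map `RF (Q C) ⟶ (Q (RⁿF C))⟦-n⟧` -/
noncomputable def κ (C : CochainComplex A ℤ) :
    RF.obj (DerivedCategory.Q.obj C) ⟶ (DerivedCategory.Q.obj ((Gc).obj C))⟦(-(n : ℤ))⟧ :=
  RF.map (aIso n C).inv ≫ αinv F n hdim RF α C ≫ βcx F n C

lemma κ_naturality {C C' : CochainComplex A ℤ} (f : C ⟶ C') :
    RF.map (DerivedCategory.Q.map f) ≫ κ F n hdim RF α C' =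
      κ F n hdim RF α C ≫ (DerivedCategory.Q.map ((Gc).map f))⟦(-(n : ℤ))⟧' := by
  dsimp only [κ]
  have h0 : DerivedCategory.Q.map f ≫ (aIso n C').inv =
      (aIso n C).inv ≫ DerivedCategory.Q.map (DcxMap n f) := by
    rw [← cancel_mono (aIso n C').hom, ← cancel_epi (aIso n C).hom]
    simp only [Category.assoc, Iso.inv_hom_id, Category.comp_id, Iso.hom_inv_id_assoc]
    exact aIso_naturality n f
  simp only [Category.assoc]
  rw [← Functor.map_comp_assoc, h0, Functor.map_comp_assoc,
    reassoc_of% (αinv_naturality F n hdim RF α f), βcx_naturality]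

lemma isIso_κ (C : CochainComplex A ℤ)
    (hC : ∀ (p : ℤ) (i : ℕ), i < n → IsZero ((F.rightDerived i).obj (C.X p))) :
    IsIso (κ F n hdim RF α C) := by
  have := isIso_α_app_Dcx F n hdim RF α C
  have := isIso_βcx F n C hC
  dsimp only [κ, αinv]
  infer_instance

/-- the candidate left derived functor -/
noncomputable abbrev LG' : DerivedCategory A ⥤ DerivedCategory B :=
  RF ⋙ shiftFunctor (DerivedCategory B) (n : ℤ)

/-- the counit of the candidate left derived functor -/
noncomputable def τ : DerivedCategory.Q ⋙ LG' n RF ⟶ Gc ⋙ DerivedCategory.Q where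
  app C := (κ F n hdim RF α C)⟦(n : ℤ)⟧' ≫
    (shiftFunctorCompIsoId (DerivedCategory B) (-(n : ℤ)) (n : ℤ) (neg_add_cancel _)).hom.app
      (DerivedCategory.Q.obj ((Gc).obj C))
  naturality C C' f := by
    have h1 := κ_naturality F n hdim RF α f
    have h2 := (shiftFunctorCompIsoId (DerivedCategory B) (-(n : ℤ)) (n : ℤ)
      (neg_add_cancel _)).hom.naturality (DerivedCategory.Q.map ((Gc).map f))
    dsimp at h2 ⊢
    simp only [Category.assoc]
    rw [← h2, ← Functor.map_comp_assoc, h1, Functor.map_comp_assoc]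

lemma isIso_τ_app (C : CochainComplex A ℤ)
    (hC : ∀ (p : ℤ) (i : ℕ), i < n → IsZero ((F.rightDerived i).obj (C.X p))) :
    IsIso ((τ F n hdim RF α).app C) := by
  have := isIso_κ F n hdim RF α C hC
  dsimp only [τ]
  infer_instance

end Main

section Final

variable {A : Type u} [Category.{v} A] [Abelian A] [HasDerivedCategory.{w} A] [EnoughInjectives A]
  {B : Type u'} [Category.{v'} B] [Abelian B] [HasDerivedCategory.{w'} B]
  (F : A ⥤ B) [F.Additive] [PreservesFiniteLimits F] (n : ℕ) [(F.rightDerived n).Additive]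
  (hdim : ∀ (X : A) (i : ℕ), n < i → IsZero ((F.rightDerived i).obj X))
  (hP : ∀ X : A, ∃ (Y : A) (p : Y ⟶ X), Epi p ∧
    ∀ i : ℕ, i ≠ n → IsZero ((F.rightDerived i).obj Y))

include hdim hP in
/-- `RⁿF` has a total left derived functor -/
theorem hasLeftDerivedFunctor_GQ :
    (GQ F n).HasLeftDerivedFunctor (HomologicalComplex.quasiIso A (ComplexShape.up ℤ)) :=
  Groth.Agent.H45.MultiDer.hasLeftDerivedFunctor₁ (hyp_kf F n hdim hP) (GQ F n)
    (GQ_inverts_he F n) (GQ_inverts F n hdim)

variable (RF : DerivedCategory A ⥤ DerivedCategory B)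
  (α : F.mapHomologicalComplex (ComplexShape.up ℤ) ⋙ DerivedCategory.Q ⟶ DerivedCategory.Q ⋙ RF)
  [RF.IsRightDerivedFunctor α (HomologicalComplex.quasiIso A (ComplexShape.up ℤ))]

include hP in
/-- `RF⟦n⟧` is a total left derived functor of `RⁿF` -/
theorem isLeftDerivedFunctor_LG' :
    (LG' n RF).IsLeftDerivedFunctor (τ F n hdim RF α)
      (HomologicalComplex.quasiIso A (ComplexShape.up ℤ)) :=
  Groth.Agent.H45.MultiDer.isLeftDerivedFunctor_of_isIso₁ (hyp_kf F n hdim hP) (GQ F n)
    (GQ_inverts_he F n) (GQ_inverts F n hdim) (LG' n RF) (τ F n hdim RF α)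
    (fun C hC => isIso_τ_app F n hdim RF α C (fun p i hi => hC p i (by omega)))

include hdim hP α in
/-- `RF ≅ L(RⁿF)⟦-n⟧` -/
theorem nonempty_iso (LG : DerivedCategory A ⥤ DerivedCategory B)
    (γ : DerivedCategory.Q ⋙ LG ⟶ GQ F n)
    [LG.IsLeftDerivedFunctor γ (HomologicalComplex.quasiIso A (ComplexShape.up ℤ))] :
    Nonempty (RF ≅ LG ⋙ shiftFunctor (DerivedCategory B) (-(n : ℤ))) := by
  have := isLeftDerivedFunctor_LG' F n hdim hP RF α
  let e : LG' n RF ≅ LG := Functor.leftDerivedUnique LG (LG' n RF) (τ F n hdim RF α) γ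
    (HomologicalComplex.quasiIso A (ComplexShape.up ℤ))
  exact ⟨(Functor.rightUnitor RF).symm ≪≫
    Functor.isoWhiskerLeft RF (shiftFunctorCompIsoId (DerivedCategory B) (n : ℤ) (-(n : ℤ))
      (add_neg_cancel _)).symm ≪≫ (Functor.associator _ _ _).symm ≪≫
    Functor.isoWhiskerRight e (shiftFunctor (DerivedCategory B) (-(n : ℤ)))⟩

end Final

end Groth.Agent.H10.CD
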