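import Mathlib

universe u

namespace Groth.Agent.H10.Chain

/-- a chain of finite-dimensional vector spaces `V 0 → V 1 → V 2 → ⋯` -/
structure Ch (k : Type u) [Field k] where
  V : ℕ → Type u
  [acg : ∀ j, AddCommGroup (V j)]
  [mod : ∀ j, Module k (V j)]
  [fd : ∀ j, FiniteDimensional k (V j)]
  φ : ∀ j, V j →ₗ[k] V (j + 1)

attribute [instance] Ch.acg Ch.mod Ch.fd

variable {k : Type u} [Field k]

namespace Ch

variable (C : Ch k)

/-- the shift operator on the product -/
def T : (∀ j, C.V j) →ₗ[k] (∀ j, C.V j) :=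
  LinearMap.pi (fun j => match j with
    | 0 => 0
    | j + 1 => (C.φ j).comp (LinearMap.proj j))

@[simp] theorem T_apply_zero (x : ∀ j, C.V j) : C.T x 0 = 0 := rfl

@[simp] theorem T_apply_succ (x : ∀ j, C.V j) (j : ℕ) : C.T x (j + 1) = C.φ j (x j) := rfl

/-- the composite `V i → V j` (zero if `j < i`) -/
def comp (i j : ℕ) : C.V i →ₗ[k] C.V j :=
  (LinearMap.proj j).comp ((C.T ^ (j - i)).comp (LinearMap.single k C.V i))

theorem comp_self (i : ℕ) : C.comp i i = LinearMap.id := by
  ext x
  simp [comp]

theorem comp_succ {i j : ℕ} (h : i ≤ j) : C.comp i (j + 1) = (C.φ j).comp (C.comp i j) := by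
  ext x
  simp only [comp, LinearMap.coe_comp, Function.comp_apply, LinearMap.coe_proj, Function.eval]
  rw [Nat.succ_sub h, pow_succ', Module.End.mul_apply, T_apply_succ]

theorem comp_of_lt {i j : ℕ} (h : j < i) : C.comp i j = 0 := by
  ext x
  have h0 : j - i = 0 := by omega
  simp only [comp, h0, pow_zero, LinearMap.coe_comp, Function.comp_apply, LinearMap.coe_proj,
    Function.eval, Module.End.one_apply, LinearMap.coe_single, LinearMap.zero_apply]
  exact Pi.single_eq_of_ne (by omega) x

theorem comp_comp {i j l : ℕ} (hij : i ≤ j) (hjl : j ≤ l) :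
    (C.comp j l).comp (C.comp i j) = C.comp i l := by
  induction l, hjl using Nat.le_induction with
  | base => rw [comp_self]; rfl
  | succ l hjl ih =>
    rw [comp_succ C hjl, comp_succ C (hij.trans hjl), LinearMap.comp_assoc, ih]

theorem comp_succ_self (j : ℕ) : C.comp j (j + 1) = C.φ j := by
  rw [comp_succ C le_rfl, comp_self]; rfl

theorem comp_succ_left {j l : ℕ} (h : j < l) : (C.comp (j + 1) l).comp (C.φ j) = C.comp j l := by
  rw [← comp_succ_self, comp_comp C (Nat.le_succ j) h]

/-- the rank array -/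
noncomputable def rk (i j : ℕ) : ℕ := Module.finrank k (LinearMap.range (C.comp i j))

theorem rk_self (i : ℕ) : C.rk i i = Module.finrank k (C.V i) := by
  rw [rk, comp_self, LinearMap.range_id, finrank_top]

theorem rk_of_lt {i j : ℕ} (h : j < i) : C.rk i j = 0 := by
  rw [rk, comp_of_lt C h, LinearMap.range_zero, finrank_bot]

theorem range_comp_succ {i j : ℕ} (h : i ≤ j) :
    LinearMap.range (C.comp i (j + 1)) = (LinearMap.range (C.comp i j)).map (C.φ j) := by
  rw [comp_succ C h, LinearMap.range_comp]

end Ch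

end Groth.Agent.H10.Chain
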