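import Mathlib
import Groth.Agent.H10.Chain1

universe u

namespace Groth.Agent.H10.Chain

variable {k : Type u} [Field k]

theorem finrank_map_add_le {E F : Type*} [AddCommGroup E] [Module k E] [FiniteDimensional k E]
    [AddCommGroup F] [Module k F] (φ : E →ₗ[k] F) (U V : Submodule k E) (hUV : U ≤ V) :
    Module.finrank k (V.map φ) + Module.finrank k U ≤
      Module.finrank k V + Module.finrank k (U.map φ) := by
  have hV := LinearMap.finrank_range_add_finrank_ker (φ.domRestrict V)
  have hU := LinearMap.finrank_range_add_finrank_ker (φ.domRestrict U)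
  rw [LinearMap.range_domRestrict] at hV hU
  have hker : Module.finrank k (LinearMap.ker (φ.domRestrict U)) ≤
      Module.finrank k (LinearMap.ker (φ.domRestrict V)) := by
    let g : LinearMap.ker (φ.domRestrict U) →ₗ[k] LinearMap.ker (φ.domRestrict V) :=
      { toFun := fun x => ⟨⟨x.1.1, hUV x.1.2⟩, by
          have := x.2
          rw [LinearMap.mem_ker] at this ⊢
          exact this⟩
        map_add' := fun x y => rfl
        map_smul' := fun c x => rfl }
    apply LinearMap.finrank_le_finrank_of_injective (f := g)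
    intro x y hxy
    have := congrArg (fun z => (z.1.1 : E)) hxy
    exact Subtype.ext (Subtype.ext this)
  omega

namespace Ch

variable (C : Ch k)

theorem rk_le_succ_left {i j : ℕ} (h : i < j) : C.rk i j ≤ C.rk (i + 1) j := by
  rw [rk, rk, ← comp_comp C (Nat.le_succ i) h]
  exact Submodule.finrank_mono (LinearMap.range_comp_le_range _ _)

theorem rk_succ_right_le {i j : ℕ} (h : i ≤ j) : C.rk i (j + 1) ≤ C.rk i j := by
  rw [rk, rk, range_comp_succ C h]
  exact Submodule.finrank_map_le _ _

theorem rk_supermod {i j : ℕ} (h : i + 1 ≤ j) :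
    C.rk (i + 1) (j + 1) + C.rk i j ≤ C.rk (i + 1) j + C.rk i (j + 1) := by
  rw [rk, rk, rk, rk, range_comp_succ C h, range_comp_succ C (by omega : i ≤ j)]
  apply finrank_map_add_le
  rw [← comp_comp C (Nat.le_succ i) h]
  exact LinearMap.range_comp_le_range _ _

/-- `rk i j ≤ rk j j` for `i ≤ j` -/
theorem rk_le_diag {i j : ℕ} (h : i ≤ j) : C.rk i j ≤ C.rk j j := by
  rw [rk_self, rk]
  exact Submodule.finrank_le _

/-- `rk i j ≤ rk i i` for `i ≤ j` -/
theorem rk_le_diag_left {i j : ℕ} (h : i ≤ j) : C.rk i j ≤ C.rk i i := by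
  rw [rk_self, rk]
  exact LinearMap.finrank_range_le _

/-- monotone in the second index -/
theorem rk_antitone_right {i j l : ℕ} (hij : i ≤ j) (hjl : j ≤ l) : C.rk i l ≤ C.rk i j := by
  rw [rk, rk, ← comp_comp C hij hjl, LinearMap.range_comp]
  exact Submodule.finrank_map_le _ _

theorem rk_monotone_left {i s j : ℕ} (his : i ≤ s) (hsj : s ≤ j) : C.rk i j ≤ C.rk s j := by
  rw [rk, rk, ← comp_comp C his hsj]
  exact Submodule.finrank_mono (LinearMap.range_comp_le_range _ _)

end Ch

end Groth.Agent.H10.Chain
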