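import Mathlib
import Groth.Agent.H10.Chain2

universe u

namespace Groth.Agent.H10.Chain

variable {k : Type u} [Field k]

namespace Ch

/-- an isomorphism of chains on the window `1 ≤ j ≤ r` -/
structure WIso (r : ℕ) (C D : Ch k) where
  θ : ∀ j, C.V j →ₗ[k] D.V j
  bij : ∀ j, 1 ≤ j → j ≤ r → Function.Bijective (θ j)
  comm : ∀ j, 1 ≤ j → j + 1 ≤ r → ∀ x, θ (j + 1) (C.φ j x) = D.φ j (θ j x)

variable {r : ℕ} {C D : Ch k}

theorem WIso.comp_comm (e : WIso r C D) {i j : ℕ} (hi : 1 ≤ i) (hij : i ≤ j) (hj : j ≤ r)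
    (x : C.V i) : e.θ j (C.comp i j x) = D.comp i j (e.θ i x) := by
  induction j, hij using Nat.le_induction with
  | base => simp [comp_self]
  | succ j hij ih =>
    rw [comp_succ C hij, comp_succ D hij, LinearMap.comp_apply, LinearMap.comp_apply,
      e.comm j (by omega) hj, ih (by omega)]

theorem WIso.rk_eq (e : WIso r C D) {i j : ℕ} (hi : 1 ≤ i) (hij : i ≤ j) (hj : j ≤ r) :
    C.rk i j = D.rk i j := by
  have h1 : LinearMap.range (D.comp i j) = (LinearMap.range (C.comp i j)).map (e.θ j) := by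
    apply le_antisymm
    · rintro y ⟨x, rfl⟩
      obtain ⟨x', rfl⟩ := (e.bij i hi (by omega)).2 x
      exact ⟨C.comp i j x', ⟨x', rfl⟩, e.comp_comm hi hij hj x'⟩
    · rintro y ⟨z, ⟨x, rfl⟩, rfl⟩
      exact ⟨e.θ i x, (e.comp_comm hi hij hj x).symm⟩
  rw [rk, rk, h1]
  exact (Submodule.equivMapOfInjective (e.θ j) (e.bij j (by omega) hj).1 _).finrank_eq

end Ch

end Groth.Agent.H10.Chain
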