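import Mathlib
import Groth.Agent.H10.Chain3

universe u

namespace Groth.Agent.H10.Chain

variable {k : Type u} [Field k]

/-- a chosen linear retraction onto a subspace -/
noncomputable def retr {V : Type*} [AddCommGroup V] [Module k V] (W : Submodule k V) :
    V →ₗ[k] W :=
  Submodule.projectionOnto W _ W.exists_isCompl.choose_spec

theorem retr_apply {V : Type*} [AddCommGroup V] [Module k V] (W : Submodule k V) {x : V}
    (hx : x ∈ W) : retr W x = ⟨x, hx⟩ :=
  Submodule.projectionOnto_apply_left _ ⟨x, hx⟩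

namespace Ch

variable (C : Ch k)

/-- the sub-chain on a stable family of subspaces -/
def sub (W : ∀ j, Submodule k (C.V j)) (hW : ∀ j, ∀ x ∈ W j, C.φ j x ∈ W (j + 1)) : Ch k where
  V j := W j
  φ j := (C.φ j).restrict (hW j)

variable {C}

/-- the inclusion of the sub-chain -/
def subι {W : ∀ j, Submodule k (C.V j)} (hW : ∀ j, ∀ x ∈ W j, C.φ j x ∈ W (j + 1)) (j : ℕ) :
    (C.sub W hW).V j →ₗ[k] C.V j := (W j).subtype

/-- elements of the sub-chain from elements of the subspaces -/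
def subMk {W : ∀ j, Submodule k (C.V j)} (hW : ∀ j, ∀ x ∈ W j, C.φ j x ∈ W (j + 1)) (j : ℕ) :
    W j →ₗ[k] (C.sub W hW).V j := LinearMap.id

theorem subι_mem {W : ∀ j, Submodule k (C.V j)} (hW : ∀ j, ∀ x ∈ W j, C.φ j x ∈ W (j + 1))
    (j : ℕ) (x : (C.sub W hW).V j) : subι hW j x ∈ W j := Subtype.property (p := (· ∈ W j)) x

theorem subι_injective {W : ∀ j, Submodule k (C.V j)}
    (hW : ∀ j, ∀ x ∈ W j, C.φ j x ∈ W (j + 1)) (j : ℕ) :
    Function.Injective (subι hW j) := Subtype.val_injective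

@[simp] theorem subι_subMk {W : ∀ j, Submodule k (C.V j)}
    (hW : ∀ j, ∀ x ∈ W j, C.φ j x ∈ W (j + 1)) (j : ℕ) (x : W j) :
    subι hW j (subMk hW j x) = x := rfl

theorem subMk_subι {W : ∀ j, Submodule k (C.V j)}
    (hW : ∀ j, ∀ x ∈ W j, C.φ j x ∈ W (j + 1)) (j : ℕ) (x : (C.sub W hW).V j) :
    subMk hW j ⟨subι hW j x, subι_mem hW j x⟩ = x := rfl

theorem subι_φ {W : ∀ j, Submodule k (C.V j)} (hW : ∀ j, ∀ x ∈ W j, C.φ j x ∈ W (j + 1))
    (j : ℕ) (x : (C.sub W hW).V j) :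
    subι hW (j + 1) ((C.sub W hW).φ j x) = C.φ j (subι hW j x) := rfl

theorem subι_comp {W : ∀ j, Submodule k (C.V j)} (hW : ∀ j, ∀ x ∈ W j, C.φ j x ∈ W (j + 1))
    {i j : ℕ} (hij : i ≤ j) (x : (C.sub W hW).V i) :
    subι hW j ((C.sub W hW).comp i j x) = C.comp i j (subι hW i x) := by
  induction j, hij using Nat.le_induction with
  | base => simp [comp_self]
  | succ j hij ih =>
    rw [comp_succ _ hij, comp_succ C hij, LinearMap.comp_apply, LinearMap.comp_apply,
      subι_φ, ih]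

theorem rk_sub {W : ∀ j, Submodule k (C.V j)} (hW : ∀ j, ∀ x ∈ W j, C.φ j x ∈ W (j + 1))
    {i j : ℕ} (hij : i ≤ j) :
    (C.sub W hW).rk i j = Module.finrank k ((W i).map (C.comp i j)) := by
  have h : (LinearMap.range ((C.sub W hW).comp i j)).map (subι hW j) =
      (W i).map (C.comp i j) := by
    ext y
    constructor
    · rintro ⟨z, ⟨x, rfl⟩, rfl⟩
      exact ⟨subι hW i x, subι_mem hW i x, (subι_comp hW hij x).symm⟩
    · rintro ⟨x, hx, rfl⟩
      exact ⟨(C.sub W hW).comp i j (subMk hW i ⟨x, hx⟩), ⟨_, rfl⟩,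
        subι_comp hW hij (subMk hW i ⟨x, hx⟩)⟩
  rw [← h]
  exact (Submodule.equivMapOfInjective (subι hW j) (subι_injective hW j) _).finrank_eq

theorem finrank_sub {W : ∀ j, Submodule k (C.V j)} (hW : ∀ j, ∀ x ∈ W j, C.φ j x ∈ W (j + 1))
    (j : ℕ) : Module.finrank k ((C.sub W hW).V j) = Module.finrank k (W j) := rfl

theorem map_comp_le {r : ℕ} {W : ∀ j, Submodule k (C.V j)}
    (hW : ∀ j, 1 ≤ j → j + 1 ≤ r → ∀ x ∈ W j, C.φ j x ∈ W (j + 1))
    {s t : ℕ} (hs : 1 ≤ s) (hst : s ≤ t) (ht : t ≤ r) :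
    (W s).map (C.comp s t) ≤ W t := by
  induction t, hst using Nat.le_induction with
  | base => simp [comp_self]
  | succ t hst ih =>
    rintro y ⟨x, hx, rfl⟩
    rw [comp_succ C hst, LinearMap.comp_apply]
    exact hW t (by omega) ht _ (ih (by omega) ⟨x, hx, rfl⟩)

theorem rk_add {S K : ∀ j, Submodule k (C.V j)} {s t : ℕ} (hsup : S s ⊔ K s = ⊤)
    (hdis : Disjoint (S t) (K t)) (hS : (S s).map (C.comp s t) ≤ S t)
    (hK : (K s).map (C.comp s t) ≤ K t) :
    C.rk s t = Module.finrank k ((S s).map (C.comp s t)) +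
      Module.finrank k ((K s).map (C.comp s t)) := by
  rw [rk, LinearMap.range_eq_map, ← hsup, Submodule.map_sup,
    ← Submodule.finrank_sup_add_finrank_inf_eq, (hdis.mono hS hK).eq_bot, finrank_bot, add_zero]

end Ch

end Groth.Agent.H10.Chain
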