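import Mathlib
import Groth.Agent.H10.Chain4

universe u

namespace Groth.Agent.H10.Chain

variable {k : Type u} [Field k]

/-- `i` is the first nonzero diagonal entry, `l` the last nonzero entry of row `i`. -/
def IsLead (a : ℕ → ℕ → ℕ) (r i l : ℕ) : Prop :=
  1 ≤ i ∧ i ≤ l ∧ l ≤ r ∧ (∀ j, 1 ≤ j → j < i → a j j = 0) ∧ a i l ≠ 0 ∧
    (∀ j, l < j → j ≤ r → a i j = 0)

theorem exists_isLead (a : ℕ → ℕ → ℕ) (r : ℕ) (h : ∃ j, 1 ≤ j ∧ j ≤ r ∧ a j j ≠ 0) :
    ∃ i l, IsLead a r i l := by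
  classical
  have hi := Nat.find_spec h
  have himin := fun m => Nat.find_min (m := m) h
  obtain ⟨i, hidef⟩ : ∃ i, i = Nat.find h := ⟨_, rfl⟩
  rw [← hidef] at hi
  have hl := Nat.findGreatest_spec (P := fun t => i ≤ t ∧ a i t ≠ 0) (m := i) (n := r) hi.2.1
    ⟨le_rfl, hi.2.2⟩
  have hlmax := fun n => Nat.findGreatest_is_greatest (P := fun t => i ≤ t ∧ a i t ≠ 0)
    (n := r) (k := n)
  have hlr := Nat.findGreatest_le (P := fun t => i ≤ t ∧ a i t ≠ 0) r
  obtain ⟨l, hldef⟩ : ∃ l, l = Nat.findGreatest (fun t => i ≤ t ∧ a i t ≠ 0) r := ⟨_, rfl⟩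
  rw [← hldef] at hl hlr hlmax
  refine ⟨i, l, hi.1, hl.1, hlr, ?_, hl.2, ?_⟩
  · intro j hj hji
    by_contra hne
    exact himin j (hidef ▸ hji) ⟨hj, by omega, hne⟩
  · intro j hlj hjr
    by_contra hne
    exact hlmax j hlj hjr ⟨by omega, hne⟩

theorem IsLead.congr {a b : ℕ → ℕ → ℕ} {r i l : ℕ}
    (h : ∀ i j, 1 ≤ i → i ≤ j → j ≤ r → a i j = b i j) (ha : IsLead a r i l) :
    IsLead b r i l := by
  obtain ⟨h1, h2, h3, h4, h5, h6⟩ := ha
  refine ⟨h1, h2, h3, ?_, ?_, ?_⟩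
  · intro j hj hji
    rw [← h j j hj le_rfl (by omega)]
    exact h4 j hj hji
  · rw [← h i l h1 h2 h3]
    exact h5
  · intro j hlj hjr
    rw [← h i j h1 (by omega) hjr]
    exact h6 j hlj hjr

namespace Ch

/-- string data in a chain -/
structure Str (C : Ch k) (r i l : ℕ) where
  v : C.V i
  lam : C.V l →ₗ[k] k
  hi : 1 ≤ i
  hil : i ≤ l
  hlr : l ≤ r
  one : lam (C.comp i l v) = 1
  zero_left : ∀ j, 1 ≤ j → j < i → ∀ x : C.V j, x = 0
  zero_right : ∀ j, l < j → j ≤ r → C.comp i j = 0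

variable {C : Ch k} {r i l : ℕ}

theorem exists_str (h : IsLead C.rk r i l) : Nonempty (Str C r i l) := by
  obtain ⟨h1, h2, h3, h4, h5, h6⟩ := h
  have hne : LinearMap.range (C.comp i l) ≠ ⊥ := by
    intro hbot
    apply h5
    rw [rk, hbot, finrank_bot]
  rw [Ne, LinearMap.range_eq_bot] at hne
  obtain ⟨v, hv⟩ : ∃ v, C.comp i l v ≠ 0 := by
    by_contra hcon
    push Not at hcon
    exact hne (LinearMap.ext hcon)
  obtain ⟨lam, hlam⟩ := Module.Projective.exists_dual_eq_one k hv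
  refine ⟨⟨v, lam, h1, h2, h3, hlam, ?_, ?_⟩⟩
  · intro j hj hji x
    have h0 := h4 j hj hji
    rw [rk_self] at h0
    have := Module.finrank_zero_iff.1 h0
    exact Subsingleton.elim _ _
  · intro j hlj hjr
    have h0 := h6 j hlj hjr
    rw [rk, Submodule.finrank_eq_zero] at h0
    exact LinearMap.range_eq_bot.1 h0

namespace Str

variable (s : Str C r i l)

/-- the string vectors -/
def w (j : ℕ) : C.V j := C.comp i j s.v

/-- the string functionals -/
def lm (j : ℕ) : C.V j →ₗ[k] k := s.lam.comp (C.comp j l)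

/-- the complement family -/
def K (j : ℕ) : Submodule k (C.V j) := LinearMap.ker (s.lm j)

/-- the projection onto the complement -/
def π (j : ℕ) : C.V j →ₗ[k] C.V j := LinearMap.id - (s.lm j).smulRight (s.w j)

theorem π_apply (j : ℕ) (x : C.V j) : s.π j x = x - s.lm j x • s.w j := rfl

theorem mem_K {j : ℕ} {x : C.V j} : x ∈ s.K j ↔ s.lm j x = 0 := LinearMap.mem_ker

theorem lm_w {j : ℕ} (hij : i ≤ j) (hjl : j ≤ l) : s.lm j (s.w j) = 1 := by
  rw [lm, w, LinearMap.comp_apply, ← LinearMap.comp_apply (C.comp j l), comp_comp C hij hjl]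
  exact s.one

theorem lm_of_gt {j : ℕ} (h : l < j) : s.lm j = 0 := by
  rw [lm, comp_of_lt C h, LinearMap.comp_zero]

theorem w_succ {j : ℕ} (hij : i ≤ j) : C.φ j (s.w j) = s.w (j + 1) := by
  rw [w, w, comp_succ C hij]; rfl

theorem lm_succ {j : ℕ} (hjl : j < l) (x : C.V j) : s.lm (j + 1) (C.φ j x) = s.lm j x := by
  rw [lm, lm, LinearMap.comp_apply, LinearMap.comp_apply, ← comp_succ_left C hjl]; rfl

theorem w_of_gt {j : ℕ} (hlj : l < j) (hjr : j ≤ r) : s.w j = 0 := by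
  rw [w, s.zero_right j hlj hjr]; rfl

theorem w_of_lt {j : ℕ} (hji : j < i) : s.w j = 0 := by
  rw [w, comp_of_lt C hji]; rfl

theorem K_stable (j : ℕ) (x : C.V j) (hx : x ∈ s.K j) : C.φ j x ∈ s.K (j + 1) := by
  rw [mem_K] at hx ⊢
  by_cases hjl : j < l
  · rw [s.lm_succ hjl, hx]
  · rw [s.lm_of_gt (by omega)]; rfl

theorem π_mem {j : ℕ} (h1 : 1 ≤ j) (hjr : j ≤ r) (x : C.V j) : s.π j x ∈ s.K j := by
  rw [mem_K]
  by_cases hji : j < i
  · rw [s.zero_left j h1 hji (s.π j x), map_zero]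
  by_cases hjl : j ≤ l
  · rw [π_apply, map_sub, map_smul, s.lm_w (by omega) hjl, smul_eq_mul, mul_one, sub_self]
  · rw [s.lm_of_gt (by omega)]; rfl

theorem φ_π {j : ℕ} (h1 : 1 ≤ j) (hjr : j + 1 ≤ r) (x : C.V j) :
    C.φ j (s.π j x) = s.π (j + 1) (C.φ j x) := by
  by_cases hji : j < i
  · rw [s.zero_left j h1 hji x]; simp
  rw [π_apply, π_apply, map_sub, map_smul, s.w_succ (by omega)]
  by_cases hjl : j < l
  · rw [s.lm_succ hjl]
  · rw [s.w_of_gt (by omega) hjr, smul_zero, smul_zero]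

theorem w_ne_zero {j : ℕ} (hij : i ≤ j) (hjl : j ≤ l) : s.w j ≠ 0 := by
  intro h0
  have := s.lm_w hij hjl
  rw [h0, map_zero] at this
  exact zero_ne_one this

/-- the rank array splits off the string -/
theorem rk_eq {a b : ℕ} (ha : 1 ≤ a) (hab : a ≤ b) (hb : b ≤ r) :
    C.rk a b = (if i ≤ a ∧ b ≤ l then 1 else 0) + (C.sub s.K s.K_stable).rk a b := by
  have hsup : (k ∙ s.w a) ⊔ s.K a = ⊤ := by
    rw [eq_top_iff]
    intro x _
    have hx : x = s.lm a x • s.w a + s.π a x := by rw [π_apply]; abel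
    rw [hx]
    exact Submodule.add_mem_sup (Submodule.smul_mem _ _ (Submodule.mem_span_singleton_self _))
      (s.π_mem ha (by omega) x)
  have hdis : Disjoint (k ∙ s.w b) (s.K b) := by
    rw [Submodule.disjoint_def]
    intro x hx hxK
    obtain ⟨c, rfl⟩ := Submodule.mem_span_singleton.1 hx
    rw [mem_K, map_smul] at hxK
    by_cases hbi : b < i
    · exact s.zero_left b (by omega) hbi _
    by_cases hbl : b ≤ l
    · rw [s.lm_w (by omega) hbl, smul_eq_mul, mul_one] at hxK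
      rw [hxK, zero_smul]
    · rw [s.w_of_gt (by omega) hb, smul_zero]
  have hcw : C.comp a b (s.w a) = if i ≤ a then s.w b else 0 := by
    split_ifs with hia
    · rw [w, ← LinearMap.comp_apply, comp_comp C hia hab]; rfl
    · rw [s.w_of_lt (by omega), map_zero]
  have hS : (k ∙ s.w a).map (C.comp a b) ≤ (k ∙ s.w b) := by
    rw [Submodule.map_span, Set.image_singleton, hcw]
    split_ifs
    · exact le_rfl
    · rw [Submodule.span_singleton_le_iff_mem]; exact zero_mem _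
  have hK : (s.K a).map (C.comp a b) ≤ s.K b :=
    map_comp_le (r := b) (fun j _ _ => s.K_stable j) ha hab le_rfl
  rw [rk_add (S := fun j => k ∙ s.w j) (K := s.K) hsup hdis hS hK, rk_sub s.K_stable hab]
  congr 1
  rw [Submodule.map_span, Set.image_singleton, hcw]
  by_cases hia : i ≤ a
  · by_cases hbl : b ≤ l
    · rw [if_pos hia, if_pos ⟨hia, hbl⟩]
      exact finrank_span_singleton (s.w_ne_zero (by omega) hbl)
    · rw [if_pos hia, if_neg (by omega), s.w_of_gt (by omega) hb]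
      simp
  · rw [if_neg hia, if_neg (by omega)]
    simp

end Str

end Ch

end Groth.Agent.H10.Chain
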