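import Mathlib
import Groth.Agent.H10.Chain5

universe u

namespace Groth.Agent.H10.Chain

variable {k : Type u} [Field k]

namespace Ch

variable {C D : Ch k} {r i l : ℕ}

namespace Str

variable (s : Str C r i l)

/-- projection to the complement sub-chain -/
noncomputable def κ (j : ℕ) : C.V j →ₗ[k] (C.sub s.K s.K_stable).V j :=
  (subMk s.K_stable j).comp ((retr (s.K j)).comp (s.π j))

theorem subι_κ {j : ℕ} (h1 : 1 ≤ j) (hjr : j ≤ r) (x : C.V j) :
    subι s.K_stable j (s.κ j x) = s.π j x := by
  rw [κ, LinearMap.comp_apply, LinearMap.comp_apply, retr_apply _ (s.π_mem h1 hjr x), subι_subMk]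

theorem κ_φ {j : ℕ} (h1 : 1 ≤ j) (hjr : j + 1 ≤ r) (x : C.V j) :
    s.κ (j + 1) (C.φ j x) = (C.sub s.K s.K_stable).φ j (s.κ j x) := by
  apply subι_injective s.K_stable
  rw [s.subι_κ (by omega) hjr, subι_φ, s.subι_κ h1 (by omega), s.φ_π h1 hjr]

theorem lm_subι (j : ℕ) (y : (C.sub s.K s.K_stable).V j) : s.lm j (subι s.K_stable j y) = 0 :=
  s.mem_K.1 (subι_mem s.K_stable j y)

end Str

/-- assemble a window isomorphism from one of the complements of strings -/
noncomputable def WIso.ofStr (s : Str C r i l) (s' : Str D r i l)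
    (hdim : ∀ j, 1 ≤ j → j ≤ r → Module.finrank k (C.V j) = Module.finrank k (D.V j))
    (e : WIso r (C.sub s.K s.K_stable) (D.sub s'.K s'.K_stable)) : WIso r C D where
  θ j := (subι s'.K_stable j).comp ((e.θ j).comp (s.κ j)) + (s.lm j).smulRight (s'.w j)
  bij j h1 hjr := by
    have hinj : Function.Injective
        ((subι s'.K_stable j).comp ((e.θ j).comp (s.κ j)) + (s.lm j).smulRight (s'.w j)) := by
      rw [← LinearMap.ker_eq_bot, LinearMap.ker_eq_bot']
      intro x hx
      simp only [LinearMap.add_apply, LinearMap.comp_apply, LinearMap.smulRight_apply] at hx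
      by_cases hji : j < i
      · exact s.zero_left j h1 hji x
      have hlm : s.lm j x = 0 := by
        by_cases hjl : j ≤ l
        · have h2 := congrArg (s'.lm j) hx
          rw [map_add, s'.lm_subι, map_smul, s'.lm_w (by omega) hjl, map_zero, zero_add,
            smul_eq_mul, mul_one] at h2
          exact h2
        · rw [s.lm_of_gt (by omega)]; rfl
      rw [hlm, zero_smul, add_zero] at hx
      have h3 : s.κ j x = 0 := by
        apply (e.bij j h1 hjr).1
        rw [map_zero]
        apply subι_injective s'.K_stable j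
        rw [map_zero]
        exact hx
      have h4 := s.subι_κ h1 hjr x
      rw [h3, map_zero, Str.π_apply, hlm, zero_smul, sub_zero] at h4
      exact h4.symm
    exact ⟨hinj, (LinearMap.injective_iff_surjective_of_finrank_eq_finrank (hdim j h1 hjr)).1 hinj⟩
  comm j h1 hjr x := by
    simp only [LinearMap.add_apply, LinearMap.comp_apply, LinearMap.smulRight_apply, map_add,
      map_smul]
    rw [s.κ_φ h1 hjr, e.comm j h1 hjr, subι_φ]
    congr 1
    by_cases hji : j < i
    · rw [s.zero_left j h1 hji x]; simp
    rw [s'.w_succ (by omega)]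
    by_cases hjl : j < l
    · rw [s.lm_succ hjl]
    · rw [s'.w_of_gt (by omega) hjr, smul_zero, smul_zero]

/-- Theorem A: chains with the same rank array on the window are window-isomorphic. -/
theorem wiso_of_rk_eq (r : ℕ) : ∀ (n : ℕ) (C D : Ch k),
    (∑ j ∈ Finset.Icc 1 r, Module.finrank k (C.V j) = n) →
    (∀ i j, 1 ≤ i → i ≤ j → j ≤ r → C.rk i j = D.rk i j) → Nonempty (WIso r C D) := by
  intro n
  induction n using Nat.strong_induction_on with
  | _ n ih =>
    intro C D hn hrk
    have hdim : ∀ j, 1 ≤ j → j ≤ r → Module.finrank k (C.V j) = Module.finrank k (D.V j) := by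
      intro j h1 hjr
      rw [← rk_self, ← rk_self]
      exact hrk j j h1 le_rfl hjr
    by_cases h : ∃ j, 1 ≤ j ∧ j ≤ r ∧ C.rk j j ≠ 0
    · obtain ⟨i, l, hlead⟩ := exists_isLead C.rk r h
      have hlead' := hlead.congr hrk
      obtain ⟨s⟩ := exists_str hlead
      obtain ⟨s'⟩ := exists_str hlead'
      have hsub : ∀ a b, 1 ≤ a → a ≤ b → b ≤ r →
          (C.sub s.K s.K_stable).rk a b = (D.sub s'.K s'.K_stable).rk a b := by
        intro a b ha hab hb
        have h1 := s.rk_eq ha hab hb
        have h2 := s'.rk_eq ha hab hb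
        have h3 := hrk a b ha hab hb
        omega
      have hlt : ∑ j ∈ Finset.Icc 1 r, Module.finrank k ((C.sub s.K s.K_stable).V j) < n := by
        rw [← hn]
        apply Finset.sum_lt_sum
        · intro j _
          exact Submodule.finrank_le _
        · refine ⟨i, Finset.mem_Icc.2 ⟨s.hi, s.hil.trans s.hlr⟩, ?_⟩
          apply Submodule.finrank_lt
          intro htop
          have hmem : s.w i ∈ s.K i := by rw [htop]; exact Submodule.mem_top
          rw [Str.mem_K, s.lm_w le_rfl s.hil] at hmem
          exact one_ne_zero hmem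
      obtain ⟨e⟩ := ih _ hlt (C.sub s.K s.K_stable) (D.sub s'.K s'.K_stable) rfl hsub
      exact ⟨WIso.ofStr s s' hdim e⟩
    · push Not at h
      have hC : ∀ j, 1 ≤ j → j ≤ r → ∀ x : C.V j, x = 0 := by
        intro j h1 hjr x
        have h0 := h j h1 hjr
        rw [rk_self] at h0
        have := Module.finrank_zero_iff.1 h0
        exact Subsingleton.elim _ _
      have hD : ∀ j, 1 ≤ j → j ≤ r → ∀ x : D.V j, x = 0 := by
        intro j h1 hjr x
        have h0 := h j h1 hjr
        rw [rk_self, hdim j h1 hjr] at h0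
        have := Module.finrank_zero_iff.1 h0
        exact Subsingleton.elim _ _
      refine ⟨⟨fun j => 0, ?_, ?_⟩⟩
      · intro j h1 hjr
        constructor
        · intro x y _
          rw [hC j h1 hjr x, hC j h1 hjr y]
        · intro y
          exact ⟨0, (hD j h1 hjr y).symm ▸ rfl⟩
      · intro j h1 hjr x
        simp

end Ch

end Groth.Agent.H10.Chain
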