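import Mathlib
import Groth.Agent.H10.Chain6

universe u

namespace Groth.Agent.H10.Chain

variable {k : Type u} [Field k]

theorem finrank_submodule_prod {E F : Type*} [AddCommGroup E] [Module k E]
    [AddCommGroup F] [Module k F] [FiniteDimensional k E] [FiniteDimensional k F]
    (p : Submodule k E) (q : Submodule k F) :
    Module.finrank k (p.prod q) = Module.finrank k p + Module.finrank k q := by
  let e : (p.prod q) ≃ₗ[k] (p × q) :=
    { toFun := fun x => (⟨x.1.1, x.2.1⟩, ⟨x.1.2, x.2.2⟩)
      invFun := fun y => ⟨(y.1.1, y.2.1), ⟨y.1.2, y.2.2⟩⟩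
      map_add' := fun x y => rfl
      map_smul' := fun c x => rfl
      left_inv := fun x => rfl
      right_inv := fun y => rfl }
  rw [e.finrank_eq, Module.finrank_prod]

namespace Ch

/-- the product of two chains -/
def prod (C D : Ch k) : Ch k where
  V j := C.V j × D.V j
  φ j := (C.φ j).prodMap (D.φ j)

theorem prod_comp (C D : Ch k) {i j : ℕ} (hij : i ≤ j) :
    (C.prod D).comp i j = (C.comp i j).prodMap (D.comp i j) := by
  induction j, hij using Nat.le_induction with
  | base => rw [comp_self, comp_self, comp_self]; rfl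
  | succ j hij ih =>
    rw [comp_succ _ hij, comp_succ C hij, comp_succ D hij, ih]
    rfl

theorem rk_prod (C D : Ch k) {i j : ℕ} (hij : i ≤ j) :
    (C.prod D).rk i j = C.rk i j + D.rk i j := by
  rw [rk, prod_comp C D hij]
  show Module.finrank k (LinearMap.range ((C.comp i j).prodMap (D.comp i j))) = _
  rw [LinearMap.range_prodMap]
  exact finrank_submodule_prod _ _

/-- the chain on `k^(e j)` with all-ones maps -/
def line (k : Type u) [Field k] (e : ℕ → ℕ) : Ch k where
  V j := Fin (e j) → k
  φ j := LinearMap.pi fun _ => ∑ t, LinearMap.proj t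

theorem line_φ_apply (e : ℕ → ℕ) (j : ℕ) (x : Fin (e j) → k) (p : Fin (e (j + 1))) :
    (line k e).φ j x p = ∑ t, x t := by
  show (∑ t : Fin (e j), (LinearMap.proj t : (Fin (e j) → k) →ₗ[k] k)) x = ∑ t, x t
  simp [LinearMap.sum_apply]

theorem finrank_line (e : ℕ → ℕ) (j : ℕ) : Module.finrank k ((line k e).V j) = e j := by
  show Module.finrank k (Fin (e j) → k) = e j
  simp

theorem rk_line (e : ℕ → ℕ) (i l : ℕ) (h1 : ∀ j, i ≤ j → j ≤ l → e j = 1)
    (h0 : ∀ j, ¬ (i ≤ j ∧ j ≤ l) → e j = 0) {s t : ℕ} (hst : s ≤ t) :
    (line k e).rk s t = if i ≤ s ∧ t ≤ l then 1 else 0 := by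
  split_ifs with h
  · apply le_antisymm
    · have := rk_le_diag_left (line k e) hst
      rw [rk_self, finrank_line, h1 s h.1 (by omega)] at this
      exact this
    · have hone : ∀ t, s ≤ t → t ≤ l →
          (line k e).comp s t (fun _ => (1 : k)) = (fun _ => (1 : k)) := by
        intro t hst
        induction t, hst using Nat.le_induction with
        | base => intro _; rw [comp_self]; rfl
        | succ t hst ih =>
          intro htl
          rw [comp_succ _ hst, LinearMap.comp_apply, ih (by omega)]
          funext p
          rw [line_φ_apply]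
          simp [h1 t (by omega) (by omega)]
      rw [Nat.one_le_iff_ne_zero, rk, Ne, Submodule.finrank_eq_zero, LinearMap.range_eq_bot]
      intro hz
      have h2 := hone t hst h.2
      rw [hz] at h2
      have h3 := congrFun h2 ⟨0, by rw [h1 t (by omega) h.2]; exact Nat.one_pos⟩
      exact zero_ne_one h3
  · rw [not_and_or] at h
    rcases h with h | h
    · have := rk_le_diag_left (line k e) hst
      rw [rk_self, finrank_line, h0 s (by omega)] at this
      omega
    · have := rk_le_diag (line k e) hst
      rw [rk_self, finrank_line, h0 t (by omega)] at this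
      omega

end Ch

end Groth.Agent.H10.Chain
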