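import Mathlib
import Groth.Prelude.Def_W4c1btstackcountsChain
import Groth.Agent.H10.Chain7

universe u

namespace Groth.Agent.H10.Chain

open W4c1btstackcounts

variable {k : Type u} [Field k]

section comb

variable {d : ℕ → ℕ} {r : ℕ} {a : ℕ → ℕ → ℕ}

theorem ra_anti (ha : IsRankArray d r a) {s t t' : ℕ} (hs : 1 ≤ s) (hst : s ≤ t)
    (htt : t ≤ t') (ht : t' ≤ r) : a s t' ≤ a s t := by
  induction t', htt using Nat.le_induction with
  | base => exact le_rfl
  | succ t' htt ih => exact (ha.2.2.1 s t' hs (by omega) (by omega)).trans (ih (by omega))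

theorem ra_mono (ha : IsRankArray d r a) {s s' t : ℕ} (hs : 1 ≤ s) (hss : s ≤ s')
    (hst : s' ≤ t) (ht : t ≤ r) : a s t ≤ a s' t := by
  induction s', hss using Nat.le_induction with
  | base => exact le_rfl
  | succ s' hss ih => exact (ih (by omega)).trans (ha.2.1 s' t (by omega) (by omega) ht)

theorem ra_one_le (ha : IsRankArray d r a) {i l : ℕ} (hl : IsLead a r i l) {s t : ℕ}
    (his : i ≤ s) (hst : s ≤ t) (htl : t ≤ l) : 1 ≤ a s t := by
  obtain ⟨h1, h2, h3, h4, h5, h6⟩ := hl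
  have e1 := ra_mono ha h1 his hst (by omega)
  have e2 := ra_anti ha h1 (by omega : i ≤ t) htl h3
  omega

theorem ra_zero_left (ha : IsRankArray d r a) {i l : ℕ} (hl : IsLead a r i l) {s t : ℕ}
    (hs : 1 ≤ s) (hsi : s < i) (hst : s ≤ t) (ht : t ≤ r) : a s t = 0 := by
  obtain ⟨h1, h2, h3, h4, h5, h6⟩ := hl
  have e1 := ra_anti ha hs le_rfl hst ht
  have e2 := h4 s hs hsi
  omega

theorem ra_drop (ha : IsRankArray d r a) {i l : ℕ} (hl : IsLead a r i l) (hlr : l < r)
    {s : ℕ} (his : i ≤ s) (hsl : s ≤ l) : a s (l + 1) + 1 ≤ a s l := by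
  induction s, his using Nat.le_induction with
  | base =>
    have e1 := hl.2.2.2.2.2 (l + 1) (by omega) (by omega)
    have e2 := ra_one_le ha hl le_rfl hl.2.1 le_rfl
    omega
  | succ s his ih =>
    have e1 := ih (by omega)
    have e2 := ha.2.2.2 (s + 1) l (by have := hl.1; omega) hsl hlr
    rw [Nat.add_sub_cancel] at e2
    omega

theorem ra_sub_lead (ha : IsRankArray d r a) {i l : ℕ} (hl : IsLead a r i l) :
    IsRankArray (fun j => d j - (if i ≤ j ∧ j ≤ l then 1 else 0)) r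
      (fun s t => a s t - (if i ≤ s ∧ t ≤ l then 1 else 0)) := by
  have hl' := hl
  obtain ⟨h1, h2, h3, h4, h5, h6⟩ := hl'
  refine ⟨?_, ?_, ?_, ?_⟩
  · intro j hj hjr
    show a j j - (if i ≤ j ∧ j ≤ l then 1 else 0) = d j - (if i ≤ j ∧ j ≤ l then 1 else 0)
    rw [ha.1 j hj hjr]
  · intro s t hs hst htr
    have hc := ha.2.1 s t hs hst htr
    have hF0 : s < i → a s t = 0 := fun h => ra_zero_left ha hl hs h (by omega) htr
    show a s t - (if i ≤ s ∧ t ≤ l then 1 else 0) ≤
      a (s + 1) t - (if i ≤ s + 1 ∧ t ≤ l then 1 else 0)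
    split_ifs <;> omega
  · intro s t hs hst htr
    have hc := ha.2.2.1 s t hs hst htr
    have hF3 : i ≤ s → t = l → a s (t + 1) + 1 ≤ a s t := by
      intro h1 h2
      subst h2
      exact ra_drop ha hl htr h1 hst
    show a s (t + 1) - (if i ≤ s ∧ t + 1 ≤ l then 1 else 0) ≤
      a s t - (if i ≤ s ∧ t ≤ l then 1 else 0)
    split_ifs <;> omega
  · intro s t hs hst htr
    have hc := ha.2.2.2 s t hs hst htr
    have g1 : i ≤ s → t + 1 ≤ l → 1 ≤ a s (t + 1) := fun p q => ra_one_le ha hl p (by omega) q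
    have g2 : i ≤ s - 1 → t ≤ l → 1 ≤ a (s - 1) t := fun p q => ra_one_le ha hl p (by omega) q
    have g3 : i ≤ s → t ≤ l → 1 ≤ a s t := fun p q => ra_one_le ha hl p (by omega) q
    have g4 : i ≤ s - 1 → t + 1 ≤ l → 1 ≤ a (s - 1) (t + 1) :=
      fun p q => ra_one_le ha hl p (by omega) q
    have g5 : s = i → t = l → a s (t + 1) = 0 ∧ a (s - 1) t = 0 ∧ a (s - 1) (t + 1) = 0 := by
      intro p q
      subst p q
      exact ⟨h6 (t + 1) (by omega) (by omega),
        ra_zero_left ha hl (by omega) (by omega) (by omega) (by omega),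
        ra_zero_left ha hl (by omega) (by omega) (by omega) (by omega)⟩
    show a s (t + 1) - (if i ≤ s ∧ t + 1 ≤ l then 1 else 0) +
        (a (s - 1) t - (if i ≤ s - 1 ∧ t ≤ l then 1 else 0)) ≤
      a s t - (if i ≤ s ∧ t ≤ l then 1 else 0) +
        (a (s - 1) (t + 1) - (if i ≤ s - 1 ∧ t + 1 ≤ l then 1 else 0))
    split_ifs <;> omega

end comb

namespace Ch

/-- the standard chain on the spaces `k^(d j)` -/
def std (d : ℕ → ℕ) (φ : ∀ j, (Fin (d j) → k) →ₗ[k] (Fin (d (j + 1)) → k)) : Ch k where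
  V j := Fin (d j) → k
  φ := φ

theorem finrank_std (d : ℕ → ℕ) (φ : ∀ j, (Fin (d j) → k) →ₗ[k] (Fin (d (j + 1)) → k)) (j : ℕ) :
    Module.finrank k ((std d φ).V j) = d j := by
  show Module.finrank k (Fin (d j) → k) = d j
  simp

/-- Theorem B: every admissible array is the rank array of a chain. -/
theorem exists_chain (k : Type u) [Field k] (r : ℕ) : ∀ (n : ℕ) (d : ℕ → ℕ) (a : ℕ → ℕ → ℕ),
    (∑ j ∈ Finset.Icc 1 r, d j = n) → IsRankArray d r a →
    ∃ φ : ∀ j, (Fin (d j) → k) →ₗ[k] (Fin (d (j + 1)) → k),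
      ∀ i j, 1 ≤ i → i ≤ j → j ≤ r → (std d φ).rk i j = a i j := by
  intro n
  induction n using Nat.strong_induction_on with
  | _ n ih =>
    intro d a hn ha
    by_cases h : ∃ j, 1 ≤ j ∧ j ≤ r ∧ a j j ≠ 0
    · obtain ⟨i, l, hl⟩ := exists_isLead a r h
      have ha' := ra_sub_lead ha hl
      obtain ⟨h1, h2, h3, h4, h5, h6⟩ := id hl
      obtain ⟨χ, hχ⟩ : ∃ χ : ℕ → ℕ, χ = fun j => if i ≤ j ∧ j ≤ l then 1 else 0 := ⟨_, rfl⟩
      have hχ1 : ∀ j, i ≤ j → j ≤ l → χ j = 1 := by
        intro j p q; rw [hχ]; exact if_pos ⟨p, q⟩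
      have hχ0 : ∀ j, ¬ (i ≤ j ∧ j ≤ l) → χ j = 0 := by
        intro j p; rw [hχ]; exact if_neg p
      have hdj : ∀ j, i ≤ j → j ≤ l → 1 ≤ d j := by
        intro j p q
        rw [← ha.1 j (by omega) (by omega)]
        exact ra_one_le ha hl p le_rfl q
      have hlt : ∑ j ∈ Finset.Icc 1 r, (d j - (if i ≤ j ∧ j ≤ l then 1 else 0)) < n := by
        rw [← hn]
        apply Finset.sum_lt_sum
        · intro j _
          exact Nat.sub_le _ _
        · refine ⟨i, Finset.mem_Icc.2 ⟨h1, by omega⟩, ?_⟩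
          rw [if_pos ⟨le_rfl, h2⟩]
          have := hdj i le_rfl h2
          omega
      obtain ⟨φ', hφ'⟩ := ih _ hlt _ _ rfl ha'
      obtain ⟨P, hP⟩ : ∃ P : Ch k, P = (std _ φ').prod (line k χ) := ⟨_, rfl⟩
      have hfr : ∀ j, Module.finrank k (P.V j) = Module.finrank k (Fin (d j) → k) := by
        intro j
        rw [hP]
        show Module.finrank k ((std _ φ').V j × (line k χ).V j) = _
        rw [Module.finrank_prod, finrank_std, finrank_line, Module.finrank_fin_fun]
        by_cases hj : i ≤ j ∧ j ≤ l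
        · rw [hχ1 j hj.1 hj.2, if_pos hj]
          have := hdj j hj.1 hj.2
          omega
        · rw [hχ0 j hj, if_neg hj]
          omega
      let E : ∀ j, P.V j ≃ₗ[k] (Fin (d j) → k) := fun j => LinearEquiv.ofFinrankEq _ _ (hfr j)
      refine ⟨fun j => ((E (j + 1)).toLinearMap.comp (P.φ j)).comp (E j).symm.toLinearMap, ?_⟩
      have e : WIso r P (std d
          (fun j => ((E (j + 1)).toLinearMap.comp (P.φ j)).comp (E j).symm.toLinearMap)) :=
        { θ := fun j => (E j).toLinearMap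
          bij := fun j _ _ => (E j).bijective
          comm := fun j _ _ x => by
            show E (j + 1) (P.φ j x) = E (j + 1) (P.φ j ((E j).symm (E j x)))
            rw [LinearEquiv.symm_apply_apply] }
      intro s t hs hst htr
      rw [← e.rk_eq hs hst htr, hP, rk_prod _ _ hst, hφ' s t hs hst htr,
        rk_line χ i l hχ1 hχ0 hst]
      have := fun p q => ra_one_le ha hl (s := s) (t := t) p hst q
      show a s t - (if i ≤ s ∧ t ≤ l then 1 else 0) + (if i ≤ s ∧ t ≤ l then 1 else 0) = a s t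
      split_ifs <;> omega
    · push Not at h
      refine ⟨fun j => 0, ?_⟩
      intro s t hs hst htr
      have e1 := ra_anti ha hs le_rfl hst htr
      have e2 := h s hs (by omega)
      have e3 := rk_le_diag_left (std d (fun j => (0 : (Fin (d j) → k) →ₗ[k] _))) hst
      rw [rk_self, finrank_std, ← ha.1 s hs (by omega)] at e3
      omega

end Ch

end Groth.Agent.H10.Chain
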