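import Mathlib
import Groth.Prelude.Def_W4c1btstackcountsChain
import Groth.Agent.H10.Chain8

universe u

namespace Groth.Agent.H10.Chain

open W4c1btstackcounts

variable {k : Type u} [Field k] {d : ℕ → ℕ}

/-- the abstract chain of a chain of matrices -/
def ofMat (f : (i : ℕ) → Matrix (Fin (d (i + 1))) (Fin (d i)) k) : Ch k :=
  Ch.std d (fun j => Matrix.toLin' (f j))

theorem iterImage_eq (f : (i : ℕ) → Matrix (Fin (d (i + 1))) (Fin (d i)) k) (i n : ℕ) :
    iterImage f i n = LinearMap.range ((ofMat f).comp i (i + n)) := by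
  induction n with
  | zero =>
    show (⊤ : Submodule k (Fin (d i) → k)) = LinearMap.range ((ofMat f).comp i i)
    rw [Ch.comp_self, LinearMap.range_id]
    rfl
  | succ n ih =>
    show (iterImage f i n).map (Matrix.toLin' (f (i + n))) =
      LinearMap.range ((ofMat f).comp i (i + n + 1))
    rw [Ch.range_comp_succ _ (Nat.le_add_right i n), ih]
    rfl

theorem rankArray_eq (f : (i : ℕ) → Matrix (Fin (d (i + 1))) (Fin (d i)) k) {i j : ℕ}
    (hij : i ≤ j) : rankArray f i j = (ofMat f).rk i j := by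
  obtain ⟨n, rfl⟩ := Nat.exists_eq_add_of_le hij
  rw [rankArray, if_pos hij, Nat.add_sub_cancel_left, iterImage_eq]
  rfl

theorem isRankArray_rankArray (f : (i : ℕ) → Matrix (Fin (d (i + 1))) (Fin (d i)) k) (r : ℕ) :
    IsRankArray d r (rankArray f) := by
  refine ⟨?_, ?_, ?_, ?_⟩
  · intro j _ _
    rw [rankArray_eq f le_rfl, Ch.rk_self]
    exact Ch.finrank_std d _ j
  · intro i j _ hij _
    rw [rankArray_eq f (by omega), rankArray_eq f (by omega)]
    exact Ch.rk_le_succ_left _ hij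
  · intro i j _ hij _
    rw [rankArray_eq f (by omega), rankArray_eq f (by omega)]
    exact Ch.rk_succ_right_le _ hij
  · intro i j hi hij _
    rw [rankArray_eq f (by omega), rankArray_eq f (by omega), rankArray_eq f (by omega),
      rankArray_eq f (by omega)]
    have := Ch.rk_supermod (ofMat f) (i := i - 1) (j := j) (by omega)
    rw [Nat.sub_add_cancel (by omega : 1 ≤ i)] at this
    exact this

/-- the window isomorphism given by a change of bases -/
noncomputable def wisoConj (r : ℕ) (g : (j : ℕ) → Matrix.GeneralLinearGroup (Fin (d j)) k)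
    (f : (i : ℕ) → Matrix (Fin (d (i + 1))) (Fin (d i)) k) :
    Ch.WIso r (ofMat f) (ofMat (conj g f)) where
  θ j := Matrix.toLin' (g j : Matrix (Fin (d j)) (Fin (d j)) k)
  bij j _ _ := by
    rw [Function.bijective_iff_has_inverse]
    refine ⟨Matrix.toLin' (((g j)⁻¹ : Matrix.GeneralLinearGroup (Fin (d j)) k) :
      Matrix (Fin (d j)) (Fin (d j)) k), ?_, ?_⟩
    · intro x
      show Matrix.toLin' _ (Matrix.toLin' _ x) = x
      rw [← LinearMap.comp_apply, ← Matrix.toLin'_mul, Units.inv_mul, Matrix.toLin'_one]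
      rfl
    · intro x
      show Matrix.toLin' _ (Matrix.toLin' _ x) = x
      rw [← LinearMap.comp_apply, ← Matrix.toLin'_mul, Units.mul_inv, Matrix.toLin'_one]
      rfl
  comm j _ _ x := by
    show Matrix.toLin' _ (Matrix.toLin' (f j) x) = Matrix.toLin' (conj g f j) (Matrix.toLin' _ x)
    rw [← LinearMap.comp_apply, ← Matrix.toLin'_mul, ← LinearMap.comp_apply (Matrix.toLin' _),
      ← Matrix.toLin'_mul, conj, Matrix.mul_assoc _ _ (g j : Matrix (Fin (d j)) (Fin (d j)) k),
      Units.inv_mul, Matrix.mul_one]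

/-- an invertible matrix from a bijective endomorphism of `k^n` -/
noncomputable def glOfBij {n : ℕ} (θ : (Fin n → k) →ₗ[k] (Fin n → k))
    (h : Function.Bijective θ) : Matrix.GeneralLinearGroup (Fin n) k where
  val := LinearMap.toMatrix' θ
  inv := LinearMap.toMatrix' (LinearEquiv.ofBijective θ h).symm.toLinearMap
  val_inv := by
    rw [← LinearMap.toMatrix'_comp, ← LinearMap.toMatrix'_id]
    congr 1
    refine LinearMap.ext fun x => ?_
    exact (LinearEquiv.ofBijective θ h).apply_symm_apply x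
  inv_val := by
    rw [← LinearMap.toMatrix'_comp, ← LinearMap.toMatrix'_id]
    congr 1
    refine LinearMap.ext fun x => ?_
    exact (LinearEquiv.ofBijective θ h).symm_apply_apply x

theorem main (k : Type u) [Field k] (d : ℕ → ℕ) (r : ℕ) :
    (∀ (g : (j : ℕ) → Matrix.GeneralLinearGroup (Fin (d j)) k)
        (f : (i : ℕ) → Matrix (Fin (d (i + 1))) (Fin (d i)) k) (i j : ℕ),
        1 ≤ i → i ≤ j → j ≤ r → rankArray (conj g f) i j = rankArray f i j) ∧
    (∀ f : (i : ℕ) → Matrix (Fin (d (i + 1))) (Fin (d i)) k, IsRankArray d r (rankArray f)) ∧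
    (∀ f f' : (i : ℕ) → Matrix (Fin (d (i + 1))) (Fin (d i)) k,
        (∀ i j : ℕ, 1 ≤ i → i ≤ j → j ≤ r → rankArray f i j = rankArray f' i j) →
        ∃ g : (j : ℕ) → Matrix.GeneralLinearGroup (Fin (d j)) k,
          ∀ i : ℕ, 1 ≤ i → i + 1 ≤ r → conj g f i = f' i) ∧
    (∀ a : ℕ → ℕ → ℕ, IsRankArray d r a →
        ∃ f : (i : ℕ) → Matrix (Fin (d (i + 1))) (Fin (d i)) k,
          ∀ i j : ℕ, 1 ≤ i → i ≤ j → j ≤ r → rankArray f i j = a i j) := by
  classical
  refine ⟨?_, ?_, ?_, ?_⟩
  · intro g f i j hi hij hj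
    rw [rankArray_eq _ hij, rankArray_eq _ hij]
    exact ((wisoConj r g f).rk_eq hi hij hj).symm
  · intro f
    exact isRankArray_rankArray f r
  · intro f f' hff
    have hrk : ∀ i j, 1 ≤ i → i ≤ j → j ≤ r → (ofMat f).rk i j = (ofMat f').rk i j := by
      intro i j hi hij hj
      rw [← rankArray_eq _ hij, ← rankArray_eq _ hij]
      exact hff i j hi hij hj
    obtain ⟨e⟩ := Ch.wiso_of_rk_eq r _ (ofMat f) (ofMat f') rfl hrk
    let θ : ∀ j, (Fin (d j) → k) →ₗ[k] (Fin (d j) → k) := e.θ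
    have hθ : ∀ j, 1 ≤ j → j ≤ r → Function.Bijective (θ j) := e.bij
    have hcomm : ∀ j, 1 ≤ j → j + 1 ≤ r → ∀ x, θ (j + 1) (Matrix.toLin' (f j) x) =
        Matrix.toLin' (f' j) (θ j x) := e.comm
    refine ⟨fun j => if h : Function.Bijective (θ j) then glOfBij (θ j) h else 1, ?_⟩
    intro j h1 hjr
    have hb1 := hθ j h1 (by omega)
    have hb2 := hθ (j + 1) (by omega) hjr
    rw [conj, dif_pos hb1, dif_pos hb2]
    show LinearMap.toMatrix' (θ (j + 1)) * f j *
      LinearMap.toMatrix' (LinearEquiv.ofBijective (θ j) hb1).symm.toLinearMap = f' j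
    rw [← LinearMap.toMatrix'_toLin' (f j), ← LinearMap.toMatrix'_comp,
      ← LinearMap.toMatrix'_comp, ← LinearMap.toMatrix'_toLin' (f' j)]
    congr 1
    refine LinearMap.ext fun x => ?_
    show θ (j + 1) (Matrix.toLin' (f j) ((LinearEquiv.ofBijective (θ j) hb1).symm x)) = _
    rw [hcomm j h1 hjr]
    congr 1
    exact (LinearEquiv.ofBijective (θ j) hb1).apply_symm_apply x
  · intro a ha
    obtain ⟨φ, hφ⟩ := Ch.exists_chain k r _ d a rfl ha
    refine ⟨fun j => LinearMap.toMatrix' (φ j), ?_⟩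
    intro i j hi hij hj
    rw [rankArray_eq _ hij, ← hφ i j hi hij hj, ofMat]
    congr 2
    funext j
    exact Matrix.toLin'_toMatrix' (φ j)

end Groth.Agent.H10.Chain
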