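import Mathlib

set_option autoImplicit false

/-!
# Finitely presented modules over rings with totally ordered divisibility

Every finitely presented module over a ring in which `a ∣ b ∨ b ∣ a` for all `a b`
is a finite direct sum of cyclic modules `R ⧸ (f)`.
-/

namespace Groth.Agent.H10

universe u

section

variable (R : Type u) [CommRing R]

/-- `M` is a finite product of cyclic modules `R ⧸ (f)`. -/
def IsCyclicSum (M : Type*) [AddCommGroup M] [Module R M] : Prop :=
  ∃ (ι : Type) (_ : Fintype ι) (f : ι → R),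
    Nonempty (M ≃ₗ[R] ((i : ι) → R ⧸ Ideal.span {f i}))

variable {R}
variable {M N : Type*} [AddCommGroup M] [Module R M] [AddCommGroup N] [Module R N]

theorem IsCyclicSum.of_equiv (e : M ≃ₗ[R] N) (h : IsCyclicSum R M) : IsCyclicSum R N := by
  obtain ⟨ι, hι, f, ⟨φ⟩⟩ := h
  exact ⟨ι, hι, f, ⟨e.symm.trans φ⟩⟩

theorem IsCyclicSum.prod (h₁ : IsCyclicSum R M) (h₂ : IsCyclicSum R N) :
    IsCyclicSum R (M × N) := by
  obtain ⟨ι₁, hι₁, f₁, ⟨φ₁⟩⟩ := h₁
  obtain ⟨ι₂, hι₂, f₂, ⟨φ₂⟩⟩ := h₂
  refine ⟨ι₁ ⊕ ι₂, inferInstance, Sum.elim f₁ f₂, ⟨?_⟩⟩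
  exact (LinearEquiv.prodCongr φ₁ φ₂).trans
    (LinearEquiv.sumPiEquivProdPi R ι₁ ι₂
      (fun i => R ⧸ Ideal.span {Sum.elim f₁ f₂ i})).symm

theorem IsCyclicSum.quot_span_singleton (d : R) : IsCyclicSum R (R ⧸ Ideal.span {d}) :=
  ⟨Unit, inferInstance, fun _ => d, ⟨(LinearEquiv.funUnique Unit R (R ⧸ Ideal.span {d})).symm⟩⟩

theorem IsCyclicSum.free (α : Type) [Fintype α] : IsCyclicSum R (α → R) := by
  refine ⟨α, inferInstance, fun _ => 0, ⟨?_⟩⟩
  refine (LinearEquiv.piCongrRight fun _ => ?_).symm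
  exact Submodule.quotEquivOfEqBot _ (by simp)

theorem IsCyclicSum.of_subsingleton [Subsingleton M] : IsCyclicSum R M :=
  ⟨Empty, inferInstance, fun _ => 0, ⟨LinearEquiv.ofSubsingleton _ _⟩⟩

theorem IsCyclicSum.toFin (h : IsCyclicSum R M) :
    ∃ (n : ℕ) (f : Fin n → R), Nonempty (M ≃ₗ[R] ((i : Fin n) → R ⧸ Ideal.span {f i})) := by
  obtain ⟨ι, hι, f, ⟨φ⟩⟩ := h
  let e := Fintype.equivFin ι
  exact ⟨Fintype.card ι, fun i => f (e.symm i),
    ⟨φ.trans (LinearEquiv.piCongrLeft' R (fun i => R ⧸ Ideal.span {f i}) e)⟩⟩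

/-- quotient of a product by a product of submodules. -/
noncomputable def quotProdEquiv (p : Submodule R M) (q : Submodule R N) :
    ((M × N) ⧸ p.prod q) ≃ₗ[R] (M ⧸ p) × (N ⧸ q) :=
  (Submodule.quotEquivOfEq _ _ (by
    rw [LinearMap.ker_prodMap, Submodule.ker_mkQ, Submodule.ker_mkQ])).trans
  (LinearMap.quotKerEquivOfSurjective (LinearMap.prodMap p.mkQ q.mkQ)
    (Function.Surjective.prodMap p.mkQ_surjective q.mkQ_surjective))

end

section Pivot

variable {R : Type u} [CommRing R]

theorem exists_dvd_all (h : ∀ a b : R, a ∣ b ∨ b ∣ a) (E : Finset R) (hE : E.Nonempty) :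
    ∃ d ∈ E, ∀ e ∈ E, d ∣ e := by
  classical
  induction hE using Finset.Nonempty.cons_induction with
  | singleton a => exact ⟨a, Finset.mem_singleton_self a, fun e he => by
      rw [Finset.mem_singleton.1 he]⟩
  | cons a s ha hs ih =>
    obtain ⟨d, hd, hdall⟩ := ih
    rcases h a d with had | hda
    · refine ⟨a, Finset.mem_cons_self a s, fun e he => ?_⟩
      rcases Finset.mem_cons.1 he with rfl | hes
      · exact dvd_rfl
      · exact had.trans (hdall e hes)
    · refine ⟨d, Finset.mem_cons.2 (Or.inr hd), fun e he => ?_⟩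
      rcases Finset.mem_cons.1 he with rfl | hes
      · exact hda
      · exact hdall e hes

/-- the shear `(r, y) ↦ (r, y - r • u)`. -/
def shear {α : Type} (ua : α → R) : (R × (α → R)) ≃ₗ[R] (R × (α → R)) where
  toFun x := (x.1, x.2 - x.1 • ua)
  invFun x := (x.1, x.2 + x.1 • ua)
  map_add' x y := by
    ext <;> simp [add_smul]
    ring
  map_smul' r x := by
    ext <;> simp [mul_smul, smul_sub]
  left_inv x := by ext <;> simp
  right_inv x := by ext <;> simp

end Pivot

section Step

variable {R : Type u} [CommRing R]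

theorem cyclicSum_step {α : Type} [Fintype α]
    (IH : ∀ K' : Submodule R (α → R), K'.FG → IsCyclicSum R ((α → R) ⧸ K'))
    (s : Finset (Option α → R)) (v₀ : Option α → R) (hv₀ : v₀ ∈ s)
    (hd : ∀ v ∈ s, ∀ i, v₀ none ∣ v i) :
    IsCyclicSum R ((Option α → R) ⧸ Submodule.span R (s : Set (Option α → R))) := by
  classical
  set d := v₀ none with hd_def
  have hc : ∀ a : α, ∃ c, v₀ (some a) = d * c := fun a => hd v₀ hv₀ (some a)
  choose ua hua using hc
  have ht : ∀ v : Option α → R, ∃ t, v ∈ s → v none = d * t := by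
    intro v
    by_cases hv : v ∈ s
    · obtain ⟨t, ht⟩ := hd v hv none
      exact ⟨t, fun _ => ht⟩
    · exact ⟨0, fun h => absurd h hv⟩
  choose t ht using ht
  let e : (Option α → R) ≃ₗ[R] R × (α → R) :=
    (LinearEquiv.piOptionEquivProd R).trans (shear ua)
  have he : ∀ x : Option α → R,
      e x = (x none, (fun a => x (some a)) - x none • ua) := fun x => rfl
  have hev₀ : e v₀ = (d, 0) := by
    rw [he]
    ext a
    · rfl
    · simp [hua a, hd_def]
  let K' : Submodule R (α → R) :=
    Submodule.span R ((s.image fun v => (e v).2 : Finset (α → R)) : Set (α → R))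
  have hK'fg : K'.FG := ⟨_, rfl⟩
  have hmap : (Submodule.span R (s : Set (Option α → R))).map
      (e : (Option α → R) →ₗ[R] R × (α → R)) = Submodule.prod (Ideal.span {d} : Submodule R R) K' := by
    apply le_antisymm
    · rw [Submodule.map_span, Submodule.span_le]
      rintro _ ⟨v, hv, rfl⟩
      refine ⟨?_, ?_⟩
      · show (e v).1 ∈ Ideal.span {d}
        rw [he]
        simp only
        rw [ht v hv]
        exact Ideal.mul_mem_right _ _ (Ideal.mem_span_singleton_self d)
      · exact Submodule.subset_span (Finset.mem_coe.2 (Finset.mem_image_of_mem _ hv))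
    · rintro ⟨x, y⟩ ⟨hx, hy⟩
      obtain ⟨r, rfl⟩ := Ideal.mem_span_singleton'.1 hx
      have h1 : ((d, 0) : R × (α → R)) ∈ (Submodule.span R (s : Set (Option α → R))).map
          (e : (Option α → R) →ₗ[R] R × (α → R)) := ⟨v₀, Submodule.subset_span hv₀, hev₀⟩
      have h2 : K' ≤ ((Submodule.span R (s : Set (Option α → R))).map
          (e : (Option α → R) →ₗ[R] R × (α → R))).comap (LinearMap.inr R R (α → R)) := by
        rw [Submodule.span_le]
        intro w hw
        obtain ⟨v, hv, rfl⟩ := Finset.mem_image.1 (Finset.mem_coe.1 hw)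
        show ((0 : R), (e v).2) ∈ (Submodule.span R (s : Set (Option α → R))).map
          (e : (Option α → R) →ₗ[R] R × (α → R))
        have : ((0 : R), (e v).2) = e v - t v • e v₀ := by
          rw [hev₀, he]
          ext
          · simp [ht v hv]
            ring
          · simp
        rw [this]
        exact sub_mem ⟨v, Submodule.subset_span hv, rfl⟩
          (Submodule.smul_mem _ _ ⟨v₀, Submodule.subset_span hv₀, rfl⟩)
      have : ((r * d, y) : R × (α → R)) = r • ((d, 0) : R × (α → R)) + (0, y) := by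
        ext <;> simp
      rw [this]
      exact add_mem (Submodule.smul_mem _ _ h1) (h2 hy)
  have e1 : ((Option α → R) ⧸ Submodule.span R (s : Set (Option α → R))) ≃ₗ[R]
      ((R × (α → R)) ⧸ Submodule.prod (Ideal.span {d} : Submodule R R) K') :=
    Submodule.Quotient.equiv _ _ e hmap
  have e2 := quotProdEquiv (Ideal.span {d} : Submodule R R) K'
  exact ((IsCyclicSum.quot_span_singleton d).prod (IH K' hK'fg)).of_equiv (e1.trans e2).symm

end Step

section Main

variable {R : Type u} [CommRing R]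

theorem cyclicSum_quotient (h : ∀ a b : R, a ∣ b ∨ b ∣ a) (α : Type) [Finite α] :
    ∀ K : Submodule R (α → R), K.FG → IsCyclicSum R ((α → R) ⧸ K) := by
  refine Finite.induction_empty_option
    (P := fun α => ∀ K : Submodule R (α → R), K.FG → IsCyclicSum R ((α → R) ⧸ K)) ?_ ?_ ?_ α
  · intro α β ε hα K hK
    let φ : (β → R) ≃ₗ[R] (α → R) := LinearEquiv.funCongrLeft R R ε
    have := hα (K.map (φ : (β → R) →ₗ[R] (α → R))) (hK.map _)
    exact this.of_equiv (Submodule.Quotient.equiv K (K.map (φ : (β → R) →ₗ[R] (α → R))) φ rfl).symm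
  · intro K hK
    exact IsCyclicSum.of_subsingleton
  · intro α _ IH K hK
    classical
    obtain ⟨s, rfl⟩ := hK
    rcases s.eq_empty_or_nonempty with rfl | hs
    · have : Submodule.span R ((∅ : Finset (Option α → R)) : Set (Option α → R)) = ⊥ := by simp
      exact (IsCyclicSum.free (R := R) (Option α)).of_equiv
        (Submodule.quotEquivOfEqBot _ this).symm
    · let E : Finset R := s.biUnion fun v => Finset.univ.image v
      have hE : E.Nonempty := by
        obtain ⟨v, hv⟩ := hs
        exact ⟨v none, Finset.mem_biUnion.2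
          ⟨v, hv, Finset.mem_image_of_mem _ (Finset.mem_univ _)⟩⟩
      obtain ⟨d, hdE, hdall⟩ := exists_dvd_all h E hE
      obtain ⟨v₀, hv₀, hd0⟩ := Finset.mem_biUnion.1 hdE
      obtain ⟨i₀, -, rfl⟩ := Finset.mem_image.1 hd0
      have hdiv : ∀ v ∈ s, ∀ i, v₀ i₀ ∣ v i := fun v hv i =>
        hdall _ (Finset.mem_biUnion.2 ⟨v, hv, Finset.mem_image_of_mem _ (Finset.mem_univ _)⟩)
      let ε : Option α ≃ Option α := Equiv.swap i₀ none
      let φ : (Option α → R) ≃ₗ[R] (Option α → R) := LinearEquiv.funCongrLeft R R ε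
      have hφ : ∀ (x : Option α → R) (i : Option α), φ x i = x (ε i) := fun x i => rfl
      have hmap : (Submodule.span R (s : Set (Option α → R))).map
          (φ : (Option α → R) →ₗ[R] (Option α → R)) =
          Submodule.span R ((s.image φ : Finset (Option α → R)) : Set (Option α → R)) := by
        rw [Submodule.map_span]
        congr 1
        simp
      have := cyclicSum_step IH (s.image φ) (φ v₀) (Finset.mem_image_of_mem _ hv₀) (by
        intro v hv i
        obtain ⟨w, hw, rfl⟩ := Finset.mem_image.1 hv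
        rw [hφ, hφ]
        have : ε none = i₀ := Equiv.swap_apply_right _ _
        rw [this]
        exact hdiv w hw _)
      exact this.of_equiv (Submodule.Quotient.equiv _ _ φ hmap).symm

theorem isCyclicSum_of_finitePresentation (h : ∀ a b : R, a ∣ b ∨ b ∣ a)
    (M : Type*) [AddCommGroup M] [Module R M] [Module.FinitePresentation R M] :
    IsCyclicSum R M := by
  obtain ⟨n, K, e, hK⟩ := Module.FinitePresentation.exists_fin R M
  exact (cyclicSum_quotient h (Fin n) K hK).of_equiv e.symm

theorem exists_cyclic_decomp (h : ∀ a b : R, a ∣ b ∨ b ∣ a)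
    (M : Type u) [AddCommGroup M] [Module R M] [Module.FinitePresentation R M] :
    ∃ (n : ℕ) (f : Fin n → R), Nonempty (M ≃ₗ[R] ((i : Fin n) → R ⧸ Ideal.span {f i})) :=
  (isCyclicSum_of_finitePresentation h M).toFin

theorem IsCyclicSum.pi {T : Type} [Fintype T] (N : T → Type*) [∀ j, AddCommGroup (N j)]
    [∀ j, Module R (N j)] (h : ∀ j, IsCyclicSum R (N j)) : IsCyclicSum R (∀ j, N j) := by
  choose ι hι f φ using h
  refine ⟨Σ j, ι j, inferInstance, fun x => f x.1 x.2, ⟨?_⟩⟩
  exact (LinearEquiv.piCongrRight fun j => (φ j).some).trans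
    (LinearEquiv.piCurry R (fun j (i : ι j) => R ⧸ Ideal.span {f j i})).symm

end Main

end Groth.Agent.H10
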