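import Groth.Agent.H10.ChainRing
import Mathlib

set_option autoImplicit false
set_option linter.style.haveILetI false

/-!
# Rings whose localizations at maximal ideals have totally ordered divisibility

Every finitely presented module is a direct summand of a finite direct sum of cyclic modules.
-/

namespace Groth.Agent.H10

universe u

section Local

variable (R : Type u) [CommRing R] (M : Type u) [AddCommGroup M] [Module R M]
  [Module.FinitePresentation R M]

instance finitePresentation_quot_span_singleton (a : R) :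
    Module.FinitePresentation R (R ⧸ Ideal.span {a}) := by
  refine Module.finitePresentation_of_surjective (Submodule.mkQ (Ideal.span {a}))
    (Submodule.mkQ_surjective _) ?_
  rw [Submodule.ker_mkQ]
  exact ⟨{a}, by simp [Ideal.span]⟩

theorem exists_local_split (m : Ideal R) [m.IsMaximal]
    (hm : ∀ a b : Localization.AtPrime m, a ∣ b ∨ b ∣ a) :
    ∃ (g : R) (_ : g ∉ m) (N : Type u) (_ : AddCommGroup N) (_ : Module R N)
      (_ : IsCyclicSum R N) (φ : N →ₗ[R] M) (ψ : M →ₗ[R] N), φ ∘ₗ ψ = g • LinearMap.id := by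
  classical
  let S := m.primeCompl
  let Rm := Localization.AtPrime m
  let Mm := LocalizedModule S M
  obtain ⟨ι, hι, f, ⟨l⟩⟩ : IsCyclicSum Rm Mm := isCyclicSum_of_finitePresentation hm Mm
  -- numerators
  have hnum : ∀ i, ∃ a : R, Ideal.span {f i} = Ideal.span {algebraMap R Rm a} := by
    intro i
    obtain ⟨a, s, has⟩ := IsLocalization.exists_mk'_eq S (f i)
    refine ⟨a, ?_⟩
    have hu : IsUnit (algebraMap R Rm s) := IsLocalization.map_units Rm s
    have h1 : f i * algebraMap R Rm s = algebraMap R Rm a := by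
      rw [← has, IsLocalization.mk'_spec]
    apply le_antisymm
    · rw [Ideal.span_singleton_le_span_singleton]
      obtain ⟨u, hu'⟩ := hu
      refine ⟨↑u⁻¹, ?_⟩
      rw [← h1, ← hu', mul_assoc, Units.mul_inv, mul_one]
    · rw [Ideal.span_singleton_le_span_singleton]
      exact ⟨_, h1.symm⟩
  choose a ha using hnum
  let N := ∀ i, R ⧸ Ideal.span {a i}
  let q : ∀ i, (R ⧸ Ideal.span {a i}) →ₗ[R]
      Rm ⧸ (Ideal.span {a i}).localized' Rm S (Algebra.linearMap R Rm) :=
    fun i => Submodule.toLocalizedQuotient' Rm S (Algebra.linearMap R Rm) (Ideal.span {a i})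
  let ν : N →ₗ[R] (∀ i, Rm ⧸ (Ideal.span {a i}).localized' Rm S (Algebra.linearMap R Rm)) :=
    LinearMap.pi fun i => q i ∘ₗ LinearMap.proj i
  haveI : IsLocalizedModule S ν := IsLocalizedModule.pi S q
  have heq : ∀ i, (Ideal.span {f i} : Submodule Rm Rm) =
      (Ideal.span {a i}).localized' Rm S (Algebra.linearMap R Rm) := by
    intro i
    rw [ha i]
    have : (Ideal.span {a i} : Submodule R R) = Submodule.span R {a i} := rfl
    rw [this, Submodule.localized'_span, Set.image_singleton]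
    rfl
  let l₂ : Mm ≃ₗ[Rm] (∀ i, Rm ⧸ (Ideal.span {a i}).localized' Rm S (Algebra.linearMap R Rm)) :=
    l.trans (LinearEquiv.piCongrRight fun i => Submodule.quotEquivOfEq _ _ (heq i))
  let l' : Mm ≃ₗ[R] (∀ i, Rm ⧸ (Ideal.span {a i}).localized' Rm S (Algebra.linearMap R Rm)) :=
    l₂.restrictScalars R
  let μ : M →ₗ[R] Mm := LocalizedModule.mkLinearMap S M
  obtain ⟨ψ, s₁, hψ⟩ := Module.FinitePresentation.exists_lift_of_isLocalizedModule S ν
    (l'.toLinearMap ∘ₗ μ)
  obtain ⟨φ, s₂, hφ⟩ := Module.FinitePresentation.exists_lift_of_isLocalizedModule S μ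
    (l'.symm.toLinearMap ∘ₗ ν)
  have hcomp : μ ∘ₗ (φ ∘ₗ ψ) = μ ∘ₗ ((s₁ * s₂ : S) • (LinearMap.id : M →ₗ[R] M)) := by
    ext x
    have h1 : μ (φ (ψ x)) = (s₂ : R) • l'.symm (ν (ψ x)) := LinearMap.congr_fun hφ (ψ x)
    have h2 : ν (ψ x) = (s₁ : R) • l' (μ x) := LinearMap.congr_fun hψ x
    have h3 : (μ ∘ₗ (φ ∘ₗ ψ)) x = μ (φ (ψ x)) := rfl
    have h4 : (μ ∘ₗ ((s₁ * s₂ : S) • (LinearMap.id : M →ₗ[R] M))) x =
        μ (((s₁ : R) * (s₂ : R)) • x) := rfl
    rw [h3, h4, h1, h2, map_smul, LinearEquiv.symm_apply_apply, smul_smul, map_smul, mul_comm]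
  obtain ⟨s₃, hs₃⟩ := Module.Finite.exists_smul_of_comp_eq_of_isLocalizedModule S μ _ _ hcomp
  refine ⟨(s₃ * (s₁ * s₂) : S), (s₃ * (s₁ * s₂) : S).2, N, inferInstance, inferInstance,
    ⟨ι, hι, a, ⟨LinearEquiv.refl R N⟩⟩, (s₃ : R) • φ, ψ, ?_⟩
  rw [LinearMap.smul_comp]
  have : ((s₃ * (s₁ * s₂) : S) : R) • (LinearMap.id : M →ₗ[R] M) =
      s₃ • ((s₁ * s₂ : S) • (LinearMap.id : M →ₗ[R] M)) := by
    rw [Submonoid.coe_mul, mul_smul]
    rfl
  rw [this, ← hs₃]
  rfl

end Local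

section Split

variable {R : Type*} [CommRing R] {M N : Type*} [AddCommGroup M] [Module R M] [AddCommGroup N]
  [Module R N]

/-- a split surjection decomposes the source. -/
noncomputable def splitEquiv (Φ : N →ₗ[R] M) (Ψ : M →ₗ[R] N) (h : Φ ∘ₗ Ψ = LinearMap.id) :
    (M × LinearMap.ker Φ) ≃ₗ[R] N :=
  LinearEquiv.ofLinearMap (Ψ.coprod (LinearMap.ker Φ).subtype)
    (LinearMap.prod Φ (LinearMap.codRestrict (LinearMap.ker Φ) (LinearMap.id - Ψ ∘ₗ Φ)
      (fun y => by
        have h1 : Φ (Ψ (Φ y)) = Φ y := LinearMap.congr_fun h (Φ y)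
        simp [h1])))
    (by
      ext y
      simp)
    (by
      have h1 : ∀ x, Φ (Ψ x) = x := fun x => LinearMap.congr_fun h x
      ext x
      · simp [h1]
      · simp [h1]
      · simp
      · have : Φ (x : N) = 0 := x.2
        simp [this])

end Split

section Global

variable (R : Type u) [CommRing R] (M : Type u) [AddCommGroup M] [Module R M]
  [Module.FinitePresentation R M]

theorem exists_summand_cyclicSum
    (h : ∀ (m : Ideal R) [m.IsMaximal], ∀ a b : Localization.AtPrime m, a ∣ b ∨ b ∣ a) :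
    ∃ (n : ℕ) (f : Fin n → R) (N : Type u) (_ : AddCommGroup N) (_ : Module R N),
      Nonempty ((M × N) ≃ₗ[R] ((i : Fin n) → R ⧸ Ideal.span {f i})) := by
  classical
  have key : ∀ m : MaximalSpectrum R, ∃ (g : R) (_ : g ∉ m.asIdeal) (N : Type u)
      (_ : AddCommGroup N) (_ : Module R N) (_ : IsCyclicSum R N) (φ : N →ₗ[R] M)
      (ψ : M →ₗ[R] N), φ ∘ₗ ψ = g • LinearMap.id := fun m =>
    haveI := m.isMaximal
    exists_local_split R M m.asIdeal (h m.asIdeal)
  choose g hg N instAdd instMod hN φ ψ hφψ using key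
  have htop : Ideal.span (Set.range g) = ⊤ := by
    by_contra hne
    obtain ⟨m₀, hm₀, hle⟩ := Ideal.exists_le_maximal _ hne
    exact hg ⟨m₀, hm₀⟩ (hle (Ideal.subset_span ⟨⟨m₀, hm₀⟩, rfl⟩))
  have h1 : (1 : R) ∈ Ideal.span (Set.range g) := by rw [htop]; trivial
  obtain ⟨c, hc⟩ := Finsupp.mem_span_range_iff_exists_finsupp.1 h1
  let k := Fintype.card ↥c.support
  let e : ↥c.support ≃ Fin k := Fintype.equivFin _
  let mm : Fin k → MaximalSpectrum R := fun j => (e.symm j).1
  have hsum : ∑ j : Fin k, c (mm j) * g (mm j) = 1 := by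
    rw [← hc, Finsupp.sum, ← Finset.sum_coe_sort c.support]
    rw [← Equiv.sum_comp e.symm]
    rfl
  let Ψ : M →ₗ[R] (∀ j : Fin k, N (mm j)) := LinearMap.pi fun j => c (mm j) • ψ (mm j)
  let Φ : (∀ j : Fin k, N (mm j)) →ₗ[R] M := ∑ j : Fin k, φ (mm j) ∘ₗ LinearMap.proj j
  have hΦΨ : Φ ∘ₗ Ψ = LinearMap.id := by
    ext x
    have h2 : ∀ j, φ (mm j) (ψ (mm j) x) = g (mm j) • x := fun j =>
      LinearMap.congr_fun (hφψ (mm j)) x
    have h3 : (Φ ∘ₗ Ψ) x = ∑ j : Fin k, φ (mm j) (c (mm j) • ψ (mm j) x) := by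
      simp only [Φ, Ψ, LinearMap.coe_comp, Function.comp_apply, LinearMap.sum_apply,
        LinearMap.coe_proj, Function.eval, LinearMap.pi_apply, LinearMap.smul_apply]
    rw [h3]
    simp only [map_smul, h2, smul_smul]
    rw [← Finset.sum_smul, hsum, one_smul]
    rfl
  have hNtot : IsCyclicSum R (∀ j : Fin k, N (mm j)) := IsCyclicSum.pi _ fun j => hN (mm j)
  obtain ⟨n, f, ⟨E⟩⟩ := hNtot.toFin
  exact ⟨n, f, LinearMap.ker Φ, inferInstance, inferInstance,
    ⟨(splitEquiv Φ Ψ hΦΨ).trans E⟩⟩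

end Global

end Groth.Agent.H10
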