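import Groth.Prelude.Def_DTen3
import Groth.Agent.H45.MultiDer.DTenAssoc

set_option autoImplicit false
universe u
open CategoryTheory CategoryTheory.Limits MonoidalCategory
attribute [local instance] HasDerivedCategory.standard

namespace Groth.Agent.H10.DT

open DTen Groth.Agent.H45.MultiDer.DTenC

variable {A : Type u} [CommRing A] [DTen.HasLTen A]

/-- `K ⊗^L L`. -/
noncomputable abbrev tn (K L : Dual.D A) : Dual.D A := (LTen₂ A).obj (K, L)

/-- `f ⊗^L g`. -/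
noncomputable abbrev tm {K K' L L' : Dual.D A} (f : K ⟶ K') (g : L ⟶ L') : tn K L ⟶ tn K' L' :=
  (LTen₂ A).map (Prod.mkHom f g)

lemma tm_id (K L : Dual.D A) : tm (𝟙 K) (𝟙 L) = 𝟙 (tn K L) := by
  dsimp only [tm]
  erw [← prod_id, CategoryTheory.Functor.map_id]

@[reassoc]
lemma tm_comp {K K' K'' L L' L'' : Dual.D A} (f : K ⟶ K') (f' : K' ⟶ K'') (g : L ⟶ L')
    (g' : L' ⟶ L'') : tm (f ≫ f') (g ≫ g') = tm f g ≫ tm f' g' := by
  dsimp only [tm]
  rw [← Functor.map_comp]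
  rfl

@[reassoc]
lemma tm_comp_left {K K' K'' L L' : Dual.D A} (f : K ⟶ K') (f' : K' ⟶ K'') (g : L ⟶ L') :
    tm (f ≫ f') g = tm f g ≫ tm f' (𝟙 L') := by
  rw [← tm_comp, Category.comp_id]

@[reassoc]
lemma tm_comp_right {K K' L L' L'' : Dual.D A} (f : K ⟶ K') (g : L ⟶ L') (g' : L' ⟶ L'') :
    tm f (g ≫ g') = tm f g ≫ tm (𝟙 K') g' := by
  rw [← tm_comp, Category.comp_id]

@[reassoc]
lemma tm_exchange {K K' L L' : Dual.D A} (f : K ⟶ K') (g : L ⟶ L') :
    tm f (𝟙 L) ≫ tm (𝟙 K') g = tm (𝟙 K) g ≫ tm f (𝟙 L') := by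
  rw [← tm_comp, ← tm_comp, Category.id_comp, Category.comp_id, Category.id_comp, Category.comp_id]

lemma tm_def {K K' L L' : Dual.D A} (f : K ⟶ K') (g : L ⟶ L') :
    tm f g = tm f (𝟙 L) ≫ tm (𝟙 K') g := by
  rw [← tm_comp, Category.id_comp, Category.comp_id]

instance tm_isIso {K K' L L' : Dual.D A} (f : K ⟶ K') (g : L ⟶ L') [IsIso f] [IsIso g] :
    IsIso (tm f g) := by
  have : IsIso (Prod.mkHom f g : (K, L) ⟶ (K', L')) := (isIso_prod_iff _ _).2 ⟨inferInstance, inferInstance⟩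
  dsimp only [tm]
  infer_instance

variable [DTen.HasLTen₃ A] [DTen.IsSymMonoidal A]

lemma associator_naturality {K K' L L' M M' : Dual.D A} (f : K ⟶ K') (g : L ⟶ L') (h : M ⟶ M') :
    tm (tm f g) h ≫ (associator K' L' M').hom = (associator K L M).hom ≫ tm f (tm g h) := by
  rw [← cancel_mono ((assocR A).app (K', (L', M')))]
  rw [Category.assoc, Category.assoc, associator_hom_assocR]
  have h1 : tm (tm f g) h ≫ (assocL A).app (K', (L', M')) = (assocL A).app (K, (L, M)) ≫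
        (LTen₃ A).map (Prod.mkHom f (Prod.mkHom g h)) :=
    (assocL A).naturality (Prod.mkHom f (Prod.mkHom g h) : (K, (L, M)) ⟶ (K', (L', M')))
  have h2 : tm f (tm g h) ≫ (assocR A).app (K', (L', M')) = (assocR A).app (K, (L, M)) ≫
        (LTen₃ A).map (Prod.mkHom f (Prod.mkHom g h)) :=
    (assocR A).naturality (Prod.mkHom f (Prod.mkHom g h) : (K, (L, M)) ⟶ (K', (L', M')))
  rw [h1, h2, associator_hom_assocR_assoc]
  rfl

lemma leftUnitor_naturality {L L' : Dual.D A} (f : L ⟶ L') :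
    tm (𝟙 (unit A)) f ≫ (leftUnitor L').hom = (leftUnitor L).hom ≫ f :=
  (unitL A).naturality f

lemma rightUnitor_naturality {K K' : Dual.D A} (f : K ⟶ K') :
    tm f (𝟙 (unit A)) ≫ (rightUnitor K').hom = (rightUnitor K).hom ≫ f :=
  (unitR A).naturality f

/-! ### Transfer to complexes -/

omit [HasLTen₃ A] [IsSymMonoidal A] in
@[reassoc]
lemma ε_naturality {K K' L L' : DRing.Cx A} (f : K ⟶ K') (g : L ⟶ L') :
    tm (DerivedCategory.Q.map f) (DerivedCategory.Q.map g) ≫ (ε A).app (K', L') =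
      (ε A).app (K, L) ≫ DerivedCategory.Q.map (f ▷ L ≫ K' ◁ g) :=
  (ε A).naturality (Prod.mkHom f g : (K, L) ⟶ (K', L'))

omit [HasLTen₃ A] [IsSymMonoidal A] in
@[reassoc]
lemma ε_naturality_left {K K' : DRing.Cx A} (f : K ⟶ K') (L : DRing.Cx A) :
    tm (DerivedCategory.Q.map f) (𝟙 (DerivedCategory.Q.obj L)) ≫ (ε A).app (K', L) =
      (ε A).app (K, L) ≫ DerivedCategory.Q.map (f ▷ L) := by
  have := ε_naturality f (𝟙 L)
  rw [CategoryTheory.Functor.map_id] at this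
  simpa using this

omit [HasLTen₃ A] [IsSymMonoidal A] in
@[reassoc]
lemma ε_naturality_right (K : DRing.Cx A) {L L' : DRing.Cx A} (g : L ⟶ L') :
    tm (𝟙 (DerivedCategory.Q.obj K)) (DerivedCategory.Q.map g) ≫ (ε A).app (K, L') =
      (ε A).app (K, L) ≫ DerivedCategory.Q.map (K ◁ g) := by
  have := ε_naturality (𝟙 K) g
  rw [CategoryTheory.Functor.map_id] at this
  simpa using this

@[reassoc]
lemma associator_transfer (K L M : DRing.Cx A) :
    (associator (DerivedCategory.Q.obj K) (DerivedCategory.Q.obj L) (DerivedCategory.Q.obj M)).hom ≫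
        tm (𝟙 (DerivedCategory.Q.obj K)) ((ε A).app (L, M)) ≫ (ε A).app (K, L ⊗ M) =
      tm ((ε A).app (K, L)) (𝟙 (DerivedCategory.Q.obj M)) ≫ (ε A).app (K ⊗ L, M) ≫
        DerivedCategory.Q.map (α_ K L M).hom := by
  have h1 := assocR_fac A (K, (L, M))
  have h2 := assocL_fac A (K, (L, M))
  have h3 := associator_hom_assocR (DerivedCategory.Q.obj K) (DerivedCategory.Q.obj L)
    (DerivedCategory.Q.obj M)
  change _ = (βL A).app (K, (L, M))
  rw [← h2]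
  change _ ≫ (βR A).app (K, (L, M)) = _
  rw [← h1]
  rw [← Category.assoc]
  exact congrArg (· ≫ (ε₃ A).app (K, (L, M))) h3

/-- `Q`. -/
noncomputable abbrev q (K : DRing.Cx A) : Dual.D A := DerivedCategory.Q.obj K

/-- `Q` on maps. -/
noncomputable abbrev qm {K L : DRing.Cx A} (f : K ⟶ L) : q K ⟶ q L := DerivedCategory.Q.map f

/-- The counit. -/
noncomputable abbrev ee (K L : DRing.Cx A) : tn (q K) (q L) ⟶ q (K ⊗ L) := (ε A).app (K, L)

lemma pentagon_lhs (K L M N : DRing.Cx A) :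
    tm (associator (q K) (q L) (q M)).hom (𝟙 (q N)) ≫
      (associator (q K) (tn (q L) (q M)) (q N)).hom ≫
      tm (𝟙 (q K)) (associator (q L) (q M) (q N)).hom ≫
      tm (𝟙 (q K)) (tm (𝟙 (q L)) (ee M N) ≫ ee L (M ⊗ N)) ≫ ee K (L ⊗ (M ⊗ N)) =
    tm (tm (ee K L) (𝟙 (q M))) (𝟙 (q N)) ≫ tm (ee (K ⊗ L) M) (𝟙 (q N)) ≫ ee ((K ⊗ L) ⊗ M) N ≫
      qm ((α_ K L M).hom ▷ N ≫ (α_ K (L ⊗ M) N).hom ≫ K ◁ (α_ L M N).hom) := by
  have e1 : tm (𝟙 (q K)) (associator (q L) (q M) (q N)).hom ≫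
      tm (𝟙 (q K)) (tm (𝟙 (q L)) (ee M N) ≫ ee L (M ⊗ N)) =
      tm (𝟙 (q K)) (tm (ee L M) (𝟙 (q N))) ≫ tm (𝟙 (q K)) (ee (L ⊗ M) N) ≫
        tm (𝟙 (q K)) (qm (α_ L M N).hom) := by
    rw [← tm_comp_right, ← tm_comp_right, ← tm_comp_right]
    congr 1
    exact associator_transfer L M N
  have e2 : (associator (q K) (tn (q L) (q M)) (q N)).hom ≫
      tm (𝟙 (q K)) (tm (ee L M) (𝟙 (q N))) =
      tm (tm (𝟙 (q K)) (ee L M)) (𝟙 (q N)) ≫ (associator (q K) (q (L ⊗ M)) (q N)).hom :=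
    (associator_naturality (𝟙 (q K)) (ee L M) (𝟙 (q N))).symm
  have e3 : tm (𝟙 (q K)) (qm (α_ L M N).hom) ≫ ee K (L ⊗ (M ⊗ N)) =
      ee K ((L ⊗ M) ⊗ N) ≫ qm (K ◁ (α_ L M N).hom) := ε_naturality_right K _
  have e4 := associator_transfer K (L ⊗ M) N
  have e5 : tm (associator (q K) (q L) (q M)).hom (𝟙 (q N)) ≫
      tm (tm (𝟙 (q K)) (ee L M)) (𝟙 (q N)) ≫ tm (ee K (L ⊗ M)) (𝟙 (q N)) =
      tm (tm (ee K L) (𝟙 (q M))) (𝟙 (q N)) ≫ tm (ee (K ⊗ L) M) (𝟙 (q N)) ≫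
        tm (qm (α_ K L M).hom) (𝟙 (q N)) := by
    rw [← tm_comp_left, ← tm_comp_left, ← tm_comp_left, ← tm_comp_left]
    congr 1
    exact associator_transfer K L M
  have e6 : tm (qm (α_ K L M).hom) (𝟙 (q N)) ≫ ee (K ⊗ (L ⊗ M)) N =
      ee ((K ⊗ L) ⊗ M) N ≫ qm ((α_ K L M).hom ▷ N) := ε_naturality_left _ N
  calc _ = tm (associator (q K) (q L) (q M)).hom (𝟙 (q N)) ≫
        (associator (q K) (tn (q L) (q M)) (q N)).hom ≫
        (tm (𝟙 (q K)) (associator (q L) (q M) (q N)).hom ≫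
        tm (𝟙 (q K)) (tm (𝟙 (q L)) (ee M N) ≫ ee L (M ⊗ N))) ≫ ee K (L ⊗ (M ⊗ N)) := by
        simp only [Category.assoc]
    _ = tm (associator (q K) (q L) (q M)).hom (𝟙 (q N)) ≫
        ((associator (q K) (tn (q L) (q M)) (q N)).hom ≫
        tm (𝟙 (q K)) (tm (ee L M) (𝟙 (q N)))) ≫ tm (𝟙 (q K)) (ee (L ⊗ M) N) ≫
        (tm (𝟙 (q K)) (qm (α_ L M N).hom) ≫ ee K (L ⊗ (M ⊗ N))) := by
        rw [e1]; simp only [Category.assoc]
    _ = tm (associator (q K) (q L) (q M)).hom (𝟙 (q N)) ≫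
        tm (tm (𝟙 (q K)) (ee L M)) (𝟙 (q N)) ≫ ((associator (q K) (q (L ⊗ M)) (q N)).hom ≫
        tm (𝟙 (q K)) (ee (L ⊗ M) N) ≫ ee K ((L ⊗ M) ⊗ N)) ≫ qm (K ◁ (α_ L M N).hom) := by
        rw [e2, e3]; simp only [Category.assoc]
    _ = (tm (associator (q K) (q L) (q M)).hom (𝟙 (q N)) ≫
        tm (tm (𝟙 (q K)) (ee L M)) (𝟙 (q N)) ≫ tm (ee K (L ⊗ M)) (𝟙 (q N))) ≫
        ee (K ⊗ (L ⊗ M)) N ≫ qm (α_ K (L ⊗ M) N).hom ≫ qm (K ◁ (α_ L M N).hom) := by
        rw [e4]; simp only [Category.assoc]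
    _ = tm (tm (ee K L) (𝟙 (q M))) (𝟙 (q N)) ≫ tm (ee (K ⊗ L) M) (𝟙 (q N)) ≫
        (tm (qm (α_ K L M).hom) (𝟙 (q N)) ≫ ee (K ⊗ (L ⊗ M)) N) ≫
        qm (α_ K (L ⊗ M) N).hom ≫ qm (K ◁ (α_ L M N).hom) := by
        rw [e5]; simp only [Category.assoc]
    _ = _ := by
        rw [e6]
        simp only [Category.assoc, qm, Functor.map_comp]

lemma pentagon_rhs (K L M N : DRing.Cx A) :
    (associator (tn (q K) (q L)) (q M) (q N)).hom ≫
      (associator (q K) (q L) (tn (q M) (q N))).hom ≫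
      tm (𝟙 (q K)) (tm (𝟙 (q L)) (ee M N) ≫ ee L (M ⊗ N)) ≫ ee K (L ⊗ (M ⊗ N)) =
    tm (tm (ee K L) (𝟙 (q M))) (𝟙 (q N)) ≫ tm (ee (K ⊗ L) M) (𝟙 (q N)) ≫ ee ((K ⊗ L) ⊗ M) N ≫
      qm ((α_ (K ⊗ L) M N).hom ≫ (α_ K L (M ⊗ N)).hom) := by
  have e1 : (associator (q K) (q L) (tn (q M) (q N))).hom ≫
      tm (𝟙 (q K)) (tm (𝟙 (q L)) (ee M N)) =
      tm (𝟙 (tn (q K) (q L))) (ee M N) ≫ (associator (q K) (q L) (q (M ⊗ N))).hom := by
    have := (associator_naturality (𝟙 (q K)) (𝟙 (q L)) (ee M N)).symm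
    rwa [tm_id] at this
  have e2 := associator_transfer K L (M ⊗ N)
  have e3 : tm (𝟙 (tn (q K) (q L))) (ee M N) ≫ tm (ee K L) (𝟙 (q (M ⊗ N))) =
      tm (ee K L) (𝟙 (tn (q M) (q N))) ≫ tm (𝟙 (q (K ⊗ L))) (ee M N) :=
    (tm_exchange (ee K L) (ee M N)).symm
  have e4 : (associator (tn (q K) (q L)) (q M) (q N)).hom ≫
      tm (ee K L) (𝟙 (tn (q M) (q N))) =
      tm (tm (ee K L) (𝟙 (q M))) (𝟙 (q N)) ≫ (associator (q (K ⊗ L)) (q M) (q N)).hom := by
    have := (associator_naturality (ee K L) (𝟙 (q M)) (𝟙 (q N))).symm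
    rwa [tm_id] at this
  have e5 := associator_transfer (K ⊗ L) M N
  calc _ = (associator (tn (q K) (q L)) (q M) (q N)).hom ≫
        ((associator (q K) (q L) (tn (q M) (q N))).hom ≫
        tm (𝟙 (q K)) (tm (𝟙 (q L)) (ee M N))) ≫ tm (𝟙 (q K)) (ee L (M ⊗ N)) ≫
        ee K (L ⊗ (M ⊗ N)) := by
        rw [tm_comp_right]; simp only [Category.assoc]
    _ = (associator (tn (q K) (q L)) (q M) (q N)).hom ≫
        tm (𝟙 (tn (q K) (q L))) (ee M N) ≫ ((associator (q K) (q L) (q (M ⊗ N))).hom ≫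
        tm (𝟙 (q K)) (ee L (M ⊗ N)) ≫ ee K (L ⊗ (M ⊗ N))) := by
        rw [e1]; simp only [Category.assoc]
    _ = (associator (tn (q K) (q L)) (q M) (q N)).hom ≫
        (tm (𝟙 (tn (q K) (q L))) (ee M N) ≫ tm (ee K L) (𝟙 (q (M ⊗ N)))) ≫
        ee (K ⊗ L) (M ⊗ N) ≫ qm (α_ K L (M ⊗ N)).hom := by
        rw [e2]; simp only [Category.assoc]
    _ = ((associator (tn (q K) (q L)) (q M) (q N)).hom ≫
        tm (ee K L) (𝟙 (tn (q M) (q N)))) ≫ tm (𝟙 (q (K ⊗ L))) (ee M N) ≫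
        ee (K ⊗ L) (M ⊗ N) ≫ qm (α_ K L (M ⊗ N)).hom := by
        rw [e3]; simp only [Category.assoc]
    _ = tm (tm (ee K L) (𝟙 (q M))) (𝟙 (q N)) ≫ ((associator (q (K ⊗ L)) (q M) (q N)).hom ≫
        tm (𝟙 (q (K ⊗ L))) (ee M N) ≫
        ee (K ⊗ L) (M ⊗ N)) ≫ qm (α_ K L (M ⊗ N)).hom := by
        rw [e4]; simp only [Category.assoc]
    _ = _ := by
        rw [e5]
        simp only [Category.assoc, qm, Functor.map_comp]

omit [HasLTen₃ A] [IsSymMonoidal A] in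
lemma isIso_ee (K L : DRing.Cx A) (h : DRing.IsKFlat A K ∨ DRing.IsKFlat A L) : IsIso (ee K L) :=
  isIso_ε K L h

lemma pentagon_q (K L M N : DRing.Cx A) (hK : DRing.IsKFlat A K) (hL : DRing.IsKFlat A L)
    (hM : DRing.IsKFlat A M) :
    tm (associator (q K) (q L) (q M)).hom (𝟙 (q N)) ≫
      (associator (q K) (tn (q L) (q M)) (q N)).hom ≫
      tm (𝟙 (q K)) (associator (q L) (q M) (q N)).hom =
    (associator (tn (q K) (q L)) (q M) (q N)).hom ≫
      (associator (q K) (q L) (tn (q M) (q N))).hom := by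
  have h1 := isIso_ee M N (Or.inl hM)
  have h2 := isIso_ee L (M ⊗ N) (Or.inl hL)
  have h3 := isIso_ee K (L ⊗ (M ⊗ N)) (Or.inl hK)
  have h4 : IsIso (tm (𝟙 (q K)) (tm (𝟙 (q L)) (ee M N) ≫ ee L (M ⊗ N)) ≫ ee K (L ⊗ (M ⊗ N))) := by
    infer_instance
  rw [← cancel_mono (tm (𝟙 (q K)) (tm (𝟙 (q L)) (ee M N) ≫ ee L (M ⊗ N)) ≫ ee K (L ⊗ (M ⊗ N)))]
  have h5 := pentagon_lhs K L M N
  rw [MonoidalCategory.pentagon, ← pentagon_rhs K L M N] at h5
  simpa only [Category.assoc] using h5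

lemma pentagon_lhs_naturality {a a' b b' c c' d d' : Dual.D A} (f : a ⟶ a') (g : b ⟶ b')
    (h : c ⟶ c') (k : d ⟶ d') :
    tm (tm (tm f g) h) k ≫ (tm (associator a' b' c').hom (𝟙 d') ≫
      (associator a' (tn b' c') d').hom ≫ tm (𝟙 a') (associator b' c' d').hom) =
    (tm (associator a b c).hom (𝟙 d) ≫ (associator a (tn b c) d).hom ≫
      tm (𝟙 a) (associator b c d).hom) ≫ tm f (tm g (tm h k)) := by
  have e1 : tm (tm (tm f g) h) k ≫ tm (associator a' b' c').hom (𝟙 d') =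
      tm (associator a b c).hom (𝟙 d) ≫ tm (tm f (tm g h)) k := by
    rw [← tm_comp, ← tm_comp, associator_naturality, Category.comp_id, Category.id_comp]
  have e2 := associator_naturality f (tm g h) k
  have e3 : tm f (tm (tm g h) k) ≫ tm (𝟙 a') (associator b' c' d').hom =
      tm (𝟙 a) (associator b c d).hom ≫ tm f (tm g (tm h k)) := by
    rw [← tm_comp, ← tm_comp, associator_naturality, Category.comp_id, Category.id_comp]
  rw [reassoc_of% e1, reassoc_of% e2, e3]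
  simp only [Category.assoc]

lemma pentagon_rhs_naturality {a a' b b' c c' d d' : Dual.D A} (f : a ⟶ a') (g : b ⟶ b')
    (h : c ⟶ c') (k : d ⟶ d') :
    tm (tm (tm f g) h) k ≫ ((associator (tn a' b') c' d').hom ≫
      (associator a' b' (tn c' d')).hom) =
    ((associator (tn a b) c d).hom ≫ (associator a b (tn c d)).hom) ≫ tm f (tm g (tm h k)) := by
  have e1 := associator_naturality (tm f g) h k
  have e2 := associator_naturality f g (tm h k)
  rw [reassoc_of% e1, e2]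
  simp only [Category.assoc]

theorem pentagon (a b c d : Dual.D A) :
    tm (associator a b c).hom (𝟙 d) ≫ (associator a (tn b c) d).hom ≫
      tm (𝟙 a) (associator b c d).hom =
    (associator (tn a b) c d).hom ≫ (associator a b (tn c d)).hom := by
  obtain ⟨K, hK, ⟨eK⟩⟩ := exists_kflat_rep a
  obtain ⟨L, hL, ⟨eL⟩⟩ := exists_kflat_rep b
  obtain ⟨M, hM, ⟨eM⟩⟩ := exists_kflat_rep c
  obtain ⟨N, hN, ⟨eN⟩⟩ := exists_kflat_rep d
  have h1 := pentagon_lhs_naturality eK.inv eL.inv eM.inv eN.inv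
  have h2 := pentagon_rhs_naturality eK.inv eL.inv eM.inv eN.inv
  rw [pentagon_q K L M N hK hL hM, h2] at h1
  exact ((cancel_mono _).1 h1).symm

lemma triangle_q (K L : DRing.Cx A) (hK : DRing.IsKFlat A K) :
    (associator (q K) (unit A) (q L)).hom ≫ tm (𝟙 (q K)) (leftUnitor (q L)).hom =
      tm (rightUnitor (q K)).hom (𝟙 (q L)) := by
  have h1 := isIso_ee K L (Or.inl hK)
  rw [← cancel_mono (ee K L)]
  have e1 : (leftUnitor (q L)).hom = ee (𝟙_ (DRing.Cx A)) L ≫ qm (λ_ L).hom := unitL_app A L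
  have e2 : (rightUnitor (q K)).hom = ee K (𝟙_ (DRing.Cx A)) ≫ qm (ρ_ K).hom := unitR_app A K
  have e3 : tm (𝟙 (q K)) (qm (λ_ L).hom) ≫ ee K L =
      ee K (𝟙_ (DRing.Cx A) ⊗ L) ≫ qm (K ◁ (λ_ L).hom) := ε_naturality_right K _
  have e4 := associator_transfer K (𝟙_ (DRing.Cx A)) L
  have e5 : tm (qm (ρ_ K).hom) (𝟙 (q L)) ≫ ee K L =
      ee (K ⊗ 𝟙_ (DRing.Cx A)) L ≫ qm ((ρ_ K).hom ▷ L) := ε_naturality_left _ L
  rw [e1, e2, tm_comp_right, tm_comp_left]
  simp only [Category.assoc]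
  rw [e3, e5, reassoc_of% e4]
  congr 2
  rw [← Functor.map_comp, MonoidalCategory.triangle]

theorem triangle (a b : Dual.D A) :
    (associator a (unit A) b).hom ≫ tm (𝟙 a) (leftUnitor b).hom =
      tm (rightUnitor a).hom (𝟙 b) := by
  obtain ⟨K, hK, ⟨eK⟩⟩ := exists_kflat_rep a
  obtain ⟨L, hL, ⟨eL⟩⟩ := exists_kflat_rep b
  have e1 : tm (tm eK.inv (𝟙 (unit A))) eL.inv ≫ ((associator (q K) (unit A) (q L)).hom ≫
      tm (𝟙 (q K)) (leftUnitor (q L)).hom) =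
      ((associator a (unit A) b).hom ≫ tm (𝟙 a) (leftUnitor b).hom) ≫ tm eK.inv eL.inv := by
    rw [reassoc_of% (associator_naturality eK.inv (𝟙 (unit A)) eL.inv), ← tm_comp,
      leftUnitor_naturality, Category.comp_id, Category.assoc, ← tm_comp, Category.id_comp]
  have e2 : tm (tm eK.inv (𝟙 (unit A))) eL.inv ≫ tm (rightUnitor (q K)).hom (𝟙 (q L)) =
      tm (rightUnitor a).hom (𝟙 b) ≫ tm eK.inv eL.inv := by
    rw [← tm_comp, ← tm_comp, rightUnitor_naturality, Category.comp_id, Category.id_comp]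
  rw [triangle_q K L hK, e2] at e1
  exact ((cancel_mono _).1 e1).symm

variable (A) in
/-- The monoidal structure on `D(A)` given by the derived tensor product. -/
@[instance_reducible]
noncomputable def monoidalStruct : MonoidalCategoryStruct (Dual.D A) where
  tensorObj K L := tn K L
  whiskerLeft K _ _ f := tm (𝟙 K) f
  whiskerRight f L := tm f (𝟙 L)
  tensorHom f g := tm f g
  tensorUnit := unit A
  associator := associator
  leftUnitor := leftUnitor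
  rightUnitor := rightUnitor

variable (A) in
/-- The monoidal structure on `D(A)` given by the derived tensor product. -/
@[instance_reducible]
noncomputable def monoidal : MonoidalCategory (Dual.D A) :=
  { monoidalStruct A with
    tensorHom_def := fun f g => tm_def f g
    id_tensorHom_id := fun K L => tm_id K L
    tensorHom_comp_tensorHom := fun f₁ f₂ g₁ g₂ => (tm_comp f₁ g₁ f₂ g₂).symm
    whiskerLeft_id := fun K L => tm_id K L
    id_whiskerRight := fun K L => tm_id K L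
    associator_naturality := fun f g h => associator_naturality f g h
    leftUnitor_naturality := fun f => leftUnitor_naturality f
    rightUnitor_naturality := fun f => rightUnitor_naturality f
    pentagon := fun a b c d => pentagon a b c d
    triangle := fun a b => triangle a b }

end Groth.Agent.H10.DT
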