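import Groth.Agent.H10.DT1
import Mathlib.CategoryTheory.Monoidal.Rigid.Basic

set_option autoImplicit false
universe u
open CategoryTheory CategoryTheory.Limits MonoidalCategory
attribute [local instance] HasDerivedCategory.standard

namespace Groth.Agent.H10.DT

open DTen Groth.Agent.H45.MultiDer.DTenC

variable {A : Type u} [CommRing A] [DTen.HasLTen A]

/-- The counit as an isomorphism (on K-flat complexes). -/
noncomputable def eeIso (K L : DRing.Cx A) (h : DRing.IsKFlat A K ∨ DRing.IsKFlat A L) :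
    tn (q K) (q L) ≅ q (K ⊗ L) :=
  @asIso _ _ _ _ (ee K L) (isIso_ee K L h)

@[simp] lemma eeIso_hom (K L : DRing.Cx A) (h : DRing.IsKFlat A K ∨ DRing.IsKFlat A L) :
    (eeIso K L h).hom = ee K L := rfl

variable [DTen.HasLTen₃ A] [DTen.IsSymMonoidal A]

section
variable (X Y : DRing.Cx A) [ExactPairing X Y]

lemma zig2 (hX : DRing.IsKFlat A X) :
    tm (qm (η_ X Y) ≫ (eeIso X Y (Or.inl hX)).inv) (𝟙 (q X)) ≫
      (associator (q X) (q Y) (q X)).hom ≫ tm (𝟙 (q X)) (ee Y X ≫ qm (ε_ X Y)) =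
    (leftUnitor (q X)).hom ≫ (rightUnitor (q X)).inv := by
  have i2 := isIso_ee X (Y ⊗ X) (Or.inl hX)
  have e1 : (leftUnitor (q X)).hom = ee (𝟙_ (DRing.Cx A)) X ≫ qm (λ_ X).hom := unitL_app A X
  have e2 : (rightUnitor (q X)).hom = ee X (𝟙_ (DRing.Cx A)) ≫ qm (ρ_ X).hom := unitR_app A X
  have e3 := associator_transfer X Y X
  have e4 : tm (qm (η_ X Y)) (𝟙 (q X)) ≫ ee (X ⊗ Y) X =
      ee (𝟙_ (DRing.Cx A)) X ≫ qm (η_ X Y ▷ X) := ε_naturality_left _ X
  have e5 : tm (𝟙 (q X)) (qm (ε_ X Y)) ≫ ee X (𝟙_ (DRing.Cx A)) =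
      ee X (Y ⊗ X) ≫ qm (X ◁ ε_ X Y) := ε_naturality_right X _
  rw [Iso.eq_comp_inv, e1, e2]
  rw [tm_comp_right]
  simp only [Category.assoc]
  rw [reassoc_of% e5, reassoc_of% e3, ← tm_comp_left_assoc]
  simp only [Category.assoc, eeIso, asIso_inv, IsIso.inv_hom_id, Category.comp_id]
  rw [reassoc_of% e4]
  congr 1
  simp only [qm, ← Functor.map_comp]
  congr 1
  rw [← Category.assoc, ← Category.assoc, Category.assoc (η_ X Y ▷ X),
    ExactPairing.evaluation_coevaluation]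
  simp

lemma zig1 (hX : DRing.IsKFlat A X) :
    tm (𝟙 (q Y)) (qm (η_ X Y) ≫ (eeIso X Y (Or.inl hX)).inv) ≫
      (associator (q Y) (q X) (q Y)).inv ≫ tm (ee Y X ≫ qm (ε_ X Y)) (𝟙 (q Y)) =
    (rightUnitor (q Y)).hom ≫ (leftUnitor (q Y)).inv := by
  have e1 : (leftUnitor (q Y)).hom = ee (𝟙_ (DRing.Cx A)) Y ≫ qm (λ_ Y).hom := unitL_app A Y
  have e2 : (rightUnitor (q Y)).hom = ee Y (𝟙_ (DRing.Cx A)) ≫ qm (ρ_ Y).hom := unitR_app A Y
  have e3 : (associator (q Y) (q X) (q Y)).inv ≫ tm (ee Y X) (𝟙 (q Y)) ≫ ee (Y ⊗ X) Y =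
      tm (𝟙 (q Y)) (ee X Y) ≫ ee Y (X ⊗ Y) ≫ qm (α_ Y X Y).inv := by
    have := associator_transfer Y X Y
    rw [Iso.inv_comp_eq, reassoc_of% this]
    simp only [qm, ← Functor.map_comp, Iso.hom_inv_id, CategoryTheory.Functor.map_id,
      Category.comp_id]
  have e4 : tm (qm (ε_ X Y)) (𝟙 (q Y)) ≫ ee (𝟙_ (DRing.Cx A)) Y =
      ee (Y ⊗ X) Y ≫ qm (ε_ X Y ▷ Y) := ε_naturality_left _ Y
  have e5 : tm (𝟙 (q Y)) (qm (η_ X Y)) ≫ ee Y (X ⊗ Y) =
      ee Y (𝟙_ (DRing.Cx A)) ≫ qm (Y ◁ η_ X Y) := ε_naturality_right Y _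
  rw [Iso.eq_comp_inv, e1, e2]
  rw [tm_comp_left]
  simp only [Category.assoc]
  rw [reassoc_of% e4, reassoc_of% e3, ← tm_comp_right_assoc]
  simp only [Category.assoc, eeIso, asIso_inv, IsIso.inv_hom_id, Category.comp_id]
  rw [reassoc_of% e5]
  congr 1
  simp only [qm, ← Functor.map_comp]
  congr 1
  rw [← Category.assoc, ← Category.assoc, Category.assoc (Y ◁ η_ X Y),
    ExactPairing.coevaluation_evaluation]
  simp

/-- An exact pairing of complexes `X`, `Y` with `X` K-flat induces an exact pairing of their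
images in `D(A)` (for the monoidal structure `monoidal A`). -/
@[instance_reducible]
noncomputable def exactPairingQ (hX : DRing.IsKFlat A X) :
    @ExactPairing (Dual.D A) _ (monoidal A) (q X) (q Y) :=
  letI := monoidal A
  { coevaluation' := qm (η_ X Y) ≫ (eeIso X Y (Or.inl hX)).inv
    evaluation' := ee Y X ≫ qm (ε_ X Y)
    coevaluation_evaluation' := zig1 X Y hX
    evaluation_coevaluation' := zig2 X Y hX }

end

end Groth.Agent.H10.DT
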