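import Mathlib.CategoryTheory.Monoidal.Rigid.Basic
import Mathlib.CategoryTheory.Adjunction.Unique
import Mathlib.CategoryTheory.Yoneda

/-!
# Formal lemmas: evaluation maps are isomorphisms for dualizable objects

In a monoidal category `C` where `- ⊗ M` has a right adjoint `H_M`.
-/

set_option autoImplicit false
universe v u
open CategoryTheory MonoidalCategory

namespace Groth.Agent.H10.DT.Gen

variable {C : Type u} [Category.{v} C] [MonoidalCategory C]

section A

variable (K K' : C) [ExactPairing K K'] (M : C) {H : C ⥤ C} (adj : tensorRight M ⊣ H)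

/-- The map `K ⊗ H(L) ⟶ H(K ⊗ L)`. -/
def evT (L : C) : K ⊗ H.obj L ⟶ H.obj (K ⊗ L) :=
  adj.homEquiv (K ⊗ H.obj L) (K ⊗ L) ((α_ K (H.obj L) M).hom ≫ K ◁ adj.counit.app L)

/-- The chain of bijections. -/
def evTEquivLeft (L T : C) : (T ⟶ K ⊗ H.obj L) ≃ (T ⟶ H.obj (K ⊗ L)) :=
  (tensorLeftHomEquiv T K K' (H.obj L)).symm.trans
    ((adj.homEquiv (K' ⊗ T) L).symm.trans
      ((α_ K' T M).homFromEquiv.trans
        ((tensorLeftHomEquiv (T ⊗ M) K K' L).trans (adj.homEquiv T (K ⊗ L)))))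

lemma comp_evT_left (L T : C) (f : T ⟶ K ⊗ H.obj L) :
    f ≫ evT K M adj L = evTEquivLeft K K' M adj L T f := by
  obtain ⟨g, rfl⟩ := (tensorLeftHomEquiv T K K' (H.obj L)).surjective f
  dsimp only [evTEquivLeft, evT, Equiv.trans_apply]
  rw [Equiv.symm_apply_apply, ← Adjunction.homEquiv_naturality_left]
  refine congrArg _ ?_
  rw [Adjunction.homEquiv_counit]
  dsimp [tensorLeftHomEquiv, Iso.homFromEquiv]
  monoidal

include K' in
theorem isIso_evT_left (L : C) : IsIso (evT K M adj L) := by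
  apply isIso_of_yoneda_map_bijective
  intro T
  have : (fun (x : T ⟶ K ⊗ H.obj L) => x ≫ evT K M adj L) = evTEquivLeft K K' M adj L T := by
    funext x
    exact comp_evT_left K K' M adj L T x
  rw [this]
  exact (evTEquivLeft K K' M adj L T).bijective

end A

section B

variable (K : C) (M M' : C) [ExactPairing M M'] {H : C ⥤ C} (adj : tensorRight M ⊣ H)

lemma tensorRightAdjunction_counit_app (L : C) :
    (tensorRightAdjunction M M').counit.app L =
      (α_ L M' M).hom ≫ L ◁ ε_ M M' ≫ (ρ_ L).hom := by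
  rw [← Adjunction.homEquiv_symm_id]
  dsimp [tensorRightAdjunction, tensorRightHomEquiv]
  simp

/-- The canonical isomorphism `H ≅ - ⊗ M'`. -/
def psiR : H ≅ tensorRight M' := adj.rightAdjointUniq (tensorRightAdjunction M M')

lemma psiR_counit (L : C) :
    (psiR M M' adj).hom.app L ▷ M ≫ (α_ L M' M).hom ≫ L ◁ ε_ M M' ≫ (ρ_ L).hom =
      adj.counit.app L := by
  have := Adjunction.rightAdjointUniq_hom_app_counit adj (tensorRightAdjunction M M') L
  rw [tensorRightAdjunction_counit_app] at this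
  exact this

/-- The chain of bijections. -/
def evTEquivRight (L T : C) : (T ⟶ K ⊗ H.obj L) ≃ (T ⟶ H.obj (K ⊗ L)) :=
  (whiskerLeftIso K ((psiR M M' adj).app L)).homToEquiv.trans
    ((α_ K L M').symm.homToEquiv.trans
      ((tensorRightHomEquiv T M M' (K ⊗ L)).symm.trans (adj.homEquiv T (K ⊗ L))))

lemma comp_evT_right (L T : C) (f : T ⟶ K ⊗ H.obj L) :
    f ≫ evT K M adj L = evTEquivRight K M M' adj L T f := by
  dsimp only [evTEquivRight, evT, Equiv.trans_apply]
  rw [← Adjunction.homEquiv_naturality_left]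
  refine congrArg _ ?_
  rw [← psiR_counit M M' adj L]
  dsimp [tensorRightHomEquiv, Iso.homToEquiv]
  simp only [whiskerLeftIso_hom, Iso.app_hom]
  monoidal

include M' in
theorem isIso_evT_right (L : C) : IsIso (evT K M adj L) := by
  apply isIso_of_yoneda_map_bijective
  intro T
  have : (fun (x : T ⟶ K ⊗ H.obj L) => x ≫ evT K M adj L) = evTEquivRight K M M' adj L T := by
    funext x
    exact comp_evT_right K M M' adj L T x
  rw [this]
  exact (evTEquivRight K M M' adj L T).bijective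

end B

section Cc

variable (K K'' : C) [ExactPairing K'' K] {HK : C ⥤ C} (adjK : tensorRight K ⊣ HK)
  (σ : tensorLeft K ≅ tensorRight K) (L : C) {HL : C ⥤ C} (adjL : tensorRight L ⊣ HL)
  {HH : C ⥤ C} (adjHH : tensorRight (HK.obj L) ⊣ HH)

lemma tensorLeftAdjunction_counit_app (X : C) :
    (tensorLeftAdjunction K'' K).counit.app X =
      (α_ K K'' X).inv ≫ ε_ K'' K ▷ X ≫ (λ_ X).hom := by
  rw [← Adjunction.homEquiv_symm_id]
  dsimp [tensorLeftAdjunction, tensorLeftHomEquiv]
  simp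

/-- The swapped evaluation `K ⊗ HK(L) ⟶ L`. -/
def sEv : K ⊗ HK.obj L ⟶ L := σ.hom.app (HK.obj L) ≫ adjK.counit.app L

/-- The map `HL(M) ⊗ K ⟶ HH(M)`. -/
def evH (M : C) : HL.obj M ⊗ K ⟶ HH.obj M :=
  adjHH.homEquiv (HL.obj M ⊗ K) M
    ((α_ (HL.obj M) K (HK.obj L)).hom ≫ HL.obj M ◁ sEv K adjK σ L ≫ adjL.counit.app M)

/-- The canonical isomorphism `HK ≅ K'' ⊗ -`. -/
def psiL : HK ≅ tensorLeft K'' :=
  (adjK.ofNatIsoLeft σ.symm).rightAdjointUniq (tensorLeftAdjunction K'' K)

/-- The component of `psiL` at `L`, with its target written as a tensor product. -/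
def psiLapp : HK.obj L ≅ K'' ⊗ L := (psiL K K'' adjK σ).app L

lemma psiL_counit :
    K ◁ (psiLapp K K'' adjK σ L).hom ≫ (α_ K K'' L).inv ≫ ε_ K'' K ▷ L ≫ (λ_ L).hom =
      sEv K adjK σ L := by
  have := Adjunction.rightAdjointUniq_hom_app_counit (adjK.ofNatIsoLeft σ.symm)
    (tensorLeftAdjunction K'' K) L
  rw [tensorLeftAdjunction_counit_app] at this
  simpa [sEv, psiL, psiLapp] using this

/-- The chain of bijections. -/
def evHEquiv (M T : C) : (T ⟶ HL.obj M ⊗ K) ≃ (T ⟶ HH.obj M) :=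
  (tensorRightHomEquiv T K'' K (HL.obj M)).symm.trans
    ((adjL.homEquiv (T ⊗ K'') M).symm.trans
      ((α_ T K'' L).homFromEquiv.trans
        ((whiskerLeftIso T (psiLapp K K'' adjK σ L)).symm.homFromEquiv.trans
          (adjHH.homEquiv T M))))

lemma comp_evH (M T : C) (f : T ⟶ HL.obj M ⊗ K) :
    f ≫ evH K adjK σ L adjL adjHH M = evHEquiv K K'' adjK σ L adjL adjHH M T f := by
  dsimp only [evHEquiv, evH, Equiv.trans_apply]
  rw [← Adjunction.homEquiv_naturality_left]
  refine congrArg _ ?_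
  rw [Adjunction.homEquiv_counit, ← psiL_counit K K'' adjK σ L]
  dsimp [tensorRightHomEquiv, Iso.homFromEquiv]
  generalize psiLapp K K'' adjK σ L = ψ
  have key : T ◁ ψ.hom ≫ (α_ T K'' L).inv ≫ (f ▷ K'') ▷ L =
      f ▷ HK.obj L ≫ (HL.obj M ⊗ K) ◁ ψ.hom ≫ (α_ (HL.obj M ⊗ K) K'' L).inv := by
    rw [← associator_inv_naturality_left, whisker_exchange_assoc]
  calc _ = f ▷ HK.obj L ≫ ((HL.obj M ⊗ K) ◁ ψ.hom ≫
        (α_ (HL.obj M ⊗ K) K'' L).inv) ≫ ((α_ (HL.obj M) K K'').hom ≫
          HL.obj M ◁ ε_ K'' K ≫ (ρ_ (HL.obj M)).hom) ▷ L ≫ adjL.counit.app M := by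
        monoidal
    _ = _ := by
        simp only [Category.assoc]
        rw [← reassoc_of% key]
        simp only [whiskerLeftIso_inv, Iso.symm_inv]
        monoidal

include K'' in
theorem isIso_evH (M : C) : IsIso (evH K adjK σ L adjL adjHH M) := by
  apply isIso_of_yoneda_map_bijective
  intro T
  have : (fun (x : T ⟶ HL.obj M ⊗ K) => x ≫ evH K adjK σ L adjL adjHH M) =
      evHEquiv K K'' adjK σ L adjL adjHH M T := by
    funext x
    exact comp_evH K K'' adjK σ L adjL adjHH M T x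
  rw [this]
  exact (evHEquiv K K'' adjK σ L adjL adjHH M T).bijective

end Cc

end Groth.Agent.H10.DT.Gen
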