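import Groth.Prelude.Def_DTen3
import Mathlib.CategoryTheory.Monoidal.Rigid.Basic

set_option autoImplicit false
universe u
open CategoryTheory CategoryTheory.Limits MonoidalCategory HomologicalComplex

namespace Groth.Agent.H10.DT.Cx

variable {A : Type u} [CommRing A]

@[reassoc]
lemma ι_whiskerRight {K K' : DRing.Cx A} (f : K ⟶ K') (L : DRing.Cx A) (p q n : ℤ) (h : p + q = n) :
    ιTensorObj K L p q n h ≫ (f ▷ L).f n = (f.f p ▷ L.X q) ≫ ιTensorObj K' L p q n h := by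
  have := HomologicalComplex.ι_mapBifunctorMap f (𝟙 L) (curriedTensor (ModuleCat.{u} A))
    (ComplexShape.up ℤ) p q n h
  dsimp at this
  rw [MonoidalCategory.whiskerLeft_id, Category.id_comp] at this
  exact this

@[reassoc]
lemma ι_whiskerLeft (K : DRing.Cx A) {L L' : DRing.Cx A} (g : L ⟶ L') (p q n : ℤ) (h : p + q = n) :
    ιTensorObj K L p q n h ≫ (K ◁ g).f n = (K.X p ◁ g.f q) ≫ ιTensorObj K L' p q n h := by
  have := HomologicalComplex.ι_mapBifunctorMap (𝟙 K) g (curriedTensor (ModuleCat.{u} A))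
    (ComplexShape.up ℤ) p q n h
  dsimp at this
  rw [MonoidalCategory.id_whiskerRight, Category.id_comp] at this
  exact this

@[reassoc]
lemma ι₃_associator_hom (K L M : DRing.Cx A) (p q r pq qr n : ℤ) (h1 : p + q = pq)
    (h2 : q + r = qr) (h3 : pq + r = n) (h4 : p + qr = n) :
    (ιTensorObj K L p q pq h1 ▷ M.X r) ≫ ιTensorObj (K ⊗ L) M pq r n h3 ≫ (α_ K L M).hom.f n =
      (α_ (K.X p) (L.X q) (M.X r)).hom ≫ (K.X p ◁ ιTensorObj L M q r qr h2) ≫
        ιTensorObj K (L ⊗ M) p qr n h4 := by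
  have h5 : p + q + r = n := by omega
  have e1 := GradedObject.Monoidal.ιTensorObj₃'_eq K.X L.X M.X p q r n h5 pq h1
  have e2 := GradedObject.Monoidal.ιTensorObj₃_eq K.X L.X M.X p q r n h5 qr h2
  have e3 := GradedObject.Monoidal.ιTensorObj₃'_associator_hom K.X L.X M.X p q r n h5
  rw [e1, e2] at e3
  simp only [Category.assoc] at e3
  exact e3

lemma leftUnitor_inv_f (K : DRing.Cx A) (n : ℤ) :
    (λ_ K).inv.f n = (λ_ (K.X n)).inv ≫
      ((singleObjXSelf (ComplexShape.up ℤ) 0 (𝟙_ (ModuleCat.{u} A))).inv ▷ (K.X n)) ≫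
      ιTensorObj (𝟙_ (DRing.Cx A)) K 0 n n (zero_add n) :=
  HomologicalComplex.leftUnitor'_inv K n

lemma rightUnitor_inv_f (K : DRing.Cx A) (n : ℤ) :
    (ρ_ K).inv.f n = (ρ_ (K.X n)).inv ≫
      ((K.X n) ◁ (singleObjXSelf (ComplexShape.up ℤ) 0 (𝟙_ (ModuleCat.{u} A))).inv) ≫
      ιTensorObj K (𝟙_ (DRing.Cx A)) n 0 n (add_zero n) :=
  HomologicalComplex.rightUnitor'_inv K n

@[reassoc]
lemma ι_d (K L : DRing.Cx A) (p q n p' q' n' : ℤ) (h : p + q = n) (hp : p + 1 = p')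
    (hq : q + 1 = q') (hn : n + 1 = n') :
    ιTensorObj K L p q n h ≫ (K ⊗ L).d n n' =
      (K.d p p' ▷ L.X q) ≫ ιTensorObj K L p' q n' (by omega) +
      p.negOnePow • ((K.X p ◁ L.d q q') ≫ ιTensorObj K L p q' n' (by omega)) := by
  change ιMapBifunctor K L (curriedTensor (ModuleCat.{u} A)) (ComplexShape.up ℤ) p q n h ≫
    (mapBifunctor K L (curriedTensor (ModuleCat.{u} A)) (ComplexShape.up ℤ)).d n n' = _
  rw [mapBifunctor.d_eq, Preadditive.comp_add, mapBifunctor.ι_D₁, mapBifunctor.ι_D₂,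
    mapBifunctor.d₁_eq K L _ _ (show (ComplexShape.up ℤ).Rel p p' from hp) q n' (by dsimp; omega),
    mapBifunctor.d₂_eq K L _ _ p (show (ComplexShape.up ℤ).Rel q q' from hq) n' (by dsimp; omega)]
  simp

end Groth.Agent.H10.DT.Cx
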