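import Groth.Agent.H10.DT4a

set_option autoImplicit false
universe u
open CategoryTheory CategoryTheory.Limits MonoidalCategory HomologicalComplex

namespace Groth.Agent.H10.DT.Cx

variable {A : Type u} [CommRing A]

/-- Termwise pairing data between two complexes. -/
structure PData (X Y : DRing.Cx A) where
  c : ∀ p q : ℤ, p + q = 0 → (𝟙_ (ModuleCat.{u} A) ⟶ X.X p ⊗ Y.X q)
  e : ∀ p q : ℤ, p + q = 0 → (Y.X q ⊗ X.X p ⟶ 𝟙_ (ModuleCat.{u} A))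
  zig1 : ∀ p q h, (Y.X q ◁ c p q h) ≫ (α_ _ _ _).inv ≫ (e p q h ▷ Y.X q) = (ρ_ _).hom ≫ (λ_ _).inv
  zig2 : ∀ p q h, (c p q h ▷ X.X p) ≫ (α_ _ _ _).hom ≫ (X.X p ◁ e p q h) = (λ_ _).hom ≫ (ρ_ _).inv
  D1 : ∀ p q p' q' (h : p + q = 0) (h' : p' + q' = 0) (_ : p + 1 = p'),
    c p q h ≫ (X.d p p' ▷ Y.X q) + p'.negOnePow • (c p' q' h' ≫ (X.X p' ◁ Y.d q' q)) = 0
  D2 : ∀ p q p' q' (h : p + q' = 0) (h' : p' + q = 0) (_ : p + 1 = p'),
    (Y.d q q' ▷ X.X p) ≫ e p q' h + q.negOnePow • ((Y.X q ◁ X.d p p') ≫ e p' q h') = 0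
  a : ℤ
  N : ℕ
  supp : ∀ p : ℤ, p < a ∨ a + N ≤ p → IsZero (X.X p)

namespace PData

variable {X Y : DRing.Cx A} (d : PData X Y)

lemma c_eq_zero (p q : ℤ) (h : p + q = 0) (hp : p < d.a ∨ d.a + d.N ≤ p) : d.c p q h = 0 := by
  have h0 : IsZero (X.X p ⊗ Y.X q) := by
    rw [IsZero.iff_id_eq_zero, ← id_tensorHom_id, (d.supp p hp).eq_of_src (𝟙 _) 0,
      MonoidalPreadditive.zero_tensor]
  exact h0.eq_of_tgt _ _

/-- The summand of the coevaluation. -/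
noncomputable def cι (p q : ℤ) (h : p + q = 0) : 𝟙_ (ModuleCat.{u} A) ⟶ (X ⊗ Y).X 0 :=
  d.c p q h ≫ ιTensorObj X Y p q 0 h

/-- The coevaluation in degree `0`. -/
noncomputable def η₀ : 𝟙_ (ModuleCat.{u} A) ⟶ (X ⊗ Y).X 0 :=
  ∑ i ∈ Finset.range d.N, d.cι (d.a + i) (-(d.a + i)) (by omega)

/-- The `B`-term. -/
noncomputable def Bt (p q q' : ℤ) (h : p + q = 0) (hq : q + 1 = q') :
    𝟙_ (ModuleCat.{u} A) ⟶ (X ⊗ Y).X 1 :=
  p.negOnePow • (d.c p q h ≫ (X.X p ◁ Y.d q q') ≫ ιTensorObj X Y p q' 1 (by omega))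

/-- The `A`-term. -/
noncomputable def At (p q p' : ℤ) (h : p + q = 0) (hp : p + 1 = p') :
    𝟙_ (ModuleCat.{u} A) ⟶ (X ⊗ Y).X 1 :=
  d.c p q h ≫ (X.d p p' ▷ Y.X q) ≫ ιTensorObj X Y p' q 1 (by omega)

lemma cι_d (p q : ℤ) (h : p + q = 0) :
    d.cι p q h ≫ (X ⊗ Y).d 0 1 = d.At p q (p + 1) h rfl + d.Bt p q (q + 1) h rfl := by
  dsimp only [cι, At, Bt]
  rw [Category.assoc, ι_d X Y p q 0 (p + 1) (q + 1) 1 h rfl rfl (by omega)]
  simp

lemma At_add_Bt (p q p' q' : ℤ) (h : p + q = 0) (h' : p' + q' = 0) (hp : p + 1 = p') :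
    d.At p q p' h hp + d.Bt p' q' q h' (by omega) = 0 := by
  have := d.D1 p q p' q' h h' hp
  dsimp only [At, Bt]
  rw [← Category.assoc, ← Category.assoc (d.c p' q' h'), ← Linear.units_smul_comp,
    ← Preadditive.add_comp, this, zero_comp]

lemma Bt_congr (p q q₁ q₂ : ℤ) (h : p + q = 0) (h₁ : q + 1 = q₁) (h₂ : q + 1 = q₂) :
    d.Bt p q q₁ h h₁ = d.Bt p q q₂ h h₂ := by
  subst h₁; subst h₂; rfl

lemma Bt_eq_zero (p q q' : ℤ) (h : p + q = 0) (hq : q + 1 = q')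
    (hp : p < d.a ∨ d.a + d.N ≤ p) : d.Bt p q q' h hq = 0 := by
  dsimp only [Bt]
  rw [d.c_eq_zero p q h hp, zero_comp, smul_zero]

lemma At_eq_zero (p q p' : ℤ) (h : p + q = 0) (hp' : p + 1 = p')
    (hp : p < d.a ∨ d.a + d.N ≤ p) : d.At p q p' h hp' = 0 := by
  dsimp only [At]
  rw [d.c_eq_zero p q h hp, zero_comp]

/-- `β p`. -/
noncomputable def β (p : ℤ) : 𝟙_ (ModuleCat.{u} A) ⟶ (X ⊗ Y).X 1 :=
  d.Bt p (-p) (-p + 1) (by omega) rfl

lemma At_eq_neg_β (p : ℤ) : d.At p (-p) (p + 1) (by omega) rfl = - d.β (p + 1) := by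
  have := d.At_add_Bt p (-p) (p + 1) (-(p + 1)) (by omega) (by omega) rfl
  rw [d.Bt_congr (p + 1) (-(p + 1)) (-p) (-(p + 1) + 1) (by omega) (by omega) rfl] at this
  exact eq_neg_of_add_eq_zero_left this

lemma β_a : d.β d.a = 0 := by
  have h1 := d.At_add_Bt (d.a - 1) (-(d.a - 1)) d.a (-d.a) (by omega) (by omega) (by omega)
  rw [d.At_eq_zero _ _ _ _ _ (Or.inl (by omega)), zero_add] at h1
  rw [β, d.Bt_congr d.a (-d.a) (-d.a + 1) (-(d.a - 1)) (by omega) rfl (by omega)]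
  exact h1

lemma η₀_d : d.η₀ ≫ (X ⊗ Y).d 0 1 = 0 := by
  dsimp only [η₀]
  rw [Preadditive.sum_comp]
  have h1 : ∀ i ∈ Finset.range d.N,
      d.cι (d.a + i) (-(d.a + i)) (by omega) ≫ (X ⊗ Y).d 0 1 =
        (fun j : ℕ => d.β (d.a + j)) i - (fun j : ℕ => d.β (d.a + j)) (i + 1) := by
    intro i _
    rw [cι_d, At_eq_neg_β]
    have : d.β (d.a + (i : ℤ) + 1) = d.β (d.a + ((i + 1 : ℕ) : ℤ)) := by
      congr 1; push_cast; ring
    dsimp only
    rw [← this]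
    change _ + d.β (d.a + i) = _
    abel
  rw [Finset.sum_congr rfl h1, Finset.sum_range_sub']
  have h2 : d.β (d.a + ((0 : ℕ) : ℤ)) = 0 := by
    have : d.a + ((0 : ℕ) : ℤ) = d.a := by simp
    rw [this, β_a]
  have h3 : d.β (d.a + (d.N : ℤ)) = 0 := d.Bt_eq_zero _ _ _ _ _ (Or.inr le_rfl)
  rw [h2, h3, sub_zero]

/-- The evaluation in degree `0`. -/
noncomputable def ε₀ : (Y ⊗ X).X 0 ⟶ 𝟙_ (ModuleCat.{u} A) :=
  mapBifunctorDesc (K₁ := Y) (K₂ := X) (F := curriedTensor (ModuleCat.{u} A))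
    (c := ComplexShape.up ℤ) (j := 0)
    (fun q p (h : q + p = 0) => d.e p q (by omega))

lemma ι_ε₀ (q p : ℤ) (h : q + p = 0) :
    ιTensorObj Y X q p 0 h ≫ d.ε₀ = d.e p q (by omega) :=
  ι_mapBifunctorDesc _ q p h

lemma d_ε₀ : (Y ⊗ X).d (-1) 0 ≫ d.ε₀ = 0 := by
  apply mapBifunctor.hom_ext
  intro q p (h : q + p = -1)
  change ιTensorObj Y X q p (-1) h ≫ _ = _ ≫ 0
  rw [comp_zero, ← Category.assoc, ι_d Y X q p (-1) (q + 1) (p + 1) 0 h rfl rfl (by omega),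
    Preadditive.add_comp, Category.assoc, Linear.units_smul_comp, Category.assoc, ι_ε₀, ι_ε₀]
  exact d.D2 p q (p + 1) (q + 1) (by omega) (by omega) rfl

/-- The unit object isomorphism. -/
noncomputable abbrev U : (𝟙_ (DRing.Cx A)).X 0 ≅ 𝟙_ (ModuleCat.{u} A) :=
  singleObjXSelf (ComplexShape.up ℤ) 0 (𝟙_ (ModuleCat.{u} A))

/-- The coevaluation. -/
noncomputable def coev : 𝟙_ (DRing.Cx A) ⟶ X ⊗ Y :=
  mkHomFromSingle d.η₀ (fun k (hk : 0 + 1 = k) => by subst hk; exact d.η₀_d)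

/-- The evaluation. -/
noncomputable def ev : Y ⊗ X ⟶ 𝟙_ (DRing.Cx A) :=
  mkHomToSingle d.ε₀ (fun i (hi : i + 1 = 0) => by
    obtain rfl : i = -1 := by omega
    exact d.d_ε₀)

lemma coev_f : d.coev.f 0 = U.hom ≫ d.η₀ := mkHomFromSingle_f _ _

lemma ev_f : d.ev.f 0 = d.ε₀ ≫ U.inv := mkHomToSingle_f _ _

lemma ev_f_eq_zero (r : ℤ) (hr : r ≠ 0) : d.ev.f r = 0 :=
  (isZero_single_obj_X (ComplexShape.up ℤ) 0 (𝟙_ (ModuleCat.{u} A)) r hr).eq_of_tgt _ _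

lemma sum_range_collapse {G : Type*} [AddCommMonoid G] (F : ℤ → G) (a : ℤ) (N : ℕ) (n : ℤ)
    (h1 : a ≤ n) (h2 : n < a + N) (hF : ∀ p, p ≠ n → F p = 0) :
    ∑ i ∈ Finset.range N, F (a + i) = F n := by
  have h3 : a + ((n - a).toNat : ℤ) = n := by
    rw [Int.toNat_of_nonneg (by omega)]; ring
  rw [Finset.sum_eq_single (n - a).toNat, h3]
  · intro i _ hi
    apply hF
    intro h4
    apply hi
    have : (i : ℤ) = n - a := by omega
    rw [← this, Int.toNat_natCast]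
  · intro h4
    exfalso
    apply h4
    rw [Finset.mem_range]
    omega

/-- The `p`-th term in the first zigzag. -/
noncomputable def W (n p q : ℤ) (h : p + q = 0) : X.X n ⟶ (X ⊗ 𝟙_ (DRing.Cx A)).X n :=
  (λ_ (X.X n)).inv ≫ (d.cι p q h ▷ X.X n) ≫ ιTensorObj (X ⊗ Y) X 0 n n (zero_add n) ≫
    (α_ X Y X).hom.f n ≫ (X ◁ d.ev).f n

lemma W_eq (n p q r : ℤ) (h : p + q = 0) (hr : q + n = r) :
    d.W n p q h = (λ_ (X.X n)).inv ≫ (d.c p q h ▷ X.X n) ≫ (α_ _ _ _).hom ≫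
      (X.X p ◁ (ιTensorObj Y X q n r hr ≫ d.ev.f r)) ≫
      ιTensorObj X (𝟙_ (DRing.Cx A)) p r n (by omega) := by
  dsimp only [W, cι]
  rw [comp_whiskerRight, Category.assoc,
    ι₃_associator_hom_assoc X Y X p q n 0 r n h hr (zero_add n) (by omega),
    ι_whiskerLeft, MonoidalCategory.whiskerLeft_comp]
  simp only [Category.assoc]

lemma W_eq_zero (n p q : ℤ) (h : p + q = 0) (hp : p ≠ n) : d.W n p q h = 0 := by
  rw [d.W_eq n p q (q + n) h rfl, d.ev_f_eq_zero (q + n) (by omega)]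
  simp

lemma W_self (n q : ℤ) (h : n + q = 0) : d.W n n q h = (ρ_ X).inv.f n := by
  rw [d.W_eq n n q 0 h (by omega), ev_f, ← Category.assoc (ιTensorObj Y X q n 0 _), ι_ε₀,
    MonoidalCategory.whiskerLeft_comp, rightUnitor_inv_f]
  have := d.zig2 n q h
  simp only [Category.assoc]
  rw [reassoc_of% this]
  simp

lemma zigzag2_f (n : ℤ) :
    (λ_ X).inv.f n ≫ (d.coev ▷ X).f n ≫ (α_ X Y X).hom.f n ≫ (X ◁ d.ev).f n = (ρ_ X).inv.f n := by
  by_cases hn : n < d.a ∨ d.a + d.N ≤ n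
  · exact (d.supp n hn).eq_of_src _ _
  · rw [leftUnitor_inv_f, Category.assoc, Category.assoc, ι_whiskerRight_assoc, coev_f,
      ← comp_whiskerRight_assoc, Iso.inv_hom_id_assoc]
    dsimp only [η₀]
    rw [CategoryTheory.sum_whiskerRight, Preadditive.sum_comp, Preadditive.comp_sum]
    have := sum_range_collapse (fun p : ℤ => d.W n p (-p) (by omega)) d.a d.N n (by omega)
      (by omega) (fun p hp => d.W_eq_zero n p (-p) (by omega) hp)
    rw [d.W_self n (-n) (by omega)] at this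
    exact this

theorem zigzag2 : d.coev ▷ X ≫ (α_ X Y X).hom ≫ X ◁ d.ev = (λ_ X).hom ≫ (ρ_ X).inv := by
  rw [← Iso.inv_comp_eq]
  ext n : 1
  exact d.zigzag2_f n

lemma isZero_Y (n : ℤ) (hn : -n < d.a ∨ d.a + d.N ≤ -n) : IsZero (Y.X n) := by
  have h1 := d.zig1 (-n) n (by omega)
  rw [d.c_eq_zero (-n) n (by omega) hn, MonoidalPreadditive.whiskerLeft_zero, zero_comp] at h1
  rw [IsZero.iff_id_eq_zero]
  have h2 : (ρ_ (Y.X n)).hom = 0 := by
    rw [← cancel_mono (λ_ (Y.X n)).inv, ← h1, zero_comp]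
  rw [← cancel_epi (ρ_ (Y.X n)).hom, h2, zero_comp, zero_comp]

/-- The `p`-th term in the second zigzag. -/
noncomputable def V (n p q : ℤ) (h : p + q = 0) : Y.X n ⟶ (𝟙_ (DRing.Cx A) ⊗ Y).X n :=
  (ρ_ (Y.X n)).inv ≫ (Y.X n ◁ d.cι p q h) ≫ ιTensorObj Y (X ⊗ Y) n 0 n (add_zero n) ≫
    (α_ Y X Y).inv.f n ≫ (d.ev ▷ Y).f n

lemma ι₃_associator_inv (K L M : DRing.Cx A) (p q r pq qr n : ℤ) (h1 : p + q = pq)
    (h2 : q + r = qr) (h3 : pq + r = n) (h4 : p + qr = n) :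
    (K.X p ◁ ιTensorObj L M q r qr h2) ≫ ιTensorObj K (L ⊗ M) p qr n h4 ≫ (α_ K L M).inv.f n =
      (α_ (K.X p) (L.X q) (M.X r)).inv ≫ (ιTensorObj K L p q pq h1 ▷ M.X r) ≫
        ιTensorObj (K ⊗ L) M pq r n h3 := by
  have := ι₃_associator_hom K L M p q r pq qr n h1 h2 h3 h4
  rw [← cancel_epi (α_ (K.X p) (L.X q) (M.X r)).hom, Iso.hom_inv_id_assoc, ← reassoc_of% this,
    ← HomologicalComplex.comp_f, Iso.hom_inv_id, HomologicalComplex.id_f]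
  erw [Category.comp_id]

lemma V_eq (n p q r : ℤ) (h : p + q = 0) (hr : n + p = r) :
    d.V n p q h = (ρ_ (Y.X n)).inv ≫ (Y.X n ◁ d.c p q h) ≫ (α_ _ _ _).inv ≫
      ((ιTensorObj Y X n p r hr ≫ d.ev.f r) ▷ Y.X q) ≫
      ιTensorObj (𝟙_ (DRing.Cx A)) Y r q n (by omega) := by
  dsimp only [V, cι]
  rw [MonoidalCategory.whiskerLeft_comp, Category.assoc,
    reassoc_of% (ι₃_associator_inv Y X Y n p q r 0 n hr h (by omega) (add_zero n)),
    ι_whiskerRight, comp_whiskerRight]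
  simp only [Category.assoc]

lemma V_eq_zero (n p q : ℤ) (h : p + q = 0) (hp : p ≠ -n) : d.V n p q h = 0 := by
  rw [d.V_eq n p q (n + p) h rfl, d.ev_f_eq_zero (n + p) (by omega)]
  simp

lemma V_self (n p : ℤ) (h : p + n = 0) : d.V n p n h = (λ_ Y).inv.f n := by
  rw [d.V_eq n p n 0 h (by omega), ev_f, ← Category.assoc (ιTensorObj Y X n p 0 _), ι_ε₀,
    comp_whiskerRight, leftUnitor_inv_f]
  have := d.zig1 p n h
  simp only [Category.assoc]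
  rw [reassoc_of% this]
  simp

lemma zigzag1_f (n : ℤ) :
    (ρ_ Y).inv.f n ≫ (Y ◁ d.coev).f n ≫ (α_ Y X Y).inv.f n ≫ (d.ev ▷ Y).f n = (λ_ Y).inv.f n := by
  by_cases hn : -n < d.a ∨ d.a + d.N ≤ -n
  · exact (d.isZero_Y n hn).eq_of_src _ _
  · rw [rightUnitor_inv_f, Category.assoc, Category.assoc, ι_whiskerLeft_assoc, coev_f,
      ← MonoidalCategory.whiskerLeft_comp_assoc, Iso.inv_hom_id_assoc]
    dsimp only [η₀]
    rw [CategoryTheory.whiskerLeft_sum, Preadditive.sum_comp, Preadditive.comp_sum]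
    have := sum_range_collapse (fun p : ℤ => d.V n p (-p) (by omega)) d.a d.N (-n) (by omega)
      (by omega) (fun p hp => d.V_eq_zero n p (-p) (by omega) hp)
    have h2 : d.V n (-n) (- -n) (by omega) = d.V n (-n) n (by omega) := by
      congr 1; omega
    rw [h2, d.V_self n (-n) (by omega)] at this
    exact this

theorem zigzag1 : Y ◁ d.coev ≫ (α_ Y X Y).inv ≫ d.ev ▷ Y = (ρ_ Y).hom ≫ (λ_ Y).inv := by
  rw [← Iso.inv_comp_eq]
  ext n : 1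
  exact d.zigzag1_f n

/-- The exact pairing of complexes. -/
@[instance_reducible]
noncomputable def exactPairing : ExactPairing X Y where
  coevaluation' := d.coev
  evaluation' := d.ev
  coevaluation_evaluation' := d.zigzag1
  evaluation_coevaluation' := d.zigzag2

end PData

end Groth.Agent.H10.DT.Cx
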