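import Mathlib.LinearAlgebra.Contraction
import Mathlib.Algebra.Category.ModuleCat.Monoidal.Symmetric
import Mathlib.CategoryTheory.Monoidal.Rigid.Braided

/-!
# Finite projective modules are dualizable in `ModuleCat A`
-/

set_option autoImplicit false
universe u
open CategoryTheory MonoidalCategory TensorProduct

namespace Groth.Agent.H10.DT.Mod

section LinAlg

variable (R : Type u) [CommRing R] (M : Type u) [AddCommGroup M] [Module R M]
  [Module.Finite R M] [Module.Projective R M]

open Module

/-- The element of `M^* ⊗ M` corresponding to the identity. -/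
noncomputable def tId : Dual R M ⊗[R] M := (dualTensorHomEquiv R M M).symm LinearMap.id

lemma dualTensorHom_tId : dualTensorHom R M M (tId R M) = LinearMap.id :=
  (dualTensorHomEquiv R M M).apply_symm_apply LinearMap.id

/-- The coevaluation `R → M ⊗ M^*`. -/
noncomputable def coev : R →ₗ[R] M ⊗[R] Dual R M :=
  LinearMap.toSpanSingleton R _ (TensorProduct.comm R _ _ (tId R M))

lemma coev_apply (r : R) : coev R M r = r • TensorProduct.comm R _ _ (tId R M) := rfl

variable {R M}

omit [Module.Finite R M] [Module.Projective R M] in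
lemma aux1 (s : Dual R M ⊗[R] M) (x : M) :
    (contractLeft R M).lTensor M (TensorProduct.assoc R M (Dual R M) M
      ((TensorProduct.comm R _ _ s) ⊗ₜ[R] x)) = (dualTensorHom R M M s x) ⊗ₜ[R] (1 : R) := by
  induction s using TensorProduct.induction_on with
  | zero => simp
  | tmul f y =>
    simp only [comm_tmul, assoc_tmul, LinearMap.lTensor_tmul, contractLeft_apply,
      dualTensorHom_apply]
    rw [TensorProduct.smul_tmul, smul_eq_mul, mul_one]
  | add s₁ s₂ h₁ h₂ =>
    simp only [map_add, add_tmul, LinearMap.add_apply] at h₁ h₂ ⊢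
    rw [h₁, h₂]

omit [Module.Finite R M] [Module.Projective R M] in
lemma aux2 (s : Dual R M ⊗[R] M) (g : Dual R M) :
    (contractLeft R M).rTensor (Dual R M) ((TensorProduct.assoc R (Dual R M) M (Dual R M)).symm
      (g ⊗ₜ[R] (TensorProduct.comm R _ _ s))) =
      (1 : R) ⊗ₜ[R] (g ∘ₗ dualTensorHom R M M s) := by
  induction s using TensorProduct.induction_on with
  | zero => simp
  | tmul f y =>
    simp only [comm_tmul, assoc_symm_tmul, LinearMap.rTensor_tmul, contractLeft_apply]
    have : g ∘ₗ dualTensorHom R M M (f ⊗ₜ[R] y) = g y • f := by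
      ext x
      simp [dualTensorHom_apply, mul_comm]
    rw [this, TensorProduct.tmul_smul, TensorProduct.smul_tmul', smul_eq_mul, mul_one]
  | add s₁ s₂ h₁ h₂ =>
    simp only [map_add, tmul_add, LinearMap.comp_add] at h₁ h₂ ⊢
    rw [h₁, h₂]

variable (R M)

theorem contractLeft_assoc_coev :
    (contractLeft R M).rTensor _ ∘ₗ
        (TensorProduct.assoc R _ _ _).symm.toLinearMap ∘ₗ
          (coev R M).lTensor (Module.Dual R M) =
      (TensorProduct.lid R _).symm.toLinearMap ∘ₗ (TensorProduct.rid R _).toLinearMap := by
  apply TensorProduct.ext'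
  intro g r
  simp only [LinearMap.coe_comp, Function.comp_apply, LinearEquiv.coe_toLinearMap,
    LinearMap.lTensor_tmul, coev_apply, rid_tmul, lid_symm_apply]
  rw [TensorProduct.tmul_smul, map_smul, map_smul, aux2, dualTensorHom_tId, LinearMap.comp_id,
    ← TensorProduct.tmul_smul]

theorem contractLeft_assoc_coev' :
    (contractLeft R M).lTensor _ ∘ₗ
        (TensorProduct.assoc R _ _ _).toLinearMap ∘ₗ (coev R M).rTensor M =
      (TensorProduct.rid R _).symm.toLinearMap ∘ₗ (TensorProduct.lid R _).toLinearMap := by
  apply TensorProduct.ext'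
  intro r x
  simp only [LinearMap.coe_comp, Function.comp_apply, LinearEquiv.coe_toLinearMap,
    LinearMap.rTensor_tmul, coev_apply, lid_tmul, rid_symm_apply]
  rw [← TensorProduct.smul_tmul', map_smul, map_smul, aux1, dualTensorHom_tId, LinearMap.id_apply,
    TensorProduct.smul_tmul']

end LinAlg

section Cat

variable {A : Type u} [CommRing A] (P : ModuleCat.{u} A) [Module.Finite A P] [Module.Projective A P]

/-- The dual module as an object of `ModuleCat A`. -/
noncomputable def dualObj : ModuleCat.{u} A := ModuleCat.of A (Module.Dual A P)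

/-- The coevaluation. -/
noncomputable def coevCat : 𝟙_ (ModuleCat.{u} A) ⟶ P ⊗ dualObj P :=
  ModuleCat.ofHom (coev A P)

/-- The evaluation. -/
noncomputable def evCat : dualObj P ⊗ P ⟶ 𝟙_ (ModuleCat.{u} A) :=
  ModuleCat.ofHom (contractLeft A P)

theorem coevaluation_evaluation :
    dualObj P ◁ coevCat P ≫ (α_ (dualObj P) P (dualObj P)).inv ≫ evCat P ▷ dualObj P =
      (ρ_ (dualObj P)).hom ≫ (λ_ (dualObj P)).inv := by
  ext : 1
  apply contractLeft_assoc_coev A P

theorem evaluation_coevaluation :
    coevCat P ▷ P ≫ (α_ P (dualObj P) P).hom ≫ P ◁ evCat P = (λ_ P).hom ≫ (ρ_ P).inv := by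
  ext : 1
  apply contractLeft_assoc_coev' A P

/-- Finite projective modules have duals. -/
@[instance_reducible]
noncomputable def exactPairing : ExactPairing P (dualObj P) where
  coevaluation' := coevCat P
  evaluation' := evCat P
  coevaluation_evaluation' := coevaluation_evaluation P
  evaluation_coevaluation' := evaluation_coevaluation P

/-- Finite projective modules have right duals. -/
@[instance_reducible]
noncomputable def hasRightDual : HasRightDual P :=
  letI := exactPairing P
  ⟨dualObj P⟩

/-- Finite projective modules have left duals. -/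
@[instance_reducible]
noncomputable def hasLeftDual : HasLeftDual P :=
  letI := hasRightDual P
  BraidedCategory.hasLeftDualOfHasRightDual

end Cat

end Groth.Agent.H10.DT.Mod
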