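import Groth.Agent.H10.DT4b
import Groth.Agent.H10.DT4c

set_option autoImplicit false
universe u
open CategoryTheory CategoryTheory.Limits MonoidalCategory HomologicalComplex

namespace Groth.Agent.H10.DT.Cx

variable {A : Type u} [CommRing A]

section Mates

variable {C : Type*} [Category C] [MonoidalCategory C] [Preadditive C] [MonoidalPreadditive C]

lemma rightAdjointMate_zero {P Q : C} [HasRightDual P] [HasRightDual Q] :
    ((0 : P ⟶ Q)ᘁ) = 0 := by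
  simp [rightAdjointMate]

lemma leftAdjointMate_zero {P Q : C} [HasLeftDual P] [HasLeftDual Q] :
    (ᘁ(0 : P ⟶ Q)) = 0 := by
  simp [leftAdjointMate]

lemma isZero_rightDual {P : C} [HasRightDual P] (h : IsZero P) : IsZero (Pᘁ) := by
  rw [IsZero.iff_id_eq_zero, ← rightAdjointMate_id, h.eq_of_src (𝟙 P) 0, rightAdjointMate_zero]

lemma isZero_leftDual {P : C} [HasLeftDual P] (h : IsZero P) : IsZero (ᘁP) := by
  rw [IsZero.iff_id_eq_zero, ← leftAdjointMate_id, h.eq_of_src (𝟙 P) 0, leftAdjointMate_zero]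

end Mates

section RightDual

variable (E : DRing.Cx A) [∀ p, HasRightDual (E.X p)]

/-- The right dual complex. -/
noncomputable def rd : DRing.Cx A :=
  CochainComplex.of (fun q : ℤ => (E.X (-q))ᘁ)
    (fun q => (q + 1).negOnePow • (E.d (-(q + 1)) (-q))ᘁ)
    (fun q => by
      rw [Linear.units_smul_comp, Linear.comp_units_smul, ← comp_rightAdjointMate, E.d_comp_d,
        rightAdjointMate_zero, smul_zero, smul_zero])

lemma rd_X (q : ℤ) : (rd E).X q = (E.X (-q))ᘁ := rfl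

lemma rd_d (q : ℤ) :
    (rd E).d q (q + 1) = (q + 1).negOnePow • (E.d (-(q + 1)) (-q))ᘁ :=
  CochainComplex.of_d (fun q : ℤ => (E.X (-q))ᘁ)
    (fun q => (q + 1).negOnePow • (E.d (-(q + 1)) (-q))ᘁ) q

/-- The index isomorphism. -/
noncomputable abbrev ix (p q : ℤ) (h : p + q = 0) : E.X p ≅ E.X (-q) :=
  E.XIsoOfEq (by omega)

/-- The differential of the right dual, typed with duals. -/
noncomputable def rdD (q q' : ℤ) : (E.X (-q))ᘁ ⟶ (E.X (-q'))ᘁ := (rd E).d q q'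

lemma rdD_eq (q : ℤ) : rdD E q (q + 1) = (q + 1).negOnePow • (E.d (-(q + 1)) (-q))ᘁ := rd_d E q

/-- Coevaluation components. -/
noncomputable def rdC (p q : ℤ) (h : p + q = 0) :
    𝟙_ (ModuleCat.{u} A) ⟶ E.X p ⊗ (E.X (-q))ᘁ :=
  η_ (E.X (-q)) ((E.X (-q))ᘁ) ≫ ((ix E p q h).inv ▷ ((E.X (-q))ᘁ))

/-- Evaluation components. -/
noncomputable def rdE (p q : ℤ) (h : p + q = 0) :
    (E.X (-q))ᘁ ⊗ E.X p ⟶ 𝟙_ (ModuleCat.{u} A) :=
  (((E.X (-q))ᘁ) ◁ (ix E p q h).hom) ≫ ε_ (E.X (-q)) ((E.X (-q))ᘁ)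

lemma rdC_self (q : ℤ) : rdC E (-q) q (by omega) = η_ (E.X (-q)) ((E.X (-q))ᘁ) := by
  dsimp only [rdC, ix]
  rw [XIsoOfEq_rfl]
  simp

lemma rdE_self (q : ℤ) : rdE E (-q) q (by omega) = ε_ (E.X (-q)) ((E.X (-q))ᘁ) := by
  dsimp only [rdE, ix]
  rw [XIsoOfEq_rfl]
  simp

lemma rd_D1 (p q p' q' : ℤ) (h : p + q = 0) (h' : p' + q' = 0) (hp : p + 1 = p') :
    rdC E p q h ≫ (E.d p p' ▷ (E.X (-q))ᘁ) +
      p'.negOnePow • (rdC E p' q' h' ≫ (E.X p' ◁ rdD E q' q)) = 0 := by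
  obtain rfl : p = -q := by omega
  obtain rfl : p' = -q' := by omega
  obtain rfl : q = q' + 1 := by omega
  rw [rdC_self, rdC_self, rdD_eq]
  have := coevaluation_comp_rightAdjointMate (E.d (-(q' + 1)) (-q'))
  have h2 : E.X (-q') ◁ ((q' + 1).negOnePow • (E.d (-(q' + 1)) (-q'))ᘁ) =
      (q' + 1).negOnePow • (E.X (-q') ◁ (E.d (-(q' + 1)) (-q'))ᘁ) :=
    (tensorLeft (E.X (-q'))).map_units_smul _ _
  rw [h2, Linear.comp_units_smul, smul_smul, this, Int.negOnePow_neg, Int.negOnePow_succ,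
    mul_neg, ← Int.negOnePow_add, ← two_mul, Int.negOnePow_two_mul]
  simp

lemma rd_D2 (p q p' q' : ℤ) (h : p + q' = 0) (h' : p' + q = 0) (hp : p + 1 = p') :
    (rdD E q q' ▷ E.X p) ≫ rdE E p q' h +
      q.negOnePow • (((E.X (-q))ᘁ ◁ E.d p p') ≫ rdE E p' q h') = 0 := by
  obtain rfl : p = -q' := by omega
  obtain rfl : p' = -q := by omega
  obtain rfl : q' = q + 1 := by omega
  rw [rdE_self, rdE_self, rdD_eq]
  have := rightAdjointMate_comp_evaluation (E.d (-(q + 1)) (-q))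
  have h2 : ((q + 1).negOnePow • (E.d (-(q + 1)) (-q))ᘁ) ▷ E.X (-(q + 1)) =
      (q + 1).negOnePow • ((E.d (-(q + 1)) (-q))ᘁ ▷ E.X (-(q + 1))) :=
    (tensorRight (E.X (-(q + 1)))).map_units_smul _ _
  rw [h2, Linear.units_smul_comp, this, Int.negOnePow_succ]
  simp

lemma rd_zig1 (p q : ℤ) (h : p + q = 0) :
    ((E.X (-q))ᘁ ◁ rdC E p q h) ≫ (α_ _ _ _).inv ≫ (rdE E p q h ▷ (E.X (-q))ᘁ) =
      (ρ_ _).hom ≫ (λ_ _).inv :=
  (exactPairingCongrLeft (X' := E.X (-q)) (Y := (E.X (-q))ᘁ) (ix E p q h)).coevaluation_evaluation'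

lemma rd_zig2 (p q : ℤ) (h : p + q = 0) :
    (rdC E p q h ▷ E.X p) ≫ (α_ _ _ _).hom ≫ (E.X p ◁ rdE E p q h) =
      (λ_ _).hom ≫ (ρ_ _).inv :=
  (exactPairingCongrLeft (X' := E.X (-q)) (Y := (E.X (-q))ᘁ) (ix E p q h)).evaluation_coevaluation'

/-- The pairing data between `E` and its right dual. -/
noncomputable def rdPData (a : ℤ) (N : ℕ) (hE : ∀ p : ℤ, p < a ∨ a + N ≤ p → IsZero (E.X p)) :
    PData E (rd E) where
  c := rdC E
  e := rdE E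
  zig1 := rd_zig1 E
  zig2 := rd_zig2 E
  D1 := rd_D1 E
  D2 := rd_D2 E
  a := a
  N := N
  supp := hE

end RightDual

section LeftDual

variable (E : DRing.Cx A) [∀ p, HasLeftDual (E.X p)]

/-- The left dual complex. -/
noncomputable def ld : DRing.Cx A :=
  CochainComplex.of (fun q : ℤ => ᘁ(E.X (-q)))
    (fun q => q.negOnePow • ᘁ(E.d (-(q + 1)) (-q)))
    (fun q => by
      rw [Linear.units_smul_comp, Linear.comp_units_smul, ← comp_leftAdjointMate, E.d_comp_d,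
        leftAdjointMate_zero, smul_zero, smul_zero])

lemma ld_d (q : ℤ) :
    (ld E).d q (q + 1) = q.negOnePow • ᘁ(E.d (-(q + 1)) (-q)) :=
  CochainComplex.of_d (fun q : ℤ => ᘁ(E.X (-q)))
    (fun q => q.negOnePow • ᘁ(E.d (-(q + 1)) (-q))) q

/-- The index isomorphism. -/
noncomputable abbrev jx (p q : ℤ) (h : p + q = 0) : E.X q ≅ E.X (-p) :=
  E.XIsoOfEq (by omega)

/-- The differential of the left dual, typed with duals. -/
noncomputable def ldD (q q' : ℤ) : (ᘁ(E.X (-q))) ⟶ ᘁ(E.X (-q')) := (ld E).d q q'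

lemma ldD_eq (q : ℤ) : ldD E q (q + 1) = q.negOnePow • ᘁ(E.d (-(q + 1)) (-q)) := ld_d E q

/-- Coevaluation components. -/
noncomputable def ldC (p q : ℤ) (h : p + q = 0) :
    𝟙_ (ModuleCat.{u} A) ⟶ (ᘁ(E.X (-p))) ⊗ E.X q :=
  η_ (ᘁ(E.X (-p))) (E.X (-p)) ≫ ((ᘁ(E.X (-p))) ◁ (jx E p q h).inv)

/-- Evaluation components. -/
noncomputable def ldE (p q : ℤ) (h : p + q = 0) :
    E.X q ⊗ (ᘁ(E.X (-p))) ⟶ 𝟙_ (ModuleCat.{u} A) :=
  ((jx E p q h).hom ▷ (ᘁ(E.X (-p)))) ≫ ε_ (ᘁ(E.X (-p))) (E.X (-p))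

lemma ldC_self (p : ℤ) : ldC E p (-p) (by omega) = η_ (ᘁ(E.X (-p))) (E.X (-p)) := by
  dsimp only [ldC, jx]
  rw [XIsoOfEq_rfl]
  simp

lemma ldE_self (p : ℤ) : ldE E p (-p) (by omega) = ε_ (ᘁ(E.X (-p))) (E.X (-p)) := by
  dsimp only [ldE, jx]
  rw [XIsoOfEq_rfl]
  simp

lemma ld_D1 (p q p' q' : ℤ) (h : p + q = 0) (h' : p' + q' = 0) (hp : p + 1 = p') :
    ldC E p q h ≫ (ldD E p p' ▷ E.X q) +
      p'.negOnePow • (ldC E p' q' h' ≫ ((ᘁ(E.X (-p'))) ◁ E.d q' q)) = 0 := by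
  obtain rfl : q = -p := by omega
  obtain rfl : q' = -p' := by omega
  obtain rfl : p' = p + 1 := by omega
  rw [ldC_self, ldC_self, ldD_eq]
  have := coevaluation_comp_leftAdjointMate (E.d (-(p + 1)) (-p))
  have h2 : (p.negOnePow • ᘁ(E.d (-(p + 1)) (-p))) ▷ E.X (-p) =
      p.negOnePow • ((ᘁ(E.d (-(p + 1)) (-p))) ▷ E.X (-p)) :=
    (tensorRight (E.X (-p))).map_units_smul _ _
  rw [h2, Linear.comp_units_smul, this, Int.negOnePow_succ]
  simp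

lemma ld_D2 (p q p' q' : ℤ) (h : p + q' = 0) (h' : p' + q = 0) (hp : p + 1 = p') :
    (E.d q q' ▷ (ᘁ(E.X (-p)))) ≫ ldE E p q' h +
      q.negOnePow • ((E.X q ◁ ldD E p p') ≫ ldE E p' q h') = 0 := by
  obtain rfl : q' = -p := by omega
  obtain rfl : q = -p' := by omega
  obtain rfl : p' = p + 1 := by omega
  rw [ldE_self, ldE_self, ldD_eq]
  have := leftAdjointMate_comp_evaluation (E.d (-(p + 1)) (-p))
  have h2 : E.X (-(p + 1)) ◁ (p.negOnePow • ᘁ(E.d (-(p + 1)) (-p))) =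
      p.negOnePow • (E.X (-(p + 1)) ◁ ᘁ(E.d (-(p + 1)) (-p))) :=
    (tensorLeft (E.X (-(p + 1)))).map_units_smul _ _
  rw [h2, Linear.units_smul_comp, this, smul_smul, Int.negOnePow_neg, Int.negOnePow_succ,
    neg_mul, ← Int.negOnePow_add, ← two_mul, Int.negOnePow_two_mul]
  simp

lemma ld_zig1 (p q : ℤ) (h : p + q = 0) :
    (E.X q ◁ ldC E p q h) ≫ (α_ _ _ _).inv ≫ (ldE E p q h ▷ E.X q) =
      (ρ_ _).hom ≫ (λ_ _).inv :=
  (exactPairingCongrRight (X := ᘁ(E.X (-p))) (Y' := E.X (-p))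
    (jx E p q h)).coevaluation_evaluation'

lemma ld_zig2 (p q : ℤ) (h : p + q = 0) :
    (ldC E p q h ▷ (ᘁ(E.X (-p)))) ≫ (α_ _ _ _).hom ≫ ((ᘁ(E.X (-p))) ◁ ldE E p q h) =
      (λ_ _).hom ≫ (ρ_ _).inv :=
  (exactPairingCongrRight (X := ᘁ(E.X (-p))) (Y' := E.X (-p))
    (jx E p q h)).evaluation_coevaluation'

/-- The pairing data between the left dual and `E`. -/
noncomputable def ldPData (a : ℤ) (N : ℕ)
    (hE : ∀ p : ℤ, p < a ∨ a + N ≤ p → IsZero ((ld E).X p)) :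
    PData (ld E) E where
  c := ldC E
  e := ldE E
  zig1 := ld_zig1 E
  zig2 := ld_zig2 E
  D1 := ld_D1 E
  D2 := ld_D2 E
  a := a
  N := N
  supp := hE

end LeftDual

end Groth.Agent.H10.DT.Cx
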