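import Groth.Agent.H10.DT2
import Groth.Agent.H10.DT3
import Groth.Agent.H10.DT4d
import Groth.Agent.H35.KFBounded

set_option autoImplicit false
universe u
open CategoryTheory CategoryTheory.Limits MonoidalCategory
attribute [local instance] HasDerivedCategory.standard

namespace Groth.Agent.H10.DT

open DTen Groth.Agent.H45.MultiDer.DTenC

variable {A : Type u} [CommRing A] [DTen.HasLTen A] [DTen.HasLTen₃ A] [DTen.IsSymMonoidal A]
  [DTen.HasRHom A]

attribute [local instance] monoidal

/-- The adjunction `- ⊗^L M ⊣ RHom(M, -)` in terms of the monoidal structure. -/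
noncomputable def rAdj (M : Dual.D A) : tensorRight M ⊣ RHomR A M := rhomAdj A M

lemma evalTen_eq (K L M : Dual.D A) : evalTen K L M = Gen.evT K M (rAdj M) L := rfl

theorem isIso_evalTen_of_exactPairing_left (K K' : Dual.D A) [ExactPairing K K'] (L M : Dual.D A) :
    IsIso (evalTen K L M) := by
  rw [evalTen_eq]
  exact Gen.isIso_evT_left K K' M (rAdj M) L

theorem isIso_evalTen_of_exactPairing_right (M M' : Dual.D A) [ExactPairing M M'] (K L : Dual.D A) :
    IsIso (evalTen K L M) := by
  rw [evalTen_eq]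
  exact Gen.isIso_evT_right K M M' (rAdj M) L

/-- The symmetry as a natural isomorphism `K ⊗ - ≅ - ⊗ K`. -/
noncomputable def sigmaIso (K : Dual.D A) : tensorLeft K ≅ tensorRight K :=
  NatIso.ofComponents (fun X => (braiding X K)) (by
    intro X Y f
    exact (symm A).naturality (Prod.mkHom f (𝟙 K) : (X, K) ⟶ (Y, K)))

lemma evalHom_eq (K L M : Dual.D A) :
    evalHom K L M = Gen.evH K (rAdj K) (sigmaIso K) L (rAdj L) (rAdj ((RHomR A K).obj L)) M := rfl

theorem isIso_evalHom_of_exactPairing (K K'' : Dual.D A) [ExactPairing K'' K] (L M : Dual.D A) :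
    IsIso (evalHom K L M) := by
  rw [evalHom_eq]
  exact Gen.isIso_evH K K'' (rAdj K) (sigmaIso K) L (rAdj L) (rAdj ((RHomR A K).obj L)) M

section Perfect

open Groth.Agent.H10.DT.Cx

omit [DTen.HasLTen A] [DTen.HasLTen₃ A] [DTen.IsSymMonoidal A] [DTen.HasRHom A] in
lemma isKFlat_of_bounded_flat (E : DRing.Cx A) (b : ℤ) (hb : ∀ i : ℤ, b < i → IsZero (E.X i))
    (hflat : ∀ n : ℤ, Module.Flat A (E.X n)) : DRing.IsKFlat A E := by
  have : E.IsStrictlyLE b := (CochainComplex.isStrictlyLE_iff E b).2 hb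
  exact Groth.Agent.H35.KF.isKFlat_of_isStrictlyLE E b hflat

omit [DTen.HasRHom A] in
/-- A perfect object of `D(A)` has a right dual and a left dual for the derived tensor
product. -/
theorem exists_exactPairing_of_isPerfect (K : Dual.D A) (hK : DRing.IsPerfect A K) :
    ∃ K' K'' : Dual.D A, Nonempty (ExactPairing K K') ∧ Nonempty (ExactPairing K'' K) := by
  obtain ⟨E, a, b, hv, hfp, ⟨e⟩⟩ := hK
  have hfin : ∀ p, Module.Finite A (E.X p) := fun p => (hfp p).1
  have hproj : ∀ p, Module.Projective A (E.X p) := fun p => (hfp p).2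
  let _ : ∀ p, HasRightDual (E.X p) := fun p => Mod.hasRightDual (E.X p)
  let _ : ∀ p, HasLeftDual (E.X p) := fun p => Mod.hasLeftDual (E.X p)
  have hE : ∀ p : ℤ, p < a ∨ a + ((b + 1 - a).toNat : ℤ) ≤ p → IsZero (E.X p) := by
    intro p hp
    apply hv
    omega
  have hE' : ∀ p : ℤ, p < -b ∨ -b + ((b + 1 - a).toNat : ℤ) ≤ p → IsZero ((ld E).X p) := by
    intro p hp
    apply isZero_leftDual
    apply hv
    omega
  let P1 : ExactPairing E (rd E) := (rdPData E a (b + 1 - a).toNat hE).exactPairing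
  let P2 : ExactPairing (ld E) E := (ldPData E (-b) (b + 1 - a).toNat hE').exactPairing
  have hkf : DRing.IsKFlat A E :=
    isKFlat_of_bounded_flat E b (fun i hi => hv i (Or.inr hi)) (fun n => inferInstance)
  have hkf' : DRing.IsKFlat A (ld E) := by
    refine isKFlat_of_bounded_flat (ld E) (-a) (fun i hi => ?_) (fun n => ?_)
    · apply isZero_leftDual
      apply hv
      omega
    · change Module.Flat A (Module.Dual A (E.X (-n)))
      infer_instance
  let Q1 : ExactPairing (q E) (q (rd E)) := exactPairingQ E (rd E) hkf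
  let Q2 : ExactPairing (q (ld E)) (q E) := exactPairingQ (ld E) E hkf'
  exact ⟨q (rd E), q (ld E), ⟨exactPairingCongrLeft e.symm⟩, ⟨exactPairingCongrRight e.symm⟩⟩

end Perfect

/-- S13892. -/
theorem isIso_evalTen_of_isPerfect_left (K L M : Dual.D A) (hK : DRing.IsPerfect A K) :
    IsIso (evalTen K L M) := by
  obtain ⟨K', -, ⟨P⟩, -⟩ := exists_exactPairing_of_isPerfect K hK
  exact isIso_evalTen_of_exactPairing_left K K' L M

/-- S13891. -/
theorem isIso_evalTen_of_isPerfect_right (K L M : Dual.D A) (hM : DRing.IsPerfect A M) :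
    IsIso (evalTen K L M) := by
  obtain ⟨M', -, ⟨P⟩, -⟩ := exists_exactPairing_of_isPerfect M hM
  exact isIso_evalTen_of_exactPairing_right M M' K L

/-- S13889. -/
theorem isIso_evalHom_of_isPerfect (K L M : Dual.D A) (hK : DRing.IsPerfect A K) :
    IsIso (evalHom K L M) := by
  obtain ⟨-, K'', -, ⟨P⟩⟩ := exists_exactPairing_of_isPerfect K hK
  exact isIso_evalHom_of_exactPairing K K'' L M

end Groth.Agent.H10.DT
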