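import Mathlib
import Groth.Agent.S2364
import Groth.Agent.S12209
import Groth.Agent.H20.ComplNoeth2
import Groth.Agent.H2.FlatPow
import Groth.Agent.H26.RegularEtale

/-! Direct limits of Noetherian local rings along flat local maps generating the maximal ideals
are Noetherian (EGA 0_III 10.3.1.3). -/

set_option autoImplicit false
set_option linter.style.haveILetI false
universe u

open TensorProduct IsLocalRing

namespace Groth.Agent.H10.DLN

section OfFlat

variable {ι : Type u} [Preorder ι] [Nonempty ι] [IsDirected ι (· ≤ ·)]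
  (G : ι → Type u) [∀ i, CommRing (G i)]
  (f : ∀ i j, i ≤ j → G i →+* G j) [DirectedSystem G fun i j h => f i j h]

/-- The canonical maps into a direct limit along flat maps are flat. -/
theorem of_flat (hflat : ∀ i j (h : i ≤ j), (f i j h).Flat) (i : ι) :
    (Ring.DirectLimit.of G (fun i j h => f i j h) i).Flat := by
  classical
  set F : ∀ i j, i ≤ j → G i → G j := fun i j h => f i j h with hF
  letI := (Ring.DirectLimit.of G F i).toAlgebra
  change Module.Flat (G i) (Ring.DirectLimit G F)
  have hcomp : ∀ i j k (hij : i ≤ j) (hjk : j ≤ k) (x : G i),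
      f j k hjk (f i j hij x) = f i k (hij.trans hjk) x := by
    intro i j k hij hjk x
    exact DirectedSystem.map_map (f := fun i j h => f i j h) hij hjk x
  apply Module.Flat.of_forall_isTrivialRelation
  intro l r x h
  have hex : ∀ j : Fin l, ∃ (i' : ι) (g : G i'), Ring.DirectLimit.of G F i' g = x j :=
    fun j => Ring.DirectLimit.exists_of (x j)
  choose idx g hg using hex
  obtain ⟨i₁, hi₁⟩ := Finset.exists_le (insert i (Finset.univ.image idx))
  have hii₁ : i ≤ i₁ := hi₁ _ (Finset.mem_insert_self _ _)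
  have hi' : ∀ j, idx j ≤ i₁ := fun j =>
    hi₁ _ (Finset.mem_insert_of_mem (Finset.mem_image_of_mem _ (Finset.mem_univ j)))
  let z : Fin l → G i₁ := fun j => f (idx j) i₁ (hi' j) (g j)
  have hz : ∀ j, Ring.DirectLimit.of G F i₁ (z j) = x j := by
    intro j
    rw [← hg j]
    exact Ring.DirectLimit.of_f (f := F) (hi' j) (g j)
  have hsmul : ∀ (c : G i) (m : Ring.DirectLimit G F),
      c • m = Ring.DirectLimit.of G F i c * m := fun _ _ => rfl
  have hofi : ∀ c : G i, Ring.DirectLimit.of G F i c = Ring.DirectLimit.of G F i₁ (f i i₁ hii₁ c) :=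
    fun c => (Ring.DirectLimit.of_f (f := F) hii₁ c).symm
  have h0 : Ring.DirectLimit.of G F i₁ (∑ j, f i i₁ hii₁ (r j) * z j) = 0 := by
    rw [map_sum, ← h]
    refine Finset.sum_congr rfl fun j _ => ?_
    rw [map_mul, hz, hsmul, hofi]
  obtain ⟨i₂, h12, h2⟩ := Ring.DirectLimit.of.zero_exact (f' := f) h0
  have hii₂ : i ≤ i₂ := hii₁.trans h12
  letI := (f i i₂ hii₂).toAlgebra
  haveI : Module.Flat (G i) (G i₂) := hflat i i₂ hii₂
  let z' : Fin l → G i₂ := fun j => f i₁ i₂ h12 (z j)
  have h3 : ∑ j, r j • z' j = 0 := by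
    rw [map_sum] at h2
    rw [← h2]
    refine Finset.sum_congr rfl fun j _ => ?_
    rw [map_mul, hcomp]
    rfl
  obtain ⟨k, a, y, hxy, ha⟩ :=
    Module.Flat.isTrivialRelation_of_sum_smul_eq_zero (R := G i) (M := G i₂) (f := r) (x := z') h3
  refine ⟨k, a, fun t => Ring.DirectLimit.of G F i₂ (y t), ?_, ha⟩
  intro j
  have h4 : x j = Ring.DirectLimit.of G F i₂ (z' j) := by
    rw [← hz j]
    exact (Ring.DirectLimit.of_f (f := F) h12 (z j)).symm
  rw [h4, hxy j, map_sum]
  refine Finset.sum_congr rfl fun t _ => ?_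
  rw [hsmul, Ring.DirectLimit.of_f (f := F) hii₂ (a j t) |>.symm, ← map_mul]
  rfl

end OfFlat

section BaseChangeBij

variable {R : Type*} [CommRing R] (J : Ideal R) {M N : Type*} [AddCommGroup M] [Module R M]
  [AddCommGroup N] [Module R N] (φ : M →ₗ[R] N)

/-- If `φ : M → N` induces a bijection `M/JM → N/JN` then `(R/J) ⊗ φ` is bijective. -/
theorem baseChange_bijective_of_quotient
    (ha : ∀ n : N, ∃ m : M, n - φ m ∈ (J • ⊤ : Submodule R N))
    (hb : ∀ m : M, φ m ∈ (J • ⊤ : Submodule R N) → m ∈ (J • ⊤ : Submodule R M)) :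
    Function.Bijective (LinearMap.baseChange (R ⧸ J) φ) := by
  have hle : (J • ⊤ : Submodule R M) ≤ (J • ⊤ : Submodule R N).comap φ := by
    rw [← Submodule.map_le_iff_le_comap, Submodule.map_smul'']
    exact Submodule.smul_mono le_rfl le_top
  let ψ : (M ⧸ (J • ⊤ : Submodule R M)) →ₗ[R] (N ⧸ (J • ⊤ : Submodule R N)) :=
    Submodule.mapQ _ _ φ hle
  have hψ : Function.Bijective ψ := by
    constructor
    · rw [injective_iff_map_eq_zero]
      intro x hx
      obtain ⟨m, rfl⟩ := Submodule.Quotient.mk_surjective _ x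
      rw [Submodule.mapQ_apply, Submodule.Quotient.mk_eq_zero] at hx
      rw [Submodule.Quotient.mk_eq_zero]
      exact hb m hx
    · intro y
      obtain ⟨n, rfl⟩ := Submodule.Quotient.mk_surjective _ y
      obtain ⟨m, hm⟩ := ha n
      refine ⟨Submodule.Quotient.mk m, ?_⟩
      rw [Submodule.mapQ_apply, eq_comm, Submodule.Quotient.eq]
      exact hm
  let eM := TensorProduct.quotTensorEquivQuotSMul M J
  let eN := TensorProduct.quotTensorEquivQuotSMul N J
  have hcomp : (LinearMap.baseChange (R ⧸ J) φ).restrictScalars R =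
      eN.symm.toLinearMap ∘ₗ ψ ∘ₗ eM.toLinearMap := by
    apply TensorProduct.ext'
    intro x m
    obtain ⟨r, rfl⟩ := Ideal.Quotient.mk_surjective x
    simp only [LinearMap.restrictScalars_apply, LinearMap.baseChange_tmul, LinearMap.comp_apply,
      LinearEquiv.coe_coe]
    rw [show eM (Ideal.Quotient.mk J r ⊗ₜ[R] m) = Submodule.Quotient.mk (r • m) from
      TensorProduct.quotTensorEquivQuotSMul_mk_tmul J r m]
    rw [Submodule.mapQ_apply, map_smul]
    rw [show eN.symm (Submodule.Quotient.mk (r • φ m)) = 1 ⊗ₜ[R] (r • φ m) from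
      TensorProduct.quotTensorEquivQuotSMul_symm_mk J (r • φ m)]
    rw [TensorProduct.tmul_smul, TensorProduct.smul_tmul']
    congr 1
    rw [Algebra.smul_def, mul_one]
    rfl
  have hfun : ⇑(LinearMap.baseChange (R ⧸ J) φ) = ⇑eN.symm ∘ ⇑ψ ∘ ⇑eM := by
    funext x
    exact congrArg (fun g => g x) hcomp
  rw [hfun]
  exact eN.symm.bijective.comp (hψ.comp eM.bijective)

end BaseChangeBij

section Main

variable {ι : Type u} [Preorder ι] [Nonempty ι] [IsDirected ι (· ≤ ·)]
  (G : ι → Type u) [∀ i, CommRing (G i)] [∀ i, IsLocalRing (G i)]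
  (f : ∀ i j, i ≤ j → G i →+* G j) [DirectedSystem G fun i j h => f i j h]

theorem main (hloc : ∀ i j (h : i ≤ j), IsLocalHom (f i j h))
    [∀ i, IsNoetherianRing (G i)]
    (hmax : ∀ i j (h : i ≤ j),
      (maximalIdeal (G i)).map (f i j h) = maximalIdeal (G j))
    (hflat : ∀ i j (h : i ≤ j), (f i j h).Flat) :
    IsNoetherianRing (Ring.DirectLimit G fun i j h => f i j h) ∧
      ∀ i, (Ring.DirectLimit.of G (fun i j h => f i j h) i).Flat := by
  refine ⟨?_, of_flat G f hflat⟩
  obtain ⟨hlocal, hlocHom, hmaxD⟩ := Groth.Agent.S2364.result G f hloc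
  haveI := hlocal
  have hmaxD' := hmaxD hmax
  set D := Ring.DirectLimit G fun i j h => f i j h with hD
  have hfg : (maximalIdeal D).FG := by
    obtain ⟨i⟩ := ‹Nonempty ι›
    rw [← hmaxD' i]
    exact Ideal.FG.map (IsNoetherian.noetherian (maximalIdeal (G i))) _
  haveI : IsNoetherianRing (D ⧸ maximalIdeal D) := by
    letI : Field (D ⧸ maximalIdeal D) := Ideal.Quotient.field _
    infer_instance
  let Dh := AdicCompletion (maximalIdeal D) D
  haveI hN : IsNoetherianRing Dh :=
    Groth.Agent.H20.isNoetherianRing_adicCompletion_of_fg (maximalIdeal D) hfg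
  haveI : IsLocalRing Dh := AdicCompletion.isLocalRing_of_fg hfg
  haveI : IsLocalHom (algebraMap D Dh) := AdicCompletion.algebraMap_isLocalHom_of_fg hfg
  have key : ∀ i, letI : Module (G i) Dh :=
      Module.compHom Dh (Ring.DirectLimit.of G (fun i j h => f i j h) i)
      Module.Flat (G i) Dh := by
    intro i
    set φi := Ring.DirectLimit.of G (fun i j h => f i j h) i with hφi
    letI algD : Algebra (G i) D := φi.toAlgebra
    letI algDh : Algebra (G i) Dh := Algebra.compHom Dh φi
    haveI tow : IsScalarTower (G i) D Dh := ⟨fun c d x => by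
      change (φi c * d) • x = φi c • (d • x)
      rw [mul_smul]⟩
    haveI hfl : Module.Flat (G i) D := of_flat G f hflat i
    change Module.Flat (G i) Dh
    have hmapJ : ∀ n : ℕ, (maximalIdeal (G i) ^ n).map (algebraMap (G i) D) = maximalIdeal D ^ n := by
      intro n
      rw [Ideal.map_pow]
      congr 1
      exact hmaxD' i
    have hsm : ∀ (n : ℕ) (X : Type u) [AddCommGroup X] [Module D X] [Module (G i) X]
        [IsScalarTower (G i) D X] (x : X),
        x ∈ (maximalIdeal (G i) ^ n • ⊤ : Submodule (G i) X) ↔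
          x ∈ (maximalIdeal D ^ n • ⊤ : Submodule D X) := by
      intro n X _ _ _ _ x
      have h1 := Ideal.smul_restrictScalars (maximalIdeal (G i) ^ n) (⊤ : Submodule D X)
      rw [Submodule.restrictScalars_top, hmapJ n] at h1
      rw [← h1, Submodule.restrictScalars_mem]
    apply Groth.Agent.H2.flat_of_flat_quotient_pow (R := G i) (S := Dh) (M := Dh)
      (maximalIdeal (G i))
    · rw [IsLocalRing.jacobson_eq_maximalIdeal ⊥ bot_ne_top, Ideal.map_le_iff_le_comap]
      intro c hc
      rw [Ideal.mem_comap, mem_maximalIdeal, mem_nonunits_iff]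
      rw [mem_maximalIdeal, mem_nonunits_iff] at hc
      intro hu
      apply hc
      have h1 : IsUnit (φi c) := isUnit_of_map_unit (algebraMap D Dh) (φi c) hu
      haveI := hlocHom i
      exact isUnit_of_map_unit φi c h1
    · intro n hn
      let ψ : D →ₗ[G i] Dh := (Algebra.linearMap D Dh).restrictScalars (G i)
      have hψ : ∀ d : D, ψ d = AdicCompletion.of (maximalIdeal D) D d := by
        intro d
        change algebraMap D Dh d = _
        rw [AdicCompletion.algebraMap_apply]
        rfl
      have hker := AdicCompletion.pow_smul_top_eq_ker_eval (I := maximalIdeal D) (M := D)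
        (n := n) hfg
      have hbij : Function.Bijective
          (LinearMap.baseChange (G i ⧸ maximalIdeal (G i) ^ n) ψ) := by
        apply baseChange_bijective_of_quotient
        · intro x
          obtain ⟨d, hd⟩ := Submodule.Quotient.mk_surjective _
            (AdicCompletion.eval (maximalIdeal D) D n x)
          refine ⟨d, ?_⟩
          rw [hsm n Dh, hker, LinearMap.mem_ker, map_sub, hψ, AdicCompletion.eval_of,
            Submodule.mkQ_apply, hd, sub_self]
        · intro d hd
          rw [hsm n Dh, hker, LinearMap.mem_ker, hψ, AdicCompletion.eval_of,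
            Submodule.mkQ_apply, Submodule.Quotient.mk_eq_zero] at hd
          rw [hsm n D]
          exact hd
      let e := LinearEquiv.ofBijective _ hbij
      exact Module.Flat.of_linearEquiv e.symm
  haveI : Module.Flat D Dh := Groth.Agent.S12209.result G f Dh key
  haveI : Module.FaithfullyFlat D Dh := Module.FaithfullyFlat.of_flat_of_isLocalHom
  exact Groth.Agent.H26.isNoetherianRing_of_faithfullyFlat D Dh

end Main

end Groth.Agent.H10.DLN
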