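import Mathlib
import Groth.Prelude.Def_EtRam
import Groth.Agent.H10.EisDvr

set_option autoImplicit false
set_option linter.style.haveILetI false
set_option linter.unusedSectionVars false
set_option linter.unusedVariables false
universe u
open Polynomial

namespace Groth.Agent.H10.EisField

open Groth.Agent.H10.EisDvr

/-- The Eisenstein extension `K[x]/(x^q - π g(x))` of the fraction field of a DVR. -/
theorem exists_field (A K : Type u) [CommRing A] [IsDomain A] [IsDiscreteValuationRing A]
    [Field K] [Algebra A K] [IsFractionRing A K] (π : A) (hπ : Irreducible π) (q : ℕ) (g : A[X])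
    (hg : g.natDegree < q) (hg0 : IsUnit (g.coeff 0))
    (hsep : derivative (X ^ q - C π * g : A[X]) ≠ 0) :
    ∃ (L : Type u) (_ : Field L) (_ : Algebra K L) (_ : Algebra A L) (_ : IsScalarTower A K L),
      Module.finrank K L = q ∧ Algebra.IsSeparable K L ∧
      EtRam.IsTotallyRamified A (algebraMap A L) ∧
      ∃ x w' : L, x ∈ integralClosure A L ∧ w' ∈ integralClosure A L ∧
        x ^ q = algebraMap A L π * aeval x g ∧ w' * aeval x g = 1 := by
  set f : A[X] := X ^ q - C π * g with hf
  have hmon : f.Monic := monic_f hg
  have hdeg : f.natDegree = q := natDegree_f hg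
  have hirr : Irreducible f := irreducible_f hπ hg hg0
  haveI hdom : IsDomain (AdjoinRoot f) := isDomain' hπ hg hg0
  haveI hdvr : IsDiscreteValuationRing (AdjoinRoot f) := isDVR hπ hg hg0
  let L := FractionRing (AdjoinRoot f)
  letI algAL : Algebra A L := inferInstance
  haveI : IsScalarTower A (AdjoinRoot f) L := inferInstance
  have halg : algebraMap A L = (algebraMap (AdjoinRoot f) L).comp (algebraMap A (AdjoinRoot f)) :=
    IsScalarTower.algebraMap_eq A (AdjoinRoot f) L
  have hinjAL : Function.Injective (algebraMap A L) := by
    rw [halg]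
    exact (IsFractionRing.injective (AdjoinRoot f) L).comp (algebraMap_injective hg)
  letI algKL : Algebra K L := (IsFractionRing.lift hinjAL).toAlgebra
  haveI : IsScalarTower A K L :=
    IsScalarTower.of_algebraMap_eq (fun a => (IsFractionRing.lift_algebraMap hinjAL a).symm)
  have hfin : Module.finrank K L = q := by
    rw [IsFractionRing.finrank_eq A K (AdjoinRoot f) L, (AdjoinRoot.powerBasis' hmon).finrank,
      AdjoinRoot.powerBasis'_dim, hdeg]
  have hq0 : 0 < q := by omega
  haveI : FiniteDimensional K L := Module.finite_of_finrank_pos (by rw [hfin]; exact hq0)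
  haveI : Module.Finite A (AdjoinRoot f) := hmon.finite_adjoinRoot
  haveI : Algebra.IsIntegral A (AdjoinRoot f) := Algebra.IsIntegral.of_finite A (AdjoinRoot f)
  set x : L := algebraMap (AdjoinRoot f) L (AdjoinRoot.root f) with hx
  have hxint : IsIntegral A x := (Algebra.IsIntegral.isIntegral (AdjoinRoot.root f)).algebraMap
  have haevalx : ∀ h : A[X], aeval x h = algebraMap (AdjoinRoot f) L (aeval (AdjoinRoot.root f) h) :=
    fun h => aeval_algebraMap_apply L (AdjoinRoot.root f) h
  have hfx : aeval x f = 0 := by
    rw [haevalx, AdjoinRoot.aeval_eq, AdjoinRoot.mk_self, map_zero]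
  -- minimal polynomial
  have hirrK : Irreducible (f.map (algebraMap A K)) :=
    (Polynomial.Monic.irreducible_iff_irreducible_map_fraction_map hmon).1 hirr
  have hminpoly : f.map (algebraMap A K) = minpoly K x := by
    refine minpoly.eq_of_irreducible_of_monic hirrK ?_ (hmon.map _)
    rw [aeval_map_algebraMap, hfx]
  have hsepx : IsSeparable K x := by
    show (minpoly K x).Separable
    rw [← hminpoly, Polynomial.separable_iff_derivative_ne_zero hirrK, derivative_map]
    intro h0
    apply hsep
    apply Polynomial.map_injective _ (IsFractionRing.injective A K)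
    rw [h0, Polynomial.map_zero]
  have htop : IntermediateField.adjoin K {x} = ⊤ := by
    rw [Field.primitive_element_iff_minpoly_natDegree_eq, ← hminpoly, natDegree_map_eq_of_injective
      (IsFractionRing.injective A K), hdeg, hfin]
  have hsepL : Algebra.IsSeparable K L := by
    haveI : Algebra.IsSeparable K (IntermediateField.adjoin K {x}) :=
      (IntermediateField.isSeparable_adjoin_simple_iff_isSeparable K L).2 hsepx
    refine ⟨fun y => ?_⟩
    exact IntermediateField.isSeparable_of_mem_isSeparable K L
      (L := IntermediateField.adjoin K {x}) (by rw [htop]; trivial)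
  obtain ⟨w, hw⟩ := isUnit_aeval_g hπ hg hg0
  refine ⟨L, inferInstance, algKL, algAL, inferInstance, hfin, hsepL, ?_, ?_⟩
  · rw [halg]; exact isTotallyRamified hπ hg hg0
  · refine ⟨x, algebraMap (AdjoinRoot f) L ((w⁻¹ : (AdjoinRoot f)ˣ) : AdjoinRoot f), hxint,
      (Algebra.IsIntegral.isIntegral _).algebraMap, ?_, ?_⟩
    · rw [haevalx, hx, ← map_pow, root_pow, map_mul, ← IsScalarTower.algebraMap_apply]
    · rw [haevalx, ← map_mul, ← hw, Units.inv_mul, map_one]

end Groth.Agent.H10.EisField
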