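import Mathlib
import Groth.Prelude.Def_EtRam
import Groth.Agent.H10.EisField

set_option autoImplicit false
universe u
open Polynomial

namespace Groth.Agent.H10.EisNice

theorem main (p : ℕ) (hp : p.Prime) (A K : Type u)
    [CommRing A] [IsDomain A] [IsDiscreteValuationRing A] [Field K] [Algebra A K] [IsFractionRing A K]
    (π : A) (hπ : IsLocalRing.maximalIdeal A = Ideal.span {π})
    (n : ℕ) (hn : 1 < n) (k : ℕ) :
    ∃ (L : Type u) (_ : Field L) (_ : Algebra K L) (_ : Algebra A L) (_ : IsScalarTower A K L),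
      Module.finrank K L = p ^ k ∧ Algebra.IsSeparable K L ∧ EtRam.IsTotallyRamified A (algebraMap A L) ∧
      ∃ πB b b' : L, πB ∈ integralClosure A L ∧ b ∈ integralClosure A L ∧ b' ∈ integralClosure A L ∧
        πB ^ (p ^ k) = algebraMap A L π + algebraMap A L π ^ n * b ∧
        πB ^ (p ^ k) = algebraMap A L π + πB ^ (n * p ^ k) * b' := by
  have hπi : Irreducible π := (IsDiscreteValuationRing.irreducible_iff_uniformizer π).2 hπ
  by_cases hk : k = 0
  · subst hk
    -- q = 1, g = 1
    have hsep : derivative (X ^ (p ^ 0) - C π * (1 : A[X]) : A[X]) ≠ 0 := by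
      simp
    obtain ⟨L, iF, iKL, iAL, iT, hfin, hsepL, htot, x, w', hx, hw', hxq, hww⟩ :=
      Groth.Agent.H10.EisField.exists_field A K π hπi (p ^ 0) 1 (by simp) (by simp) hsep
    refine ⟨L, iF, iKL, iAL, iT, hfin, hsepL, htot, x, 0, 0, hx, Subalgebra.zero_mem _,
      Subalgebra.zero_mem _, ?_, ?_⟩
    · rw [hxq]; simp
    · rw [hxq]; simp
  · have hq2 : 2 ≤ p ^ k := by
      calc 2 ≤ p := hp.two_le
        _ = p ^ 1 := (pow_one p).symm
        _ ≤ p ^ k := Nat.pow_le_pow_right hp.pos (Nat.one_le_iff_ne_zero.2 hk)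
    set q := p ^ k with hq
    set g : A[X] := 1 - C (π ^ (n - 1)) * X with hgdef
    have hgdeg : g.natDegree < q := by
      have : g.natDegree ≤ 1 := by
        refine (natDegree_sub_le _ _).trans ?_
        rw [natDegree_one]
        exact max_le (by omega) ((natDegree_C_mul_le _ _).trans natDegree_X_le)
      omega
    have hg0 : IsUnit (g.coeff 0) := by
      simp [hgdef]
    have hsep : derivative (X ^ q - C π * g : A[X]) ≠ 0 := by
      intro h0
      have h1 : (derivative (X ^ q - C π * g : A[X])).coeff 0 = 0 := by rw [h0, coeff_zero]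
      rw [coeff_derivative, Groth.Agent.H10.EisDvr.coeff_f_of_lt (by omega : (0 + 1) < q)] at h1
      have h2 : g.coeff (0 + 1) = - π ^ (n - 1) := by
        rw [hgdef, coeff_sub, coeff_C_mul, coeff_X_one, coeff_one]; simp
      rw [h2] at h1
      have h3 : π * π ^ (n - 1) = 0 := by
        simpa using h1
      rcases mul_eq_zero.1 h3 with h | h
      · exact hπi.ne_zero h
      · exact hπi.ne_zero (pow_eq_zero_iff (by omega) |>.1 h)
    obtain ⟨L, iF, iKL, iAL, iT, hfin, hsepL, htot, x, w', hx, hw', hxq, hww⟩ :=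
      Groth.Agent.H10.EisField.exists_field A K π hπi q g hgdeg hg0 hsep
    have hgx : aeval x g = 1 - algebraMap A L π ^ (n - 1) * x := by
      simp [hgdef]
    have hπn : algebraMap A L π * algebraMap A L π ^ (n - 1) = algebraMap A L π ^ n := by
      rw [← pow_succ']; congr 1; omega
    refine ⟨L, iF, iKL, iAL, iT, hfin, hsepL, htot, x, -x, -x * w' ^ n, hx,
      Subalgebra.neg_mem _ hx,
      Subalgebra.mul_mem _ (Subalgebra.neg_mem _ hx) (Subalgebra.pow_mem _ hw' n), ?_, ?_⟩
    · rw [hxq, hgx]
      linear_combination (-x) * hπn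
    · have h1 : x ^ (n * q) = (algebraMap A L π * aeval x g) ^ n := by
        rw [mul_comm n q, pow_mul, hxq]
      rw [h1, hxq, mul_pow]
      have h2 : aeval x g ^ n * w' ^ n = 1 := by
        rw [← mul_pow, mul_comm, hww, one_pow]
      linear_combination (algebraMap A L π ^ n * x) * h2 + (algebraMap A L π) * hgx + (-x) * hπn

end Groth.Agent.H10.EisNice
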