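import Mathlib
import Groth.Prelude.Def_EtRam
import Groth.Agent.H10.EtRamTower2

/-! Weak solutions / solutions descend along `A → B → C` (EtRam): valuation-theoretic part. -/

set_option autoImplicit false
set_option linter.style.haveILetI false
set_option linter.unusedSectionVars false
set_option linter.unusedVariables false
universe u

open IsLocalRing

namespace Groth.Agent.H10.EtRamS

section Tower

variable {K₁ L₁ M₁ : Type u} [Field K₁] [Field L₁] [Field M₁]

/-- `inclOfComap` is compatible with composition. -/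
theorem inclOfComap_comp (W' : ValuationSubring M₁) (f : K₁ →+* L₁) (j : L₁ →+* M₁) :
    EtRam.inclOfComap W' (j.comp f) =
      (EtRam.inclOfComap W' j).comp (EtRam.inclOfComap (W'.comap j) f) := by
  ext x
  rfl

/-- Elements of the extension of the maximal ideal of a valuation ring `A₁` to an overring are
of the form `a * w` with `a ∈ m_{A₁}`. -/
theorem exists_mul_of_mem_map {A₁ W : Type*} [CommRing A₁] [IsDomain A₁] [ValuationRing A₁]
    [CommRing W] (φ : A₁ →+* W) (y : W) (hy : y ∈ Ideal.map φ (maximalIdeal A₁)) :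
    ∃ a ∈ maximalIdeal A₁, ∃ w : W, y = φ a * w := by
  induction hy using Submodule.span_induction with
  | mem x hx =>
    obtain ⟨a, ha, rfl⟩ := hx
    exact ⟨a, ha, 1, (mul_one _).symm⟩
  | zero => exact ⟨0, Ideal.zero_mem _, 0, by simp⟩
  | add x y _ _ hx hy =>
    obtain ⟨a, ha, w, rfl⟩ := hx
    obtain ⟨b, hb, w', rfl⟩ := hy
    rcases ValuationRing.dvd_total a b with ⟨c, rfl⟩ | ⟨c, rfl⟩
    · exact ⟨a, ha, w + φ c * w', by rw [map_mul]; ring⟩
    · exact ⟨b, hb, φ c * w + w', by rw [map_mul]; ring⟩
  | smul r x _ hx =>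
    obtain ⟨a, ha, w, rfl⟩ := hx
    exact ⟨a, ha, r * w, by rw [smul_eq_mul]; ring⟩

theorem weaklyUnramified_of_tower (W' : ValuationSubring M₁) (f : K₁ →+* L₁) (j : L₁ →+* M₁)
    (g : K₁ →+* M₁) (hg : g = j.comp f)
    (h : letI := (EtRam.inclOfComap W' g).toAlgebra
      EtRam.IsWeaklyUnramified (W'.comap g) W') :
    letI := (EtRam.inclOfComap (W'.comap j) f).toAlgebra
    EtRam.IsWeaklyUnramified ((W'.comap j).comap f) (W'.comap j) := by
  subst hg
  letI alg1 := (EtRam.inclOfComap W' (j.comp f)).toAlgebra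
  letI alg2 := (EtRam.inclOfComap (W'.comap j) f).toAlgebra
  change Ideal.map (EtRam.inclOfComap W' (j.comp f)) (maximalIdeal (W'.comap (j.comp f))) =
    maximalIdeal W' at h
  change Ideal.map (EtRam.inclOfComap (W'.comap j) f) (maximalIdeal ((W'.comap j).comap f)) =
    maximalIdeal (W'.comap j)
  apply le_antisymm
  · exact ((local_hom_TFAE (EtRam.inclOfComap (W'.comap j) f)).out 0 2 rfl rfl).mp inferInstance
  · intro v hv
    by_cases hv0 : v = 0
    · rw [hv0]; exact Ideal.zero_mem _
    have hjv : EtRam.inclOfComap W' j v ∈ maximalIdeal W' :=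
      ((local_hom_TFAE (EtRam.inclOfComap W' j)).out 0 2 rfl rfl).mp inferInstance
        (Ideal.mem_map_of_mem _ hv)
    rw [← h] at hjv
    obtain ⟨a, ha, w, hw⟩ := exists_mul_of_mem_map _ _ hjv
    have hw' : j (v : L₁) = j (f (a : K₁)) * (w : M₁) := congrArg Subtype.val hw
    have hv0' : (v : L₁) ≠ 0 := fun h0 => hv0 (Subtype.ext h0)
    have hfa0 : f (a : K₁) ≠ 0 := by
      intro h0
      rw [h0, map_zero, zero_mul] at hw'
      exact hv0' ((map_eq_zero j).1 hw')
    -- `w = j (v / f a)`
    have hwj : (w : M₁) = j ((v : L₁) / f (a : K₁)) := by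
      rw [map_div₀, hw', mul_div_cancel_left₀]
      exact (map_ne_zero j).2 hfa0
    have hmem : (v : L₁) / f (a : K₁) ∈ W'.comap j := by
      show j _ ∈ W'
      rw [← hwj]
      exact w.2
    have : v = EtRam.inclOfComap (W'.comap j) f a * ⟨_, hmem⟩ := by
      apply Subtype.ext
      show (v : L₁) = f (a : K₁) * ((v : L₁) / f (a : K₁))
      rw [mul_div_cancel₀ _ hfa0]
    rw [this]
    exact Ideal.mul_mem_right _ _ (Ideal.mem_map_of_mem _ ha)

theorem geomReduced_of_tower (W' : ValuationSubring M₁) (f : K₁ →+* L₁) (j : L₁ →+* M₁)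
    (g : K₁ →+* M₁) (hg : g = j.comp f)
    (h : @Algebra.IsGeometricallyReduced (ResidueField (W'.comap g)) (ResidueField W') _ _
      (ResidueField.map (EtRam.inclOfComap W' g)).toAlgebra) :
    @Algebra.IsGeometricallyReduced (ResidueField ((W'.comap j).comap f))
      (ResidueField (W'.comap j)) _ _
      (ResidueField.map (EtRam.inclOfComap (W'.comap j) f)).toAlgebra := by
  subst hg
  letI alg1 : Algebra (ResidueField (W'.comap (j.comp f))) (ResidueField W') :=
    (ResidueField.map (EtRam.inclOfComap W' (j.comp f))).toAlgebra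
  letI alg2 : Algebra (ResidueField (W'.comap (j.comp f))) (ResidueField (W'.comap j)) :=
    (ResidueField.map (EtRam.inclOfComap (W'.comap j) f)).toAlgebra
  let φ : ResidueField (W'.comap j) →ₐ[ResidueField (W'.comap (j.comp f))] ResidueField W' :=
    { ResidueField.map (EtRam.inclOfComap W' j) with
      commutes' := fun r => by
        obtain ⟨r, rfl⟩ := residue_surjective r
        rfl }
  haveI := h
  change @Algebra.IsGeometricallyReduced (ResidueField (W'.comap (j.comp f)))
      (ResidueField (W'.comap j)) _ _ alg2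
  exact Algebra.IsGeometricallyReduced.of_injective φ (RingHom.injective φ.toRingHom)

end Tower

end Groth.Agent.H10.EtRamS
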