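import Mathlib
import Groth.Prelude.Def_EtRam
import Groth.Agent.H10.EtRamSub

/-! Weak solutions / solutions descend along `A → B → C` (EtRam): the construction of a common
valuation ring, and the final statement. -/

set_option autoImplicit false
set_option linter.style.haveILetI false
set_option linter.unusedSectionVars false
set_option linter.unusedVariables false
universe u

open IsLocalRing TensorProduct

namespace Groth.Agent.H10.EtRamS

section Big

variable (B C : Type u) [CommRing B] [IsDomain B] [IsDiscreteValuationRing B]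
  [CommRing C] [IsDomain C] [IsDiscreteValuationRing C] [Algebra B C] [IsLocalHom (algebraMap B C)]
  (hinj : Function.Injective (algebraMap B C))
  (V : Type u) [CommRing V] [IsDomain V] [IsLocalRing V] [Algebra B V] [IsLocalHom (algebraMap B V)]
  (hinjV : Function.Injective (algebraMap B V))

/-- There is a prime of `C ⊗[B] V` containing `m_C ⊗ 1` and `1 ⊗ m_V`. -/
theorem exists_prime_tensor :
    ∃ q : Ideal (C ⊗[B] V), q.IsPrime ∧ (∀ c ∈ maximalIdeal C, c ⊗ₜ[B] (1 : V) ∈ q) ∧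
      (∀ v ∈ maximalIdeal V, (1 : C) ⊗ₜ[B] v ∈ q) := by
  let κB := ResidueField B
  let κC := ResidueField C
  let κV := ResidueField V
  haveI : Nontrivial (κC ⊗[κB] κV) :=
    Algebra.TensorProduct.nontrivial_of_algebraMap_injective_of_isDomain κB κC κV
      (algebraMap κB κC).injective (algebraMap κB κV).injective
  let f1 : C →ₐ[B] κC := IsScalarTower.toAlgHom B C κC
  let f2 : V →ₐ[B] κV := IsScalarTower.toAlgHom B V κV
  haveI : TensorProduct.CompatibleSMul κB B κC κV := TensorProduct.CompatibleSMul.isScalarTower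
  let Φ : C ⊗[B] V →+* κC ⊗[κB] κV :=
    ((Algebra.TensorProduct.mapOfCompatibleSMul κB B B κC κV).comp
      (Algebra.TensorProduct.map f1 f2)).toRingHom
  obtain ⟨P, hP⟩ := Ideal.exists_maximal (κC ⊗[κB] κV)
  haveI := hP.isPrime
  refine ⟨P.comap Φ, Ideal.comap_isPrime Φ P, fun c hc => ?_, fun v hv => ?_⟩
  · rw [Ideal.mem_comap]
    have : Φ (c ⊗ₜ[B] (1 : V)) = 0 := by
      show (Algebra.TensorProduct.mapOfCompatibleSMul κB B B κC κV)
        ((Algebra.TensorProduct.map f1 f2) (c ⊗ₜ[B] (1 : V))) = 0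
      rw [Algebra.TensorProduct.map_tmul]
      have : f1 c = 0 := by
        show residue C c = 0
        rwa [residue_eq_zero_iff]
      rw [this, zero_tmul, map_zero]
    rw [this]; exact zero_mem _
  · rw [Ideal.mem_comap]
    have : Φ ((1 : C) ⊗ₜ[B] v) = 0 := by
      show (Algebra.TensorProduct.mapOfCompatibleSMul κB B B κC κV)
        ((Algebra.TensorProduct.map f1 f2) ((1 : C) ⊗ₜ[B] v)) = 0
      rw [Algebra.TensorProduct.map_tmul]
      have : f2 v = 0 := by
        show residue V v = 0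
        rwa [residue_eq_zero_iff]
      rw [this, tmul_zero, map_zero]
    rw [this]; exact zero_mem _

omit [IsDiscreteValuationRing C] [IsLocalHom (algebraMap B C)] [IsLocalRing V]
  [IsLocalHom (algebraMap B V)] in
include hinj hinjV in
theorem exists_minimal_le (q : Ideal (C ⊗[B] V)) [q.IsPrime] :
    ∃ q₀ : Ideal (C ⊗[B] V), q₀.IsPrime ∧ q₀ ≤ q ∧
      ∀ b : B, b ≠ 0 → algebraMap B (C ⊗[B] V) b ∉ q₀ := by
  haveI : FaithfulSMul B C := (faithfulSMul_iff_algebraMap_injective B C).2 hinj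
  haveI : FaithfulSMul B V := (faithfulSMul_iff_algebraMap_injective B V).2 hinjV
  haveI : Module.Flat B C := inferInstance
  haveI : Module.Flat B V := inferInstance
  haveI : Module.Flat B (C ⊗[B] V) := inferInstance
  obtain ⟨q₀, hq₀, hle⟩ := Ideal.exists_minimalPrimes_le (I := ⊥) (J := q) bot_le
  refine ⟨q₀, hq₀.1.1, hle, fun b hb hmem => ?_⟩
  have hdis := Ideal.disjoint_nonZeroDivisors_of_mem_minimalPrimes hq₀
  have hnzd : algebraMap B (C ⊗[B] V) b ∈ nonZeroDivisors (C ⊗[B] V) := by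
    have hreg : IsSMulRegular (C ⊗[B] V) b :=
      Module.Flat.isSMulRegular_of_nonZeroDivisors (mem_nonZeroDivisors_of_ne_zero hb)
    rw [mem_nonZeroDivisors_iff_right]
    intro x hx
    apply hreg
    show b • x = b • 0
    rw [smul_zero, Algebra.smul_def, mul_comm]
    exact hx
  exact Set.disjoint_left.1 hdis hmem hnzd

end Big

section Main

theorem exists_big
    (B C K L M₀ K₁ : Type u) [CommRing B] [IsDomain B] [IsDiscreteValuationRing B]
    [CommRing C] [IsDomain C] [IsDiscreteValuationRing C] [Algebra B C]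
    [IsLocalHom (algebraMap B C)] (hinj : Function.Injective (algebraMap B C))
    [Field K] [Field L] [Field M₀] [Field K₁] [Algebra K L] [Algebra K M₀] [Algebra L M₀]
    [IsScalarTower K L M₀] [Algebra K K₁] [FiniteDimensional K K₁]
    [Algebra B L] [IsFractionRing B L] [Algebra C M₀] [IsFractionRing C M₀] [Algebra B M₀]
    [IsScalarTower B C M₀] [IsScalarTower B L M₀]
    (L₁ : Type u) [Field L₁] [Algebra K L₁] [Algebra L L₁] [Algebra K₁ L₁] [IsScalarTower K L L₁]
    [IsScalarTower K K₁ L₁]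
    (hgen : Algebra.adjoin L (Set.range (algebraMap K₁ L₁)) = ⊤)
    (W₁ : ValuationSubring L₁)
    (hW₁ : EtRam.Dominates B ((algebraMap L L₁).comp (algebraMap B L)) W₁) :
    ∃ (M₁ : Type u) (_ : Field M₁) (_ : Algebra K M₁) (_ : Algebra M₀ M₁) (_ : Algebra K₁ M₁)
      (_ : IsScalarTower K M₀ M₁) (_ : IsScalarTower K K₁ M₁) (j : L₁ →+* M₁)
      (W' : ValuationSubring M₁),
      Algebra.adjoin M₀ (Set.range (algebraMap K₁ M₁)) = ⊤ ∧
      EtRam.Dominates C ((algebraMap M₀ M₁).comp (algebraMap C M₀)) W' ∧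
      algebraMap K₁ M₁ = j.comp (algebraMap K₁ L₁) ∧ W'.comap j = W₁ := by
  classical
  set g₁ := (algebraMap L L₁).comp (algebraMap B L) with hg₁
  letI algBV : Algebra B W₁ := (RingHom.codRestrict g₁ W₁ hW₁.1).toAlgebra
  haveI : IsLocalHom (algebraMap B W₁) := EtRamT.isLocalHom_of_dominates g₁ W₁ hW₁
  have hinjV : Function.Injective (algebraMap B W₁) := by
    intro x y hxy
    have : g₁ x = g₁ y := congrArg Subtype.val hxy
    exact IsFractionRing.injective B L ((algebraMap L L₁).injective this)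
  obtain ⟨q, hq, hqC, hqV⟩ := exists_prime_tensor B C W₁
  obtain ⟨q₀, hq₀, hle, hb⟩ := exists_minimal_le B C hinj W₁ hinjV q
  haveI : IsDomain ((C ⊗[B] W₁) ⧸ q₀) := Ideal.Quotient.isDomain q₀
  let ψ : C ⊗[B] W₁ →+* FractionRing ((C ⊗[B] W₁) ⧸ q₀) :=
    (algebraMap ((C ⊗[B] W₁) ⧸ q₀) (FractionRing ((C ⊗[B] W₁) ⧸ q₀))).comp (Ideal.Quotient.mk q₀)
  have hψker : ∀ x, ψ x = 0 ↔ x ∈ q₀ := by
    intro x
    show algebraMap ((C ⊗[B] W₁) ⧸ q₀) (FractionRing ((C ⊗[B] W₁) ⧸ q₀))
      (Ideal.Quotient.mk q₀ x) = 0 ↔ _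
    rw [IsFractionRing.to_map_eq_zero_iff, Ideal.Quotient.eq_zero_iff_mem]
  let ιC : C →+* FractionRing ((C ⊗[B] W₁) ⧸ q₀) :=
    ψ.comp Algebra.TensorProduct.includeLeftRingHom
  let ιV : W₁ →+* FractionRing ((C ⊗[B] W₁) ⧸ q₀) :=
    ψ.comp (Algebra.TensorProduct.includeRight : W₁ →ₐ[B] C ⊗[B] W₁).toRingHom
  have hιC_apply : ∀ c, ιC c = ψ (c ⊗ₜ 1) := fun c => rfl
  have hιV_apply : ∀ v, ιV v = ψ (1 ⊗ₜ v) := fun v => rfl
  have hιB : ∀ b : B, b ≠ 0 → ψ (algebraMap B (C ⊗[B] W₁) b) ≠ 0 := by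
    intro b hb0 h0
    exact hb b hb0 ((hψker _).1 h0)
  have hιC : Function.Injective ιC := by
    rw [RingHom.injective_iff_ker_eq_bot]
    by_contra hne
    haveI : (RingHom.ker ιC).IsPrime := RingHom.ker_isPrime ιC
    have hmax : (RingHom.ker ιC).IsMaximal := Ideal.IsPrime.isMaximal inferInstance hne
    have hker : RingHom.ker ιC = maximalIdeal C := IsLocalRing.eq_maximalIdeal hmax
    obtain ⟨π, hπ⟩ := IsDiscreteValuationRing.exists_irreducible B
    have hπm : algebraMap B C π ∈ maximalIdeal C := by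
      rw [mem_maximalIdeal, mem_nonunits_iff]
      intro hu
      exact hπ.not_isUnit (isUnit_of_map_unit (algebraMap B C) π hu)
    rw [← hker, RingHom.mem_ker, hιC_apply] at hπm
    apply hιB π hπ.ne_zero
    rw [Algebra.TensorProduct.algebraMap_apply]
    exact hπm
  -- algebraicity of `L₁` over `L` and `B`
  have hint : ∀ x : L₁, IsIntegral L x := by
    intro x
    have hle : Algebra.adjoin L (Set.range (algebraMap K₁ L₁)) ≤ integralClosure L L₁ := by
      apply Algebra.adjoin_le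
      rintro _ ⟨k, rfl⟩
      have hk : IsIntegral K k := Algebra.IsIntegral.isIntegral k
      have hk' : IsIntegral K (algebraMap K₁ L₁ k) := hk.map (IsScalarTower.toAlgHom K K₁ L₁)
      exact hk'.tower_top
    rw [hgen] at hle
    exact hle trivial
  letI algBL₁ : Algebra B L₁ := g₁.toAlgebra
  haveI : IsScalarTower B L L₁ := IsScalarTower.of_algebraMap_eq (fun _ => rfl)
  haveI : IsScalarTower B W₁ L₁ := IsScalarTower.of_algebraMap_eq (fun _ => rfl)
  have halgB : ∀ x : L₁, IsAlgebraic B x := by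
    intro x
    exact (IsFractionRing.isAlgebraic_iff B L L₁).2 (hint x).isAlgebraic
  have hιV : Function.Injective ιV := by
    rw [injective_iff_map_eq_zero]
    intro v hv
    by_contra hv0
    have hv0' : (v : L₁) ≠ 0 := fun h => hv0 (Subtype.ext h)
    obtain ⟨b, hb0, hbint⟩ := (halgB ((v : L₁)⁻¹)).exists_integral_multiple
    have hint' : IsIntegral W₁ (b • (v : L₁)⁻¹) := hbint.tower_top
    obtain ⟨y, hy⟩ := (isIntegrallyClosed_iff L₁).1 (inferInstance : IsIntegrallyClosed W₁) hint'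
    have hvy : algebraMap B W₁ b = v * y := by
      apply Subtype.ext
      show g₁ b = (v : L₁) * (y : L₁)
      have hy' : (y : L₁) = b • (v : L₁)⁻¹ := hy
      rw [hy', Algebra.smul_def, mul_comm, mul_assoc, inv_mul_cancel₀ hv0', mul_one]
      rfl
    apply hιB b hb0
    have h1 : algebraMap B (C ⊗[B] W₁) b = (1 : C) ⊗ₜ[B] (algebraMap B W₁ b) := by
      rw [Algebra.TensorProduct.algebraMap_apply, Algebra.algebraMap_eq_smul_one,
        Algebra.algebraMap_eq_smul_one, TensorProduct.smul_tmul]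
    rw [h1, ← hιV_apply, hvy, map_mul, hv, zero_mul]
  let φ₀ : M₀ →+* FractionRing ((C ⊗[B] W₁) ⧸ q₀) := IsFractionRing.lift hιC
  let j : L₁ →+* FractionRing ((C ⊗[B] W₁) ⧸ q₀) := IsFractionRing.lift hιV
  have hφ₀ : ∀ c : C, φ₀ (algebraMap C M₀ c) = ιC c := fun c => IsFractionRing.lift_algebraMap hιC c
  have hj : ∀ v : W₁, j (v : L₁) = ιV v := fun v => IsFractionRing.lift_algebraMap hιV v
  -- the two maps `L → M₁` agree
  have hLL : φ₀.comp (algebraMap L M₀) = j.comp (algebraMap L L₁) := by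
    apply IsLocalization.ringHom_ext (nonZeroDivisors B)
    ext b
    simp only [RingHom.comp_apply]
    rw [← IsScalarTower.algebraMap_apply B L M₀, IsScalarTower.algebraMap_apply B C M₀, hφ₀,
      hιC_apply]
    have h2 : algebraMap L L₁ (algebraMap B L b) = ((algebraMap B W₁ b : W₁) : L₁) := rfl
    rw [h2, hj, hιV_apply]
    congr 1
    rw [Algebra.algebraMap_eq_smul_one, Algebra.algebraMap_eq_smul_one, TensorProduct.smul_tmul]
  letI algM₀ : Algebra M₀ (FractionRing ((C ⊗[B] W₁) ⧸ q₀)) := φ₀.toAlgebra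
  letI algK : Algebra K (FractionRing ((C ⊗[B] W₁) ⧸ q₀)) :=
    (φ₀.comp (algebraMap K M₀)).toAlgebra
  letI algK₁ : Algebra K₁ (FractionRing ((C ⊗[B] W₁) ⧸ q₀)) :=
    (j.comp (algebraMap K₁ L₁)).toAlgebra
  haveI tow1 : IsScalarTower K M₀ (FractionRing ((C ⊗[B] W₁) ⧸ q₀)) :=
    IsScalarTower.of_algebraMap_eq (fun _ => rfl)
  haveI tow2 : IsScalarTower K K₁ (FractionRing ((C ⊗[B] W₁) ⧸ q₀)) := by
    refine IsScalarTower.of_algebraMap_eq (fun x => ?_)
    show φ₀ (algebraMap K M₀ x) = j (algebraMap K₁ L₁ (algebraMap K K₁ x))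
    rw [← IsScalarTower.algebraMap_apply K K₁ L₁, IsScalarTower.algebraMap_apply K L L₁,
      IsScalarTower.algebraMap_apply K L M₀]
    exact RingHom.congr_fun hLL (algebraMap K L x)
  -- the valuation ring `W'`
  have hI : Ideal.map ψ.rangeRestrict q ≠ ⊤ := by
    intro htop
    have h1 : (1 : ψ.range) ∈ Ideal.map ψ.rangeRestrict q := by rw [htop]; trivial
    obtain ⟨x, hxq, hx1⟩ :=
      (Ideal.mem_map_iff_of_surjective ψ.rangeRestrict ψ.rangeRestrict_surjective).1 h1
    have hx1' : ψ x = 1 := congrArg Subtype.val hx1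
    have : x - 1 ∈ q₀ := by rw [← hψker, map_sub, hx1', map_one, sub_self]
    have h2 : (1 : C ⊗[B] W₁) ∈ q := by
      have := q.sub_mem hxq (hle this)
      rwa [sub_sub_cancel] at this
    exact hq.ne_top ((Ideal.eq_top_iff_one q).2 h2)
  obtain ⟨W', hAW, hnon⟩ := Ideal.image_subset_nonunits_valuationSubring _ hI
  have hF1 : ∀ r : C ⊗[B] W₁, ψ r ∈ W' := fun r => hAW ⟨r, rfl⟩
  have hF2 : ∀ r ∈ q, W'.valuation (ψ r) < 1 := by
    intro r hr
    rw [← ValuationSubring.mem_nonunits_iff]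
    apply hnon
    exact ⟨ψ.rangeRestrict r, Ideal.mem_map_of_mem _ hr, rfl⟩
  refine ⟨FractionRing ((C ⊗[B] W₁) ⧸ q₀), inferInstance, algK, algM₀, algK₁, tow1, tow2, j, W',
    ?_, ⟨fun c => ?_, fun c hc => ?_⟩, rfl, ?_⟩
  · -- generation
    set S : Subalgebra M₀ (FractionRing ((C ⊗[B] W₁) ⧸ q₀)) :=
      Algebra.adjoin M₀ (Set.range (algebraMap K₁ (FractionRing ((C ⊗[B] W₁) ⧸ q₀)))) with hS
    have ha : ∀ m : M₀, φ₀ m ∈ S := fun m => S.algebraMap_mem m
    have hb' : ∀ k : K₁, j (algebraMap K₁ L₁ k) ∈ S := fun k => Algebra.subset_adjoin ⟨k, rfl⟩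
    have hc : ∀ x : L₁, j x ∈ S := by
      intro x
      have hx : x ∈ Algebra.adjoin L (Set.range (algebraMap K₁ L₁)) := by rw [hgen]; trivial
      induction hx using Algebra.adjoin_induction with
      | mem x hx =>
        obtain ⟨k, rfl⟩ := hx
        exact hb' k
      | algebraMap l =>
        have : j (algebraMap L L₁ l) = φ₀ (algebraMap L M₀ l) := (RingHom.congr_fun hLL l).symm
        rw [this]
        exact ha _
      | add x y _ _ hx hy => rw [map_add]; exact S.add_mem hx hy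
      | mul x y _ _ hx hy => rw [map_mul]; exact S.mul_mem hx hy
    have hd : ∀ r : C ⊗[B] W₁, ψ r ∈ S := by
      intro r
      induction r using TensorProduct.induction_on with
      | zero => rw [map_zero]; exact S.zero_mem
      | tmul c v =>
        have h1 : c ⊗ₜ[B] v = (c ⊗ₜ[B] (1 : W₁)) * ((1 : C) ⊗ₜ[B] v) := by
          rw [Algebra.TensorProduct.tmul_mul_tmul, mul_one, one_mul]
        rw [h1, map_mul, ← hιC_apply, ← hιV_apply, ← hφ₀, ← hj]
        exact S.mul_mem (ha _) (hc _)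
      | add x y hx hy => rw [map_add]; exact S.add_mem hx hy
    have hintS : ∀ x ∈ S, IsAlgebraic M₀ x := by
      intro x hx
      have h1 : Algebra.IsIntegral M₀ S := by
        rw [hS]
        apply Algebra.IsIntegral.adjoin
        rintro _ ⟨k, rfl⟩
        have hk : IsIntegral K k := Algebra.IsIntegral.isIntegral k
        have hk' : IsIntegral K (algebraMap K₁ (FractionRing ((C ⊗[B] W₁) ⧸ q₀)) k) :=
          hk.map (IsScalarTower.toAlgHom K K₁ (FractionRing ((C ⊗[B] W₁) ⧸ q₀)))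
        exact hk'.tower_top
      have h2 : IsIntegral M₀ (⟨x, hx⟩ : S) := Algebra.IsIntegral.isIntegral _
      have h3 : IsIntegral M₀ x := h2.map S.val
      exact h3.isAlgebraic
    rw [eq_top_iff]
    intro z _
    obtain ⟨a, b, hb0, rfl⟩ := IsFractionRing.div_surjective (A := (C ⊗[B] W₁) ⧸ q₀) z
    obtain ⟨a, rfl⟩ := Ideal.Quotient.mk_surjective a
    obtain ⟨b, rfl⟩ := Ideal.Quotient.mk_surjective b
    have h1 : ψ a ∈ S := hd a
    have h2 : (ψ b)⁻¹ ∈ S := S.inv_mem_of_algebraic (x := ⟨ψ b, hd b⟩) (hintS _ (hd b))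
    rw [div_eq_mul_inv]
    exact S.mul_mem h1 h2
  · show φ₀ (algebraMap C M₀ c) ∈ W'
    rw [hφ₀, hιC_apply]
    exact hF1 _
  · show W'.valuation (φ₀ (algebraMap C M₀ c)) < 1
    rw [hφ₀, hιC_apply]
    exact hF2 _ (hqC c hc)
  · -- `W'.comap j = W₁`
    ext x
    rw [ValuationSubring.mem_comap]
    constructor
    · intro hx
      by_contra hxW
      have hx0 : x ≠ 0 := fun h => hxW (h ▸ W₁.zero_mem)
      have hinv : x⁻¹ ∈ W₁ := (W₁.mem_or_inv_mem x).resolve_left hxW
      have hm : (⟨x⁻¹, hinv⟩ : W₁) ∈ maximalIdeal W₁ := by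
        rw [mem_maximalIdeal, mem_nonunits_iff]
        intro hu
        obtain ⟨u, hu⟩ := hu
        apply hxW
        have h3 : ((u⁻¹ : W₁ˣ) : W₁) * u = 1 := Units.inv_mul u
        have h4 : (((u⁻¹ : W₁ˣ) : W₁) : L₁) * x⁻¹ = 1 := by
          have := congrArg Subtype.val h3
          rw [hu] at this
          exact this
        have h5 : (((u⁻¹ : W₁ˣ) : W₁) : L₁) = x := by
          field_simp at h4
          exact h4
        rw [← h5]
        exact ((u⁻¹ : W₁ˣ) : W₁).2
      have h6 := hF2 _ (hqV _ hm)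
      rw [← hιV_apply, ← hj] at h6
      have h7 : j x⁻¹ = (j x)⁻¹ := map_inv₀ j x
      change W'.valuation (j x⁻¹) < 1 at h6
      rw [h7, map_inv₀] at h6
      have h8 : W'.valuation (j x) ≤ 1 := (W'.valuation_le_one_iff _).2 hx
      have hjx0 : W'.valuation (j x) ≠ 0 := by
        rw [Ne, Valuation.zero_iff]
        exact (map_ne_zero j).2 hx0
      have h9 : 1 ≤ (W'.valuation (j x))⁻¹ := (one_le_inv₀ (zero_lt_iff.2 hjx0)).2 h8
      exact absurd h6 (not_lt.2 h9)
    · intro hx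
      have : j x = ιV ⟨x, hx⟩ := hj ⟨x, hx⟩
      rw [this, hιV_apply]
      exact hF1 _

theorem sub_solution
    (B C K L M₀ K₁ : Type u) [CommRing B] [IsDomain B] [IsDiscreteValuationRing B]
    [CommRing C] [IsDomain C] [IsDiscreteValuationRing C] [Algebra B C]
    [IsLocalHom (algebraMap B C)] (hinj : Function.Injective (algebraMap B C))
    [Field K] [Field L] [Field M₀] [Field K₁] [Algebra K L] [Algebra K M₀] [Algebra L M₀]
    [IsScalarTower K L M₀] [Algebra K K₁] [FiniteDimensional K K₁]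
    [Algebra B L] [IsFractionRing B L] [Algebra C M₀] [IsFractionRing C M₀] [Algebra B M₀]
    [IsScalarTower B C M₀] [IsScalarTower B L M₀] :
    (EtRam.IsWeakSolution C K M₀ K₁ → EtRam.IsWeakSolution B K L K₁) ∧
    (EtRam.IsSolution C K M₀ K₁ → EtRam.IsSolution B K L K₁) := by
  constructor
  · intro h L₁ _ _ _ _ _ _ hgen W₁ hW₁
    obtain ⟨M₁, _, _, _, _, _, _, j, W', hgen', hdom', hf', hcomap⟩ :=
      exists_big B C K L M₀ K₁ hinj L₁ hgen W₁ hW₁
    have h1 := h M₁ hgen' W' hdom'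
    subst hcomap
    exact weaklyUnramified_of_tower W' (algebraMap K₁ L₁) j (algebraMap K₁ M₁) hf' h1
  · intro h L₁ _ _ _ _ _ _ hgen W₁ hW₁
    obtain ⟨M₁, _, _, _, _, _, _, j, W', hgen', hdom', hf', hcomap⟩ :=
      exists_big B C K L M₀ K₁ hinj L₁ hgen W₁ hW₁
    have h1 := h M₁ hgen' W' hdom'
    subst hcomap
    exact ⟨weaklyUnramified_of_tower W' (algebraMap K₁ L₁) j (algebraMap K₁ M₁) hf' h1.1,
      geomReduced_of_tower W' (algebraMap K₁ L₁) j (algebraMap K₁ M₁) hf' h1.2⟩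

end Main

end Groth.Agent.H10.EtRamS
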