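import Mathlib.RingTheory.Etale.Basic
import Mathlib.RingTheory.TensorProduct.Quotient
import Mathlib.RingTheory.Ideal.IdempotentFG
import Mathlib.RingTheory.Localization.Away.Basic

set_option autoImplicit false
universe u

namespace Groth.Agent.H10

open Polynomial

/-- The kernel of a retraction of an etale algebra is generated by an idempotent. -/
theorem exists_idempotent_ker_of_retraction {k B : Type u} [CommRing k] [CommRing B] [Algebra k B]
    [Algebra.Etale k B] (s : B →ₐ[k] k) :
    ∃ e : B, IsIdempotentElem e ∧ RingHom.ker s.toRingHom = Ideal.span {e} := by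
  have hsurj : Function.Surjective s := by
    intro x
    exact ⟨algebraMap k B x, s.commutes x⟩
  let _ : Algebra B k := s.toRingHom.toAlgebra
  have : IsScalarTower k B k := IsScalarTower.of_algebraMap_eq' (by
    ext x
    exact (s.commutes x).symm)
  have : Algebra.FormallyEtale B k := Algebra.FormallyEtale.of_restrictScalars (R := k)
  have hid : IsIdempotentElem (RingHom.ker (algebraMap B k)) :=
    (Algebra.FormallyEtale.iff_of_surjective hsurj).mp inferInstance
  have hfg : (RingHom.ker s.toRingHom).FG :=
    Algebra.FinitePresentation.ker_fG_of_surjective s hsurj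
  exact (Ideal.isIdempotentElem_iff_of_fg _ hfg).mp hid

end Groth.Agent.H10

namespace Groth.Agent.H10

/-- Given an etale `A`-algebra `B` with an `A`-algebra map `σ : B → A/I` and `c ∈ B` with `σ c` a unit,
some principal localization `A'` of `B` is etale over `A`, inverts `c`, satisfies `A/I ≅ A'/IA'`,
and `σ` extends to `A'` inducing the inverse isomorphism. -/
theorem exists_etale_localization_of_retraction {A B : Type u} [CommRing A] [CommRing B]
    [Algebra A B] [Algebra.Etale A B] (I : Ideal A) (σ : B →ₐ[A] A ⧸ I) (c : B)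
    (hc : IsUnit (σ c)) :
    ∃ (A' : Type u) (_ : CommRing A') (_ : Algebra A A') (_ : Algebra.Etale A A')
      (ι : B →ₐ[A] A') (σ' : A' →ₐ[A] A ⧸ I),
      σ'.comp ι = σ ∧ IsUnit (ι c) ∧
      Function.Bijective (Ideal.quotientMap (I.map (algebraMap A A')) (algebraMap A A')
        Ideal.le_comap_map) ∧
      (∀ x : A', Ideal.quotientMap (I.map (algebraMap A A')) (algebraMap A A') Ideal.le_comap_map
        (σ' x) = Ideal.Quotient.mk _ x) := by
  set IB := I.map (algebraMap A B) with hIB
  have : Algebra.Etale (A ⧸ I) (B ⧸ IB) :=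
    Algebra.Etale.of_equiv (Algebra.TensorProduct.quotIdealMapEquivQuotTensor B I).symm
  have hσI : ∀ x ∈ IB, σ x = 0 := by
    intro x hx
    have : IB ≤ RingHom.ker σ.toRingHom := by
      rw [hIB, Ideal.map_le_iff_le_comap]
      intro a ha
      rw [Ideal.mem_comap, RingHom.mem_ker]
      change σ (algebraMap A B a) = 0
      rw [σ.commutes, Ideal.Quotient.algebraMap_eq, Ideal.Quotient.eq_zero_iff_mem]
      exact ha
    exact this hx
  -- the retraction on the quotient
  let σbar : (B ⧸ IB) →ₐ[A ⧸ I] A ⧸ I :=
    { Ideal.Quotient.lift IB σ.toRingHom hσI with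
      commutes' := by
        intro x
        obtain ⟨a, rfl⟩ := Ideal.Quotient.mk_surjective x
        change Ideal.Quotient.lift IB σ.toRingHom hσI
          (Ideal.quotientMap IB (algebraMap A B) Ideal.le_comap_map (Ideal.Quotient.mk I a)) = _
        rw [Ideal.quotientMap_mk, Ideal.Quotient.lift_mk]
        change σ (algebraMap A B a) = _
        rw [σ.commutes]
        rfl }
  have hσbar : ∀ b : B, σbar (Ideal.Quotient.mk IB b) = σ b := fun b => rfl
  obtain ⟨e, he, hker⟩ := exists_idempotent_ker_of_retraction σbar
  obtain ⟨b₀, hb₀⟩ := Ideal.Quotient.mk_surjective (1 - e)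
  have he0 : σbar e = 0 := by
    have : e ∈ RingHom.ker σbar.toRingHom := by rw [hker]; exact Ideal.mem_span_singleton_self e
    exact this
  have hσb₀ : σ b₀ = 1 := by
    rw [← hσbar, hb₀, map_sub, map_one, he0, sub_zero]
  set d := b₀ * c with hd
  have hσd : IsUnit (σ d) := by
    rw [hd, map_mul, hσb₀, one_mul]; exact hc
  -- key: elements of ker σ become elements of I A' after multiplying by b₀
  have hkey : ∀ b' : B, σ b' = 0 → b₀ * b' ∈ IB := by
    intro b' hb'
    have h1 : Ideal.Quotient.mk IB b' ∈ RingHom.ker σbar.toRingHom := by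
      rw [RingHom.mem_ker]; exact hb'
    rw [hker, Ideal.mem_span_singleton'] at h1
    obtain ⟨y, hy⟩ := h1
    rw [← Ideal.Quotient.eq_zero_iff_mem, map_mul, hb₀, ← hy]
    calc (1 - e) * (y * e) = y * (e - e * e) := by ring
      _ = 0 := by rw [he.eq, sub_self, mul_zero]
  refine ⟨Localization.Away d, inferInstance, inferInstance, ?_, IsScalarTower.toAlgHom A B _,
    IsLocalization.Away.liftAlgHom (S := Localization.Away d) (f := σ) d hσd, ?_, ?_, ?_⟩
  · exact Algebra.Etale.comp A B (Localization.Away d)
  · ext b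
    simp
  · exact IsLocalization.Away.isUnit_of_dvd d ⟨b₀, by rw [hd, mul_comm]⟩
  · set A' := Localization.Away d
    set σ' : A' →ₐ[A] A ⧸ I := IsLocalization.Away.liftAlgHom (S := A') (f := σ) d hσd with hσ'
    set q := Ideal.quotientMap (I.map (algebraMap A A')) (algebraMap A A') Ideal.le_comap_map with hq
    have hσ'alg : ∀ b : B, σ' (algebraMap B A' b) = σ b := by
      intro b
      simp [hσ', IsLocalization.Away.liftAlgHom_apply]
    have hud : IsUnit (algebraMap B A' d) := IsLocalization.Away.algebraMap_isUnit d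
    have hub₀ : IsUnit (algebraMap B A' b₀) :=
      IsLocalization.Away.isUnit_of_dvd d ⟨c, hd⟩
    have hIBA' : IB.map (algebraMap B A') ≤ I.map (algebraMap A A') := by
      rw [hIB, Ideal.map_map, ← IsScalarTower.algebraMap_eq]
    -- claim for elements of B
    have hclaim : ∀ b : B, q (σ b) = Ideal.Quotient.mk _ (algebraMap B A' b) := by
      intro b
      obtain ⟨a, ha⟩ := Ideal.Quotient.mk_surjective (σ b)
      rw [← ha, hq, Ideal.quotientMap_mk, Ideal.Quotient.eq, IsScalarTower.algebraMap_apply A B A',
        ← map_sub]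
      have h0 : σ (algebraMap A B a - b) = 0 := by
        rw [map_sub, σ.commutes, Ideal.Quotient.algebraMap_eq, ha, sub_self]
      have h1 := hIBA' (Ideal.mem_map_of_mem (algebraMap B A') (hkey _ h0))
      rw [map_mul] at h1
      obtain ⟨w, hw⟩ := hub₀
      rw [← hw] at h1
      have := Ideal.mul_mem_left _ (↑w⁻¹ : A') h1
      rwa [← mul_assoc, Units.inv_mul, one_mul] at this
    have hmain : ∀ x : A', q (σ' x) = Ideal.Quotient.mk _ x := by
      intro x
      obtain ⟨⟨b, ⟨_, n, rfl⟩⟩, hx⟩ := IsLocalization.surj (Submonoid.powers d) x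
      simp only at hx
      have h1 : q (σ' x) * q (σ' (algebraMap B A' (d ^ n))) =
          Ideal.Quotient.mk _ x * Ideal.Quotient.mk _ (algebraMap B A' (d ^ n)) := by
        rw [← map_mul, ← map_mul, ← map_mul, hx, hσ'alg, hclaim]
      rw [hσ'alg, hclaim] at h1
      have hu : IsUnit (Ideal.Quotient.mk (I.map (algebraMap A A')) (algebraMap B A' (d ^ n))) := by
        rw [map_pow, map_pow]
        exact (hud.map _).pow n
      exact hu.mul_left_injective h1
    refine ⟨⟨?_, ?_⟩, hmain⟩
    · rw [injective_iff_map_eq_zero]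
      intro x hx
      obtain ⟨a, rfl⟩ := Ideal.Quotient.mk_surjective x
      rw [hq, Ideal.quotientMap_mk, Ideal.Quotient.eq_zero_iff_mem] at hx
      have hle : I.map (algebraMap A A') ≤ RingHom.ker σ'.toRingHom := by
        rw [Ideal.map_le_iff_le_comap]
        intro a ha
        rw [Ideal.mem_comap, RingHom.mem_ker]
        change σ' (algebraMap A A' a) = 0
        rw [σ'.commutes, Ideal.Quotient.algebraMap_eq, Ideal.Quotient.eq_zero_iff_mem]
        exact ha
      have h2 := hle hx
      rw [RingHom.mem_ker] at h2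
      change σ' (algebraMap A A' a) = 0 at h2
      rwa [σ'.commutes] at h2
    · intro y
      obtain ⟨x, rfl⟩ := Ideal.Quotient.mk_surjective y
      exact ⟨σ' x, hmain x⟩

end Groth.Agent.H10
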