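import Mathlib

set_option autoImplicit false
set_option linter.style.haveILetI false
universe u
namespace Groth.Agent.H10

section
variable {R : Type*} [CommRing R] (S : Submonoid R)
variable {M₀ M₁ M₂ : Type*} [AddCommGroup M₀] [Module R M₀] [AddCommGroup M₁] [Module R M₁]
  [AddCommGroup M₂] [Module R M₂]

theorem localizedModule_map_exact (g : M₀ →ₗ[R] M₁) (h : M₁ →ₗ[R] M₂) (ex : Function.Exact g h) :
    Function.Exact (LocalizedModule.map S g) (LocalizedModule.map S h) :=
  LocalizedModule.map_exact S g h ex

theorem localizedModule_map_surjective (g : M₀ →ₗ[R] M₁) (hg : Function.Surjective g) :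
    Function.Surjective (LocalizedModule.map S g) :=
  LocalizedModule.map_surjective S g hg

/-- length is additive under localization of a short exact sequence. -/
theorem length_localizedModule_eq_add (g : M₀ →ₗ[R] M₁) (h : M₁ →ₗ[R] M₂)
    (hg : Function.Injective g) (hh : Function.Surjective h) (ex : Function.Exact g h) :
    Module.length (Localization S) (LocalizedModule S M₁) =
      Module.length (Localization S) (LocalizedModule S M₀) +
        Module.length (Localization S) (LocalizedModule S M₂) :=
  Module.length_eq_add_of_exact (LocalizedModule.map S g) (LocalizedModule.map S h)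
    (LocalizedModule.map_injective S g hg) (LocalizedModule.map_surjective S h hh)
    (localizedModule_map_exact S g h ex)

end
section Simple
variable {R : Type*} [CommRing R] (q : Ideal R) [hq : q.IsPrime]

theorem isSimpleModule_localizedModule_quotient :
    IsSimpleModule (Localization q.primeCompl) (LocalizedModule q.primeCompl (R ⧸ q)) := by
  rw [isSimpleModule_iff_toSpanSingleton_surjective]
  have hgen : ∀ y : LocalizedModule q.primeCompl (R ⧸ q), ∃ (r : R) (s : q.primeCompl),
      y = LocalizedModule.mk (Ideal.Quotient.mk q r) s := by
    intro y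
    induction y using LocalizedModule.induction_on with
    | h m s =>
      obtain ⟨r, rfl⟩ := Ideal.Quotient.mk_surjective m
      exact ⟨r, s, rfl⟩
  constructor
  · refine ⟨⟨LocalizedModule.mk (1 : R ⧸ q) 1, 0, ?_⟩⟩
    intro h
    rw [← LocalizedModule.zero_mk 1, LocalizedModule.mk_eq] at h
    obtain ⟨u, hu⟩ := h
    rw [one_smul, one_smul, smul_zero] at hu
    have h1 : (u : R) • (1 : R ⧸ q) = 0 := hu
    rw [Algebra.smul_def, mul_one, Ideal.Quotient.algebraMap_eq,
      Ideal.Quotient.eq_zero_iff_mem] at h1
    exact u.2 h1
  · intro x hx y
    obtain ⟨r, s, rfl⟩ := hgen x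
    obtain ⟨r', s', rfl⟩ := hgen y
    have hr : r ∉ q := by
      intro hr
      apply hx
      have : Ideal.Quotient.mk q r = 0 := Ideal.Quotient.eq_zero_iff_mem.2 hr
      rw [this, LocalizedModule.zero_mk]
    refine ⟨Localization.mk (r' * s) (s' * ⟨r, hr⟩), ?_⟩
    rw [LinearMap.toSpanSingleton_apply, LocalizedModule.mk_smul_mk, LocalizedModule.mk_eq]
    refine ⟨1, ?_⟩
    rw [one_smul, one_smul]
    change (s' : R) • ((r' * (s : R)) • Ideal.Quotient.mk q r) =
      ((s' : R) * r * (s : R)) • (Ideal.Quotient.mk q r')
    simp only [Algebra.smul_def, Ideal.Quotient.algebraMap_eq, ← map_mul]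
    congr 1
    ring

theorem length_localizedModule_quotient :
    Module.length (Localization q.primeCompl) (LocalizedModule q.primeCompl (R ⧸ q)) = 1 := by
  haveI := isSimpleModule_localizedModule_quotient q
  exact Module.length_eq_one _ _

end Simple

section Congr
variable {R : Type*} [CommRing R] (S : Submonoid R)
variable {P P' : Type*} [AddCommGroup P] [Module R P] [AddCommGroup P'] [Module R P']

theorem length_localizedModule_congr (e : P ≃ₗ[R] P') :
    Module.length (Localization S) (LocalizedModule S P) =
      Module.length (Localization S) (LocalizedModule S P') :=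
  (LinearEquiv.ofBijective (LocalizedModule.map S e.toLinearMap)
    ⟨LocalizedModule.map_injective S _ e.injective,
      LocalizedModule.map_surjective S _ e.surjective⟩).length_eq

theorem length_localizedModule_of_subsingleton [Subsingleton P] :
    Module.length (Localization S) (LocalizedModule S P) = 0 := by
  rw [Module.length_eq_zero_iff]
  refine ⟨fun a b => ?_⟩
  induction a using LocalizedModule.induction_on with
  | h m s =>
    induction b using LocalizedModule.induction_on with
    | h m' s' =>
      rw [Subsingleton.elim m 0, Subsingleton.elim m' 0, LocalizedModule.zero_mk,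
        LocalizedModule.zero_mk]

end Congr

end Groth.Agent.H10
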