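import Mathlib
import Groth.Agent.H10.LocLength
import Groth.Prelude.Def_CycAlg

set_option autoImplicit false
set_option linter.style.haveILetI false
set_option linter.unusedSectionVars false
universe u v

namespace Groth.Agent.H10.EPQ

open CycAlg

section A
variable (R : Type u) [CommRing R] [IsNoetherianRing R] [IsLocalRing R]

theorem length_lt_top_of_support_subset (N : Type v) [AddCommGroup N] [Module R N]
    [hfin : Module.Finite R N]
    (h : ∀ p ∈ Module.support R N, p.asIdeal = IsLocalRing.maximalIdeal R) :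
    Module.length R N < ⊤ := by
  induction hfin using IsNoetherianRing.induction_on_isQuotientEquivQuotientPrime R with
  | subsingleton N =>
    rw [Module.length_eq_zero]
    exact WithTop.top_pos
  | quotient N p f =>
    have hp : p ∈ Module.support R N := by
      rw [LinearEquiv.support_eq f, Module.support_eq_zeroLocus, Ideal.annihilator_quotient]
      exact fun x hx => hx
    have hpm := h p hp
    haveI : p.asIdeal.IsMaximal := hpm ▸ IsLocalRing.maximalIdeal.isMaximal R
    haveI : IsSimpleModule R N := isSimpleModule_iff_quot_maximal.2 ⟨p.asIdeal, inferInstance, ⟨f⟩⟩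
    rw [Module.length_eq_one]
    exact ENat.one_lt_top
  | exact N₁ N₂ N₃ f g hf hg hfg h₁ h₃ =>
    rw [Module.length_eq_add_of_exact f g hf hg hfg]
    have s1 : Module.support R N₁ ⊆ Module.support R N₂ := Module.support_subset_of_injective f hf
    have s3 : Module.support R N₃ ⊆ Module.support R N₂ := Module.support_subset_of_surjective g hg
    exact ENat.add_lt_top.2 ⟨h₁ (fun p hp => h p (s1 hp)), h₃ (fun p hp => h p (s3 hp))⟩

end A

section B
variable {R : Type u} [CommRing R] [IsNoetherianRing R]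

/-- at a prime minimal in `Z`, every finite module supported in `Z` has finite length after
localization. -/
theorem length_localized_lt_top (Z : Set (PrimeSpectrum R)) (p : PrimeSpectrum R)
    (hmin : ∀ q ∈ Z, q ≤ p → q = p)
    (N : Type v) [AddCommGroup N] [Module R N] [hfin : Module.Finite R N]
    (hN : Module.support R N ⊆ Z) :
    Module.length (Localization p.asIdeal.primeCompl)
      (LocalizedModule p.asIdeal.primeCompl N) < ⊤ := by
  induction hfin using IsNoetherianRing.induction_on_isQuotientEquivQuotientPrime R with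
  | subsingleton N =>
    rw [length_localizedModule_of_subsingleton]
    exact WithTop.top_pos
  | quotient N q f =>
    have hq : q ∈ Module.support R N := by
      rw [LinearEquiv.support_eq f, Module.support_eq_zeroLocus, Ideal.annihilator_quotient]
      exact fun x hx => hx
    have hsupp : ∀ q' : PrimeSpectrum R, q' ∈ Module.support R N ↔ q ≤ q' := by
      intro q'
      rw [LinearEquiv.support_eq f, Module.support_eq_zeroLocus, Ideal.annihilator_quotient]
      exact Iff.rfl
    by_cases hqp : q ≤ p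
    · have : q = p := hmin q (hN hq) hqp
      subst this
      rw [length_localizedModule_congr q.asIdeal.primeCompl f, length_localizedModule_quotient]
      exact ENat.one_lt_top
    · have : p ∉ Module.support R N := by
        rw [hsupp]
        exact hqp
      rw [Module.notMem_support_iff] at this
      rw [Module.length_eq_zero_iff.2 this]
      exact WithTop.top_pos
  | exact N₁ N₂ N₃ f g hf hg hfg h₁ h₃ =>
    have s1 : Module.support R N₁ ⊆ Z :=
      (Module.support_subset_of_injective f hf).trans hN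
    have s3 : Module.support R N₃ ⊆ Z :=
      (Module.support_subset_of_surjective g hg).trans hN
    rw [length_localizedModule_eq_add p.asIdeal.primeCompl f g hf hg hfg]
    exact ENat.add_lt_top.2 ⟨h₁ s1, h₃ s3⟩

end B

section C0
variable {A : Type u} [CommRing A] {M : Type v} [AddCommGroup M] [Module A M]

theorem exact_aux (K : Submodule A M) (φ ψ : M →ₗ[A] M)
    (hφ : Function.Injective φ) (hψ : Function.Injective ψ)
    (h1 : ∀ k, k ∈ K ↔ ∃ n, k = φ (ψ n)) (h2 : ∀ k, k ∈ K ↔ ∃ n, k = ψ (φ n))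
    (φ' ψ' : (M ⧸ K) →ₗ[A] (M ⧸ K))
    (hφ'a : ∀ m : M, φ' (K.mkQ m) = K.mkQ (φ m))
    (hψ'a : ∀ m : M, ψ' (K.mkQ m) = K.mkQ (ψ m)) :
    CycAlg.IsPeriodic φ' ψ' ∧
      Subsingleton (CycAlg.perH φ' ψ') ∧ Subsingleton (CycAlg.perH ψ' φ') := by
  refine ⟨⟨?_, ?_⟩, ?_, ?_⟩
  · ext m
    simp only [LinearMap.comp_apply, LinearMap.zero_apply]
    rw [hψ'a, hφ'a]
    exact (Submodule.Quotient.mk_eq_zero K).2 ((h1 _).2 ⟨m, rfl⟩)
  · ext m
    simp only [LinearMap.comp_apply, LinearMap.zero_apply]
    rw [hφ'a, hψ'a]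
    exact (Submodule.Quotient.mk_eq_zero K).2 ((h2 _).2 ⟨m, rfl⟩)
  · refine ⟨fun a b => ?_⟩
    have key : ∀ c : perH φ' ψ', c = 0 := by
      intro c
      obtain ⟨⟨y, hy⟩, rfl⟩ := Submodule.Quotient.mk_surjective _ c
      rw [Submodule.Quotient.mk_eq_zero]
      change y ∈ LinearMap.range ψ'
      obtain ⟨m, rfl⟩ := Submodule.mkQ_surjective K y
      rw [LinearMap.mem_ker, hφ'a] at hy
      have h3 : φ m ∈ K := (Submodule.Quotient.mk_eq_zero K).1 hy
      obtain ⟨n, hn⟩ := (h1 _).1 h3
      have h4 : m = ψ n := hφ hn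
      exact ⟨K.mkQ n, by rw [hψ'a, h4]⟩
    rw [key a, key b]
  · refine ⟨fun a b => ?_⟩
    have key : ∀ c : perH ψ' φ', c = 0 := by
      intro c
      obtain ⟨⟨y, hy⟩, rfl⟩ := Submodule.Quotient.mk_surjective _ c
      rw [Submodule.Quotient.mk_eq_zero]
      change y ∈ LinearMap.range φ'
      obtain ⟨m, rfl⟩ := Submodule.mkQ_surjective K y
      rw [LinearMap.mem_ker, hψ'a] at hy
      have h3 : ψ m ∈ K := (Submodule.Quotient.mk_eq_zero K).1 hy
      obtain ⟨n, hn⟩ := (h2 _).1 h3
      have h4 : m = φ n := hψ hn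
      exact ⟨K.mkQ n, by rw [hφ'a, h4]⟩
    rw [key a, key b]

end C0

section C
variable {A : Type u} [CommRing A] [IsNoetherianRing A] [IsLocalRing A]
  {M : Type v} [AddCommGroup M] [Module A M] [Module.Finite A M]

theorem length_quot_range_lt_top (hdim : Module.supportDim A M ≤ 1) (φ : M →ₗ[A] M)
    (hφ : Function.Injective φ) : Module.length A (M ⧸ LinearMap.range φ) < ⊤ := by
  apply length_lt_top_of_support_subset
  intro p hp
  by_contra hpm
  have hpM : p ∈ Module.support A M :=
    Module.support_subset_of_surjective _ (Submodule.mkQ_surjective _) hp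
  -- `p` is minimal in the support of `M`
  have hmin : ∀ q ∈ Module.support A M, q ≤ p → q = p := by
    intro q hq hqp
    have hdim' : Order.krullDim (Module.support A M) ≤ 1 := hdim
    rw [Order.krullDim_le_one_iff] at hdim'
    have hclosed : IsLocalRing.closedPoint A ∈ Module.support A M :=
      Module.mem_support_mono (IsLocalRing.le_maximalIdeal p.2.ne_top) hpM
    rcases hdim' ⟨p, hpM⟩ with hmin | hmax
    · have : (⟨p, hpM⟩ : Module.support A M) ≤ ⟨q, hq⟩ :=
        hmin (show (⟨q, hq⟩ : Module.support A M) ≤ ⟨p, hpM⟩ from hqp)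
      exact le_antisymm hqp this
    · exfalso
      have hle : (⟨p, hpM⟩ : Module.support A M) ≤ ⟨IsLocalRing.closedPoint A, hclosed⟩ :=
        IsLocalRing.le_maximalIdeal p.2.ne_top
      have h3 : IsLocalRing.closedPoint A ≤ p := hmax hle
      exact hpm (le_antisymm (IsLocalRing.le_maximalIdeal p.2.ne_top) h3)
  have hfin := length_localized_lt_top (Module.support A M) p hmin M (le_refl _)
  have hadd := length_localizedModule_eq_add p.asIdeal.primeCompl φ (LinearMap.range φ).mkQ hφ
    (Submodule.mkQ_surjective _) (LinearMap.exact_map_mkQ_range φ)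
  have hzero : Module.length (Localization p.asIdeal.primeCompl)
      (LocalizedModule p.asIdeal.primeCompl (M ⧸ LinearMap.range φ)) = 0 := by
    have h1 : Module.length (Localization p.asIdeal.primeCompl)
        (LocalizedModule p.asIdeal.primeCompl M) + 0 =
        Module.length (Localization p.asIdeal.primeCompl)
        (LocalizedModule p.asIdeal.primeCompl M) + Module.length (Localization p.asIdeal.primeCompl)
      (LocalizedModule p.asIdeal.primeCompl (M ⧸ LinearMap.range φ)) := by
      rw [add_zero]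
      exact hadd
    exact (ENat.add_right_injective_of_ne_top hfin.ne h1).symm
  rw [Module.length_eq_zero_iff] at hzero
  exact (Module.notMem_support_iff.2 hzero) hp

theorem exact_periodic_quot (hdim : Module.supportDim A M = 1) (φ ψ : M →ₗ[A] M)
    (hφ : Function.Injective φ) (hψ : Function.Injective ψ)
    (hcomm : Submodule.map φ (LinearMap.range ψ) = Submodule.map ψ (LinearMap.range φ))
    (φ' ψ' : (M ⧸ LinearMap.range (φ ∘ₗ ψ)) →ₗ[A] (M ⧸ LinearMap.range (φ ∘ₗ ψ)))
    (hφ' : φ' ∘ₗ (LinearMap.range (φ ∘ₗ ψ)).mkQ = (LinearMap.range (φ ∘ₗ ψ)).mkQ ∘ₗ φ)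
    (hψ' : ψ' ∘ₗ (LinearMap.range (φ ∘ₗ ψ)).mkQ = (LinearMap.range (φ ∘ₗ ψ)).mkQ ∘ₗ ψ) :
    Module.length A (M ⧸ LinearMap.range (φ ∘ₗ ψ)) < ⊤ ∧ CycAlg.IsPeriodic φ' ψ' ∧
      Subsingleton (CycAlg.perH φ' ψ') ∧ Subsingleton (CycAlg.perH ψ' φ') := by
  refine ⟨length_quot_range_lt_top hdim.le (φ ∘ₗ ψ) (hφ.comp hψ), ?_⟩
  refine exact_aux (LinearMap.range (φ ∘ₗ ψ)) φ ψ hφ hψ ?_ ?_ φ' ψ'
    (fun m => LinearMap.congr_fun hφ' m) (fun m => LinearMap.congr_fun hψ' m)
  · intro k
    constructor
    · rintro ⟨n, rfl⟩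
      exact ⟨n, rfl⟩
    · rintro ⟨n, rfl⟩
      exact ⟨n, rfl⟩
  · intro k
    constructor
    · rintro ⟨n, rfl⟩
      have h1 : φ (ψ n) ∈ Submodule.map φ (LinearMap.range ψ) := ⟨ψ n, ⟨n, rfl⟩, rfl⟩
      rw [hcomm] at h1
      obtain ⟨_, ⟨n', rfl⟩, hn'⟩ := h1
      exact ⟨n', hn'.symm⟩
    · rintro ⟨n, rfl⟩
      have h1 : ψ (φ n) ∈ Submodule.map ψ (LinearMap.range φ) := ⟨φ n, ⟨n, rfl⟩, rfl⟩
      rw [← hcomm] at h1
      obtain ⟨_, ⟨n', rfl⟩, hn'⟩ := h1
      exact ⟨n', hn'⟩

end C

end Groth.Agent.H10.EPQ
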