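import Mathlib

namespace Groth.Agent.H10.ExpSum

open Polynomial

/-- The ring hom `ℤ[X] → ℚ(X)`. -/
noncomputable def iota : ℤ[X] →+* RatFunc ℚ :=
  (algebraMap ℚ[X] (RatFunc ℚ)).comp (Polynomial.mapRingHom (Int.castRingHom ℚ))

theorem iota_apply (P : ℤ[X]) :
    iota P = algebraMap ℚ[X] (RatFunc ℚ) (P.map (Int.castRingHom ℚ)) := rfl

theorem iota_X : iota X = RatFunc.X := by
  simp [iota_apply, RatFunc.algebraMap_X]

theorem iota_injective : Function.Injective iota := by
  intro a b h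
  rw [iota_apply, iota_apply] at h
  exact Polynomial.map_injective _ (RingHom.injective_int (Int.castRingHom ℚ))
    (RatFunc.algebraMap_injective ℚ h)

theorem pow_ne_one_of_lt (q : ℤ) (hq : 1 < q) (n : ℕ) (hn : 1 ≤ n) : q ^ n ≠ 1 := by
  have : 1 < q ^ n := one_lt_pow₀ hq (by omega)
  omega

/-- Part D: closure decomposition. -/
theorem exists_num_den (q : ℤ) (hq : 1 < q) (F : RatFunc ℚ)
    (hF : F ∈ Subring.closure
      (({RatFunc.X, (RatFunc.X : RatFunc ℚ)⁻¹} : Set (RatFunc ℚ)) ∪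
        Set.range fun n : ℕ => ((RatFunc.X : RatFunc ℚ) ^ (n + 1) - 1)⁻¹)) :
    ∃ G D : ℤ[X], (∀ v : ℕ, 1 ≤ v → D.eval (q ^ v) ≠ 0) ∧ F * iota D = iota G := by
  induction hF using Subring.closure_induction with
  | mem x hx =>
    rcases hx with hx | ⟨n, rfl⟩
    · rcases hx with rfl | hx
      · exact ⟨X, 1, by simp, by simp [iota_X]⟩
      · rw [Set.mem_singleton_iff] at hx
        subst hx
        refine ⟨1, X, fun v _ => ?_, ?_⟩
        · simp only [eval_X]
          exact pow_ne_zero _ (by omega)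
        · rw [iota_X, map_one, inv_mul_cancel₀ RatFunc.X_ne_zero]
    · refine ⟨1, X ^ (n + 1) - 1, fun v hv => ?_, ?_⟩
      · simp only [eval_sub, eval_pow, eval_X, eval_one]
        rw [← pow_mul, sub_ne_zero]
        exact pow_ne_one_of_lt q hq _ (by nlinarith)
      · simp only [map_sub, map_pow, map_one, iota_X]
        apply inv_mul_cancel₀
        intro h
        have h2 : iota (X ^ (n + 1) - 1) = 0 := by
          simp only [map_sub, map_pow, map_one, iota_X]; exact h
        have h3 := iota_injective (h2.trans (map_zero iota).symm)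
        have := congrArg (fun P => P.eval 2) h3
        simp at this
        have h4 : (2:ℤ) ^ (n + 1) ≠ 1 := pow_ne_one_of_lt 2 (by norm_num) _ (by omega)
        omega
  | zero => exact ⟨0, 1, by simp, by simp⟩
  | one => exact ⟨1, 1, by simp, by simp⟩
  | add x y _ _ hx hy =>
    obtain ⟨G1, D1, h1, e1⟩ := hx
    obtain ⟨G2, D2, h2, e2⟩ := hy
    refine ⟨G1 * D2 + G2 * D1, D1 * D2, fun v hv => ?_, ?_⟩
    · rw [eval_mul]; exact mul_ne_zero (h1 v hv) (h2 v hv)
    · simp only [map_add, map_mul, ← e1, ← e2]; ring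
  | mul x y _ _ hx hy =>
    obtain ⟨G1, D1, h1, e1⟩ := hx
    obtain ⟨G2, D2, h2, e2⟩ := hy
    refine ⟨G1 * G2, D1 * D2, fun v hv => ?_, ?_⟩
    · rw [eval_mul]; exact mul_ne_zero (h1 v hv) (h2 v hv)
    · simp only [map_mul, ← e1, ← e2]; ring
  | neg x _ hx =>
    obtain ⟨G1, D1, h1, e1⟩ := hx
    exact ⟨-G1, D1, h1, by simp only [map_neg, ← e1]; ring⟩

end Groth.Agent.H10.ExpSum
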