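import Mathlib

namespace Groth.Agent.H10.ExpSum

theorem indep {K : Type*} [Field K] (c : K →₀ K) (h0 : c 0 = 0)
    (h : ∀ v : ℕ, 1 ≤ v → c.sum (fun μ a => a * μ ^ v) = 0) : c = 0 := by
  classical
  have hli := linearIndependent_monoidHom (Multiplicative ℕ) K
  have hinj : Function.Injective (fun μ : K => (powersHom K μ)) := (powersHom K).injective
  have hli2 := hli.comp _ hinj
  rw [linearIndependent_iff'] at hli2
  have key := hli2 c.support (fun μ => c μ * μ) ?_
  · ext μ
    by_cases hμ : μ ∈ c.support
    · have h1 := key μ hμ
      rcases mul_eq_zero.mp h1 with h2 | h2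
      · simpa using h2
      · subst h2; simpa using h0
    · simpa using hμ
  · funext n
    have := h (Multiplicative.toAdd n + 1) (by omega)
    rw [Finsupp.sum] at this
    simp only [Function.comp_apply, Finset.sum_apply, Pi.smul_apply, smul_eq_mul, Pi.zero_apply]
    rw [← this]
    apply Finset.sum_congr rfl
    intro μ _
    simp [powersHom, pow_succ]
    ring

end Groth.Agent.H10.ExpSum
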