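import Mathlib

namespace Groth.Agent.H10.ExpSum

open PowerSeries

variable {K : Type*} [Field K]

/-- `ψ(α) = Σ_{v ≥ 1} α^v X^v`. -/
noncomputable def psi (α : K) : K⟦X⟧ := PowerSeries.mk (fun v => if v = 0 then 0 else α ^ v)

theorem coeff_psi (α : K) (v : ℕ) (hv : 1 ≤ v) : coeff v (psi α) = α ^ v := by
  rw [psi, coeff_mk, if_neg (by omega)]

theorem coeff_zero_psi (α : K) : coeff 0 (psi α) = 0 := by
  rw [psi, coeff_mk, if_pos rfl]

/-- the log-derivative predicate -/
def LD (f : K⟦X⟧) : Prop :=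
  ∃ (m : K →₀ ℤ) (r : K), m 0 = 0 ∧
    (X : K⟦X⟧) * d⁄dX K f = (C r - m.sum (fun α n => (n : K) • psi α)) * f

theorem LD_C (c : K) : LD (C c : K⟦X⟧) := by
  refine ⟨0, 0, rfl, ?_⟩
  have : d⁄dX K (C c : K⟦X⟧) = 0 := by
    have := (d⁄dX K).map_algebraMap c
    simpa using this
  rw [this]; simp

theorem LD_mul {f g : K⟦X⟧} (hf : LD f) (hg : LD g) : LD (f * g) := by
  obtain ⟨m1, r1, h1, e1⟩ := hf
  obtain ⟨m2, r2, h2, e2⟩ := hg
  refine ⟨m1 + m2, r1 + r2, by simp [h1, h2], ?_⟩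
  rw [Finsupp.sum_add_index' (by intro a; simp) (by intro a b c; simp [add_smul])]
  rw [Derivation.leibniz]
  simp only [smul_eq_mul, map_add]
  calc X * (f * d⁄dX K g + g * d⁄dX K f) = f * (X * d⁄dX K g) + g * (X * d⁄dX K f) := by ring
    _ = _ := by rw [e1, e2]; ring

theorem X_sub_C_mul_psi (a : K) (ha : a ≠ 0) :
    ((X : K⟦X⟧) - C a) * psi a⁻¹ = - X := by
  ext n
  rw [sub_mul, map_sub, map_neg, coeff_X]
  rcases n with _ | n
  · simp [coeff_zero_psi]
  · rw [coeff_succ_X_mul, coeff_C_mul, coeff_psi _ (n + 1) (by omega)]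
    rcases n with _ | n
    · rw [coeff_zero_psi]
      simp [ha]
    · rw [coeff_psi _ (n + 1) (by omega), if_neg (by omega)]
      have : a * a⁻¹ ^ (n + 1 + 1) = a⁻¹ ^ (n + 1) := by
        rw [pow_succ _ (n + 1), mul_comm, mul_assoc, inv_mul_cancel₀ ha, mul_one]
      rw [this]; ring

theorem LD_X_sub_C (a : K) : LD ((X : K⟦X⟧) - C a) := by
  classical
  have hd : d⁄dX K ((X : K⟦X⟧) - C a) = 1 := by
    have : d⁄dX K (C a : K⟦X⟧) = 0 := by
      have := (d⁄dX K).map_algebraMap a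
      simpa using this
    rw [map_sub, this, derivative_X, sub_zero]
  by_cases ha : a = 0
  · subst ha
    refine ⟨0, 1, rfl, ?_⟩
    rw [hd]; simp
  · refine ⟨Finsupp.single a⁻¹ 1, 0, ?_, ?_⟩
    · rw [Finsupp.single_apply, if_neg (inv_ne_zero ha)]
    · rw [hd, Finsupp.sum_single_index (by simp)]
      simp only [Int.cast_one, one_smul, map_zero, zero_sub, mul_one, neg_mul]
      rw [mul_comm, X_sub_C_mul_psi a ha, neg_neg]

theorem LD_coe_polynomial [IsAlgClosed K] (P : Polynomial K) (hP : P ≠ 0) :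
    LD (P : K⟦X⟧) := by
  have hs := (IsAlgClosed.splits P).eq_prod_roots
  rw [hs]
  rw [Polynomial.coe_mul, Polynomial.coe_C]
  apply LD_mul (LD_C _)
  have : ((Multiset.map (fun a => Polynomial.X - Polynomial.C a) P.roots).prod : Polynomial K)
      = (Polynomial.coeToPowerSeries.ringHom : Polynomial K →+* K⟦X⟧)
        (Multiset.map (fun a => Polynomial.X - Polynomial.C a) P.roots).prod := rfl
  rw [this, map_multiset_prod]
  apply Multiset.prod_induction LD
  · intro a b ha hb; exact LD_mul ha hb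
  · have := LD_C (1 : K); simpa using this
  · intro f hf
    rw [Multiset.mem_map] at hf
    obtain ⟨g, hg, rfl⟩ := hf
    rw [Multiset.mem_map] at hg
    obtain ⟨a, _, rfl⟩ := hg
    have := LD_X_sub_C a
    simpa using this

end Groth.Agent.H10.ExpSum
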