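import Mathlib
import Groth.Agent.H10.ExpSum3

namespace Groth.Agent.H10.ExpSum

open PowerSeries

/-- the series `S = Σ_{v ≥ 1} a_v t^v / v` -/
noncomputable def Sser (a : ℕ → ℚ) : ℚ⟦X⟧ :=
  PowerSeries.mk fun v : ℕ => if v = 0 then (0 : ℚ) else a v / (v : ℚ)

theorem constantCoeff_Sser (a : ℕ → ℚ) : constantCoeff (Sser a) = 0 := by
  rw [← coeff_zero_eq_constantCoeff_apply, Sser, coeff_mk, if_pos rfl]

theorem hasSubst_Sser (a : ℕ → ℚ) : HasSubst (Sser a) :=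
  HasSubst.of_constantCoeff_zero' (constantCoeff_Sser a)

theorem coeff_X_mul_derivative_Sser (a : ℕ → ℚ) (v : ℕ) (hv : 1 ≤ v) :
    coeff v (X * d⁄dX ℚ (Sser a)) = a v := by
  obtain ⟨n, rfl⟩ : ∃ n, v = n + 1 := ⟨v - 1, by omega⟩
  rw [coeff_succ_X_mul, coeff_derivative, Sser, coeff_mk, if_neg (by omega)]
  have : ((n + 1 : ℕ) : ℚ) ≠ 0 := by positivity
  push_cast at this ⊢
  field_simp

theorem constantCoeff_exp_subst (a : ℕ → ℚ) :
    constantCoeff ((exp ℚ).subst (Sser a)) = 1 := by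
  have h1 : exp ℚ = 1 + (exp ℚ - 1) := by ring
  rw [h1, subst_add (hasSubst_Sser a), map_add]
  have h2 : ((1 : ℚ⟦X⟧).subst (Sser a) : ℚ⟦X⟧) = 1 := by
    have := subst_C (a := Sser a) (1 : ℚ)
    simpa using this
  rw [h2]
  have h3 := constantCoeff_subst_eq_zero (a := Sser a) (constantCoeff_Sser a) (exp ℚ - 1)
    (by simp)
  have h3' : constantCoeff ((exp ℚ - 1).subst (Sser a)) = 0 := h3
  rw [h3']; simp

theorem derivative_exp_subst (a : ℕ → ℚ) :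
    d⁄dX ℚ ((exp ℚ).subst (Sser a)) = (exp ℚ).subst (Sser a) * d⁄dX ℚ (Sser a) := by
  rw [derivative_subst (hasSubst_Sser a), derivative_exp]

/-- Step 4 : `dS · P Q = dP Q − P dQ`. -/
theorem key_identity (a : ℕ → ℚ) (P Q : Polynomial ℚ)
    (h : (exp ℚ).subst (Sser a) * (Q : ℚ⟦X⟧) = (P : ℚ⟦X⟧)) :
    d⁄dX ℚ (Sser a) * ((P : ℚ⟦X⟧) * (Q : ℚ⟦X⟧)) =
      d⁄dX ℚ (P : ℚ⟦X⟧) * (Q : ℚ⟦X⟧) - (P : ℚ⟦X⟧) * d⁄dX ℚ (Q : ℚ⟦X⟧) := by
  have hd := congrArg (d⁄dX ℚ) h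
  rw [Derivation.leibniz, derivative_exp_subst] at hd
  simp only [smul_eq_mul] at hd
  set E := (exp ℚ).subst (Sser a) with hE
  rw [← hd, ← h]
  ring

theorem P_ne_zero (a : ℕ → ℚ) (P Q : Polynomial ℚ) (hQ : Q ≠ 0)
    (h : (exp ℚ).subst (Sser a) * (Q : ℚ⟦X⟧) = (P : ℚ⟦X⟧)) : P ≠ 0 := by
  rintro rfl
  rw [Polynomial.coe_zero, mul_eq_zero] at h
  rcases h with h | h
  · have := constantCoeff_exp_subst a
    rw [h] at this
    simp at this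
  · exact hQ (Polynomial.coe_injective ℚ (h.trans Polynomial.coe_zero.symm))

end Groth.Agent.H10.ExpSum
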