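import Mathlib
import Groth.Agent.H10.ExpSum3
import Groth.Agent.H10.ExpSum4

namespace Groth.Agent.H10.ExpSum

open PowerSeries

theorem map_derivative_coe {K : Type*} [Field K] [CharZero K] (P : Polynomial ℚ) :
    PowerSeries.map (algebraMap ℚ K) (d⁄dX ℚ (P : ℚ⟦X⟧)) =
      d⁄dX K ((P.map (algebraMap ℚ K) : Polynomial K) : K⟦X⟧) := by
  rw [derivative_coe, derivative_coe, ← Polynomial.polynomial_map_coe, Polynomial.derivative_map]

theorem coeff_LDsum {K : Type*} [Field K] (m : K →₀ ℤ) (r : K) (v : ℕ) (hv : 1 ≤ v) :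
    coeff v ((C r : K⟦X⟧) - m.sum (fun α n => (n : K) • psi α)) =
      - m.sum (fun α n => (n : K) * α ^ v) := by
  rw [map_sub, coeff_C, if_neg (by omega), zero_sub, Finsupp.sum, Finsupp.sum, map_sum]
  congr 1
  apply Finset.sum_congr rfl
  intro α _
  rw [coeff_smul, coeff_psi _ _ hv, smul_eq_mul]

theorem expsum_of_rational (K : Type*) [Field K] [CharZero K] [IsAlgClosed K] (a : ℕ → ℚ)
    (P Q : Polynomial ℚ) (hQ : Q ≠ 0)
    (h : (exp ℚ).subst (Sser a) * (Q : ℚ⟦X⟧) = (P : ℚ⟦X⟧)) :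
    ∃ m : K →₀ ℤ, m 0 = 0 ∧
      ∀ v : ℕ, 1 ≤ v → ((a v : ℚ) : K) = m.sum (fun α n => (n : K) * α ^ v) := by
  have hP : P ≠ 0 := P_ne_zero a P Q hQ h
  set PK := P.map (algebraMap ℚ K) with hPK
  set QK := Q.map (algebraMap ℚ K) with hQK
  have hPK0 : PK ≠ 0 := (Polynomial.map_ne_zero_iff (algebraMap ℚ K).injective).mpr hP
  have hQK0 : QK ≠ 0 := (Polynomial.map_ne_zero_iff (algebraMap ℚ K).injective).mpr hQ
  obtain ⟨mP, rP, hP0, eP⟩ := LD_coe_polynomial PK hPK0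
  obtain ⟨mQ, rQ, hQ0, eQ⟩ := LD_coe_polynomial QK hQK0
  have hk := congrArg (PowerSeries.map (algebraMap ℚ K)) (key_identity a P Q h)
  rw [map_mul, map_mul, map_sub, map_mul, map_mul, map_derivative_coe, map_derivative_coe,
    ← Polynomial.polynomial_map_coe, ← Polynomial.polynomial_map_coe] at hk
  change _ * ((PK : K⟦X⟧) * (QK : K⟦X⟧)) = d⁄dX K (PK : K⟦X⟧) * (QK : K⟦X⟧) -
    (PK : K⟦X⟧) * d⁄dX K (QK : K⟦X⟧) at hk
  set dS := PowerSeries.map (algebraMap ℚ K) (d⁄dX ℚ (Sser a)) with hdS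
  have hne : (PK : K⟦X⟧) * (QK : K⟦X⟧) ≠ 0 := by
    apply mul_ne_zero
    · intro h0; exact hPK0 (Polynomial.coe_injective K (h0.trans Polynomial.coe_zero.symm))
    · intro h0; exact hQK0 (Polynomial.coe_injective K (h0.trans Polynomial.coe_zero.symm))
  have hmain : (X : K⟦X⟧) * dS =
      ((C rP : K⟦X⟧) - mP.sum (fun α n => (n : K) • psi α)) -
        ((C rQ : K⟦X⟧) - mQ.sum (fun α n => (n : K) • psi α)) := by
    apply mul_right_cancel₀ hne
    calc (X : K⟦X⟧) * dS * ((PK : K⟦X⟧) * (QK : K⟦X⟧))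
        = X * (dS * ((PK : K⟦X⟧) * (QK : K⟦X⟧))) := by ring
      _ = (X * d⁄dX K (PK : K⟦X⟧)) * (QK : K⟦X⟧) - (PK : K⟦X⟧) * (X * d⁄dX K (QK : K⟦X⟧)) := by
          rw [hk]; ring
      _ = _ := by rw [eP, eQ]; ring
  refine ⟨mQ - mP, by simp [hP0, hQ0], fun v hv => ?_⟩
  have hc := congrArg (coeff v) hmain
  rw [map_sub, coeff_LDsum _ _ _ hv, coeff_LDsum _ _ _ hv] at hc
  have hX : (X : K⟦X⟧) * dS = PowerSeries.map (algebraMap ℚ K) (X * d⁄dX ℚ (Sser a)) := by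
    rw [map_mul, map_X]
  rw [hX, coeff_map, coeff_X_mul_derivative_Sser a v hv] at hc
  rw [Finsupp.sum_sub_index (by intro a b c; simp [sub_mul])]
  have : (algebraMap ℚ K) (a v) = ((a v : ℚ) : K) := by simp
  rw [← this, hc]; ring

end Groth.Agent.H10.ExpSum
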