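import Mathlib

namespace Groth.Agent.H10.ExpSum

open Polynomial

variable {K : Type*} [Field K] (b : K) (m : K →₀ ℤ)

open Classical in
/-- a chosen exponent `k` with `b^k = l`, if any -/
noncomputable def kf (l : K) : ℤ := if h : ∃ k : ℤ, b ^ k = l then h.choose else 0

theorem b_zpow_kf (l : K) (h : ∃ k : ℤ, b ^ k = l) : b ^ (kf b l) = l := by
  rw [kf, dif_pos h]; exact h.choose_spec

open Classical in
/-- the part of the support in `b^ℤ` -/
noncomputable def Sq : Finset K := m.support.filter (fun l => ∃ k : ℤ, b ^ k = l)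

open Classical in
/-- the part of the support outside `b^ℤ` -/
noncomputable def Sn : Finset K := m.support.filter (fun l => ¬ ∃ k : ℤ, b ^ k = l)

theorem mem_Sq {l : K} : l ∈ Sq b m ↔ l ∈ m.support ∧ ∃ k : ℤ, b ^ k = l := by
  classical
  rw [Sq, Finset.mem_filter]

theorem mem_Sn {l : K} : l ∈ Sn b m ↔ l ∈ m.support ∧ ¬ ∃ k : ℤ, b ^ k = l := by
  classical
  rw [Sn, Finset.mem_filter]

theorem sum_Sq_add_sum_Sn (f : K → K) :
    ∑ l ∈ Sq b m, f l + ∑ l ∈ Sn b m, f l = ∑ l ∈ m.support, f l := by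
  classical
  rw [Sq, Sn]
  exact Finset.sum_filter_add_sum_filter_not _ _ _

/-- the shift exponent -/
noncomputable def eN : ℕ := ∑ l ∈ Sq b m, (kf b l).natAbs

theorem kf_add_eN_nonneg (l : K) (hl : l ∈ Sq b m) : 0 ≤ kf b l + eN b m := by
  have h1 : (kf b l).natAbs ≤ eN b m :=
    Finset.single_le_sum (f := fun l => (kf b l).natAbs) (fun _ _ => Nat.zero_le _) hl
  omega

/-- the Laurent polynomial (shifted to a polynomial) -/
noncomputable def Lpoly : ℤ[X] := ∑ l ∈ Sq b m, C (m l) * X ^ (kf b l + eN b m).toNat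

theorem aeval_Lpoly (hb0 : b ≠ 0) (v : ℕ) :
    aeval (b ^ v) (Lpoly b m) = (b ^ v) ^ (eN b m) * ∑ l ∈ Sq b m, (m l : K) * l ^ v := by
  rw [Lpoly, map_sum, Finset.mul_sum]
  apply Finset.sum_congr rfl
  intro l hl
  rw [map_mul, aeval_C, map_pow, aeval_X]
  have h1 : b ^ (kf b l + eN b m).toNat = l * b ^ (eN b m) := by
    rw [← zpow_natCast, Int.toNat_of_nonneg (kf_add_eN_nonneg b m l hl), zpow_add₀ hb0,
      zpow_natCast, b_zpow_kf b l ((mem_Sq b m).mp hl).2]
  rw [← pow_mul, mul_comm v, pow_mul, h1, mul_pow, ← pow_mul, ← pow_mul, mul_comm (eN b m) v]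
  simp only [eq_intCast]
  ring

end Groth.Agent.H10.ExpSum
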