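import Mathlib
import Groth.Agent.H10.ExpSum2
import Groth.Agent.H10.ExpSum6

namespace Groth.Agent.H10.ExpSum

open Polynomial

variable {K : Type*} [Field K] (b : K) (m : K →₀ ℤ)

theorem aeval_eq_sum_support (x : K) (H : ℤ[X]) :
    aeval x H = ∑ i ∈ H.support, (H.coeff i : K) * x ^ i := by
  rw [aeval_def, eval₂_eq_sum, sum_def]
  simp only [eq_intCast]

/-- the evaluation functional `c ↦ Σ c(μ) μ^v` -/
noncomputable def ev (v : ℕ) : (K →₀ K) →+ K :=
  Finsupp.liftAddHom (fun μ => AddMonoidHom.mulRight (μ ^ v))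

theorem ev_apply (v : ℕ) (c : K →₀ K) : ev v c = c.sum (fun μ a => a * μ ^ v) := by
  rw [ev, Finsupp.liftAddHom_apply]
  rfl

theorem ev_single (v : ℕ) (μ a : K) : ev v (Finsupp.single μ a) = a * μ ^ v := by
  rw [ev, Finsupp.liftAddHom_apply_single]
  rfl

/-- the finitely supported function used in the independence argument -/
noncomputable def cfun (H D : ℤ[X]) (e : ℕ) : K →₀ K :=
  ∑ i ∈ H.support, Finsupp.single (b ^ i) (H.coeff i : K) -
    ∑ s ∈ D.support, ∑ l ∈ Sn b m,
      Finsupp.single (b ^ (s + e) * l) ((D.coeff s : K) * (m l : K))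

theorem ev_cfun (H D : ℤ[X]) (e : ℕ) (v : ℕ) :
    ev v (cfun b m H D e) =
      aeval (b ^ v) H - aeval (b ^ v) D * (b ^ v) ^ e * ∑ l ∈ Sn b m, (m l : K) * l ^ v := by
  rw [cfun, map_sub, map_sum, aeval_eq_sum_support, aeval_eq_sum_support]
  congr 1
  · apply Finset.sum_congr rfl
    intro i _
    rw [ev_single, ← pow_mul, ← pow_mul, mul_comm i v]
  · rw [map_sum, Finset.sum_mul, Finset.sum_mul]
    apply Finset.sum_congr rfl
    intro s _
    rw [map_sum, Finset.mul_sum]
    apply Finset.sum_congr rfl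
    intro l _
    rw [ev_single, mul_pow, ← pow_mul, ← pow_mul, ← pow_mul]
    have : (s + e) * v = v * s + v * e := by ring
    rw [this, pow_add]; ring

theorem cfun_zero (hb0 : b ≠ 0) (hm0 : m 0 = 0) (H D : ℤ[X]) (e : ℕ) :
    cfun b m H D e 0 = 0 := by
  classical
  rw [cfun, Finsupp.sub_apply, Finsupp.finsetSum_apply, Finsupp.finsetSum_apply]
  rw [Finset.sum_eq_zero, Finset.sum_eq_zero, sub_zero]
  · intro s _
    rw [Finsupp.finsetSum_apply]
    apply Finset.sum_eq_zero
    intro l hl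
    rw [Finsupp.single_apply, if_neg]
    apply mul_ne_zero (pow_ne_zero _ hb0)
    rintro rfl
    have := ((mem_Sn b m).mp hl).1
    rw [Finsupp.mem_support_iff] at this
    exact this hm0
  · intro i _
    rw [Finsupp.single_apply, if_neg (pow_ne_zero _ hb0)]

theorem cfun_pow (hb : ∀ k l : ℤ, b ^ k = b ^ l → k = l) (hb0 : b ≠ 0) (H D : ℤ[X]) (e : ℕ)
    (i₀ : ℕ) : cfun b m H D e (b ^ i₀) = (H.coeff i₀ : K) := by
  classical
  rw [cfun, Finsupp.sub_apply, Finsupp.finsetSum_apply, Finsupp.finsetSum_apply]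
  have h2 : ∑ s ∈ D.support, (∑ l ∈ Sn b m,
      Finsupp.single (b ^ (s + e) * l) ((D.coeff s : K) * (m l : K))) (b ^ i₀) = 0 := by
    apply Finset.sum_eq_zero
    intro s _
    rw [Finsupp.finsetSum_apply]
    apply Finset.sum_eq_zero
    intro l hl
    rw [Finsupp.single_apply, if_neg]
    intro heq
    apply ((mem_Sn b m).mp hl).2
    refine ⟨(i₀ : ℤ) - ((s + e : ℕ) : ℤ), ?_⟩
    rw [zpow_sub₀ hb0, zpow_natCast, zpow_natCast, ← heq]
    field_simp
  rw [h2, sub_zero]
  have h1 : ∀ i ∈ H.support, (Finsupp.single (b ^ i) (H.coeff i : K)) (b ^ i₀) =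
      if i = i₀ then (H.coeff i : K) else 0 := by
    intro i _
    rw [Finsupp.single_apply]
    by_cases hi : i = i₀
    · subst hi; simp
    · rw [if_neg hi, if_neg]
      intro heq
      apply hi
      have := hb (i : ℤ) (i₀ : ℤ) (by rw [zpow_natCast, zpow_natCast]; exact heq)
      exact_mod_cast this
  rw [Finset.sum_congr rfl h1, Finset.sum_ite_eq']
  split_ifs with hi
  · rfl
  · rw [mem_support_iff, not_not] at hi
    rw [hi]; simp

theorem endgame [CharZero K] (hb : ∀ k l : ℤ, b ^ k = b ^ l → k = l) (G D : ℤ[X])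
    (hm0 : m 0 = 0)
    (hyp : ∀ v : ℕ, 1 ≤ v →
      aeval (b ^ v) G = aeval (b ^ v) D * m.sum (fun α n => (n : K) * α ^ v)) :
    G * X ^ (eN b m) = D * Lpoly b m := by
  have hb0 : b ≠ 0 := by
    rintro rfl
    have := hb 1 2 (by simp)
    omega
  rw [← sub_eq_zero]
  set H := G * X ^ (eN b m) - D * Lpoly b m with hH
  have hc : cfun b m H D (eN b m) = 0 := by
    apply indep _ (cfun_zero b m hb0 hm0 H D _)
    intro v hv
    rw [← ev_apply, ev_cfun]
    rw [hH, map_sub, map_mul, map_mul, map_pow, aeval_X, hyp v hv, aeval_Lpoly b m hb0,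
      Finsupp.sum, ← sum_Sq_add_sum_Sn b m]
    ring
  ext i₀
  have := cfun_pow b m hb hb0 H D (eN b m) i₀
  rw [hc] at this
  simp only [Finsupp.coe_zero, Pi.zero_apply] at this
  rw [coeff_zero]
  exact_mod_cast this.symm

end Groth.Agent.H10.ExpSum
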