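import Mathlib
import Groth.Agent.H10.ExpSum1
import Groth.Agent.H10.ExpSum5
import Groth.Agent.H10.ExpSum7

namespace Groth.Agent.H10.ExpSum

open Polynomial

theorem zpow_inj_complex (q : ℤ) (hq : 1 < q) (k l : ℤ) (h : ((q : ℂ)) ^ k = (q : ℂ) ^ l) :
    k = l := by
  have h1 : (((q : ℚ) ^ k : ℚ) : ℂ) = (((q : ℚ) ^ l : ℚ) : ℂ) := by
    push_cast; exact h
  have h2 : (q : ℚ) ^ k = (q : ℚ) ^ l := by exact_mod_cast h1
  have hq0 : (0 : ℚ) < q := by exact_mod_cast (by omega : (0 : ℤ) < q)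
  have hq1 : (q : ℚ) ≠ 1 := by
    have : (1 : ℚ) < q := by exact_mod_cast hq
    exact ne_of_gt this
  exact zpow_right_injective₀ hq0 hq1 h2

theorem eval_relation (q : ℤ) (F : RatFunc ℚ) (G D : ℤ[X]) (v : ℕ)
    (hD : D.eval (q ^ v) ≠ 0) (hFD : F * iota D = iota G) :
    F.eval (RingHom.id ℚ) ((q : ℚ) ^ v) * ((D.eval (q ^ v) : ℤ) : ℚ) = ((G.eval (q ^ v) : ℤ) : ℚ) := by
  set Dq := D.map (Int.castRingHom ℚ) with hDq
  set Gq := G.map (Int.castRingHom ℚ) with hGq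
  set x : ℚ := (q : ℚ) ^ v with hx
  have hxcast : x = ((q ^ v : ℤ) : ℚ) := by rw [hx]; push_cast; rfl
  have hDx : Dq.eval x = ((D.eval (q ^ v) : ℤ) : ℚ) := by
    rw [hxcast, hDq, eval_intCast_map]; simp
  have hGx : Gq.eval x = ((G.eval (q ^ v) : ℤ) : ℚ) := by
    rw [hxcast, hGq, eval_intCast_map]; simp
  have hDx0 : Dq.eval x ≠ 0 := by
    rw [hDx]; exact_mod_cast hD
  have hDq0 : Dq ≠ 0 := by
    rintro h0; rw [h0] at hDx0; simp at hDx0
  have hF : F = algebraMap ℚ[X] (RatFunc ℚ) Gq / algebraMap ℚ[X] (RatFunc ℚ) Dq := by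
    rw [eq_div_iff (RatFunc.algebraMap_ne_zero hDq0)]
    exact hFD
  have hcross := (RatFunc.num_mul_eq_mul_denom_iff hDq0).mpr hF
  have hdvd : F.denom ∣ Dq := (RatFunc.denom_dvd hDq0).mpr ⟨Gq, hF⟩
  have hden : F.denom.eval x ≠ 0 := by
    obtain ⟨c, hc⟩ := hdvd
    intro h0
    apply hDx0
    rw [hc, eval_mul, h0, zero_mul]
  have hcx := congrArg (Polynomial.eval x) hcross
  rw [eval_mul, eval_mul] at hcx
  rw [RatFunc.eval, eval₂_id, eval₂_id, ← hDx, ← hGx]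
  field_simp
  linarith

theorem main (q : ℤ) (hq : 1 < q) (F : RatFunc ℚ)
    (hF : F ∈ Subring.closure
      (({RatFunc.X, (RatFunc.X : RatFunc ℚ)⁻¹} : Set (RatFunc ℚ)) ∪
        Set.range fun n : ℕ => ((RatFunc.X : RatFunc ℚ) ^ (n + 1) - 1)⁻¹))
    (hrat : ∃ P Q : Polynomial ℚ, Q ≠ 0 ∧
      (PowerSeries.exp ℚ).subst
          (PowerSeries.mk fun v : ℕ => if v = 0 then (0 : ℚ)
            else F.eval (RingHom.id ℚ) ((q : ℚ) ^ v) / (v : ℚ))
        * (Q : PowerSeries ℚ) = (P : PowerSeries ℚ)) :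
    ∃ (P : Polynomial ℤ) (a : ℕ),
      F * RatFunc.X ^ a = algebraMap (Polynomial ℚ) (RatFunc ℚ) (P.map (Int.castRingHom ℚ)) := by
  obtain ⟨G, D, hD, hFD⟩ := exists_num_den q hq F hF
  obtain ⟨P, Q, hQ, hPQ⟩ := hrat
  set a : ℕ → ℚ := fun v => F.eval (RingHom.id ℚ) ((q : ℚ) ^ v) with ha
  obtain ⟨m, hm0, hm⟩ := expsum_of_rational ℂ a P Q hQ hPQ
  have hend := endgame (q : ℂ) m (zpow_inj_complex q hq) G D hm0 ?_
  · refine ⟨Lpoly (q : ℂ) m, eN (q : ℂ) m, ?_⟩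
    have hD0 : iota D ≠ 0 := by
      intro h0
      have : D = 0 := iota_injective (h0.trans (map_zero iota).symm)
      have h1 := hD 1 le_rfl
      rw [this] at h1
      simp at h1
    apply mul_right_cancel₀ hD0
    rw [← iota_apply]
    calc F * RatFunc.X ^ (eN (q : ℂ) m) * iota D
        = (F * iota D) * RatFunc.X ^ (eN (q : ℂ) m) := by ring
      _ = iota (G * X ^ (eN (q : ℂ) m)) := by rw [hFD, map_mul, map_pow, iota_X]
      _ = iota (Lpoly (q : ℂ) m) * iota D := by rw [hend, map_mul, mul_comm]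
  · intro v hv
    have hrel := eval_relation q F G D v (hD v hv) hFD
    have hmv := hm v hv
    have e1 : ∀ R : ℤ[X], aeval ((q : ℂ) ^ v) R = (((R.eval (q ^ v) : ℤ) : ℚ) : ℂ) := by
      intro R
      have hx : ((q : ℂ) ^ v) = (((q ^ v : ℤ) : ℤ) : ℂ) := by push_cast; rfl
      rw [hx, aeval_def, eval₂_at_intCast]
      simp
    rw [e1 G, e1 D, ← hrel, ← hmv]
    push_cast
    ring

end Groth.Agent.H10.ExpSum
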