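import Mathlib

/-!
# `Hom(flat, injective)` is injective; `Hom(injective, injective)` is flat over a Noetherian ring
(helper10)
-/

set_option autoImplicit false
universe u
open TensorProduct

namespace Groth.Agent.H10.FT

variable {A : Type u} [CommRing A]

/-- `Hom_A(F, I)` is injective when `F` is flat and `I` is injective -/
theorem injective_linearMap (F I : Type u) [AddCommGroup F] [Module A F] [AddCommGroup I]
    [Module A I] [Module.Flat A F] [Module.Injective A I] : Module.Injective A (F →ₗ[A] I) := by
  apply Module.Baer.injective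
  intro 𝔞 g
  -- uncurry `g`
  let ĝ : (𝔞 ⊗[A] F) →ₗ[A] I := TensorProduct.lift g
  let ι : (𝔞 ⊗[A] F) →ₗ[A] (A ⊗[A] F) := LinearMap.rTensor F 𝔞.subtype
  have hι : Function.Injective ι :=
    Module.Flat.rTensor_preserves_injective_linearMap _ Subtype.val_injective
  obtain ⟨h, hh⟩ := Module.Injective.extension_property A _ _ _ ι hι ĝ
  refine ⟨TensorProduct.curry h, ?_⟩
  intro x hx
  ext f
  have := LinearMap.congr_fun hh ((⟨x, hx⟩ : 𝔞) ⊗ₜ[A] f)
  simpa [ι, ĝ] using this

/-- solutions of linear systems in an injective module: if `x` is killed by all syzygies of `a`,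
then `x = a • y` -/
lemma exists_smul_eq_of_injective (J : Type u) [AddCommGroup J] [Module A J] [Module.Injective A J]
    {l : ℕ} (a : Fin l → A) (x : Fin l → J)
    (hx : ∀ v : Fin l → A, ∑ i, v i * a i = 0 → ∑ i, v i • x i = 0) :
    ∃ y : J, ∀ i, x i = a i • y := by
  let aL : (Fin l → A) →ₗ[A] A := Fintype.linearCombination A a
  let ψ : (Fin l → A) →ₗ[A] J := Fintype.linearCombination A x
  let K := LinearMap.ker aL
  have hK : K ≤ LinearMap.ker ψ := by
    intro v hv
    rw [LinearMap.mem_ker] at hv ⊢
    have h1 : ∑ i, v i * a i = 0 := by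
      simpa [aL, Fintype.linearCombination_apply] using hv
    simpa [ψ, Fintype.linearCombination_apply] using hx v h1
  let ā : ((Fin l → A) ⧸ K) →ₗ[A] A := K.liftQ aL le_rfl
  have hā : Function.Injective ā := by
    rw [← LinearMap.ker_eq_bot]
    exact Submodule.ker_liftQ_eq_bot _ _ _ le_rfl
  obtain ⟨h, hh⟩ := Module.Injective.extension_property A _ _ _ ā hā (K.liftQ ψ hK)
  refine ⟨h 1, fun i => ?_⟩
  have h2 := LinearMap.congr_fun hh (Submodule.Quotient.mk (Pi.single i 1))
  have h3 : ā (Submodule.Quotient.mk (Pi.single i 1)) = a i := by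
    simp [ā, aL, Fintype.linearCombination_apply, Pi.single_apply]
  have h4 : (K.liftQ ψ hK) (Submodule.Quotient.mk (Pi.single i 1)) = x i := by
    simp [ψ, Fintype.linearCombination_apply, Pi.single_apply]
  rw [LinearMap.comp_apply, h3, h4] at h2
  rw [← h2, ← h.map_smul, smul_eq_mul, mul_one]

/-- `Hom_A(J, I)` is flat when `J` and `I` are injective and `A` is Noetherian -/
theorem flat_linearMap [IsNoetherianRing A] (J I : Type u) [AddCommGroup J] [Module A J]
    [AddCommGroup I] [Module A I] [Module.Injective A J] [Module.Injective A I] :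
    Module.Flat A (J →ₗ[A] I) := by
  apply Module.Flat.of_forall_isTrivialRelation
  intro l a f hf
  let aL : (Fin l → A) →ₗ[A] A := Fintype.linearCombination A a
  have hfg : (LinearMap.ker aL).FG := IsNoetherian.noetherian _
  obtain ⟨m, k, hk⟩ := Submodule.fg_iff_exists_fin_generating_family.1 hfg
  have hkmem : ∀ j, ∑ i, k j i * a i = 0 := by
    intro j
    have : k j ∈ LinearMap.ker aL := by
      rw [← hk]
      exact Submodule.subset_span ⟨j, rfl⟩
    simpa [aL, Fintype.linearCombination_apply] using this
  -- the maps `κ` and `F`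
  let κ : (Fin l → J) →ₗ[A] (Fin m → J) :=
    LinearMap.pi (fun j => ∑ i, k j i • LinearMap.proj i)
  let F : (Fin l → J) →ₗ[A] I := ∑ i, (f i).comp (LinearMap.proj i)
  have hκ : ∀ x j, κ x j = ∑ i, k j i • x i := by
    intro x j
    simp [κ]
  have hF : ∀ x, F x = ∑ i, f i (x i) := by
    intro x
    simp [F]
  have hker : LinearMap.ker κ ≤ LinearMap.ker F := by
    intro x hx
    rw [LinearMap.mem_ker] at hx ⊢
    let ψ : (Fin l → A) →ₗ[A] J := Fintype.linearCombination A x
    have hspan : Submodule.span A (Set.range k) ≤ LinearMap.ker ψ := by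
      rw [Submodule.span_le]
      rintro _ ⟨j, rfl⟩
      have := congr_fun hx j
      rw [hκ] at this
      simpa [ψ, Fintype.linearCombination_apply] using this
    have hx' : ∀ v : Fin l → A, ∑ i, v i * a i = 0 → ∑ i, v i • x i = 0 := by
      intro v hv
      have hv' : v ∈ Submodule.span A (Set.range k) := by
        rw [hk, LinearMap.mem_ker]
        simpa [aL, Fintype.linearCombination_apply] using hv
      have := hspan hv'
      simpa [ψ, Fintype.linearCombination_apply] using this
    obtain ⟨y, hy⟩ := exists_smul_eq_of_injective J a x hx'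
    rw [hF]
    have h1 : ∑ i, f i (x i) = (∑ i, a i • f i) y := by
      simp [hy]
    rw [h1, hf]
    rfl
  -- factor `F` through `κ`
  let κ' : ((Fin l → J) ⧸ LinearMap.ker κ) →ₗ[A] (Fin m → J) := (LinearMap.ker κ).liftQ κ le_rfl
  have hκ' : Function.Injective κ' := by
    rw [← LinearMap.ker_eq_bot]
    exact Submodule.ker_liftQ_eq_bot _ _ _ le_rfl
  obtain ⟨h, hh⟩ := Module.Injective.extension_property A _ _ _ κ' hκ'
    ((LinearMap.ker κ).liftQ F hker)
  have hFκ : ∀ x, h (κ x) = F x := fun x =>
    LinearMap.congr_fun hh (Submodule.Quotient.mk x)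
  refine ⟨m, fun i j => k j i, fun j => h.comp (LinearMap.single A (fun _ => J) j), ?_, ?_⟩
  · intro i
    ext z
    have h1 : F (Pi.single i z) = f i z := by
      rw [hF, Finset.sum_eq_single i]
      · simp
      · intro b _ hb
        simp [hb]
      · simp
    have h2 : κ (Pi.single i z) = ∑ j, Pi.single j (k j i • z) := by
      ext j
      rw [hκ, Finset.sum_eq_single i]
      · simp [Finset.sum_apply, Pi.single_apply]
      · intro b _ hb
        simp [hb]
      · simp
    rw [← h1, ← hFκ, h2, map_sum]
    simp only [LinearMap.coe_sum, Finset.sum_apply, LinearMap.smul_apply, LinearMap.comp_apply,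
      LinearMap.coe_single]
    refine Finset.sum_congr rfl (fun j _ => ?_)
    rw [← h.map_smul, ← Pi.single_smul]
  · intro j
    rw [← hkmem j]
    exact Finset.sum_congr rfl (fun i _ => mul_comm _ _)

end Groth.Agent.H10.FT
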