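import Mathlib
import Groth.Agent.H10.FT1

/-!
# Module-theoretic properties of the terms of `Hom•(K, L)` (helper10)
-/

set_option autoImplicit false
universe u
open CategoryTheory CategoryTheory.Limits CochainComplex CochainComplex.HomComplex

namespace Groth.Agent.H10.FT

variable {A : Type u} [CommRing A]

/-- injectivity is invariant under linear equivalences -/
lemma injective_of_linearEquiv {M N : Type u} [AddCommGroup M] [Module A M] [AddCommGroup N]
    [Module A N] (e : M ≃ₗ[A] N) [Module.Injective A M] : Module.Injective A N :=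
  (Module.Baer.of_equiv e (Module.Baer.of_injective inferInstance)).injective

/-- a product of flat modules, almost all of which vanish, is flat -/
lemma flat_pi_of_finite_support {ι : Type} (M : ι → Type u) [∀ i, AddCommGroup (M i)]
    [∀ i, Module A (M i)] [∀ i, Module.Flat A (M i)] (s : Finset ι)
    (hs : ∀ i, i ∉ s → Subsingleton (M i)) : Module.Flat A (∀ i, M i) := by
  classical
  let e : (∀ i, M i) ≃ₗ[A] (∀ i : s, M i) :=
    { toFun := fun f i => f i
      map_add' := fun _ _ => rfl
      map_smul' := fun _ _ => rfl
      invFun := fun g i => if h : i ∈ s then g ⟨i, h⟩ else 0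
      left_inv := fun f => by
        funext i
        by_cases h : i ∈ s
        · simp [h]
        · have := hs i h
          exact Subsingleton.elim _ _
      right_inv := fun g => by
        funext i
        simp [i.2] }
  have : Module.Flat A (∀ i : s, M i) :=
    Module.Flat.of_linearEquiv (DFinsupp.linearEquivFunOnFintype (R := A) (M := fun i : s => M i)).symm
  exact Module.Flat.of_linearEquiv e

variable (K L : CochainComplex (ModuleCat.{u} A) ℤ) (n : ℤ)

lemma subsingleton_cochain (h : ∀ p q : ℤ, p + n = q → IsZero (K.X p) ∨ IsZero (L.X q)) :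
    Subsingleton (Cochain K L n) := by
  refine ⟨fun z₁ z₂ => Cochain.ext _ _ (fun p q hpq => ?_)⟩
  rcases h p q hpq with h | h
  · exact h.eq_of_src _ _
  · exact h.eq_of_tgt _ _

lemma injective_cochain (hK : ∀ p, Module.Flat A (K.X p)) (hL : ∀ q, Module.Injective A (L.X q)) :
    Module.Injective A (Cochain K L n) := by
  have : ∀ T : Triplet n, Module.Injective A (K.X T.p ⟶ L.X T.q) := fun T => by
    have := hK T.p
    have := hL T.q
    have := injective_linearMap (A := A) (K.X T.p) (L.X T.q)
    exact injective_of_linearEquiv (ModuleCat.homLinearEquiv (S := A)).symm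
  exact Module.Injective.pi A (fun T : Triplet n => (K.X T.p ⟶ L.X T.q))

lemma flat_cochain [IsNoetherianRing A] (hK : ∀ p, Module.Injective A (K.X p))
    (hL : ∀ q, Module.Injective A (L.X q)) (c d : ℤ)
    (hKv : ∀ p, p < c ∨ d < p → IsZero (K.X p)) :
    Module.Flat A (Cochain K L n) := by
  have : ∀ T : Triplet n, Module.Flat A (K.X T.p ⟶ L.X T.q) := fun T => by
    have := hK T.p
    have := hL T.q
    have := flat_linearMap (A := A) (K.X T.p) (L.X T.q)
    exact Module.Flat.of_linearEquiv (ModuleCat.homLinearEquiv (S := A))
  classical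
  refine flat_pi_of_finite_support (A := A) (fun T : Triplet n => (K.X T.p ⟶ L.X T.q))
    ((Finset.Icc c d).image (fun p => (⟨p, p + n, rfl⟩ : Triplet n))) (fun T hT => ?_)
  have hp : T.p < c ∨ d < T.p := by
    by_contra hcon
    push_neg at hcon
    apply hT
    rw [Finset.mem_image]
    refine ⟨T.p, Finset.mem_Icc.2 hcon, ?_⟩
    obtain ⟨p, q, hpq⟩ := T
    subst hpq
    rfl
  exact ⟨fun f g => (hKv T.p hp).eq_of_src f g⟩

end Groth.Agent.H10.FT
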