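import Mathlib
import Groth.Agent.H10.FT2
import Groth.Agent.H10.BD9

/-!
# Finite Tor dimension of `G` versus finite injective dimension of `RHom(G, ω)` (helper10)
-/

set_option autoImplicit false
universe u
open CategoryTheory CategoryTheory.Limits CochainComplex CochainComplex.HomComplex

namespace Groth.Agent.H10.FT

open Groth.Agent.H84.RHom Groth.Agent.H10.BD DerivedCategory

attribute [local instance] HasDerivedCategory.standard

variable {A : Type u} [CommRing A]

lemma vanishesOutside_Dc {I E : DRing.Cx A} {a b a' b' : ℤ} (hI : DRing.VanishesOutside I a b)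
    (hE : DRing.VanishesOutside E a' b') : DRing.VanishesOutside (Dc I E) (a - b') (b - a') := by
  intro n hn
  have : Subsingleton ((Dc I E).X n) := subsingleton_cochain E I n (fun p q hpq => by
    by_cases hp : p < a' ∨ b' < p
    · exact Or.inl (hE p hp)
    · refine Or.inr (hI q ?_)
      omega)
  exact ModuleCat.isZero_of_subsingleton _

theorem hasFiniteTorDimCx_iff [IsNoetherianRing A] (ω : Dual.D A) (hω : Dual.IsDualizing A ω)
    (G : DRing.Cx A) [DRing.HasRHomCx G]
    (hfin : ∀ i : ℤ, Module.Finite A (Dual.HD A (DRing.toD G) i)) :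
    DRing.HasFiniteTorDimCx A (DRing.toD G) ↔
      DRing.HasFiniteInjDim A ((DRing.RHomCx G).obj ω) := by
  obtain ⟨a, b, hab⟩ := hω.finite_injective_dimension
  have hamp : DRing.HasInjAmplitudeIn A a b ω :=
    Groth.Agent.H35.hasInjAmplitudeIn_of_ext_vanishing ω a b (fun J i hi => hab (A ⧸ J) i hi)
  obtain ⟨I, hIv, hIinj, ⟨eI⟩⟩ := hamp
  have hI : BInj I a b := ⟨hIv, hIinj⟩
  have hKI := hI.isKInjective
  constructor
  · rintro ⟨a', b', E, hEv, hEf, ⟨e⟩⟩
    obtain ⟨d⟩ := nonempty_Q_Dc_iso I e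
    refine ⟨a - b', b - a', Dc I E, vanishesOutside_Dc hIv hEv,
      fun n => injective_cochain E I n hEf hIinj,
      ⟨d.symm ≪≫ (RHomCxIso G I hKI).symm ≪≫ (DRing.RHomCx G).mapIso eI⟩⟩
  · rintro ⟨c, d, J, hJv, hJi, ⟨e⟩⟩
    have hEnd : Function.Bijective (fun x : A => x • 𝟙 (Q.obj I)) := by
      have h1 := hω.toEnd_bijective
      have h2 : (fun x : A => x • 𝟙 (Q.obj I)) =
          (fun u : ω ⟶ ω => eI.hom ≫ u ≫ eI.inv) ∘ (fun x : A => x • 𝟙 ω) := by
        funext x
        simp
      rw [h2]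
      refine Function.Bijective.comp ?_ h1
      constructor
      · intro u v h
        have := congrArg (fun f => eI.inv ≫ f ≫ eI.hom) h
        simpa using this
      · intro f
        exact ⟨eI.inv ≫ f ≫ eI.hom, by simp⟩
    have hext : ∀ n : ℤ, n ≠ 0 → Subsingleton (Q.obj I ⟶ (Q.obj I)⟦n⟧) := by
      intro n hn
      have := hω.ext_self_subsingleton n hn
      refine ⟨fun f g => ?_⟩
      have h := this.elim (eI.inv ≫ f ≫ (CategoryTheory.shiftFunctor (Dual.D A) n).map eI.hom)
        (eI.inv ≫ g ≫ (CategoryTheory.shiftFunctor (Dual.D A) n).map eI.hom)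
      have h' := (cancel_epi eI.inv).1 h
      exact (cancel_mono _).1 h'
    have hR : Refl I G := refl_of_finite hI hEnd hext G hfin
    have hR' : IsIso (Q.map (evc I G)) := (refl_iff_isIso I G).1 hR
    let e' : Q.obj J ≅ Q.obj (Dc I G) :=
      e ≪≫ (DRing.RHomCx G).mapIso eI.symm ≪≫ RHomCxIso G I hKI
    obtain ⟨t⟩ := nonempty_Q_Dc_iso I e'
    refine ⟨a - d, b - c, Dc I J, vanishesOutside_Dc hIv hJv,
      fun n => flat_cochain J I n hJi hIinj c d hJv,
      ⟨t.symm ≪≫ (asIso (Q.map (evc I G))).symm⟩⟩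

end Groth.Agent.H10.FT
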