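import Groth.Agent.H10.TorsionTensor

set_option autoImplicit false

namespace Groth.Agent.H10

open TensorProduct

universe u v w

section

variable {R : Type u} {S : Type v} [CommRing R] [CommRing S] [Algebra R S]

/-- Flat case: if `R/I → S/IS` is bijective and `S` is flat, then for every module killed by a power
of `I` the map `M → S ⊗ M` is bijective. -/
theorem mk_bijective_of_pow_killed [Module.Flat R S] (I : Ideal R) (hI : QuotBij R S I) (n : ℕ) :
    ∀ (M : Type w) [AddCommGroup M] [Module R M], (∀ a ∈ I ^ n, ∀ m : M, a • m = 0) →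
      Function.Bijective (TensorProduct.mk R S M 1) := by
  induction n with
  | zero =>
    intro M _ _ hM
    have hsub : Subsingleton M := ⟨fun a b => by
      have ha := hM 1 (by simp) a
      have hb := hM 1 (by simp) b
      rw [one_smul] at ha hb
      rw [ha, hb]⟩
    have : Subsingleton (S ⊗[R] M) := inferInstance
    exact ⟨fun _ _ _ => Subsingleton.elim _ _, fun y => ⟨0, Subsingleton.elim _ _⟩⟩
  | succ n ih =>
    intro M _ _ hM
    let N : Submodule R M := I ^ n • ⊤
    have hN : ∀ a ∈ I, ∀ x : N, a • x = 0 := by
      intro a ha x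
      apply Subtype.ext
      rw [Submodule.coe_smul, Submodule.coe_zero]
      obtain ⟨x, hx⟩ := x
      change a • x = 0
      refine Submodule.smul_induction_on hx (fun b hb m _ => ?_) (fun x y hx hy => ?_)
      · rw [← mul_smul]
        exact hM _ (by rw [pow_succ']; exact Ideal.mul_mem_mul ha hb) m
      · rw [smul_add, hx, hy, add_zero]
    have hQ : ∀ a ∈ I ^ n, ∀ q : M ⧸ N, a • q = 0 := by
      intro a ha q
      obtain ⟨m, rfl⟩ := N.mkQ_surjective q
      rw [← map_smul, Submodule.mkQ_apply, Submodule.Quotient.mk_eq_zero]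
      exact Submodule.smul_mem_smul ha Submodule.mem_top
    have bN := mk_bijective_of_killed (S := S) hI hN
    have bQ := ih (M ⧸ N) hQ
    constructor
    · rw [injective_iff_map_eq_zero]
      intro m hm
      have h1 : TensorProduct.mk R S (M ⧸ N) 1 (N.mkQ m) = 0 := by
        have := congrArg (LinearMap.lTensor S N.mkQ) hm
        simpa using this
      have h2 : N.mkQ m = 0 := bQ.1 (h1.trans (map_zero _).symm)
      have hmN : m ∈ N := (Submodule.Quotient.mk_eq_zero N).mp h2
      have h3 : LinearMap.lTensor S N.subtype (TensorProduct.mk R S N 1 ⟨m, hmN⟩) = 0 := by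
        simpa using hm
      have h4 := Module.Flat.lTensor_preserves_injective_linearMap (M := S) N.subtype
        Subtype.val_injective (h3.trans (map_zero _).symm)
      have h5 := bN.1 (h4.trans (map_zero _).symm)
      exact congrArg Subtype.val h5
    · intro y
      obtain ⟨q, hq⟩ := bQ.2 (LinearMap.lTensor S N.mkQ y)
      obtain ⟨m, rfl⟩ := N.mkQ_surjective q
      have hker : y - TensorProduct.mk R S M 1 m ∈ LinearMap.ker (LinearMap.lTensor S N.mkQ) := by
        rw [LinearMap.mem_ker, map_sub, ← hq]
        simp
      have hex := lTensor_exact S (LinearMap.exact_subtype_mkQ N) (Submodule.mkQ_surjective N)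
      rw [LinearMap.exact_iff] at hex
      rw [hex] at hker
      obtain ⟨z, hz⟩ := hker
      obtain ⟨x, rfl⟩ := bN.2 z
      refine ⟨m + x, ?_⟩
      have : LinearMap.lTensor S N.subtype (TensorProduct.mk R S N 1 x) =
          TensorProduct.mk R S M 1 (x : M) := by simp
      rw [this] at hz
      rw [map_add, hz]
      abel

/-- Flat case, power torsion modules. -/
theorem mk_bijective_of_pow_torsion [Module.Flat R S] (I : Ideal R) (hI : QuotBij R S I)
    (M : Type w) [AddCommGroup M] [Module R M] (hM : ∀ m : M, ∃ n : ℕ, ∀ a ∈ I ^ n, a • m = 0) :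
    Function.Bijective (TensorProduct.mk R S M 1) := by
  have hbij : ∀ n, QuotBij R S (I ^ n) := fun n =>
    quotBij_of_mk_bijective (mk_bijective_of_pow_killed I hI n (R ⧸ I ^ n) (by
      intro a ha q
      obtain ⟨r, rfl⟩ := Ideal.Quotient.mk_surjective q
      rw [Algebra.smul_def, Ideal.Quotient.algebraMap_eq, ← map_mul, Ideal.Quotient.eq_zero_iff_mem]
      exact Ideal.mul_mem_right _ _ ha))
  exact mk_bijective_of_levels (fun n => I ^ n) (fun _ _ h => Ideal.pow_le_pow_right h) hbij hM

end

end Groth.Agent.H10
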