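import Mathlib
import Groth.Agent.H10.TorsionFlat

set_option autoImplicit false
set_option linter.style.haveILetI false
universe u
open TensorProduct
namespace Groth.Agent.H10

section
variable {R S : Type u} [CommRing R] [CommRing S] [Algebra R S]
variable {N : Type u} [AddCommGroup N] [Module R N]
variable {M' : Type u} [AddCommGroup M'] [Module S M'] [Module R M'] [IsScalarTower R S M']

/-- the pullback module `M' ×_{S ⊗ N} N`. -/
def glueMod (φ : M' →ₗ[S] S ⊗[R] N) : Submodule R (M' × N) :=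
  LinearMap.eqLocus ((φ.restrictScalars R) ∘ₗ LinearMap.fst R M' N)
    ((TensorProduct.mk R S N 1) ∘ₗ LinearMap.snd R M' N)

theorem mem_glueMod (φ : M' →ₗ[S] S ⊗[R] N) (x : M' × N) :
    x ∈ glueMod φ ↔ φ x.1 = 1 ⊗ₜ x.2 := Iff.rfl

/-- the projection to `N`. -/
def glueSnd (φ : M' →ₗ[S] S ⊗[R] N) : glueMod φ →ₗ[R] N :=
  LinearMap.snd R M' N ∘ₗ (glueMod φ).subtype

/-- the projection to `M'`. -/
def glueFst (φ : M' →ₗ[S] S ⊗[R] N) : glueMod φ →ₗ[R] M' :=
  LinearMap.fst R M' N ∘ₗ (glueMod φ).subtype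

/-- the comparison map `S ⊗ M → M'`. -/
noncomputable def glueMu (φ : M' →ₗ[S] S ⊗[R] N) : S ⊗[R] glueMod φ →ₗ[S] M' :=
  LinearMap.liftBaseChange S (glueFst φ)

theorem glueMu_tmul (φ : M' →ₗ[S] S ⊗[R] N) (s : S) (m : glueMod φ) :
    glueMu φ (s ⊗ₜ m) = s • m.1.1 := by
  rw [glueMu, LinearMap.liftBaseChange_tmul]
  rfl

theorem phi_comp_glueMu (φ : M' →ₗ[S] S ⊗[R] N) :
    φ ∘ₗ glueMu φ = (glueSnd φ).baseChange S := by
  refine LinearMap.ext fun z => ?_
  induction z using TensorProduct.induction_on with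
  | zero => simp
  | tmul s m =>
    have hm : φ m.1.1 = 1 ⊗ₜ m.1.2 := m.2
    rw [LinearMap.comp_apply, glueMu, LinearMap.liftBaseChange_tmul, LinearMap.baseChange_tmul,
      map_smul]
    change s • φ m.1.1 = s ⊗ₜ m.1.2
    rw [hm, TensorProduct.smul_tmul', smul_eq_mul, mul_one]
  | add x y hx hy => rw [map_add, map_add, hx, hy]

end

section
variable {R S : Type u} [CommRing R] [CommRing S] [Algebra R S] [Module.Flat R S]
variable {N : Type u} [AddCommGroup N] [Module R N]
variable {M' : Type u} [AddCommGroup M'] [Module S M'] [Module R M'] [IsScalarTower R S M']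

theorem glueMu_injective (I : Ideal R) (hI : QuotBij R S I) (φ : M' →ₗ[S] S ⊗[R] N)
    (hker : ∀ x : M', φ x = 0 → ∃ n : ℕ, ∀ a ∈ I ^ n, a • x = 0) :
    Function.Injective (glueMu φ) := by
  let K : Submodule R M' := LinearMap.ker (φ.restrictScalars R)
  let ι : K →ₗ[R] glueMod φ := LinearMap.codRestrict (glueMod φ)
    (LinearMap.inl R M' N ∘ₗ K.subtype) (fun k => by
      rw [mem_glueMod]
      have hk : φ k.1 = 0 := k.2
      simp [hk])
  have hexact : Function.Exact ι (glueSnd φ) := by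
    intro m
    constructor
    · intro hm
      have hm2 : m.1.2 = 0 := hm
      have hm1 : φ m.1.1 = 1 ⊗ₜ m.1.2 := m.2
      rw [hm2, TensorProduct.tmul_zero] at hm1
      refine ⟨⟨m.1.1, hm1⟩, ?_⟩
      apply Subtype.ext
      apply Prod.ext
      · rfl
      · exact hm2.symm
    · rintro ⟨k, rfl⟩
      rfl
  have hK : Function.Bijective (TensorProduct.mk R S K 1) :=
    mk_bijective_of_pow_torsion I hI K (fun k => by
      obtain ⟨n, hn⟩ := hker k.1 k.2
      exact ⟨n, fun a ha => Subtype.ext (hn a ha)⟩)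
  let multK : S ⊗[R] K →ₗ[S] M' := LinearMap.liftBaseChange S K.subtype
  have hmultK : ∀ w, multK w = 0 → w = 0 := by
    intro w hw
    obtain ⟨k, rfl⟩ := hK.2 w
    have : multK (1 ⊗ₜ k) = k.1 := by
      simp [multK, LinearMap.liftBaseChange_tmul]
    rw [TensorProduct.mk_apply, this] at hw
    have : k = 0 := Subtype.ext hw
    rw [this, map_zero]
  have hcomp : ∀ w, glueMu φ (ι.lTensor S w) = multK w := by
    intro w
    induction w using TensorProduct.induction_on with
    | zero => simp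
    | tmul s k =>
      rw [LinearMap.lTensor_tmul, glueMu, LinearMap.liftBaseChange_tmul,
        LinearMap.liftBaseChange_tmul]
      rfl
    | add x y hx hy => rw [map_add, map_add, map_add, hx, hy]
  have hex2 := Module.Flat.lTensor_exact S hexact
  rw [injective_iff_map_eq_zero]
  intro z hz
  have h1 : (glueSnd φ).lTensor S z = 0 := by
    have := LinearMap.congr_fun (phi_comp_glueMu φ) z
    rw [LinearMap.comp_apply, hz, map_zero] at this
    rw [← LinearMap.baseChange_eq_ltensor]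
    exact this.symm
  obtain ⟨w, rfl⟩ := (hex2 z).1 h1
  rw [hcomp] at hz
  rw [hmultK w hz, map_zero]

end

section
variable {R S : Type u} [CommRing R] [CommRing S] [Algebra R S] [Module.Flat R S]
variable {N : Type u} [AddCommGroup N] [Module R N]
variable {M' : Type u} [AddCommGroup M'] [Module S M'] [Module R M'] [IsScalarTower R S M']

theorem glueMu_surjective (I : Ideal R) (hI : QuotBij R S I) (φ : M' →ₗ[S] S ⊗[R] N)
    (hcoker : ∀ y : S ⊗[R] N, ∃ n : ℕ, ∀ a ∈ I ^ n, a • y ∈ LinearMap.range φ) :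
    Function.Surjective (glueMu φ) := by
  let Q := (S ⊗[R] N) ⧸ LinearMap.range φ
  let π : S ⊗[R] N →ₗ[S] Q := (LinearMap.range φ).mkQ
  let ρ : N →ₗ[R] Q := (π.restrictScalars R) ∘ₗ (TensorProduct.mk R S N 1)
  have hexact : Function.Exact (glueSnd φ) ρ := by
    intro n
    constructor
    · intro hn
      have hn' : (1 : S) ⊗ₜ[R] n ∈ LinearMap.range φ := by
        have : π (1 ⊗ₜ n) = 0 := hn
        rwa [Submodule.mkQ_apply, Submodule.Quotient.mk_eq_zero] at this
      obtain ⟨m', hm'⟩ := hn'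
      exact ⟨⟨(m', n), hm'⟩, rfl⟩
    · rintro ⟨m, rfl⟩
      have hm : φ m.1.1 = 1 ⊗ₜ m.1.2 := m.2
      change π (1 ⊗ₜ m.1.2) = 0
      rw [Submodule.mkQ_apply, Submodule.Quotient.mk_eq_zero, ← hm]
      exact ⟨_, rfl⟩
  have hQ : Function.Bijective (TensorProduct.mk R S Q 1) :=
    mk_bijective_of_pow_torsion I hI Q (fun q => by
      obtain ⟨y, rfl⟩ := Submodule.mkQ_surjective _ q
      obtain ⟨n, hn⟩ := hcoker y
      refine ⟨n, fun a ha => ?_⟩
      rw [← LinearMap.map_smul_of_tower, Submodule.mkQ_apply, Submodule.Quotient.mk_eq_zero]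
      exact hn a ha)
  let multQ : S ⊗[R] Q →ₗ[S] Q := LinearMap.liftBaseChange S (LinearMap.id : Q →ₗ[R] Q)
  have hmultQ : ∀ w, multQ w = 0 → w = 0 := by
    intro w hw
    obtain ⟨q, rfl⟩ := hQ.2 w
    have : multQ (1 ⊗ₜ q) = q := by
      simp [multQ, LinearMap.liftBaseChange_tmul]
    rw [TensorProduct.mk_apply, this] at hw
    rw [hw, map_zero]
  have hcomp : ∀ y, multQ (ρ.lTensor S y) = π y := by
    intro y
    induction y using TensorProduct.induction_on with
    | zero => simp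
    | tmul s n =>
      rw [LinearMap.lTensor_tmul, LinearMap.liftBaseChange_tmul]
      change s • π (1 ⊗ₜ n) = π (s ⊗ₜ n)
      rw [← map_smul, TensorProduct.smul_tmul', smul_eq_mul, mul_one]
    | add x y hx hy => rw [map_add, map_add, map_add, hx, hy]
  have hex2 := Module.Flat.lTensor_exact S hexact
  intro m'
  have h1 : ρ.lTensor S (φ m') = 0 := by
    apply hmultQ
    rw [hcomp, Submodule.mkQ_apply, Submodule.Quotient.mk_eq_zero]
    exact ⟨_, rfl⟩
  obtain ⟨z, hz⟩ := (hex2 (φ m')).1 h1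
  have h2 : φ (glueMu φ z) = φ m' := by
    have := LinearMap.congr_fun (phi_comp_glueMu φ) z
    rw [LinearMap.comp_apply, LinearMap.baseChange_eq_ltensor] at this
    rw [this, hz]
  have h3 : φ (m' - glueMu φ z) = 0 := by rw [map_sub, h2, sub_self]
  have hmem : ((m' - glueMu φ z, (0 : N)) : M' × N) ∈ glueMod φ := by
    rw [mem_glueMod]
    simp [h3]
  refine ⟨z + 1 ⊗ₜ ⟨_, hmem⟩, ?_⟩
  rw [map_add, glueMu_tmul, one_smul]
  change _ + (m' - _) = m'
  abel

end

end Groth.Agent.H10
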