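import Mathlib

/-!
# Frobenius (Tate) functional on `AdjoinRoot f`, `f` monic

`tau hf : AdjoinRoot f →ₗ[R] R` is the coefficient of `X^(deg f - 1)` of the reduced representative.
The pairing `(b, x) ↦ tau (b * x)` is perfect.
-/

set_option autoImplicit false

namespace Groth.Agent.H10.Frob

open Polynomial

section General

variable {R : Type*} [CommRing R] {B : Type*} [CommRing B] [Algebra R B]

/-- the pairing `b ↦ (x ↦ τ (b * x))`. -/
noncomputable def pair (τ : B →ₗ[R] R) : B →ₗ[R] Module.Dual R B :=
  (LinearMap.mul R B).compr₂ τ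

@[simp] theorem pair_apply (τ : B →ₗ[R] R) (b x : B) : pair τ b x = τ (b * x) := rfl

/-- `τ` is a Frobenius form: the pairing is perfect. -/
def IsPerfect (τ : B →ₗ[R] R) : Prop := Function.Bijective (pair τ)

end General

variable {R : Type*} [CommRing R] {f : R[X]} (hf : f.Monic)

/-- top coefficient functional on `AdjoinRoot f`. -/
noncomputable def tau : AdjoinRoot f →ₗ[R] R :=
  (Polynomial.lcoeff R (f.natDegree - 1)) ∘ₗ (AdjoinRoot.modByMonicHom hf)

theorem tau_mk (P : R[X]) :
    tau hf (AdjoinRoot.mk f P) = (P %ₘ f).coeff (f.natDegree - 1) := by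
  simp [tau, AdjoinRoot.modByMonicHom_mk]

theorem tau_mk_of_degree_lt (P : R[X]) (hP : P.degree < f.degree) :
    tau hf (AdjoinRoot.mk f P) = P.coeff (f.natDegree - 1) := by
  nontriviality R
  rw [tau_mk, (Polynomial.modByMonic_eq_self_iff hf).2 hP]

theorem tau_aeval_of_degree_lt (P : R[X]) (hP : P.degree < f.degree) :
    tau hf (aeval (AdjoinRoot.root f) P) = P.coeff (f.natDegree - 1) := by
  rw [AdjoinRoot.aeval_eq, tau_mk_of_degree_lt hf P hP]

/-- for a monic `P` of degree `< deg f`, `tau (P(root))` is `1` if `deg P = deg f - 1`, else `0`. -/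
theorem tau_aeval_monic (P : R[X]) (hPm : P.Monic) (hP : P.natDegree < f.natDegree) :
    tau hf (aeval (AdjoinRoot.root f) P) = if P.natDegree = f.natDegree - 1 then 1 else 0 := by
  nontriviality R
  have hdeg : P.degree < f.degree := by
    rw [Polynomial.degree_eq_natDegree hPm.ne_zero, Polynomial.degree_eq_natDegree hf.ne_zero]
    exact_mod_cast hP
  rw [tau_aeval_of_degree_lt hf P hdeg]
  split_ifs with h
  · rw [← h]; exact hPm.coeff_natDegree
  · apply Polynomial.coeff_eq_zero_of_natDegree_lt
    omega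

theorem tau_root_pow (m : ℕ) (hm : m < f.natDegree) :
    tau hf (AdjoinRoot.root f ^ m) = if m = f.natDegree - 1 then 1 else 0 := by
  nontriviality R
  have h := tau_aeval_monic hf (X ^ m) (monic_X_pow m) (by rwa [natDegree_X_pow])
  rwa [map_pow, aeval_X, natDegree_X_pow] at h

end Groth.Agent.H10.Frob
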