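import Mathlib
import Groth.Agent.H10.Frob1

set_option autoImplicit false

namespace Groth.Agent.H10.Frob

open Polynomial

variable {R : Type*} [CommRing R] {f : R[X]} (hf : f.Monic)

theorem isPerfect_tau : IsPerfect (tau hf) := by
  rcases subsingleton_or_nontrivial R with hR | hR
  · have : Subsingleton (AdjoinRoot f) := Module.subsingleton R _
    have : Subsingleton (Module.Dual R (AdjoinRoot f)) := Module.subsingleton R _
    exact ⟨Function.injective_of_subsingleton _, fun y => ⟨0, Subsingleton.elim _ _⟩⟩
  classical
  set pb := AdjoinRoot.powerBasis' hf with hpb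
  have hdim : pb.dim = f.natDegree := AdjoinRoot.powerBasis'_dim hf
  set v : Module.Basis (Fin pb.dim) R (AdjoinRoot f) := pb.basis.reindex Fin.revPerm with hv
  set v' : Module.Basis (Fin pb.dim) R (Module.Dual R (AdjoinRoot f)) := pb.basis.dualBasis with hv'
  have hentry : ∀ i j : Fin pb.dim, LinearMap.toMatrix v v' (pair (tau hf)) i j =
      tau hf (AdjoinRoot.root f ^ ((Fin.rev j : ℕ) + (i : ℕ))) := by
    intro i j
    rw [LinearMap.toMatrix_apply, hv', Module.Basis.dualBasis_repr, pair_apply, hv,
      Module.Basis.reindex_apply, PowerBasis.basis_eq_pow, PowerBasis.basis_eq_pow, ← pow_add]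
    simp [hpb]
  have hlow : (LinearMap.toMatrix v v' (pair (tau hf))).BlockTriangular OrderDual.toDual := by
    intro i j hij
    have hij' : i < j := hij
    rw [hentry, tau_root_pow hf _ (by rw [Fin.val_rev]; have := j.2; have := i.2; omega)]
    rw [if_neg]
    rw [Fin.val_rev]
    have := j.2; have := i.2
    have : (i : ℕ) < j := hij'
    omega
  have hdiag : ∀ i, LinearMap.toMatrix v v' (pair (tau hf)) i i = 1 := by
    intro i
    rw [hentry, tau_root_pow hf _ (by rw [Fin.val_rev]; have := i.2; omega), if_pos]
    rw [Fin.val_rev]; have := i.2; omega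
  have hdet : (LinearMap.toMatrix v v' (pair (tau hf))).det = 1 := by
    rw [Matrix.det_of_isLowerTriangular _ hlow]
    exact Finset.prod_eq_one fun i _ => hdiag i
  have hunit : IsUnit (LinearMap.toMatrix v v' (pair (tau hf))).det := by
    rw [hdet]; exact isUnit_one
  have := (LinearEquiv.ofIsUnitDet hunit).bijective
  rwa [← LinearEquiv.coe_coe, LinearEquiv.coe_ofIsUnitDet] at this

end Groth.Agent.H10.Frob
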