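import Mathlib
import Groth.Agent.H10.Frob2

set_option autoImplicit false

namespace Groth.Agent.H10.Frob

open PiTensorProduct
open scoped TensorProduct

variable {R : Type*} [CommRing R] {ι : Type*} [Fintype ι] {B : ι → Type*} [∀ i, CommRing (B i)]
  [∀ i, Algebra R (B i)]

/-- tensor product of functionals. -/
noncomputable def tauT (τ : ∀ i, B i →ₗ[R] R) : (⨂[R] i, B i) →ₗ[R] R :=
  dualDistrib (tprod R τ)

@[simp] theorem tauT_tprod (τ : ∀ i, B i →ₗ[R] R) (x : ∀ i, B i) :
    tauT τ (tprod R x) = ∏ i, τ i (x i) := by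
  unfold tauT
  exact dualDistrib_apply τ x

theorem pair_tauT (τ : ∀ i, B i →ₗ[R] R) :
    pair (tauT τ) = dualDistrib ∘ₗ PiTensorProduct.map (fun i => pair (τ i)) := by
  apply PiTensorProduct.ext
  apply MultilinearMap.ext
  intro y
  apply PiTensorProduct.ext
  apply MultilinearMap.ext
  intro x
  simp only [LinearMap.compMultilinearMap_apply, pair_apply, tprod_mul_tprod, tauT_tprod,
    LinearMap.comp_apply, map_tprod, dualDistrib_apply, Pi.mul_apply]

theorem isPerfect_tauT [∀ i, Module.Free R (B i)] [∀ i, Module.Finite R (B i)]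
    (τ : ∀ i, B i →ₗ[R] R) (hτ : ∀ i, IsPerfect (τ i)) : IsPerfect (tauT τ) := by
  unfold IsPerfect
  rw [pair_tauT]
  have h1 : Function.Bijective (PiTensorProduct.map (fun i => pair (τ i)) :
      (⨂[R] i, B i) →ₗ[R] ⨂[R] i, Module.Dual R (B i)) := by
    have : (PiTensorProduct.map (fun i => pair (τ i)) :
        (⨂[R] i, B i) →ₗ[R] ⨂[R] i, Module.Dual R (B i)) =
        (PiTensorProduct.congr (fun i => LinearEquiv.ofBijective (pair (τ i)) (hτ i))).toLinearMap := by
      apply PiTensorProduct.ext
      apply MultilinearMap.ext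
      intro y
      simp
    rw [this]
    exact LinearEquiv.bijective _
  have h2 : Function.Bijective (dualDistrib :
      (⨂[R] i, Module.Dual R (B i)) →ₗ[R] Module.Dual R (⨂[R] i, B i)) :=
    (dualDistribEquiv (R := R) (M := B)).bijective
  rw [LinearMap.coe_comp]
  exact h2.comp h1

end Groth.Agent.H10.Frob
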