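import Mathlib
import Groth.Agent.H10.Frob3
import Groth.Agent.H78.ASFam.Free

set_option autoImplicit false

namespace Groth.Agent.H10.Frob

open PiTensorProduct Polynomial
open scoped TensorProduct
open Groth.Agent.H78.ASFam

section General

variable {R : Type*} [CommRing R] {A T : Type*} [CommRing A] [CommRing T] [Algebra R A] [Algebra R T]

theorem isPerfect_comp_algEquiv (e : A ≃ₐ[R] T) (τ : T →ₗ[R] R) (h : IsPerfect τ) :
    IsPerfect (τ ∘ₗ e.toLinearMap) := by
  have heq : pair (τ ∘ₗ e.toLinearMap) =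
      (e.toLinearEquiv.dualMap.toLinearMap ∘ₗ pair τ) ∘ₗ e.toLinearMap := by
    ext b x
    simp
  unfold IsPerfect
  rw [heq, LinearMap.coe_comp, LinearMap.coe_comp]
  exact ((LinearEquiv.bijective _).comp h).comp e.bijective

end General

variable {R : Type*} [CommRing R] {ι : Type*} [Fintype ι] [DecidableEq ι]

theorem prod_singleAlgHom {B : ι → Type*} [∀ i, CommRing (B i)] [∀ i, Algebra R (B i)]
    (y : ∀ i, B i) :
    ∏ i, singleAlgHom (R := R) (A := B) i (y i) = tprod R y := by
  simp only [singleAlgHom_apply]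
  rw [← tprod_prod]
  congr 1
  funext j
  rw [Finset.prod_apply]
  simp only [MonoidHom.mulSingle_apply]
  rw [Finset.prod_eq_single j]
  · simp
  · intro i _ hij
    exact Pi.mulSingle_eq_of_ne (Ne.symm hij) _
  · intro h; exact absurd (Finset.mem_univ j) h

variable (f : ι → R[X]) (hf : ∀ i, (f i).Monic)

/-- the Frobenius form on `SepQuot f`. -/
noncomputable def tauA : SepQuot f →ₗ[R] R :=
  tauT (fun i => tau (hf i)) ∘ₗ (tensorEquiv f).toLinearMap

theorem isPerfect_tauA : IsPerfect (tauA f hf) := by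
  have : ∀ i, Module.Free R (AdjoinRoot (f i)) := fun i =>
    Module.Free.of_basis (AdjoinRoot.powerBasis' (hf i)).basis
  have : ∀ i, Module.Finite R (AdjoinRoot (f i)) := fun i =>
    Module.Finite.of_basis (AdjoinRoot.powerBasis' (hf i)).basis
  exact isPerfect_comp_algEquiv (tensorEquiv f) _
    (isPerfect_tauT _ (fun i => isPerfect_tau (hf i)))

theorem tensorEquiv_prod_aeval (P : ι → R[X]) :
    tensorEquiv f (∏ i, aeval (u f i) (P i)) =
      tprod R (fun i => aeval (AdjoinRoot.root (f i)) (P i)) := by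
  rw [map_prod, ← prod_singleAlgHom]
  refine Finset.prod_congr rfl fun i _ => ?_
  have hu : tensorEquiv f (u f i) =
      singleAlgHom (R := R) (A := fun i => AdjoinRoot (f i)) i (AdjoinRoot.root (f i)) :=
    toTensor_u f i
  rw [← Polynomial.aeval_algHom_apply, ← Polynomial.aeval_algHom_apply, hu]

theorem tauA_prod_aeval (P : ι → R[X]) :
    tauA f hf (∏ i, aeval (u f i) (P i)) =
      ∏ i, tau (hf i) (aeval (AdjoinRoot.root (f i)) (P i)) := by
  unfold tauA
  rw [LinearMap.comp_apply]
  change tauT _ (tensorEquiv f _) = _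
  rw [tensorEquiv_prod_aeval, tauT_tprod]

/-- invariance of `tauA` under translations `u_i ↦ u_i + b_i`. -/
theorem tauA_comp_shift (σ : SepQuot f →ₐ[R] SepQuot f) (b : ι → R)
    (hσ : ∀ i, σ (u f i) = u f i + algebraMap R (SepQuot f) (b i)) (c : SepQuot f) :
    tauA f hf (σ c) = tauA f hf c := by
  rcases subsingleton_or_nontrivial R with hR | hR
  · exact Subsingleton.elim _ _
  suffices h : tauA f hf ∘ₗ σ.toLinearMap = tauA f hf from LinearMap.congr_fun h c
  refine (basis f hf).ext fun e => ?_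
  rw [LinearMap.comp_apply, basis_apply]
  change tauA f hf (σ _) = _
  rw [map_prod]
  have h1 : ∀ i, σ (u f i ^ (e i : ℕ)) = aeval (u f i) ((X + C (b i)) ^ (e i : ℕ)) := by
    intro i
    rw [map_pow, hσ, map_pow, map_add, aeval_X, aeval_C]
  have h2 : ∀ i, u f i ^ (e i : ℕ) = aeval (u f i) ((X : R[X]) ^ (e i : ℕ)) := by
    intro i
    rw [map_pow, aeval_X]
  rw [Finset.prod_congr rfl (fun i _ => h1 i), Finset.prod_congr rfl (fun i _ => h2 i),
    tauA_prod_aeval, tauA_prod_aeval]
  refine Finset.prod_congr rfl fun i _ => ?_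
  have hlt : (e i : ℕ) < (f i).natDegree :=
    lt_of_lt_of_eq (e i).2 (AdjoinRoot.powerBasis'_dim (hf i))
  rw [tau_aeval_monic (hf i) _ ((monic_X_add_C (b i)).pow _)
      (by rw [(monic_X_add_C (b i)).natDegree_pow, natDegree_X_add_C, mul_one]; exact hlt),
    tau_aeval_monic (hf i) _ (monic_X_pow _) (by rw [natDegree_X_pow]; exact hlt)]
  rw [(monic_X_add_C (b i)).natDegree_pow, natDegree_X_add_C, mul_one, natDegree_X_pow]

end Groth.Agent.H10.Frob
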