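import Mathlib
import Groth.Agent.H10.Frob1

set_option autoImplicit false

namespace Groth.Agent.H10.Frob

universe u v w

variable {R : Type u} {A : Type w} [CommRing R] [CommRing A] [Algebra R A]
  {G : Type v} [Group G] [MulSemiringAction G A]

/-- the form `x ↦ τ (x_1)` on the skew group ring. -/
noncomputable def phi (τ : A →ₗ[R] R) : SkewMonoidAlgebra A G →ₗ[R] R :=
  τ ∘ₗ (Finsupp.lapply (1 : G)) ∘ₗ (SkewMonoidAlgebra.coeffLinearEquiv (S := R)).toLinearMap

omit [MulSemiringAction G A] in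
theorem phi_apply (τ : A →ₗ[R] R) (x : SkewMonoidAlgebra A G) :
    phi τ x = τ (x.coeff 1) := rfl

theorem phi_single_mul (τ : A →ₗ[R] R) (g : G) (a : A) (y : SkewMonoidAlgebra A G) :
    phi τ (SkewMonoidAlgebra.single g a * y) = τ (a * g • y.coeff g⁻¹) := by
  rw [phi_apply, SkewMonoidAlgebra.coeff_single_mul, mul_one]

theorem phi_symm (τ : A →ₗ[R] R) (hinv : ∀ (g : G) (a : A), τ (g • a) = τ a)
    (x y : SkewMonoidAlgebra A G) : phi τ (x * y) = phi τ (y * x) := by
  classical
  induction x using SkewMonoidAlgebra.induction_on with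
  | zero => simp
  | add x₁ x₂ h₁ h₂ => rw [add_mul, mul_add, map_add, map_add, h₁, h₂]
  | single g a =>
    induction y using SkewMonoidAlgebra.induction_on with
    | zero => simp
    | add y₁ y₂ h₁ h₂ => rw [add_mul, mul_add, map_add, map_add, h₁, h₂]
    | single h b =>
      rw [phi_single_mul, phi_single_mul, SkewMonoidAlgebra.coeff_single_apply,
        SkewMonoidAlgebra.coeff_single_apply]
      by_cases hgh : h = g⁻¹
      · subst hgh
        rw [if_pos rfl, if_pos (inv_inv g).symm]
        rw [← hinv g (b * g⁻¹ • a), smul_mul', smul_inv_smul, mul_comm]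
      · rw [if_neg hgh, if_neg (fun h' => hgh (by rw [h', inv_inv]))]
        simp

theorem phi_injective (τ : A →ₗ[R] R) (hτ : IsPerfect τ) :
    Function.Injective
      (fun y : SkewMonoidAlgebra A G => fun x : SkewMonoidAlgebra A G => phi τ (x * y)) := by
  intro y y' hyy'
  have h : ∀ x : SkewMonoidAlgebra A G, phi τ (x * (y - y')) = 0 := by
    intro x
    rw [mul_sub, map_sub, sub_eq_zero]
    exact congrFun hyy' x
  rw [← sub_eq_zero]
  apply SkewMonoidAlgebra.ext
  intro g
  have hz : pair τ (g⁻¹ • (y - y').coeff g) = 0 := by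
    ext a
    have := h (SkewMonoidAlgebra.single g⁻¹ a)
    rw [phi_single_mul, inv_inv] at this
    rw [pair_apply, mul_comm]
    simpa using this
  have := hτ.1 (hz.trans (map_zero _).symm)
  have h2 : g • (g⁻¹ • (y - y').coeff g) = g • (0 : A) := by rw [this]
  rw [smul_inv_smul, smul_zero] at h2
  rw [h2]
  simp

theorem phi_surjective [Finite G] (τ : A →ₗ[R] R) (hτ : IsPerfect τ)
    (ψ : SkewMonoidAlgebra A G →ₗ[R] R) :
    ∃ y : SkewMonoidAlgebra A G, ∀ x, ψ x = phi τ (x * y) := by
  classical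
  have := Fintype.ofFinite G
  -- component functionals
  let ψg : G → Module.Dual R A := fun g =>
    { toFun := fun a => ψ (SkewMonoidAlgebra.single g a)
      map_add' := fun a a' => by rw [SkewMonoidAlgebra.single_add, map_add]
      map_smul' := fun r a => by
        rw [← SkewMonoidAlgebra.smul_single, map_smul]; rfl }
  choose bg hbg using fun g => hτ.2 (ψg g)
  refine ⟨⟨Finsupp.equivFunOnFinite.symm (fun h => h • bg h⁻¹)⟩, fun x => ?_⟩
  induction x using SkewMonoidAlgebra.induction_on with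
  | zero => simp
  | add x₁ x₂ h₁ h₂ => rw [add_mul, map_add, map_add, h₁, h₂]
  | single g a =>
    rw [phi_single_mul]
    change ψ _ = τ (a * g • (g⁻¹ • bg g⁻¹⁻¹))
    rw [smul_inv_smul, inv_inv, mul_comm, ← pair_apply, hbg g]
    rfl

theorem skew_symmetric [Finite G] (τ : A →ₗ[R] R) (hτ : IsPerfect τ)
    (hinv : ∀ (g : G) (a : A), τ (g • a) = τ a) :
    ∃ φ : SkewMonoidAlgebra A G →ₗ[R] R,
      (∀ x y : SkewMonoidAlgebra A G, φ (x * y) = φ (y * x)) ∧
      Function.Injective
        (fun y : SkewMonoidAlgebra A G => fun x : SkewMonoidAlgebra A G => φ (x * y)) ∧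
      ∀ ψ : SkewMonoidAlgebra A G →ₗ[R] R, ∃ y : SkewMonoidAlgebra A G, ∀ x, ψ x = φ (x * y) :=
  ⟨phi τ, phi_symm τ hinv, phi_injective τ hτ, phi_surjective τ hτ⟩

end Groth.Agent.H10.Frob
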