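import Mathlib
import Groth.Agent.H10.Frob4
import Groth.Agent.H10.Frob5
import Groth.Agent.H78.ASFam.Main

set_option autoImplicit false

namespace Groth.Agent.H10.Frob

universe u v

open Groth.Agent.H78.ASFam

theorem main_general {R : Type u} [CommRing R] [Nontrivial R] (p n : ℕ) (hp : 2 ≤ p)
    (c x b : Fin n → R) (I : Ideal (MvPolynomial (Fin n) R))
    (hI : I = sepIdeal (asPoly p n c x))
    (G : Type v) [Group G] [Finite G] [MulSemiringAction G (MvPolynomial (Fin n) R ⧸ I)]
    [SMulCommClass G R (MvPolynomial (Fin n) R ⧸ I)] (g : G)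
    (hgen : ∀ h : G, h ∈ Subgroup.zpowers g)
    (hact : ∀ i, g • (Ideal.Quotient.mk I (MvPolynomial.X i)) =
      Ideal.Quotient.mk I (MvPolynomial.X i) + algebraMap R (MvPolynomial (Fin n) R ⧸ I) (b i)) :
    ∃ φ : SkewMonoidAlgebra (MvPolynomial (Fin n) R ⧸ I) G →ₗ[R] R,
      (∀ x y : SkewMonoidAlgebra (MvPolynomial (Fin n) R ⧸ I) G, φ (x * y) = φ (y * x)) ∧
      Function.Injective (fun y : SkewMonoidAlgebra (MvPolynomial (Fin n) R ⧸ I) G =>
        fun x : SkewMonoidAlgebra (MvPolynomial (Fin n) R ⧸ I) G => φ (x * y)) ∧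
      ∀ ψ : SkewMonoidAlgebra (MvPolynomial (Fin n) R ⧸ I) G →ₗ[R] R,
        ∃ y : SkewMonoidAlgebra (MvPolynomial (Fin n) R ⧸ I) G, ∀ x, ψ x = φ (x * y) := by
  subst hI
  set τ := tauA (asPoly p n c x) (asPoly_monic p n c x hp) with hτ
  have hperf : IsPerfect τ := isPerfect_tauA _ _
  have hg : ∀ a, τ (g • a) = τ a := by
    intro a
    exact tauA_comp_shift (asPoly p n c x) (asPoly_monic p n c x hp)
      (MulSemiringAction.toAlgHom R (SepQuot (asPoly p n c x)) g) b hact a
  let S : Subgroup G :=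
    { carrier := {h | ∀ a, τ (h • a) = τ a}
      mul_mem' := fun {h₁ h₂} ha hb a => by rw [mul_smul, ha, hb]
      one_mem' := fun a => by rw [one_smul]
      inv_mem' := fun {h} hh a => by
        have := hh (h⁻¹ • a)
        rw [smul_inv_smul] at this
        exact this.symm }
  have hgS : g ∈ S := hg
  have hinv : ∀ (h : G) (a : SepQuot (asPoly p n c x)), τ (h • a) = τ a := fun h =>
    (Subgroup.zpowers_le.2 hgS) (hgen h)
  exact skew_symmetric τ hperf hinv

end Groth.Agent.H10.Frob
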