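import Mathlib
import Groth.Prelude.Def_EtRam
import Groth.Agent.H10.AS3
import Groth.Agent.H10.AS4
import Groth.Agent.H10.AS5

set_option autoImplicit false
set_option linter.style.haveILetI false
set_option linter.unusedSectionVars false
set_option linter.unusedVariables false
universe u
open Polynomial IsLocalRing
open scoped IntermediateField

namespace Groth.Agent.H10.GAS

open Groth.Agent.H10.AS

section CaseB

variable (p : ℕ) [hpf : Fact p.Prime] (A K L : Type u) [CommRing A] [IsDomain A]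
  [IsDiscreteValuationRing A] [Field K] [Algebra A K] [IsFractionRing A K] [Field L] [Algebra K L]
  [Algebra A L] [IsScalarTower A K L] (π : A) (hπ : Irreducible π)
  (P : A[X]) (hPm : P.Monic) (hPd : P.natDegree = p)
  (ξ : K) (z : L) (hz : aeval z P = algebraMap K L ξ)
  (n : ℕ) (a : Aˣ) (hn : 0 < n) (hpn : ¬ p ∣ n)
  (hξ : ξ * algebraMap A K π ^ n = algebraMap A K a)
  (W : ValuationSubring L) (hW : EtRam.Dominates A (algebraMap A L) W)

include hW in
/-- values of an integral polynomial on an integral element. -/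
theorem v_aeval_le_one (Q : A[X]) (x : L) (hx : W.valuation x ≤ 1) :
    W.valuation (aeval x Q) ≤ 1 := by
  rw [aeval_eq_sum_range]
  apply Valuation.map_sum_le
  intro i _
  rw [Algebra.smul_def, map_mul, map_pow]
  calc _ ≤ (1 : W.ValueGroup) * 1 := mul_le_mul' ((W.valuation_le_one_iff _).2 (hW.1 _))
        (pow_le_one' hx i)
    _ = 1 := one_mul _

include hW in
/-- a monic integral polynomial of degree `d` has the valuation of `x ^ d` on large elements. -/
theorem v_aeval_eq_pow (Q : A[X]) (hQ : Q.Monic) (x : L) (hx : 1 < W.valuation x) :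
    W.valuation (aeval x Q) = W.valuation x ^ Q.natDegree := by
  rw [aeval_eq_sum_range, Finset.sum_range_succ, hQ.coeff_natDegree, one_smul, add_comm]
  have hlt : W.valuation (∑ i ∈ Finset.range Q.natDegree, Q.coeff i • x ^ i) <
      W.valuation (x ^ Q.natDegree) := by
    apply Valuation.map_sum_lt
    · rw [map_pow]
      exact pow_ne_zero _ (ne_of_gt (lt_trans zero_lt_one hx))
    · intro i hi
      rw [Algebra.smul_def, map_mul, map_pow, map_pow]
      calc _ ≤ 1 * W.valuation x ^ i :=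
            mul_le_mul' ((W.valuation_le_one_iff _).2 (hW.1 _)) le_rfl
        _ = W.valuation x ^ i := one_mul _
        _ < W.valuation x ^ Q.natDegree := pow_lt_pow_right₀ hx (Finset.mem_range.1 hi)
  rw [Valuation.map_add_eq_of_lt_left _ hlt, map_pow]

include hπ hξ hW hn hz hPm hPd in
theorem one_lt_v_z : 1 < W.valuation z := by
  by_contra hle
  push Not at hle
  have h1 := v_aeval_le_one A L W hW P z hle
  rw [hz] at h1
  exact not_le.2 (one_lt_v_xi A K L π hπ ξ n a hn hξ W hW) h1

include hπ hξ hW hn hz hPm hPd in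
theorem v_z_pow : W.valuation z ^ p = W.valuation (algebraMap A L π) ^ (-(n : ℤ)) := by
  have h1 := one_lt_v_z p A K L π hπ P hPm hPd ξ z hz n a hn hξ W hW
  rw [← v_xi A K L π hπ ξ n a hξ W hW, ← hz, v_aeval_eq_pow A L W hW P hPm z h1, hPd]

include hπ hξ hW hn hz hPm hPd in
theorem v_term_pow (c : K) (k : ℤ) (u : Aˣ)
    (hc : c = algebraMap A K π ^ k * algebraMap A K u) (j : ℕ) :
    W.valuation (algebraMap K L c * z ^ j) ^ p =
      W.valuation (algebraMap A L π) ^ ((p : ℤ) * k - (n : ℤ) * j) := by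
  have h0 : W.valuation (algebraMap A L π) ≠ 0 := (v_pi_pos A K L π hπ W).ne'
  rw [map_mul, mul_pow, v_algebraMap A K L π W hW c k u hc, map_pow, ← pow_mul, mul_comm j p,
    pow_mul, v_z_pow p A K L π hπ P hPm hPd ξ z hz n a hn hξ W hW, ← zpow_natCast, ← zpow_mul,
    ← zpow_natCast, ← zpow_mul, ← zpow_add₀ h0]
  congr 1
  ring

include hπ hξ hW hn hz hPm hPd hpn in
theorem v_term_ne (c c' : K) (hc : c ≠ 0) (hc' : c' ≠ 0) (j j' : ℕ) (hj : j < p) (hj' : j' < p)
    (hjj' : j ≠ j') :
    W.valuation (algebraMap K L c * z ^ j) ≠ W.valuation (algebraMap K L c' * z ^ j') := by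
  intro heq
  obtain ⟨k, u, hku⟩ := exists_zpow_unit A K π hπ c hc
  obtain ⟨k', u', hku'⟩ := exists_zpow_unit A K π hπ c' hc'
  have h1 := v_term_pow p A K L π hπ P hPm hPd ξ z hz n a hn hξ W hW c k u hku j
  have h2 := v_term_pow p A K L π hπ P hPm hPd ξ z hz n a hn hξ W hW c' k' u' hku' j'
  rw [heq, h2] at h1
  have h3 := zpow_right_injective₀ (v_pi_pos A K L π hπ W)
    (ne_of_lt (v_pi_lt_one A L π hπ W hW)) h1
  have h4 : (p : ℤ) ∣ (n : ℤ) * ((j : ℤ) - j') := ⟨k - k', by linarith⟩
  have hpz : Prime (p : ℤ) := Nat.prime_iff_prime_int.1 hpf.out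
  rcases hpz.dvd_or_dvd h4 with h5 | h5
  · exact hpn (Int.natCast_dvd_natCast.1 h5)
  · have h6 : |(j : ℤ) - j'| < p := by
      rw [abs_lt]; constructor <;> omega
    have := Int.eq_zero_of_abs_lt_dvd h5 h6
    omega

include hπ hξ hW hn hz hPm hPd hpn in
theorem z_notMem_range : z ∉ Set.range (algebraMap K L) := by
  rintro ⟨c, hc⟩
  have hc0 : c ≠ 0 := by
    rintro rfl
    have := one_lt_v_z p A K L π hπ P hPm hPd ξ z hz n a hn hξ W hW
    rw [← hc, map_zero, map_zero] at this
    exact not_lt.2 zero_le this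
  have := v_term_ne p A K L π hπ P hPm hPd ξ z hz n a hn hpn hξ W hW c 1 hc0 one_ne_zero 0 1
    hpf.out.pos hpf.out.one_lt zero_ne_one
  apply this
  rw [pow_zero, mul_one, map_one, one_mul, pow_one, hc]

include hπ hξ hW hn hz hPm hPd in
theorem term_mem_iff (c : K) (j : ℕ) :
    algebraMap K L c * z ^ j ∈ W ↔ ∃ a' : A, algebraMap A K a' = c ^ p * ξ ^ j := by
  rw [← mem_iff A K L π hπ W hW, ← W.valuation_le_one_iff, ← W.valuation_le_one_iff,
    ← pow_le_one_iff (M := W.ValueGroup) hpf.out.ne_zero]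
  have h1 : W.valuation z ^ p = W.valuation (algebraMap K L ξ) := by
    rw [v_z_pow p A K L π hπ P hPm hPd ξ z hz n a hn hξ W hW, v_xi A K L π hπ ξ n a hξ W hW]
  have h2 : W.valuation (algebraMap K L c * z ^ j) ^ p =
      W.valuation (algebraMap K L (c ^ p * ξ ^ j)) := by
    rw [map_mul, mul_pow, map_pow, ← pow_mul, mul_comm j p, pow_mul, h1, map_mul, map_pow,
      map_pow, map_mul, map_pow, map_pow]
  rw [h2]

end CaseB

end Groth.Agent.H10.GAS
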