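import Mathlib
import Groth.Prelude.Def_EtRam
import Groth.Agent.H10.AS3
import Groth.Agent.H10.AS4
import Groth.Agent.H10.GAS1
import Groth.Agent.H10.EtRamTot

set_option autoImplicit false
set_option linter.style.haveILetI false
set_option linter.unusedSectionVars false
set_option linter.unusedVariables false
universe u
open Polynomial IsLocalRing
open scoped IntermediateField

namespace Groth.Agent.H10.GAS

open Groth.Agent.H10.AS

section CaseB2

variable (p : ℕ) [hpf : Fact p.Prime] (A K L : Type u) [CommRing A] [IsDomain A]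
  [IsDiscreteValuationRing A] [Field K] [Algebra A K] [IsFractionRing A K] [Field L] [Algebra K L]
  [Algebra A L] [IsScalarTower A K L] (π : A) (hπ : Irreducible π)
  (P : A[X]) (hPm : P.Monic) (hPd : P.natDegree = p)
  (ξ : K) (z : L) (hz : aeval z P = algebraMap K L ξ)
  (hint : IsIntegral K z) (htop : Algebra.adjoin K {z} = ⊤)
  (hfin : Module.finrank K L = 1 ∨ Module.finrank K L = p)
  (n : ℕ) (a : Aˣ) (hn : 0 < n) (hpn : ¬ p ∣ n)
  (hξ : ξ * algebraMap A K π ^ n = algebraMap A K a)

include hπ hξ hn hz hpn hint htop hfin hPm hPd in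
theorem finrank_eq_p_B : Module.finrank K L = p := by
  obtain ⟨W, hW⟩ := Groth.Agent.H10.EtRamTot.exists_dominates' A L (algebraMap A L)
  rcases hfin with h1 | h1
  · exfalso
    apply z_notMem_range p A K L π hπ P hPm hPd ξ z hz n a hn hpn hξ W hW
    have h2 := Subalgebra.bot_eq_top_of_finrank_eq_one h1
    have h3 : z ∈ (⊥ : Subalgebra K L) := by rw [h2]; trivial
    exact Algebra.mem_bot.1 h3
  · exact h1

include hπ hξ hn hz hpn hint htop hfin hPm hPd in
/-- the terms of the expansion of an element of `W` lie in `W`. -/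
theorem terms_mem (W : ValuationSubring L) (hW : EtRam.Dominates A (algebraMap A L) W)
    (c : ℕ → K) (hx : ∑ j ∈ Finset.range p, algebraMap K L (c j) * z ^ j ∈ W) :
    ∀ j ∈ Finset.range p, algebraMap K L (c j) * z ^ j ∈ W := by
  apply terms_mem_of_sum_mem W (Finset.range p) _ _ hx
  intro i hi j hj hij hti htj
  have hzi : z ^ i ≠ 0 := right_ne_zero_of_mul hti
  have hci : c i ≠ 0 := by
    intro h; apply hti; rw [h, map_zero, zero_mul]
  have hcj : c j ≠ 0 := by
    intro h; apply htj; rw [h, map_zero, zero_mul]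
  exact v_term_ne p A K L π hπ P hPm hPd ξ z hz n a hn hpn hξ W hW (c i) (c j) hci hcj i j
    (Finset.mem_range.1 hi) (Finset.mem_range.1 hj) hij

include hπ hξ hn hz hpn hint htop hfin hPm hPd in
theorem le_of_dominates (W W' : ValuationSubring L)
    (hW : EtRam.Dominates A (algebraMap A L) W) (hW' : EtRam.Dominates A (algebraMap A L) W')
    (x : L) (hx : x ∈ W) : x ∈ W' := by
  obtain ⟨c, hc⟩ := exists_repr K L z hint htop p (finrank_eq_p_B p A K L π hπ P hPm hPd ξ z hz hint htop hfin n a hn hpn hξ) x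
  rw [hc] at hx ⊢
  have h1 := terms_mem p A K L π hπ P hPm hPd ξ z hz hint htop hfin n a hn hpn hξ W hW c hx
  apply sum_mem
  intro j hj
  rw [term_mem_iff p A K L π hπ P hPm hPd ξ z hz n a hn hξ W' hW']
  rw [← term_mem_iff p A K L π hπ P hPm hPd ξ z hz n a hn hξ W hW]
  exact h1 j hj

include hπ hξ hn hz hpn hint htop hfin hPm hPd in
theorem residue_surjective_B (W : ValuationSubring L)
    (hW : EtRam.Dominates A (algebraMap A L) W) (x : L) (hx : x ∈ W) :
    ∃ a₀ : A, W.valuation (x - algebraMap A L a₀) < 1 := by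
  obtain ⟨c, hc⟩ := exists_repr K L z hint htop p (finrank_eq_p_B p A K L π hπ P hPm hPd ξ z hz hint htop hfin n a hn hpn hξ) x
  have hx' := hx
  rw [hc] at hx'
  have h1 := terms_mem p A K L π hπ P hPm hPd ξ z hz hint htop hfin n a hn hpn hξ W hW c hx'
  have h0 := h1 0 (Finset.mem_range.2 hpf.out.pos)
  rw [pow_zero, mul_one] at h0
  obtain ⟨a₀, ha₀⟩ := (mem_iff A K L π hπ W hW (c 0)).1 h0
  refine ⟨a₀, ?_⟩
  have hsplit : x - algebraMap A L a₀ =
      ∑ j ∈ (Finset.range p).erase 0, algebraMap K L (c j) * z ^ j := by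
    rw [hc, ← Finset.add_sum_erase (Finset.range p) _ (Finset.mem_range.2 hpf.out.pos),
      pow_zero, mul_one, IsScalarTower.algebraMap_apply A K L, ha₀]
    ring
  rw [hsplit]
  apply Valuation.map_sum_lt _ one_ne_zero
  intro j hj
  obtain ⟨hj0, hjp⟩ := Finset.mem_erase.1 hj
  by_cases hcj : c j = 0
  · rw [hcj, map_zero, zero_mul, map_zero]; exact zero_lt_one
  · have hle : W.valuation (algebraMap K L (c j) * z ^ j) ≤ 1 :=
      (W.valuation_le_one_iff _).2 (h1 j hjp)
    refine lt_of_le_of_ne hle ?_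
    have := v_term_ne p A K L π hπ P hPm hPd ξ z hz n a hn hpn hξ W hW (c j) 1 hcj one_ne_zero j 0
      (Finset.mem_range.1 hjp) hpf.out.pos hj0
    rwa [pow_zero, mul_one, map_one, map_one] at this

include hπ hξ hn hz hpn hint htop hfin hPm hPd in
theorem totallyRamified_B : EtRam.IsTotallyRamified A (algebraMap A L) := by
  refine ⟨Groth.Agent.H10.EtRamTot.exists_dominates' A L (algebraMap A L), ?_, ?_⟩
  · intro W W' hW hW'
    ext x
    exact ⟨le_of_dominates p A K L π hπ P hPm hPd ξ z hz hint htop hfin n a hn hpn hξ W W' hW hW' x,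
      le_of_dominates p A K L π hπ P hPm hPd ξ z hz hint htop hfin n a hn hpn hξ W' W hW' hW x⟩
  · intro W hW r
    obtain ⟨⟨x, hx⟩, rfl⟩ := IsLocalRing.residue_surjective r
    obtain ⟨a₀, ha₀⟩ := residue_surjective_B p A K L π hπ P hPm hPd ξ z hz hint htop hfin n a hn hpn hξ W hW x hx
    refine ⟨a₀, ?_⟩
    symm
    show IsLocalRing.residue W ⟨x, hx⟩ = IsLocalRing.residue W _
    rw [← sub_eq_zero, ← map_sub, IsLocalRing.residue_eq_zero_iff, W.valuation_lt_one_iff]
    exact ha₀

end CaseB2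

end Groth.Agent.H10.GAS
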