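import Mathlib
import Groth.Prelude.Def_EtRam
import Groth.Agent.H10.AS3
import Groth.Agent.H10.AS4
import Groth.Agent.H10.GAS1

set_option autoImplicit false
set_option linter.style.haveILetI false
set_option linter.unusedSectionVars false
set_option linter.unusedVariables false
universe u
open Polynomial IsLocalRing
open scoped IntermediateField

namespace Groth.Agent.H10.GAS

open Groth.Agent.H10.AS

section CaseC

variable (p : ℕ) [hpf : Fact p.Prime] (A K L : Type u) [CommRing A] [IsDomain A]
  [IsDiscreteValuationRing A] [Field K] [Algebra A K] [IsFractionRing A K] [Field L] [Algebra K L]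
  [Algebra A L] [IsScalarTower A K L] (π : A) (hπ : Irreducible π)
  (Q : A[X]) (hQm : Q.Monic) (hQd : Q.natDegree = p)
  (hQc : ∀ i < p, Q.coeff i ∈ maximalIdeal A)
  (a : A) (y : L) (hy : aeval y Q = algebraMap A L a)
  (ha : ∀ r : A, residue A a ≠ residue A r ^ p)
  (W : ValuationSubring L) (hW : EtRam.Dominates A (algebraMap A L) W)

include hW hQm hQd hy in
theorem v_y_le_one : W.valuation y ≤ 1 := by
  by_contra hlt
  push Not at hlt
  have h1 := v_aeval_eq_pow A L W hW Q hQm y hlt
  rw [hy, hQd] at h1
  have h2 : W.valuation (algebraMap A L a) ≤ 1 := (W.valuation_le_one_iff _).2 (hW.1 a)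
  rw [h1] at h2
  exact not_le.2 (one_lt_pow₀ hlt hpf.out.ne_zero) h2

include hW hQm hQd hQc hy in
theorem v_y_pow_sub_lt : W.valuation (y ^ p - algebraMap A L a) < 1 := by
  have hyle := v_y_le_one p A L Q hQm hQd a y hy W hW
  have h1 : y ^ p - algebraMap A L a = - ∑ i ∈ Finset.range p, Q.coeff i • y ^ i := by
    rw [← hy, aeval_eq_sum_range, hQd, Finset.sum_range_succ, ← hQd, hQm.coeff_natDegree, one_smul]
    ring
  rw [h1, Valuation.map_neg]
  apply Valuation.map_sum_lt _ one_ne_zero
  intro i hi
  rw [Algebra.smul_def, map_mul, map_pow]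
  calc _ ≤ W.valuation (algebraMap A L (Q.coeff i)) * 1 := mul_le_mul' le_rfl (pow_le_one' hyle i)
    _ = W.valuation (algebraMap A L (Q.coeff i)) := mul_one _
    _ < 1 := hW.2 _ (hQc i (Finset.mem_range.1 hi))

end CaseC

end Groth.Agent.H10.GAS
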