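import Mathlib
import Groth.Prelude.Def_EtRam
import Groth.Agent.H10.AS3
import Groth.Agent.H10.AS4
import Groth.Agent.H10.GAS3

set_option autoImplicit false
set_option linter.style.haveILetI false
set_option linter.unusedSectionVars false
set_option linter.unusedVariables false
universe u
open Polynomial IsLocalRing
open scoped IntermediateField

namespace Groth.Agent.H10.GAS

open Groth.Agent.H10.AS

section CaseC2

variable (p : ℕ) [hpf : Fact p.Prime] (A K L : Type u) [CommRing A] [IsDomain A]
  [IsDiscreteValuationRing A] [Field K] [Algebra A K] [IsFractionRing A K] [Field L] [Algebra K L]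
  [Algebra A L] [IsScalarTower A K L] (π : A) (hπ : Irreducible π)
  (Q : A[X]) (hQm : Q.Monic) (hQd : Q.natDegree = p)
  (hQc : ∀ i < p, Q.coeff i ∈ maximalIdeal A)
  (a : A) (y : L) (hy : aeval y Q = algebraMap A L a)
  (ha : ∀ r : A, residue A a ≠ residue A r ^ p)
  (W : ValuationSubring L) (hW : EtRam.Dominates A (algebraMap A L) W)
  [Algebra A W] [IsLocalHom (algebraMap A W)]
  (hAW : ∀ a : A, ((algebraMap A W a : W) : L) = algebraMap A L a)

/-- `y` as an element of `W`. -/
noncomputable def yW : W :=
  ⟨y, (W.valuation_le_one_iff _).1 (v_y_le_one p A L Q hQm hQd a y hy W hW)⟩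

/-- the residue of `y`. -/
noncomputable def ybar : ResidueField W :=
  residue W (yW p A L Q hQm hQd a y hy W hW)

include hAW hQc in
theorem ybar_pow : ybar p A L Q hQm hQd a y hy W hW ^ p =
    algebraMap (ResidueField A) (ResidueField W) (residue A a) := by
  have h1 : algebraMap (ResidueField A) (ResidueField W) (residue A a) =
      residue W (algebraMap A W a) := rfl
  rw [h1, ybar, ← map_pow, ← sub_eq_zero, ← map_sub, IsLocalRing.residue_eq_zero_iff,
    W.valuation_lt_one_iff]
  have h2 : ((yW p A L Q hQm hQd a y hy W hW ^ p - algebraMap A W a : W) : L) =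
      y ^ p - algebraMap A L a := by
    rw [← hAW]; rfl
  rw [h2]
  exact v_y_pow_sub_lt p A L Q hQm hQd hQc a y hy W hW

include ha in
theorem irreducible_hbar : Irreducible (X ^ p - C (residue A a) : (ResidueField A)[X]) := by
  apply X_pow_sub_C_irreducible_of_prime hpf.out
  intro b hb
  obtain ⟨r, rfl⟩ := IsLocalRing.residue_surjective b
  exact ha r hb.symm

include ha hAW hQc in
theorem minpoly_ybar : minpoly (ResidueField A) (ybar p A L Q hQm hQd a y hy W hW) =
    X ^ p - C (residue A a) := by
  symm
  apply minpoly.eq_of_irreducible_of_monic (irreducible_hbar p A a ha)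
  · rw [map_sub, map_pow, aeval_X, aeval_C, ybar_pow p A L Q hQm hQd hQc a y hy W hW hAW,
      sub_self]
  · exact monic_X_pow_sub_C _ hpf.out.ne_zero

include hQm hQd hQc hy hW ha hAW in
/-- Claim G: a combination of powers of `y` with coefficients in `A` lying in the maximal ideal
has all its coefficients in the maximal ideal. -/
theorem coeff_mem_of_lt_one (c : ℕ → A)
    (h : W.valuation (∑ j ∈ Finset.range p, algebraMap A L (c j) * y ^ j) < 1) :
    ∀ j ∈ Finset.range p, c j ∈ maximalIdeal A := by
  set yb := ybar p A L Q hQm hQd a y hy W hW with hyb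
  let q : (ResidueField A)[X] := ∑ j ∈ Finset.range p, C (residue A (c j)) * X ^ j
  have hq : aeval yb q = 0 := by
    have h1 : aeval yb q = residue W (∑ j ∈ Finset.range p,
        algebraMap A W (c j) * yW p A L Q hQm hQd a y hy W hW ^ j) := by
      simp only [q, map_sum, map_mul, map_pow, aeval_X, aeval_C]
      rfl
    rw [h1, IsLocalRing.residue_eq_zero_iff, W.valuation_lt_one_iff]
    have h2 : ((∑ j ∈ Finset.range p,
        algebraMap A W (c j) * yW p A L Q hQm hQd a y hy W hW ^ j : W) : L) =
        ∑ j ∈ Finset.range p, algebraMap A L (c j) * y ^ j := by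
      rw [AddSubmonoidClass.coe_finsetSum]
      apply Finset.sum_congr rfl
      intro j _
      rw [← hAW]; rfl
    rw [h2]
    exact h
  have hq0 : q = 0 := by
    by_contra hne
    have h1 := minpoly.degree_le_of_ne_zero (ResidueField A) yb hne hq
    rw [minpoly_ybar p A L Q hQm hQd hQc a y hy ha W hW hAW,
      degree_X_pow_sub_C hpf.out.pos] at h1
    have h2 : q.degree < p := by
      apply lt_of_le_of_lt (degree_sum_le _ _)
      rw [Finset.sup_lt_iff (by exact_mod_cast WithBot.bot_lt_coe p)]
      intro j hj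
      calc (C (residue A (c j)) * X ^ j).degree ≤ (j : WithBot ℕ) := degree_C_mul_X_pow_le j _
        _ < (p : WithBot ℕ) := by exact_mod_cast Finset.mem_range.1 hj
    exact not_le.2 h2 h1
  intro j hj
  have h1 : q.coeff j = residue A (c j) := by
    simp only [q, finsetSum_coeff, coeff_C_mul_X_pow]
    rw [Finset.sum_eq_single j]
    · simp
    · intro i _ hij
      rw [if_neg (Ne.symm hij)]
    · intro hj'
      exact absurd hj hj'
  rw [hq0, coeff_zero] at h1
  exact (IsLocalRing.residue_eq_zero_iff _).1 h1.symm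

end CaseC2

section CaseC3

variable (p : ℕ) [hpf : Fact p.Prime] (A K L : Type u) [CommRing A] [IsDomain A]
  [IsDiscreteValuationRing A] [Field K] [Algebra A K] [IsFractionRing A K] [Field L] [Algebra K L]
  [Algebra A L] [IsScalarTower A K L] (π : A) (hπ : Irreducible π)
  (Q : A[X]) (hQm : Q.Monic) (hQd : Q.natDegree = p)
  (hQc : ∀ i < p, Q.coeff i ∈ maximalIdeal A)
  (a : A) (y : L) (hy : aeval y Q = algebraMap A L a)
  (ha : ∀ r : A, residue A a ≠ residue A r ^ p)
  (W : ValuationSubring L) (hW : EtRam.Dominates A (algebraMap A L) W)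
  [Algebra A W] [IsLocalHom (algebraMap A W)]
  (hAW : ∀ a : A, ((algebraMap A W a : W) : L) = algebraMap A L a)

include hπ hQm hQd hQc hy hW ha hAW in
theorem gauss_max (c : ℕ → K) :
    ∃ j₀ ∈ Finset.range p,
      W.valuation (∑ j ∈ Finset.range p, algebraMap K L (c j) * y ^ j) =
        W.valuation (algebraMap K L (c j₀)) ∧
      ∀ j ∈ Finset.range p,
        W.valuation (algebraMap K L (c j)) ≤ W.valuation (algebraMap K L (c j₀)) := by
  obtain ⟨j₀, hj₀, hmax⟩ := Finset.exists_max_image (Finset.range p)
    (fun j => W.valuation (algebraMap K L (c j))) ⟨0, Finset.mem_range.2 hpf.out.pos⟩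
  refine ⟨j₀, hj₀, ?_, hmax⟩
  by_cases hb : c j₀ = 0
  · have hall : ∀ j ∈ Finset.range p, algebraMap K L (c j) = 0 := by
      intro j hj
      have := hmax j hj
      simp only [hb, map_zero] at this
      exact (Valuation.zero_iff _).1 (le_antisymm this zero_le)
    rw [Finset.sum_eq_zero (fun j hj => by rw [hall j hj, zero_mul]), hb, map_zero, map_zero, map_zero]
  · have hbL : algebraMap K L (c j₀) ≠ 0 := (_root_.map_ne_zero _).2 hb
    have hvb : W.valuation (algebraMap K L (c j₀)) ≠ 0 := (Valuation.ne_zero_iff _).2 hbL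
    have hex : ∀ j, ∃ d : A, j ∈ Finset.range p → algebraMap A K d = c j / c j₀ := by
      intro j
      by_cases hj : j ∈ Finset.range p
      · have h1 : W.valuation (algebraMap K L (c j / c j₀)) ≤ 1 := by
          rw [map_div₀, map_div₀]
          exact div_le_one_of_le₀ (hmax j hj) zero_le
        obtain ⟨d, hd⟩ := (mem_iff A K L π hπ W hW _).1 ((W.valuation_le_one_iff _).1 h1)
        exact ⟨d, fun _ => hd⟩
      · exact ⟨0, fun h => absurd h hj⟩
    choose d hd using hex
    have hsum : ∑ j ∈ Finset.range p, algebraMap K L (c j) * y ^ j =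
        algebraMap K L (c j₀) *
          ∑ j ∈ Finset.range p, algebraMap A L (d j) * y ^ j := by
      rw [Finset.mul_sum]
      apply Finset.sum_congr rfl
      intro j hj
      rw [IsScalarTower.algebraMap_apply A K L, hd j hj, map_div₀]
      field_simp
    have hle : W.valuation (∑ j ∈ Finset.range p, algebraMap A L (d j) * y ^ j) ≤ 1 := by
      apply Valuation.map_sum_le
      intro j _
      rw [map_mul, map_pow]
      calc _ ≤ (1 : W.ValueGroup) * 1 := mul_le_mul'
            ((W.valuation_le_one_iff _).2 (hW.1 _))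
            (pow_le_one' (v_y_le_one p A L Q hQm hQd a y hy W hW) j)
        _ = 1 := one_mul _
    have hnlt : ¬ W.valuation (∑ j ∈ Finset.range p,
        algebraMap A L (d j) * y ^ j) < 1 := by
      intro hlt
      have h1 := coeff_mem_of_lt_one p A L Q hQm hQd hQc a y hy ha W hW hAW d hlt j₀ hj₀
      have h2 : algebraMap A K (d j₀) = 1 := by rw [hd j₀ hj₀, div_self hb]
      have h3 : d j₀ = 1 := IsFractionRing.injective A K (h2.trans (map_one _).symm)
      rw [h3] at h1
      exact (Ideal.ne_top_iff_one _).1 (IsLocalRing.maximalIdeal.isMaximal A).ne_top h1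
    have heq : W.valuation (∑ j ∈ Finset.range p,
        algebraMap A L (d j) * y ^ j) = 1 :=
      le_antisymm hle (not_lt.1 hnlt)
    rw [hsum, map_mul, heq, mul_one]

include hπ hQm hQd hQc hy hW ha hAW in
theorem gauss_le (c : ℕ → K)
    (h : W.valuation (∑ j ∈ Finset.range p, algebraMap K L (c j) * y ^ j) ≤ 1) :
    ∀ j ∈ Finset.range p, ∃ d : A, algebraMap A K d = c j := by
  obtain ⟨j₀, hj₀, h1, h2⟩ := gauss_max p A K L π hπ Q hQm hQd hQc a y hy ha W hW hAW c
  intro j hj
  apply (mem_iff A K L π hπ W hW _).1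
  rw [← W.valuation_le_one_iff]
  exact (h2 j hj).trans (h1 ▸ h)

include hπ hQm hQd hQc hy hW ha hAW in
theorem gauss_lt (c : ℕ → K)
    (h : W.valuation (∑ j ∈ Finset.range p, algebraMap K L (c j) * y ^ j) < 1) :
    ∀ j ∈ Finset.range p, ∃ d ∈ maximalIdeal A, algebraMap A K d = c j := by
  obtain ⟨j₀, hj₀, h1, h2⟩ := gauss_max p A K L π hπ Q hQm hQd hQc a y hy ha W hW hAW c
  intro j hj
  apply (lt_one_iff A K L π hπ W hW _).1
  exact lt_of_le_of_lt (h2 j hj) (h1 ▸ h)

end CaseC3

end Groth.Agent.H10.GAS
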