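import Mathlib
import Groth.Prelude.Def_EtRam
import Groth.Agent.H10.AS3
import Groth.Agent.H10.AS4
import Groth.Agent.H10.AS13
import Groth.Agent.H10.GAS4
import Groth.Agent.H10.EtRamTot
import Groth.Agent.H10.EtRamTower

set_option autoImplicit false
set_option linter.style.haveILetI false
set_option linter.unusedSectionVars false
set_option linter.unusedVariables false
universe u
open Polynomial IsLocalRing
open scoped IntermediateField

namespace Groth.Agent.H10.GAS

open Groth.Agent.H10.AS

section CaseC4

variable (p : ℕ) [hpf : Fact p.Prime] (A K L : Type u) [CommRing A] [IsDomain A]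
  [IsDiscreteValuationRing A] [Field K] [Algebra A K] [IsFractionRing A K] [Field L] [Algebra K L]
  [Algebra A L] [IsScalarTower A K L] (π : A) (hπ : Irreducible π)
  (Q : A[X]) (hQm : Q.Monic) (hQd : Q.natDegree = p)
  (hQc : ∀ i < p, Q.coeff i ∈ maximalIdeal A)
  (a : A) (y : L) (hy : aeval y Q = algebraMap A L a)
  (ha : ∀ r : A, residue A a ≠ residue A r ^ p)
  (hint : IsIntegral K y) (htop : Algebra.adjoin K {y} = ⊤)
  (hfin : Module.finrank K L = 1 ∨ Module.finrank K L = p)

section WithW

variable (W : ValuationSubring L) (hW : EtRam.Dominates A (algebraMap A L) W)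
  [Algebra A W] [IsLocalHom (algebraMap A W)]
  (hAW : ∀ a : A, ((algebraMap A W a : W) : L) = algebraMap A L a)

include hπ hQm hQd hQc hy hW ha hAW in
theorem y_notMem_range : y ∉ Set.range (algebraMap K L) := by
  rintro ⟨c, hc⟩
  have hv := v_y_le_one p A L Q hQm hQd a y hy W hW
  rw [← hc] at hv
  obtain ⟨b₀, hb₀⟩ := (mem_iff A K L π hπ W hW _).1 ((W.valuation_le_one_iff _).1 hv)
  have hy' : y = algebraMap A L b₀ := by
    rw [← hc, ← hb₀, ← IsScalarTower.algebraMap_apply A K L]
  let c' : ℕ → A := fun j => if j = 0 then -b₀ else if j = 1 then 1 else 0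
  have hsum : ∑ j ∈ Finset.range p, algebraMap A L (c' j) * y ^ j = 0 := by
    rw [Finset.sum_eq_add 0 1 zero_ne_one]
    · simp only [c', if_true, one_ne_zero, if_false, pow_zero, mul_one, pow_one, map_neg, map_one,
        one_mul]
      rw [hy']; ring
    · intro j _ hj
      simp only [c', if_neg hj.1, if_neg hj.2, map_zero, zero_mul]
    · intro h; exact absurd (Finset.mem_range.2 hpf.out.pos) h
    · intro h; exact absurd (Finset.mem_range.2 hpf.out.one_lt) h
  have hlt : W.valuation (∑ j ∈ Finset.range p, algebraMap A L (c' j) * y ^ j) < 1 := by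
    rw [hsum, map_zero]; exact zero_lt_one
  have h1 := coeff_mem_of_lt_one p A L Q hQm hQd hQc a y hy ha W hW hAW c' hlt 1
    (Finset.mem_range.2 hpf.out.one_lt)
  simp only [c', one_ne_zero, if_false, if_true] at h1
  exact (Ideal.ne_top_iff_one _).1 (IsLocalRing.maximalIdeal.isMaximal A).ne_top h1

end WithW

include hπ hQm hQd hQc hy ha hfin in
theorem finrank_eq_p_C : Module.finrank K L = p := by
  obtain ⟨W, hW⟩ := Groth.Agent.H10.EtRamTot.exists_dominates' A L (algebraMap A L)
  letI : Algebra A W := (RingHom.codRestrict (algebraMap A L) W hW.1).toAlgebra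
  haveI : IsLocalHom (algebraMap A W) :=
    Groth.Agent.H10.EtRamT.isLocalHom_of_dominates (algebraMap A L) W hW
  rcases hfin with h1 | h1
  · exfalso
    apply y_notMem_range p A K L π hπ Q hQm hQd hQc a y hy ha W hW (fun _ => rfl)
    have h2 := Subalgebra.bot_eq_top_of_finrank_eq_one h1
    have h3 : y ∈ (⊥ : Subalgebra K L) := by rw [h2]; trivial
    exact Algebra.mem_bot.1 h3
  · exact h1

include hπ hQm hQd hQc hy ha hint htop hfin in
theorem exists_repr_y (x : L) :
    ∃ c : ℕ → K, x = ∑ j ∈ Finset.range p, algebraMap K L (c j) * y ^ j :=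
  exists_repr K L y hint htop p (finrank_eq_p_C p A K L π hπ Q hQm hQd hQc a y hy ha hfin) x

end CaseC4

end Groth.Agent.H10.GAS
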