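import Mathlib
import Groth.Prelude.Def_EtRam
import Groth.Agent.H10.AS13
import Groth.Agent.H10.GAS5

set_option autoImplicit false
set_option linter.style.haveILetI false
set_option linter.unusedSectionVars false
set_option linter.unusedVariables false
universe u
open Polynomial IsLocalRing
open scoped IntermediateField

namespace Groth.Agent.H10.GAS

open Groth.Agent.H10.AS

section CaseC5

variable (p : ℕ) [hpf : Fact p.Prime] (A K L : Type u) [CommRing A] [IsDomain A]
  [IsDiscreteValuationRing A] [Field K] [Algebra A K] [IsFractionRing A K] [Field L] [Algebra K L]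
  [Algebra A L] [IsScalarTower A K L] (π : A) (hπ : Irreducible π)
  (Q : A[X]) (hQm : Q.Monic) (hQd : Q.natDegree = p)
  (hQc : ∀ i < p, Q.coeff i ∈ maximalIdeal A)
  (a : A) (y : L) (hy : aeval y Q = algebraMap A L a)
  (ha : ∀ r : A, residue A a ≠ residue A r ^ p)
  (hint : IsIntegral K y) (htop : Algebra.adjoin K {y} = ⊤)
  (hfin : Module.finrank K L = 1 ∨ Module.finrank K L = p)
  [hchar : CharP (ResidueField A) p]
  (W : ValuationSubring L) (hW : EtRam.Dominates A (algebraMap A L) W)
  [Algebra A W] [IsLocalHom (algebraMap A W)]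
  (hAW : ∀ a : A, ((algebraMap A W a : W) : L) = algebraMap A L a)

include hπ hQm hQd hQc hy hW ha hAW hint htop hfin in
theorem mem_of_mem_C (W' : ValuationSubring L) (hW' : EtRam.Dominates A (algebraMap A L) W')
    (x : L) (hx : x ∈ W) : x ∈ W' := by
  obtain ⟨c, hc⟩ := exists_repr_y p A K L π hπ Q hQm hQd hQc a y hy ha hint htop hfin x
  have hx' : W.valuation x ≤ 1 := (W.valuation_le_one_iff _).2 hx
  rw [hc] at hx' ⊢
  have h1 := gauss_le p A K L π hπ Q hQm hQd hQc a y hy ha W hW hAW c hx'
  apply sum_mem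
  intro j hj
  obtain ⟨d, hd⟩ := h1 j hj
  rw [← hd, ← IsScalarTower.algebraMap_apply A K L]
  apply mul_mem (hW'.1 d)
  apply pow_mem
  exact (W'.valuation_le_one_iff _).1 (v_y_le_one p A L Q hQm hQd a y hy W' hW')

include hπ hQm hQd hQc hy hW ha hAW hint htop hfin in
/-- elements of `W` are `A`-combinations of powers of `y`. -/
theorem exists_repr_W (x : W) : ∃ d : ℕ → A, x = ∑ j ∈ Finset.range p,
    algebraMap A W (d j) * yW p A L Q hQm hQd a y hy W hW ^ j := by
  obtain ⟨c, hc⟩ := exists_repr_y p A K L π hπ Q hQm hQd hQc a y hy ha hint htop hfin (x : L)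
  have hx' : W.valuation (x : L) ≤ 1 := (W.valuation_le_one_iff _).2 x.2
  rw [hc] at hx'
  have h1 := gauss_le p A K L π hπ Q hQm hQd hQc a y hy ha W hW hAW c hx'
  have hex : ∀ j, ∃ d : A, j ∈ Finset.range p → algebraMap A K d = c j := by
    intro j
    by_cases hj : j ∈ Finset.range p
    · obtain ⟨d, hd⟩ := h1 j hj; exact ⟨d, fun _ => hd⟩
    · exact ⟨0, fun h => absurd h hj⟩
  choose d hd using hex
  refine ⟨d, Subtype.ext ?_⟩
  rw [hc, AddSubmonoidClass.coe_finsetSum]
  apply Finset.sum_congr rfl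
  intro j hj
  rw [← hd j hj, ← IsScalarTower.algebraMap_apply A K L, ← hAW]
  rfl

include hπ hQm hQd hQc hy hW ha hAW hint htop hfin in
/-- elements of the maximal ideal of `W` are `m_A`-combinations of powers of `y`. -/
theorem exists_repr_mW (x : W) (hx : x ∈ maximalIdeal W) : ∃ d : ℕ → A,
    (∀ j ∈ Finset.range p, d j ∈ maximalIdeal A) ∧ x = ∑ j ∈ Finset.range p,
    algebraMap A W (d j) * yW p A L Q hQm hQd a y hy W hW ^ j := by
  obtain ⟨c, hc⟩ := exists_repr_y p A K L π hπ Q hQm hQd hQc a y hy ha hint htop hfin (x : L)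
  have hx' : W.valuation (x : L) < 1 := (W.valuation_lt_one_iff _).1 hx
  rw [hc] at hx'
  have h1 := gauss_lt p A K L π hπ Q hQm hQd hQc a y hy ha W hW hAW c hx'
  have hex : ∀ j, ∃ d : A, j ∈ Finset.range p → (d ∈ maximalIdeal A ∧ algebraMap A K d = c j) := by
    intro j
    by_cases hj : j ∈ Finset.range p
    · obtain ⟨d, hd, hd'⟩ := h1 j hj; exact ⟨d, fun _ => ⟨hd, hd'⟩⟩
    · exact ⟨0, fun h => absurd h hj⟩
  choose d hd using hex
  refine ⟨d, fun j hj => (hd j hj).1, Subtype.ext ?_⟩
  rw [hc, AddSubmonoidClass.coe_finsetSum]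
  apply Finset.sum_congr rfl
  intro j hj
  rw [← (hd j hj).2, ← IsScalarTower.algebraMap_apply A K L, ← hAW]
  rfl

include hπ hQm hQd hQc hy hW ha hAW hint htop hfin in
theorem weaklyUnramified_C : EtRam.IsWeaklyUnramified A W := by
  show (maximalIdeal A).map (algebraMap A W) = maximalIdeal W
  apply le_antisymm
  · rw [Ideal.map_le_iff_le_comap]
    intro b hb
    show algebraMap A W b ∈ maximalIdeal W
    rw [W.valuation_lt_one_iff, hAW]
    exact hW.2 b hb
  · intro x hx
    obtain ⟨d, hd, hxd⟩ := exists_repr_mW p A K L π hπ Q hQm hQd hQc a y hy ha hint htop hfin W hW hAW x hx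
    rw [hxd]
    apply sum_mem
    intro j hj
    exact Ideal.mul_mem_right _ _ (Ideal.mem_map_of_mem _ (hd j hj))

end CaseC5

section CaseC6

variable (p : ℕ) [hpf : Fact p.Prime] (A K L : Type u) [CommRing A] [IsDomain A]
  [IsDiscreteValuationRing A] [Field K] [Algebra A K] [IsFractionRing A K] [Field L] [Algebra K L]
  [Algebra A L] [IsScalarTower A K L] (π : A) (hπ : Irreducible π)
  (Q : A[X]) (hQm : Q.Monic) (hQd : Q.natDegree = p)
  (hQc : ∀ i < p, Q.coeff i ∈ maximalIdeal A)
  (a : A) (y : L) (hy : aeval y Q = algebraMap A L a)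
  (ha : ∀ r : A, residue A a ≠ residue A r ^ p)
  (hint : IsIntegral K y) (htop : Algebra.adjoin K {y} = ⊤)
  (hfin : Module.finrank K L = 1 ∨ Module.finrank K L = p)
  [hchar : CharP (ResidueField A) p]
  (W : ValuationSubring L) (hW : EtRam.Dominates A (algebraMap A L) W)
  [Algebra A W] [IsLocalHom (algebraMap A W)]
  (hAW : ∀ a : A, ((algebraMap A W a : W) : L) = algebraMap A L a)

include hπ hQm hQd hQc hy hW ha hAW hint htop hfin in
theorem adjoin_ybar_eq_top :
    Algebra.adjoin (ResidueField A) {ybar p A L Q hQm hQd a y hy W hW} = ⊤ := by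
  rw [eq_top_iff]
  intro r _
  obtain ⟨x, rfl⟩ := IsLocalRing.residue_surjective r
  obtain ⟨d, hd⟩ := exists_repr_W p A K L π hπ Q hQm hQd hQc a y hy ha hint htop hfin W hW hAW x
  rw [hd, map_sum]
  apply sum_mem
  intro j _
  rw [map_mul, map_pow]
  apply mul_mem
  · have : residue W (algebraMap A W (d j)) =
        algebraMap (ResidueField A) (ResidueField W) (residue A (d j)) := rfl
    rw [this]
    exact Subalgebra.algebraMap_mem _ _
  · exact pow_mem (Algebra.subset_adjoin (Set.mem_singleton _)) j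

include hAW hQc in
theorem isIntegral_ybar :
    IsIntegral (ResidueField A) (ybar p A L Q hQm hQd a y hy W hW) := by
  refine ⟨X ^ p - C (residue A a), monic_X_pow_sub_C _ hpf.out.ne_zero, ?_⟩
  rw [← aeval_def, map_sub, map_pow, aeval_X, aeval_C,
    ybar_pow p A L Q hQm hQd hQc a y hy W hW hAW, sub_self]

include hπ hQm hQd hQc hy hW ha hAW hint htop hfin in
theorem finrank_residue_C : Module.finrank (ResidueField A) (ResidueField W) = p := by
  let pb := PowerBasis.ofAdjoinEqTop
    (isIntegral_ybar p A L Q hQm hQd hQc a y hy W hW hAW)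
    (adjoin_ybar_eq_top p A K L π hπ Q hQm hQd hQc a y hy ha hint htop hfin W hW hAW)
  rw [pb.finrank]
  show (minpoly (ResidueField A) (ybar p A L Q hQm hQd a y hy W hW)).natDegree = p
  rw [minpoly_ybar p A L Q hQm hQd hQc a y hy ha W hW hAW,
    natDegree_X_pow_sub_C]

include hπ hQm hQd hQc hy hW ha hAW hint htop hfin hchar in
theorem isPurelyInseparable_C :
    IsPurelyInseparable (ResidueField A) (ResidueField W) := by
  haveI : ExpChar (ResidueField A) p := ExpChar.prime hpf.out
  haveI : CharP (ResidueField W) p :=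
    charP_of_injective_algebraMap (algebraMap (ResidueField A) (ResidueField W)).injective p
  rw [isPurelyInseparable_iff_pow_mem (ResidueField A) p]
  intro r
  refine ⟨1, ?_⟩
  rw [pow_one]
  have hr : r ∈ Algebra.adjoin (ResidueField A)
      {ybar p A L Q hQm hQd a y hy W hW} := by
    rw [adjoin_ybar_eq_top p A K L π hπ Q hQm hQd hQc a y hy ha hint htop hfin W hW hAW]; trivial
  induction hr using Algebra.adjoin_induction with
  | mem x hx =>
    rw [Set.mem_singleton_iff] at hx
    rw [hx, ybar_pow p A L Q hQm hQd hQc a y hy W hW hAW]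
    exact ⟨_, rfl⟩
  | algebraMap c => exact ⟨c ^ p, by rw [map_pow]⟩
  | add x y _ _ hx hy =>
    rw [add_pow_char]
    exact add_mem hx hy
  | mul x y _ _ hx hy =>
    rw [mul_pow]
    exact mul_mem hx hy

end CaseC6

section CaseC7

variable (p : ℕ) [hpf : Fact p.Prime] (A K L : Type u) [CommRing A] [IsDomain A]
  [IsDiscreteValuationRing A] [Field K] [Algebra A K] [IsFractionRing A K] [Field L] [Algebra K L]
  [Algebra A L] [IsScalarTower A K L] (π : A) (hπ : Irreducible π)
  (Q : A[X]) (hQm : Q.Monic) (hQd : Q.natDegree = p)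
  (hQc : ∀ i < p, Q.coeff i ∈ maximalIdeal A)
  (a : A) (y : L) (hy : aeval y Q = algebraMap A L a)
  (ha : ∀ r : A, residue A a ≠ residue A r ^ p)
  (hint : IsIntegral K y) (htop : Algebra.adjoin K {y} = ⊤)
  (hfin : Module.finrank K L = 1 ∨ Module.finrank K L = p)
  [hchar : CharP (ResidueField A) p]

include hπ hQm hQd hQc hy ha hint htop hfin hchar in
theorem case4_C : Case4 p A L := by
  refine ⟨Groth.Agent.H10.EtRamTot.exists_dominates' A L (algebraMap A L), ?_, ?_⟩
  · intro V V' hV hV'
    ext x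
    constructor
    · letI : Algebra A V := (RingHom.codRestrict (algebraMap A L) V hV.1).toAlgebra
      haveI : IsLocalHom (algebraMap A V) :=
        Groth.Agent.H10.EtRamT.isLocalHom_of_dominates (algebraMap A L) V hV
      exact mem_of_mem_C p A K L π hπ Q hQm hQd hQc a y hy ha hint htop hfin V hV (fun _ => rfl) V' hV' x
    · letI : Algebra A V' := (RingHom.codRestrict (algebraMap A L) V' hV'.1).toAlgebra
      haveI : IsLocalHom (algebraMap A V') :=
        Groth.Agent.H10.EtRamT.isLocalHom_of_dominates (algebraMap A L) V' hV'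
      exact mem_of_mem_C p A K L π hπ Q hQm hQd hQc a y hy ha hint htop hfin V' hV' (fun _ => rfl) V hV x
  · intro V hV
    letI : Algebra A V := (RingHom.codRestrict (algebraMap A L) V hV.1).toAlgebra
    intro hloc
    exact ⟨weaklyUnramified_C p A K L π hπ Q hQm hQd hQc a y hy ha hint htop hfin V hV (fun _ => rfl),
      isPurelyInseparable_C p A K L π hπ Q hQm hQd hQc a y hy ha hint htop hfin V hV (fun _ => rfl),
      finrank_residue_C p A K L π hπ Q hQm hQd hQc a y hy ha hint htop hfin V hV (fun _ => rfl)⟩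

end CaseC7

end Groth.Agent.H10.GAS
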