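import Mathlib
import Groth.Prelude.Def_EtRam
import Groth.Agent.H10.GAS6
import Groth.Agent.H10.KummerTame

set_option autoImplicit false
set_option linter.style.haveILetI false
set_option linter.unusedSectionVars false
set_option linter.unusedVariables false
universe u
open Polynomial IsLocalRing
open scoped IntermediateField

namespace Groth.Agent.H10.GAS

section Cyc

variable (p : ℕ) [hpf : Fact p.Prime] (A : Type u) [CommRing A] [IsDomain A] [IsLocalRing A]
  [CharZero A] [hchar : CharP (ResidueField A) p] (ζ : A)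
  (hζ : aeval ζ (cyclotomic p ℤ) = 0)

include hζ in
theorem isPrimitiveRoot : IsPrimitiveRoot ζ p := by
  haveI : NeZero ((p : ℕ) : A) := ⟨Nat.cast_ne_zero.2 hpf.out.ne_zero⟩
  rw [← isRoot_cyclotomic_iff, IsRoot.def, ← map_cyclotomic_int p A, eval_map]
  rw [aeval_def] at hζ
  exact hζ

include hζ in
theorem w_ne_zero : (1 - ζ) ≠ 0 := by
  intro h
  have := (isPrimitiveRoot p A ζ hζ).ne_one hpf.out.one_lt
  exact this (sub_eq_zero.1 h).symm

include hζ hchar in
theorem w_mem : (1 - ζ) ∈ maximalIdeal A := by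
  have h1 : ζ ^ p = 1 := (isPrimitiveRoot p A ζ hζ).pow_eq_one
  have h2 : (1 - residue A ζ) ^ p = 0 := by
    rw [sub_pow_char, one_pow, ← map_pow, h1, map_one, sub_self]
  rw [← residue_eq_zero_iff, map_sub, map_one]
  exact eq_zero_of_pow_eq_zero h2

include hζ in
theorem associated_pow : Associated ((1 - ζ) ^ (p - 1)) (p : A) := by
  have hprim := isPrimitiveRoot p A ζ hζ
  rw [← eval_one_cyclotomic_prime (R := A) (p := p),
    cyclotomic_eq_prod_X_sub_primitiveRoots hprim, eval_prod]
  simp only [eval_sub, eval_X, eval_C]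
  rw [← Nat.totient_prime hpf.out, ← hprim.card_primitiveRoots, ← Finset.prod_const]
  refine Associated.prod _ _ _ fun η hη ↦ ?_
  have hη' : IsPrimitiveRoot η p := isPrimitiveRoot_of_mem_primitiveRoots hη
  obtain ⟨i, -, hi, rfl⟩ := hprim.isPrimitiveRoot_iff.mp hη'
  have := (hprim.associated_sub_one_pow_sub_one_of_coprime hi).neg_left.neg_right
  rwa [neg_sub, neg_sub] at this

include hζ in
theorem exists_eps : ∃ ε : Aˣ, (p : A) = ε * (1 - ζ) ^ (p - 1) := by
  obtain ⟨ε, hε⟩ := associated_pow p A ζ hζ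
  exact ⟨ε, by rw [← hε, mul_comm]⟩

end Cyc



section PolyP

variable (p : ℕ) [hpf : Fact p.Prime] (A : Type u) [CommRing A] [IsDomain A]
  (w : A) (hw : w ≠ 0)
  (P : A[X]) (hP : C (w ^ p) * P = (1 + C w * X) ^ p - 1)

include hw in
theorem lin_natDegree : (1 + C w * X : A[X]).natDegree = 1 := by
  rw [add_comm, ← C_1, natDegree_linear hw]

include hw in
theorem lin_leadingCoeff : (1 + C w * X : A[X]).leadingCoeff = w := by
  rw [add_comm, ← C_1, leadingCoeff_linear hw]

include hw in
theorem rhs_natDegree : ((1 + C w * X) ^ p - 1 : A[X]).natDegree = p := by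
  rw [← C_1, natDegree_sub_C, C_1, natDegree_pow, lin_natDegree A w hw, mul_one]

include hw in
theorem rhs_leadingCoeff : ((1 + C w * X) ^ p - 1 : A[X]).leadingCoeff = w ^ p := by
  rw [leadingCoeff_sub_of_degree_lt, leadingCoeff_pow, lin_leadingCoeff A w hw]
  rw [degree_one, degree_pow, degree_eq_natDegree, lin_natDegree A w hw]
  · simp only [Nat.cast_one, nsmul_eq_mul, mul_one]
    exact_mod_cast hpf.out.pos
  · intro h
    have := lin_natDegree A w hw
    rw [h, natDegree_zero] at this
    exact zero_ne_one this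

include hw hP in
theorem P_natDegree : P.natDegree = p := by
  have := congrArg natDegree hP
  rwa [natDegree_C_mul (pow_ne_zero p hw), rhs_natDegree p A w hw] at this

include hw hP in
theorem P_monic : P.Monic := by
  have := congrArg leadingCoeff hP
  rw [leadingCoeff_mul, leadingCoeff_C, rhs_leadingCoeff p A w hw] at this
  exact mul_right_cancel₀ (pow_ne_zero p hw) (by rw [mul_comm, this, one_mul])

include hw hP in
theorem derivative_P (ε : A) (hε : (p : A) = ε * w ^ (p - 1)) :
    derivative P = C ε * (1 + C w * X) ^ (p - 1) := by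
  have h := congrArg derivative hP
  rw [derivative_C_mul, derivative_sub, derivative_one, sub_zero, derivative_pow, derivative_add,
    derivative_one, zero_add, derivative_C_mul, derivative_X, mul_one, hε] at h
  apply mul_left_cancel₀ (C_ne_zero.2 (pow_ne_zero p hw))
  rw [h]
  have hp1 : p = (p - 1) + 1 := (Nat.sub_add_cancel hpf.out.pos).symm
  conv_rhs => rw [hp1, pow_succ]
  simp only [Nat.add_sub_cancel, C_mul, C_pow]
  ring

include hw hP in
theorem bezout (ε : Aˣ) (hε : (p : A) = ε * w ^ (p - 1)) (a : A)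
    (hu : IsUnit (1 + w ^ p * a)) :
    ∃ p₁ p₂ : A[X], derivative (P - C a) * p₁ + (P - C a) * p₂ = 1 := by
  obtain ⟨υ, hυ⟩ := hu
  refine ⟨C (((ε * υ)⁻¹ : Aˣ) : A) * (1 + C w * X),
    - C ((((ε * υ)⁻¹ : Aˣ) : A) * (ε * w ^ p)), ?_⟩
  rw [derivative_sub, derivative_C, sub_zero, derivative_P p A w hw P hP ε hε]
  have hp1 : p = (p - 1) + 1 := (Nat.sub_add_cancel hpf.out.pos).symm
  have h1 : (1 + C w * X : A[X]) ^ (p - 1) * (1 + C w * X) = C (w ^ p) * P + 1 := by
    rw [← pow_succ, ← hp1, hP]; ring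
  have h2 : (C (((ε * υ)⁻¹ : Aˣ) : A) : A[X]) * C ((ε : A) * (υ : A)) = 1 := by
    rw [← C_mul, ← Units.val_mul, ← Units.val_mul, inv_mul_cancel, Units.val_one, C_1]
  calc C (ε : A) * (1 + C w * X) ^ (p - 1) * (C (((ε * υ)⁻¹ : Aˣ) : A) * (1 + C w * X)) +
        (P - C a) * -C ((((ε * υ)⁻¹ : Aˣ) : A) * (ε * w ^ p))
      = C (((ε * υ)⁻¹ : Aˣ) : A) * (C (ε : A) * ((1 + C w * X) ^ (p - 1) * (1 + C w * X))
          - (P - C a) * C ((ε : A) * w ^ p)) := by
        simp only [C_mul]; ring
    _ = C (((ε * υ)⁻¹ : Aˣ) : A) * C ((ε : A) * (υ : A)) := by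
        rw [h1, hυ]
        simp only [C_mul, C_add, C_1, C_pow]
        ring
    _ = 1 := h2

end PolyP

end Groth.Agent.H10.GAS
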