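import Mathlib

set_option autoImplicit false
set_option linter.style.haveILetI false
set_option linter.unusedSectionVars false
set_option linter.unusedVariables false
universe u
open Polynomial
open scoped IntermediateField

namespace Groth.Agent.H10.GAS

section KummerField

variable (p : ℕ) [hpf : Fact p.Prime] (K L : Type u) [Field K] [Field L] [Algebra K L]
  [CharZero K] (ζ : K) (hζ : IsPrimitiveRoot ζ p) (u : K) (Y : L)
  (hY : Y ^ p = algebraMap K L u) (hgen : IntermediateField.adjoin K {Y} = ⊤)

include hY in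
theorem kummer_isIntegral : IsIntegral K Y :=
  ⟨X ^ p - C u, monic_X_pow_sub_C u hpf.out.ne_zero, by
    rw [eval₂_sub, eval₂_pow, eval₂_X, eval₂_C, hY, sub_self]⟩

include hY hgen in
theorem kummer_adjoin_eq_top : Algebra.adjoin K {Y} = ⊤ := by
  have := IntermediateField.adjoin_simple_toSubalgebra_of_isAlgebraic
    (kummer_isIntegral p K L u Y hY).isAlgebraic
  rw [← this, hgen]
  rfl

include hζ hY hgen in
theorem kummer_surj_of_pow (b : K) (hb : b ^ p = u) : Function.Surjective (algebraMap K L) := by
  have hprod := X_pow_sub_C_eq_prod hζ hpf.out.pos hb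
  have h0 : aeval Y (X ^ p - C u : K[X]) = 0 := by
    rw [map_sub, map_pow, aeval_X, aeval_C, hY, sub_self]
  rw [hprod, map_prod, Finset.prod_eq_zero_iff] at h0
  obtain ⟨i, -, hi⟩ := h0
  rw [map_sub, aeval_X, aeval_C, sub_eq_zero] at hi
  have hYbot : Y ∈ (⊥ : IntermediateField K L) := by
    rw [IntermediateField.mem_bot]
    exact ⟨_, hi.symm⟩
  have hbot : (⊥ : IntermediateField K L) = ⊤ := by
    rw [← hgen, eq_comm, IntermediateField.adjoin_simple_eq_bot_iff]
    exact hYbot
  intro x
  have : x ∈ (⊥ : IntermediateField K L) := by rw [hbot]; trivial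
  rw [IntermediateField.mem_bot] at this
  exact this

include hζ hY hgen in
theorem kummer_finrank_one (b : K) (hb : b ^ p = u) : Module.finrank K L = 1 := by
  have hsurj := kummer_surj_of_pow p K L ζ hζ u Y hY hgen b hb
  let e : K ≃ₐ[K] L := AlgEquiv.ofBijective (Algebra.ofId K L)
    ⟨(algebraMap K L).injective, hsurj⟩
  rw [← e.toLinearEquiv.finrank_eq, Module.finrank_self]

include hζ hY hgen in
theorem kummer_field : IsGalois K L ∧ (Module.finrank K L = 1 ∨ Module.finrank K L = p) := by
  have htop := kummer_adjoin_eq_top p K L u Y hY hgen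
  by_cases hirr : Irreducible (X ^ p - C u : K[X])
  · haveI : IsSplittingField K L (X ^ p - C u) := by
      constructor
      · rw [Polynomial.map_sub, Polynomial.map_pow, map_X, map_C]
        exact X_pow_sub_C_splits_of_isPrimitiveRoot
          (hζ.map_of_injective (algebraMap K L).injective) hY
      · rw [eq_top_iff, ← htop]
        apply Algebra.adjoin_mono
        rw [Set.singleton_subset_iff, mem_rootSet_of_ne (X_pow_sub_C_ne_zero hpf.out.pos u),
          aeval_def, eval₂_sub, eval₂_X_pow, eval₂_C, hY, sub_self]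
    have hne : (primitiveRoots p K).Nonempty := ⟨ζ, (mem_primitiveRoots hpf.out.pos).2 hζ⟩
    exact ⟨isGalois_of_isSplittingField_X_pow_sub_C hne hirr L,
      Or.inr (finrank_of_isSplittingField_X_pow_sub_C hne hirr L)⟩
  · rw [X_pow_sub_C_irreducible_iff_of_prime hpf.out] at hirr
    push Not at hirr
    obtain ⟨b, hb⟩ := hirr
    have hsurj := kummer_surj_of_pow p K L ζ hζ u Y hY hgen b hb
    let e : K ≃ₐ[K] L := AlgEquiv.ofBijective (Algebra.ofId K L)
      ⟨(algebraMap K L).injective, hsurj⟩
    exact ⟨IsGalois.of_algEquiv e, Or.inl (kummer_finrank_one p K L ζ hζ u Y hY hgen b hb)⟩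

end KummerField

end Groth.Agent.H10.GAS
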