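import Mathlib
import Groth.Prelude.Def_EtRam
import Groth.Agent.H10.GAS7
import Groth.Agent.H10.GAS8

set_option autoImplicit false
set_option linter.style.haveILetI false
set_option linter.unusedSectionVars false
set_option linter.unusedVariables false
universe u
open Polynomial IsLocalRing
open scoped IntermediateField

namespace Groth.Agent.H10.GAS

open Groth.Agent.H10.AS

section PForm

variable (p : ℕ) [hpf : Fact p.Prime] (A K L : Type u) [CommRing A] [IsDomain A]
  [IsDiscreteValuationRing A] [Field K] [Algebra A K] [IsFractionRing A K] [Field L] [Algebra K L]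
  [Algebra A L] [IsScalarTower A K L] [CharZero K] [hchar : CharP (ResidueField A) p]
  (ζ : A) (hζ : aeval ζ (cyclotomic p ℤ) = 0)
  (P : A[X]) (hP : C ((1 - ζ) ^ p) * P = (1 + C (1 - ζ) * X) ^ p - 1)

include K in
theorem charZero_A : CharZero A := RingHom.charZero (algebraMap A K)

include K hζ in
theorem wL_ne_zero : algebraMap A L (1 - ζ) ≠ 0 := by
  haveI := charZero_A A K
  intro h
  exact w_ne_zero p A ζ hζ (algebraMap_injective A K L (h.trans (map_zero _).symm))

include K hζ in
theorem wK_ne_zero : algebraMap A K (1 - ζ) ≠ 0 := by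
  haveI := charZero_A A K
  intro h
  exact w_ne_zero p A ζ hζ (IsFractionRing.injective A K (h.trans (map_zero _).symm))

include hP in
/-- the Kummer generator attached to `z`. -/
theorem Y_pow (ξ : K) (z : L) (hz : aeval z P = algebraMap K L ξ) :
    (1 + algebraMap A L (1 - ζ) * z) ^ p =
      algebraMap K L (1 + algebraMap A K (1 - ζ) ^ p * ξ) := by
  have h := congrArg (aeval z) hP
  simp only [map_mul, map_sub, map_pow, map_add, map_one, aeval_C, aeval_X, hz] at h
  rw [map_add, map_one, map_mul, map_pow, ← IsScalarTower.algebraMap_apply A K L]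
  rw [map_sub, map_one]
  linear_combination -h

include K hζ in
theorem adjoin_Y (z : L) (hgen : IntermediateField.adjoin K {z} = ⊤) :
    IntermediateField.adjoin K {1 + algebraMap A L (1 - ζ) * z} = ⊤ := by
  rw [eq_top_iff, ← hgen, IntermediateField.adjoin_simple_le_iff]
  have h1 := IntermediateField.mem_adjoin_simple_self K (1 + algebraMap A L (1 - ζ) * z)
  have h2 : algebraMap A L (1 - ζ) ∈ K⟮1 + algebraMap A L (1 - ζ) * z⟯ := by
    rw [IsScalarTower.algebraMap_apply A K L]
    exact IntermediateField.algebraMap_mem _ _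
  have h3 := div_mem (sub_mem h1 (one_mem _)) h2
  have : (1 + algebraMap A L (1 - ζ) * z - 1) / algebraMap A L (1 - ζ) = z := by
    rw [add_sub_cancel_left, mul_div_cancel_left₀ _ (wL_ne_zero p A K L ζ hζ)]
  rwa [this] at h3

include hζ hP in
theorem P_field (ξ : K) (z : L) (hz : aeval z P = algebraMap K L ξ)
    (hgen : IntermediateField.adjoin K {z} = ⊤) :
    IsGalois K L ∧ (Module.finrank K L = 1 ∨ Module.finrank K L = p) := by
  haveI := charZero_A A K
  exact kummer_field p K L (algebraMap A K ζ)
    ((isPrimitiveRoot p A ζ hζ).map_of_injective (IsFractionRing.injective A K)) _ _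
    (Y_pow p A K L ζ P hP ξ z hz) (adjoin_Y p A K L ζ hζ z hgen)

include K hζ hP in
theorem P_monic' : P.Monic := by
  haveI := charZero_A A K
  exact P_monic p A (1 - ζ) (w_ne_zero p A ζ hζ) P hP

include K hζ hP in
theorem P_natDegree' : P.natDegree = p := by
  haveI := charZero_A A K
  exact P_natDegree p A (1 - ζ) (w_ne_zero p A ζ hζ) P hP

include hζ hP in
theorem P_isIntegral (ξ : K) (z : L) (hz : aeval z P = algebraMap K L ξ) : IsIntegral K z := by
  have hm := P_monic' p A K ζ hζ P hP
  have hd := P_natDegree' p A K ζ hζ P hP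
  refine ⟨P.map (algebraMap A K) - C ξ, ?_, ?_⟩
  · apply (hm.map _).sub_of_left
    rw [degree_eq_natDegree (hm.map _).ne_zero, hm.natDegree_map, hd]
    calc (C ξ).degree ≤ 0 := degree_C_le
      _ < (p : WithBot ℕ) := by exact_mod_cast hpf.out.pos
  · rw [eval₂_sub, eval₂_C, eval₂_map, ← IsScalarTower.algebraMap_eq, ← aeval_def, hz, sub_self]

include hζ hP in
theorem P_adjoin_eq_top (ξ : K) (z : L) (hz : aeval z P = algebraMap K L ξ)
    (hgen : IntermediateField.adjoin K {z} = ⊤) : Algebra.adjoin K {z} = ⊤ := by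
  have := IntermediateField.adjoin_simple_toSubalgebra_of_isAlgebraic
    (P_isIntegral p A K L ζ hζ P hP ξ z hz).isAlgebraic
  rw [← this, hgen]
  rfl

include hζ hP hchar in
theorem unram_PA (z : L) (a : A) (hz : aeval z P = algebraMap K L (algebraMap A K a))
    (hgen : IntermediateField.adjoin K {z} = ⊤) :
    EtRam.IsUnramifiedExt A (algebraMap A L) := by
  haveI := charZero_A A K
  have hw := w_ne_zero p A ζ hζ
  have hPm := P_monic' p A K ζ hζ P hP
  have hPd := P_natDegree' p A K ζ hζ P hP
  have hmonic : (P - C a).Monic := by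
    apply hPm.sub_of_left
    rw [degree_eq_natDegree hPm.ne_zero, hPd]
    calc (C a).degree ≤ 0 := degree_C_le
      _ < (p : WithBot ℕ) := by exact_mod_cast hpf.out.pos
  obtain ⟨ε, hε⟩ := exists_eps p A ζ hζ
  have hu : IsUnit (1 + (1 - ζ) ^ p * a) := by
    rw [← IsLocalRing.notMem_maximalIdeal]
    intro hmem
    have h1 : (1 - ζ) ^ p * a ∈ maximalIdeal A :=
      Ideal.mul_mem_right _ _ (Ideal.pow_mem_of_mem _ (w_mem p A ζ hζ) p hpf.out.pos)
    have h2 := Ideal.sub_mem _ hmem h1
    rw [add_sub_cancel_right] at h2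
    exact (Ideal.ne_top_iff_one _).1 (IsLocalRing.maximalIdeal.isMaximal A).ne_top h2
  obtain ⟨p₁, p₂, hbez⟩ := bezout p A (1 - ζ) hw P hP ε hε a hu
  haveI : Algebra.Etale A (AdjoinRoot (P - C a)) :=
    Groth.Agent.H72.etale_adjoinRoot_of_derivative (P - C a) hmonic p₁ p₂ hbez
  haveI : Module.Finite A (AdjoinRoot (P - C a)) := hmonic.finite_adjoinRoot
  haveI : Algebra.IsIntegral A (AdjoinRoot (P - C a)) := Algebra.IsIntegral.of_finite A _
  have hroot : eval₂ (algebraMap A L) z (P - C a) = 0 := by
    rw [eval₂_sub, eval₂_C, ← aeval_def, hz, ← IsScalarTower.algebraMap_apply A K L]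
    exact sub_self _
  let ψ : AdjoinRoot (P - C a) →+* L := AdjoinRoot.lift (algebraMap A L) z hroot
  have hψ : ψ.comp (algebraMap A (AdjoinRoot (P - C a))) = algebraMap A L := by
    ext x
    simp only [ψ, RingHom.comp_apply, AdjoinRoot.algebraMap_eq, AdjoinRoot.lift_of]
  have hψ' : ψ.comp (algebraMap A (AdjoinRoot (P - C a))) =
      (algebraMap K L).comp (algebraMap A K) := by
    rw [hψ, IsScalarTower.algebraMap_eq A K L]
  have hg : Function.Injective (algebraMap A L) := algebraMap_injective A K L
  apply KummerTame.unram_of_etale_closure A (AdjoinRoot (P - C a)) L (algebraMap A L) ψ hg hψ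
  apply KummerTame.closure_eq_top_of_adjoin A K L (AdjoinRoot (P - C a)) ψ hψ' z ?_ hgen
  exact ⟨AdjoinRoot.root _, AdjoinRoot.lift_root hroot⟩

end PForm

end Groth.Agent.H10.GAS
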