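import Mathlib
import Groth.Prelude.Def_EtRam
import Groth.Agent.H10.GAS9
import Groth.Agent.H10.GAS2

set_option autoImplicit false
set_option linter.style.haveILetI false
set_option linter.unusedSectionVars false
set_option linter.unusedVariables false
universe u
open Polynomial IsLocalRing
open scoped IntermediateField

namespace Groth.Agent.H10.GAS

open Groth.Agent.H10.AS

section Scale

variable (K L : Type u) [Field K] [Field L] [Algebra K L]

theorem adjoin_mul_eq_top (c : K) (hc : c ≠ 0) (z : L)
    (hgen : IntermediateField.adjoin K {z} = ⊤) :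
    IntermediateField.adjoin K {algebraMap K L c * z} = ⊤ := by
  rw [eq_top_iff, ← hgen, IntermediateField.adjoin_simple_le_iff]
  have h1 := IntermediateField.mem_adjoin_simple_self K (algebraMap K L c * z)
  have h2 : algebraMap K L c ∈ K⟮algebraMap K L c * z⟯ := IntermediateField.algebraMap_mem _ _
  have h3 := div_mem h1 h2
  have hc' : algebraMap K L c ≠ 0 := by
    rw [Ne, map_eq_zero]; exact hc
  rwa [mul_div_cancel_left₀ _ hc'] at h3

theorem adjoin_eq_top_of_isIntegral (z : L) (hint : IsIntegral K z)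
    (hgen : IntermediateField.adjoin K {z} = ⊤) : Algebra.adjoin K {z} = ⊤ := by
  have := IntermediateField.adjoin_simple_toSubalgebra_of_isAlgebraic hint.isAlgebraic
  rw [← this, hgen]
  rfl

end Scale

section PiK

variable (A K : Type u) [CommRing A] [IsDomain A] [Field K] [Algebra A K] [IsFractionRing A K]
  (π : A) (hπ : Irreducible π)

include hπ in
theorem piK_ne_zero : algebraMap A K π ≠ 0 := fun h =>
  hπ.ne_zero (IsFractionRing.injective A K (h.trans (map_zero _).symm))

end PiK

section PForm2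

variable (p : ℕ) [hpf : Fact p.Prime] (A K L : Type u) [CommRing A] [IsDomain A]
  [IsDiscreteValuationRing A] [Field K] [Algebra A K] [IsFractionRing A K] [Field L] [Algebra K L]
  [Algebra A L] [IsScalarTower A K L] [CharZero K] [hchar : CharP (ResidueField A) p]
  (ζ : A) (hζ : aeval ζ (cyclotomic p ℤ) = 0)
  (P : A[X]) (hP : C ((1 - ζ) ^ p) * P = (1 + C (1 - ζ) * X) ^ p - 1)
  (π : A) (hπ : Irreducible π)
  (ξ : K) (z : L) (hz : aeval z P = algebraMap K L ξ)
  (hgen : IntermediateField.adjoin K {z} = ⊤)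

include hζ hP hπ hz hgen in
theorem PB (n : ℕ) (a : Aˣ) (hn : 0 < n) (hpn : ¬ p ∣ n)
    (hξ : ξ * algebraMap A K π ^ n = algebraMap A K a) :
    EtRam.IsTotallyRamified A (algebraMap A L) ∧ Module.finrank K L = p := by
  have hPm := P_monic' p A K ζ hζ P hP
  have hPd := P_natDegree' p A K ζ hζ P hP
  have hint := P_isIntegral p A K L ζ hζ P hP ξ z hz
  have htop := P_adjoin_eq_top p A K L ζ hζ P hP ξ z hz hgen
  have hfin := (P_field p A K L ζ hζ P hP ξ z hz hgen).2
  exact ⟨Groth.Agent.H10.GAS.totallyRamified_B p A K L π hπ P hPm hPd ξ z hz hint htop hfin n a hn hpn hξ,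
    Groth.Agent.H10.GAS.finrank_eq_p_B p A K L π hπ P hPm hPd ξ z hz hint htop hfin n a hn hpn hξ⟩

include hζ hP hπ hz hgen hchar in
theorem PC (n : ℕ) (a : A) (hn : 0 < n) (hpn : p ∣ n)
    (ha : ∀ r : A, residue A a ≠ residue A r ^ p)
    (hξ : ξ * algebraMap A K π ^ n = algebraMap A K a) : Case4 p A L := by
  obtain ⟨m, hm⟩ := hpn
  have hm0 : 0 < m := by
    rcases Nat.eq_zero_or_pos m with h | h
    · rw [h, mul_zero] at hm; omega
    · exact h
  have hPm := P_monic' p A K ζ hζ P hP
  have hPd := P_natDegree' p A K ζ hζ P hP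
  have hint := P_isIntegral p A K L ζ hζ P hP ξ z hz
  have hfin := (P_field p A K L ζ hζ P hP ξ z hz hgen).2
  have hπK := piK_ne_zero A K π hπ
  have hQm : (scaleRoots P (π ^ m)).Monic := (monic_scaleRoots_iff _).2 hPm
  have hQd : (scaleRoots P (π ^ m)).natDegree = p := by rw [natDegree_scaleRoots, hPd]
  have hQc : ∀ i < p, (scaleRoots P (π ^ m)).coeff i ∈ maximalIdeal A := by
    intro i hi
    rw [coeff_scaleRoots, hPd]
    apply Ideal.mul_mem_left
    rw [hπ.maximalIdeal_eq, ← pow_mul]
    exact Ideal.pow_mem_of_mem _ (Ideal.mem_span_singleton_self π) _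
      (Nat.mul_pos hm0 (by omega))
  have hy : aeval (algebraMap K L (algebraMap A K (π ^ m)) * z) (scaleRoots P (π ^ m)) =
      algebraMap A L a := by
    rw [aeval_def, ← IsScalarTower.algebraMap_apply A K L, scaleRoots_eval₂_mul, hPd,
      ← aeval_def, hz, IsScalarTower.algebraMap_apply A K L a, ← hξ, map_mul, map_pow,
      IsScalarTower.algebraMap_apply A K L, map_pow, ← pow_mul, hm,
      mul_comm m p, mul_comm]
  have hinty : IsIntegral K (algebraMap K L (algebraMap A K (π ^ m)) * z) :=
    isIntegral_algebraMap.mul hint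
  have hgeny := adjoin_mul_eq_top K L (algebraMap A K (π ^ m))
    (by rw [map_pow]; exact pow_ne_zero m hπK) z hgen
  have htopy := adjoin_eq_top_of_isIntegral K L _ hinty hgeny
  exact Groth.Agent.H10.GAS.case4_C p A K L π hπ _ hQm hQd hQc a _ hy ha hinty htopy hfin

end PForm2

end Groth.Agent.H10.GAS
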