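import Mathlib
import Groth.Prelude.Def_EtRam
import Groth.Agent.H10.GAS10

set_option autoImplicit false
set_option linter.style.haveILetI false
set_option linter.unusedSectionVars false
set_option linter.unusedVariables false
universe u
open Polynomial IsLocalRing
open scoped IntermediateField

namespace Groth.Agent.H10.GAS

open Groth.Agent.H10.AS

section KForm

variable (p : ℕ) [hpf : Fact p.Prime] (A K L : Type u) [CommRing A] [IsDomain A]
  [IsDiscreteValuationRing A] [Field K] [Algebra A K] [IsFractionRing A K] [Field L] [Algebra K L]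
  [Algebra A L] [IsScalarTower A K L] [CharZero K] [hchar : CharP (ResidueField A) p]
  (ζ : A) (hζ : aeval ζ (cyclotomic p ℤ) = 0)
  (P : A[X]) (hP : C ((1 - ζ) ^ p) * P = (1 + C (1 - ζ) * X) ^ p - 1)
  (π : A) (hπ : Irreducible π)

/-- the four cases. -/
def Cases : Prop :=
  Module.finrank K L = 1 ∨
    (EtRam.IsUnramifiedExt A (algebraMap A L) ∧ Module.finrank K L = p) ∨
    (EtRam.IsTotallyRamified A (algebraMap A L) ∧ Module.finrank K L = p) ∨ Case4 p A L

include hζ in
theorem zetaK_prim : IsPrimitiveRoot (algebraMap A K ζ) p := by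
  haveI := charZero_A A K
  exact (isPrimitiveRoot p A ζ hζ).map_of_injective (IsFractionRing.injective A K)

omit [IsDiscreteValuationRing A] [IsFractionRing A K] [CharZero K] hpf hchar in
theorem to_P_aux (w : A) (hP : C (w ^ p) * P = (1 + C w * X) ^ p - 1)
    (hwL : algebraMap A L w ≠ 0) (u ξ : K) (Y : L) (hY : Y ^ p = algebraMap K L u)
    (hgen : IntermediateField.adjoin K {Y} = ⊤)
    (hu : u - 1 = algebraMap A K w ^ p * ξ) :
    aeval ((Y - 1) / algebraMap A L w) P = algebraMap K L ξ ∧
      IntermediateField.adjoin K {(Y - 1) / algebraMap A L w} = ⊤ := by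
  obtain ⟨z, hzdef⟩ : ∃ z : L, z = (Y - 1) / algebraMap A L w := ⟨_, rfl⟩
  rw [← hzdef]
  have h1 : 1 + algebraMap A L w * z = Y := by
    rw [hzdef, mul_div_cancel₀ _ hwL]; ring
  constructor
  · have h := congrArg (aeval z) hP
    simp only [map_mul, map_sub, map_pow, map_add, map_one, aeval_C, aeval_X] at h
    rw [h1, hY] at h
    apply mul_left_cancel₀ (pow_ne_zero p hwL)
    rw [h]
    have : algebraMap K L u - 1 = algebraMap K L (u - 1) := by rw [map_sub, map_one]
    rw [this, hu, map_mul, map_pow, ← IsScalarTower.algebraMap_apply A K L]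
  · rw [eq_top_iff, ← hgen, IntermediateField.adjoin_simple_le_iff, ← h1]
    have h2 := IntermediateField.mem_adjoin_simple_self K z
    have h3 : algebraMap A L w ∈ K⟮z⟯ := by
      rw [IsScalarTower.algebraMap_apply A K L]
      exact IntermediateField.algebraMap_mem _ _
    exact add_mem (one_mem _) (mul_mem h3 h2)

include hζ hP in
/-- passing from the Kummer form to the `P`-form. -/
theorem to_P (u ξ : K) (Y : L) (hY : Y ^ p = algebraMap K L u)
    (hgen : IntermediateField.adjoin K {Y} = ⊤)
    (hu : u - 1 = algebraMap A K (1 - ζ) ^ p * ξ) :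
    aeval ((Y - 1) / algebraMap A L (1 - ζ)) P = algebraMap K L ξ ∧
      IntermediateField.adjoin K {(Y - 1) / algebraMap A L (1 - ζ)} = ⊤ :=
  to_P_aux p A K L P (1 - ζ) hP (wL_ne_zero p A K L ζ hζ) u ξ Y hY hgen hu

include hζ hπ in
theorem K1 (u : K) (Y : L) (hY : Y ^ p = algebraMap K L u)
    (hgen : IntermediateField.adjoin K {Y} = ⊤) (n : ℕ) (a : Aˣ) (hn : 0 < n) (hpn : ¬ p ∣ n)
    (hu : u * algebraMap A K π ^ n = algebraMap A K a) :
    EtRam.IsTotallyRamified A (algebraMap A L) ∧ Module.finrank K L = p := by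
  have hint := kummer_isIntegral p K L u Y hY
  have htop := kummer_adjoin_eq_top p K L u Y hY hgen
  have hfin := (kummer_field p K L _ (zetaK_prim p A K ζ hζ) u Y hY hgen).2
  have hz : aeval Y (X ^ p : A[X]) = algebraMap K L u := by
    rw [map_pow, aeval_X, hY]
  exact ⟨Groth.Agent.H10.GAS.totallyRamified_B p A K L π hπ (X ^ p) (monic_X_pow p)
      (natDegree_X_pow p) u Y hz hint htop hfin n a hn hpn hu,
    Groth.Agent.H10.GAS.finrank_eq_p_B p A K L π hπ (X ^ p) (monic_X_pow p)
      (natDegree_X_pow p) u Y hz hint htop hfin n a hn hpn hu⟩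

include hζ hπ hchar in
theorem K2 (a : A) (Y : L) (hY : Y ^ p = algebraMap A L a)
    (hgen : IntermediateField.adjoin K {Y} = ⊤)
    (ha : ∀ r : A, residue A a ≠ residue A r ^ p) : Case4 p A L := by
  have hY' : Y ^ p = algebraMap K L (algebraMap A K a) := by
    rw [hY, IsScalarTower.algebraMap_apply A K L]
  have hint := kummer_isIntegral p K L _ Y hY'
  have htop := kummer_adjoin_eq_top p K L _ Y hY' hgen
  have hfin := (kummer_field p K L _ (zetaK_prim p A K ζ hζ) _ Y hY' hgen).2
  have hz : aeval Y (X ^ p : A[X]) = algebraMap A L a := by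
    rw [map_pow, aeval_X, hY]
  have hQc : ∀ i < p, (X ^ p : A[X]).coeff i ∈ maximalIdeal A := by
    intro i hi
    rw [coeff_X_pow, if_neg (by omega)]
    exact Ideal.zero_mem _
  exact Groth.Agent.H10.GAS.case4_C p A K L π hπ (X ^ p) (monic_X_pow p)
    (natDegree_X_pow p) hQc a Y hz ha hint htop hfin

theorem scale (u : K) (Y : L) (hY : Y ^ p = algebraMap K L u)
    (hgen : IntermediateField.adjoin K {Y} = ⊤) (c : K) (hc : c ≠ 0) :
    (algebraMap K L c * Y) ^ p = algebraMap K L (c ^ p * u) ∧
      IntermediateField.adjoin K {algebraMap K L c * Y} = ⊤ :=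
  ⟨by rw [mul_pow, hY, map_mul, map_pow], adjoin_mul_eq_top K L c hc Y hgen⟩

end KForm

end Groth.Agent.H10.GAS
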