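import Mathlib
import Groth.Prelude.Def_EtRam
import Groth.Agent.H10.GAS11

set_option autoImplicit false
set_option linter.style.haveILetI false
set_option linter.unusedSectionVars false
set_option linter.unusedVariables false
universe u
open Polynomial IsLocalRing
open scoped IntermediateField

namespace Groth.Agent.H10.GAS

open Groth.Agent.H10.AS

section Key

variable (p : ℕ) (A K : Type u) [CommRing A] [IsDomain A] [Field K] [Algebra A K]
  [IsFractionRing A K]

include K in
theorem key_identity (P : A[X]) (w : A) (hP : C (w ^ p) * P = (1 + C w * X) ^ p - 1)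
    (hPd : P.natDegree = p) (π r g : A) (hπ0 : π ≠ 0) (m : ℕ) (hg : w = π ^ m * g) :
    π ^ (p * m) * ((1 + r * g) ^ p - 1) = w ^ p * eval r (scaleRoots P (π ^ m)) := by
  apply IsFractionRing.injective A K
  have hπK : algebraMap A K π ≠ 0 := fun h =>
    hπ0 (IsFractionRing.injective A K (h.trans (map_zero _).symm))
  obtain ⟨x, hx⟩ : ∃ x : K, x = algebraMap A K r / algebraMap A K π ^ m := ⟨_, rfl⟩
  have h := congrArg (aeval x) hP
  simp only [map_mul, map_sub, map_pow, map_add, map_one, aeval_C, aeval_X] at h
  have h2 : algebraMap A K w * x = algebraMap A K (r * g) := by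
    rw [hg, hx, map_mul, map_mul, map_pow]
    field_simp
  have h4 : algebraMap A K (π ^ m) * x = algebraMap A K r := by
    rw [hx, map_pow]
    field_simp
  have h3 : algebraMap A K (eval r (scaleRoots P (π ^ m))) =
      algebraMap A K π ^ (p * m) * aeval x P := by
    have := scaleRoots_eval₂_mul (p := P) (algebraMap A K) x (π ^ m)
    rw [hPd, h4, eval₂_at_apply] at this
    rw [this, map_pow, ← pow_mul, mul_comm m p, aeval_def]
  rw [map_mul, map_mul, map_pow, map_pow, h3, map_sub, map_pow, map_add, map_one, ← h2]
  linear_combination (-(algebraMap A K π ^ (p * m))) * h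

theorem eval_sub_pow_mem [IsLocalRing A] (Q : A[X]) (hQm : Q.Monic) (hQd : Q.natDegree = p)
    (hQc : ∀ i < p, Q.coeff i ∈ maximalIdeal A) (r : A) :
    eval r Q - r ^ p ∈ maximalIdeal A := by
  rw [eval_eq_sum_range, hQd, Finset.sum_range_succ]
  have : Q.coeff p = 1 := by rw [← hQd]; exact hQm.coeff_natDegree
  rw [this, one_mul, add_sub_cancel_right]
  exact Ideal.sum_mem _ (fun i hi => Ideal.mul_mem_right _ _ (hQc i (Finset.mem_range.1 hi)))

end Key

section Induction

variable (p : ℕ) [hpf : Fact p.Prime] (A K L : Type u) [CommRing A] [IsDomain A]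
  [IsDiscreteValuationRing A] [Field K] [Algebra A K] [IsFractionRing A K] [Field L] [Algebra K L]
  [Algebra A L] [IsScalarTower A K L] [CharZero K] [hchar : CharP (ResidueField A) p]
  (ζ : A) (hζ : aeval ζ (cyclotomic p ℤ) = 0)
  (P : A[X]) (hP : C ((1 - ζ) ^ p) * P = (1 + C (1 - ζ) * X) ^ p - 1)
  (π : A) (hπ : Irreducible π)

theorem residue_inv_eq_one (c : Aˣ) (hc : residue A (c : A) = 1) :
    residue A ((c⁻¹ : Aˣ) : A) = 1 := by
  have h := congrArg (residue A) (Units.inv_mul c)
  rw [map_mul, hc, mul_one, map_one] at h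
  exact h

include hζ hP hπ hchar in
theorem cases_of_deficit (N : ℕ) : ∀ (a : A) (Y : L), a - 1 ∈ maximalIdeal A →
    Y ^ p = algebraMap A L a → IntermediateField.adjoin K {Y} = ⊤ →
    (∃ b : A, (a - 1) * π ^ N = (1 - ζ) ^ p * b) → Cases p A K L := by
  haveI := charZero_A A K
  have hw := w_ne_zero p A ζ hζ
  have hπK := piK_ne_zero A K π hπ
  induction N with
  | zero =>
    intro a Y ha hY hgen ⟨b, hb⟩
    rw [pow_zero, mul_one] at hb
    have hY' : Y ^ p = algebraMap K L (algebraMap A K a) := by
      rw [hY, IsScalarTower.algebraMap_apply A K L]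
    have hu : algebraMap A K a - 1 = algebraMap A K (1 - ζ) ^ p * algebraMap A K b := by
      have := congrArg (algebraMap A K) hb
      rw [map_mul, map_pow] at this
      rw [← this, map_sub, map_one]
    obtain ⟨hz, hgenz⟩ := to_P p A K L ζ hζ P hP _ _ Y hY' hgen hu
    rcases (P_field p A K L ζ hζ P hP _ _ hz hgenz).2 with h | h
    · exact Or.inl h
    · exact Or.inr (Or.inl ⟨unram_PA p A K L ζ hζ P hP _ b hz hgenz, h⟩)
  | succ N ih =>
    intro a Y ha hY hgen ⟨b, hb⟩
    by_cases hbm : b ∈ maximalIdeal A
    · rw [hπ.maximalIdeal_eq, Ideal.mem_span_singleton] at hbm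
      obtain ⟨b', rfl⟩ := hbm
      apply ih a Y ha hY hgen
      refine ⟨b', ?_⟩
      apply mul_right_cancel₀ hπ.ne_zero
      rw [mul_assoc, ← pow_succ, hb]; ring
    · have hbu : IsUnit b := IsLocalRing.notMem_maximalIdeal.1 hbm
      have hY' : Y ^ p = algebraMap K L (algebraMap A K a) := by
        rw [hY, IsScalarTower.algebraMap_apply A K L]
      obtain ⟨ξ, hξdef⟩ : ∃ ξ : K, ξ = algebraMap A K b / algebraMap A K π ^ (N + 1) := ⟨_, rfl⟩
      have hξ : ξ * algebraMap A K π ^ (N + 1) = algebraMap A K b := by
        rw [hξdef]; field_simp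
      have hu : algebraMap A K a - 1 = algebraMap A K (1 - ζ) ^ p * ξ := by
        have := congrArg (algebraMap A K) hb
        rw [map_mul, map_mul, map_pow, map_pow, map_sub, map_one] at this
        rw [hξdef]
        field_simp
        linear_combination this
      obtain ⟨hz, hgenz⟩ := to_P p A K L ζ hζ P hP _ _ Y hY' hgen hu
      by_cases hpN : p ∣ N + 1
      · by_cases hres : ∀ r : A, residue A b ≠ residue A r ^ p
        · exact Or.inr (Or.inr (Or.inr (PC p A K L ζ hζ P hP π hπ ξ _ hz hgenz (N + 1) b
            (Nat.succ_pos N) hpN hres hξ)))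
        · push Not at hres
          obtain ⟨r, hr⟩ := hres
          obtain ⟨m, hm⟩ := hpN
          have hm0 : 0 < m := by
            rcases Nat.eq_zero_or_pos m with h | h
            · rw [h, mul_zero] at hm; omega
            · exact h
          obtain ⟨e, υ, hwe⟩ := IsDiscreteValuationRing.eq_unit_mul_pow_irreducible hw hπ
          have hme : m < e := by
            by_contra hle
            push Not at hle
            have h1 : (a - 1) * π ^ (p * (m - e)) = (υ : A) ^ p * b := by
              apply mul_right_cancel₀ (pow_ne_zero (p * e) hπ.ne_zero)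
              rw [mul_assoc, ← pow_add, ← mul_add, Nat.sub_add_cancel hle, ← hm, hb, hwe]
              ring
            have h2 : (a - 1) * π ^ (p * (m - e)) ∈ maximalIdeal A :=
              Ideal.mul_mem_right _ _ ha
            rw [h1] at h2
            exact (IsLocalRing.notMem_maximalIdeal.2 ((υ.isUnit.pow p).mul hbu)) h2
          obtain ⟨g, hgdef⟩ : ∃ g : A, g = υ * π ^ (e - m) := ⟨_, rfl⟩
          have hgm : g ∈ maximalIdeal A := by
            rw [hgdef, hπ.maximalIdeal_eq]
            exact Ideal.mul_mem_left _ _
              (Ideal.pow_mem_of_mem _ (Ideal.mem_span_singleton_self π) _ (by omega))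
          have hwg : (1 - ζ) = π ^ m * g := by
            rw [hwe, hgdef, mul_left_comm, ← pow_add, Nat.add_sub_cancel' hme.le]
          have hcu : IsUnit (1 + r * g) := by
            rw [← IsLocalRing.notMem_maximalIdeal]
            intro hmem
            have h2 := Ideal.sub_mem _ hmem (Ideal.mul_mem_left _ r hgm)
            rw [add_sub_cancel_right] at h2
            exact (Ideal.ne_top_iff_one _).1 (IsLocalRing.maximalIdeal.isMaximal A).ne_top h2
          obtain ⟨c, hc⟩ := hcu
          have hres_c : residue A (c : A) = 1 := by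
            rw [hc, map_add, map_one, map_mul, (residue_eq_zero_iff g).2 hgm, mul_zero, add_zero]
          have hres_ci := residue_inv_eq_one A c hres_c
          have hres_a : residue A a = 1 := by
            have := (residue_eq_zero_iff _).2 ha
            rwa [map_sub, map_one, sub_eq_zero] at this
          have hciK : algebraMap A K ((c⁻¹ : Aˣ) : A) ≠ 0 := fun h =>
            (c⁻¹).ne_zero (IsFractionRing.injective A K (h.trans (map_zero _).symm))
          obtain ⟨hY2, hgen2⟩ := scale p K L (algebraMap A K a) Y hY' hgen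
            (algebraMap A K ((c⁻¹ : Aˣ) : A)) hciK
          apply ih (((c⁻¹ : Aˣ) : A) ^ p * a)
            (algebraMap K L (algebraMap A K ((c⁻¹ : Aˣ) : A)) * Y) ?_ ?_ hgen2 ?_
          · rw [← residue_eq_zero_iff, map_sub, map_mul, map_pow, hres_ci, hres_a, map_one,
              one_pow, one_mul, sub_self]
          · rw [hY2, ← map_pow, ← map_mul, ← IsScalarTower.algebraMap_apply A K L]
          · -- the deficit drops
            have hPm := P_monic' p A K ζ hζ P hP
            have hPd := P_natDegree' p A K ζ hζ P hP
            have hkey := key_identity p A K P (1 - ζ) hP hPd π r g hπ.ne_zero m hwg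
            rw [← hc] at hkey
            have hQm : (scaleRoots P (π ^ m)).Monic := (monic_scaleRoots_iff _).2 hPm
            have hQd : (scaleRoots P (π ^ m)).natDegree = p := by rw [natDegree_scaleRoots, hPd]
            have hQc : ∀ i < p, (scaleRoots P (π ^ m)).coeff i ∈ maximalIdeal A := by
              intro i hi
              rw [coeff_scaleRoots, hPd]
              apply Ideal.mul_mem_left
              rw [hπ.maximalIdeal_eq, ← pow_mul]
              exact Ideal.pow_mem_of_mem _ (Ideal.mem_span_singleton_self π) _
                (Nat.mul_pos hm0 (by omega))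
            have hE1 := eval_sub_pow_mem p A _ hQm hQd hQc r
            have hE2 : b - r ^ p ∈ maximalIdeal A := by
              rw [← residue_eq_zero_iff, map_sub, map_pow, hr, sub_self]
            have hE3 : b - eval r (scaleRoots P (π ^ m)) ∈ maximalIdeal A := by
              have := Ideal.sub_mem _ hE2 hE1
              rwa [sub_sub_sub_cancel_right] at this
            rw [hπ.maximalIdeal_eq, Ideal.mem_span_singleton] at hE3
            obtain ⟨b'', hE⟩ := hE3
            refine ⟨((c⁻¹ : Aˣ) : A) ^ p * b'', ?_⟩
            apply mul_right_cancel₀ hπ.ne_zero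
            have hT : π ^ N * π = π ^ (p * m) := by rw [← pow_succ, hm]
            rw [mul_assoc, hT]
            have hb' : (a - 1) * π ^ (p * m) = (1 - ζ) ^ p * b := by rw [← hm]; exact hb
            have hcc : ((c⁻¹ : Aˣ) : A) ^ p * (c : A) ^ p = 1 := by
              rw [← mul_pow, Units.inv_mul, one_pow]
            linear_combination (((c⁻¹ : Aˣ) : A) ^ p) * hb' - (((c⁻¹ : Aˣ) : A) ^ p) * hkey +
              ((1 - ζ) ^ p * ((c⁻¹ : Aˣ) : A) ^ p) * hE + (π ^ (p * m)) * hcc
      · have := PB p A K L ζ hζ P hP π hπ ξ _ hz hgenz (N + 1) hbu.unit (Nat.succ_pos N) hpN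
          (by rw [hξ]; rfl)
        exact Or.inr (Or.inr (Or.inl this))

end Induction

end Groth.Agent.H10.GAS
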