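import Mathlib
import Groth.Prelude.Def_EtRam
import Groth.Agent.H10.GAS12

set_option autoImplicit false
set_option linter.style.haveILetI false
set_option linter.unusedSectionVars false
set_option linter.unusedVariables false
universe u
open Polynomial IsLocalRing
open scoped IntermediateField

namespace Groth.Agent.H10.GAS

open Groth.Agent.H10.AS

section Master

variable (p : ℕ) [hpf : Fact p.Prime] (A K L : Type u) [CommRing A] [IsDomain A]
  [IsDiscreteValuationRing A] [Field K] [Algebra A K] [IsFractionRing A K] [Field L] [Algebra K L]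
  [Algebra A L] [IsScalarTower A K L] [CharZero K] [hchar : CharP (ResidueField A) p]
  (ζ : A) (hζ : aeval ζ (cyclotomic p ℤ) = 0)
  (P : A[X]) (hP : C ((1 - ζ) ^ p) * P = (1 + C (1 - ζ) * X) ^ p - 1)
  (π : A) (hπ : Irreducible π)

include hζ hP hπ hchar in
theorem cases_of_unit (a : A) (ha : IsUnit a) (Y : L) (hY : Y ^ p = algebraMap A L a)
    (hgen : IntermediateField.adjoin K {Y} = ⊤) : Cases p A K L := by
  haveI := charZero_A A K
  have hw := w_ne_zero p A ζ hζ
  by_cases hres : ∀ r : A, residue A a ≠ residue A r ^ p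
  · exact Or.inr (Or.inr (Or.inr (K2 p A K L ζ hζ π hπ a Y hY hgen hres)))
  · push Not at hres
    obtain ⟨r, hr⟩ := hres
    have hru : IsUnit r := by
      rw [← IsLocalRing.notMem_maximalIdeal]
      intro hrm
      have : residue A a = 0 := by
        rw [hr, (residue_eq_zero_iff r).2 hrm, zero_pow hpf.out.ne_zero]
      exact (IsLocalRing.notMem_maximalIdeal.2 ha) ((residue_eq_zero_iff a).1 this)
    obtain ⟨c, hc⟩ := hru
    have hY' : Y ^ p = algebraMap K L (algebraMap A K a) := by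
      rw [hY, IsScalarTower.algebraMap_apply A K L]
    have hciK : algebraMap A K ((c⁻¹ : Aˣ) : A) ≠ 0 := fun h =>
      (c⁻¹).ne_zero (IsFractionRing.injective A K (h.trans (map_zero _).symm))
    obtain ⟨hY2, hgen2⟩ := scale p K L (algebraMap A K a) Y hY' hgen
      (algebraMap A K ((c⁻¹ : Aˣ) : A)) hciK
    obtain ⟨e, υ, hwe⟩ := IsDiscreteValuationRing.eq_unit_mul_pow_irreducible hw hπ
    apply cases_of_deficit p A K L ζ hζ P hP π hπ (p * e) (((c⁻¹ : Aˣ) : A) ^ p * a)
      (algebraMap K L (algebraMap A K ((c⁻¹ : Aˣ) : A)) * Y) ?_ ?_ hgen2 ?_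
    · rw [← residue_eq_zero_iff, map_sub, map_mul, hr, ← hc, ← map_pow, ← map_mul,
        ← mul_pow, Units.inv_mul, one_pow, sub_self]
    · rw [hY2, ← map_pow, ← map_mul, ← IsScalarTower.algebraMap_apply A K L]
    · refine ⟨((υ⁻¹ : Aˣ) : A) ^ p * (((c⁻¹ : Aˣ) : A) ^ p * a - 1), ?_⟩
      have hυ : ((υ⁻¹ : Aˣ) : A) ^ p * (υ : A) ^ p = 1 := by
        rw [← mul_pow, Units.inv_mul, one_pow]
      rw [hwe, mul_pow, ← pow_mul, mul_comm e p]
      linear_combination (-(π ^ (p * e) * (((c⁻¹ : Aˣ) : A) ^ p * a - 1))) * hυ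

include hζ hP hπ hchar in
theorem kummer_cases (u : K) (Y : L) (hY : Y ^ p = algebraMap K L u)
    (hgen : IntermediateField.adjoin K {Y} = ⊤) : Cases p A K L := by
  have hπK := piK_ne_zero A K π hπ
  by_cases hu0 : u = 0
  · exact Or.inl (kummer_finrank_one p K L _ (zetaK_prim p A K ζ hζ) u Y hY hgen 0
      (by rw [hu0, zero_pow hpf.out.ne_zero]))
  obtain ⟨k, a₀, hk⟩ := exists_zpow_unit A K π hπ u hu0
  have hp0 : (0 : ℤ) < (p : ℤ) := by exact_mod_cast hpf.out.pos
  have hn0 : 0 ≤ (-k) % (p : ℤ) := Int.emod_nonneg _ hp0.ne'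
  have hnp : (-k) % (p : ℤ) < p := Int.emod_lt_of_pos _ hp0
  have hkq : (p : ℤ) * ((-k) / (p : ℤ)) + (-k) % (p : ℤ) = -k := Int.mul_ediv_add_emod (-k) p
  obtain ⟨n', hn'⟩ := Int.eq_ofNat_of_zero_le hn0
  obtain ⟨q, hq⟩ : ∃ q : ℤ, q = (-k) / (p : ℤ) := ⟨_, rfl⟩
  rw [← hq, hn'] at hkq
  rw [hn'] at hnp
  have hnp' : n' < p := by exact_mod_cast hnp
  obtain ⟨hY2, hgen2⟩ := scale p K L u Y hY hgen (algebraMap A K π ^ q) (zpow_ne_zero q hπK)
  have hu' : ((algebraMap A K π ^ q) ^ p * u) * algebraMap A K π ^ n' = algebraMap A K a₀ := by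
    rw [hk, ← zpow_natCast (algebraMap A K π ^ q) p, ← zpow_mul, ← zpow_natCast (algebraMap A K π) n']
    have : algebraMap A K π ^ (q * (p : ℤ)) * (algebraMap A K π ^ k * algebraMap A K (a₀ : A)) *
        algebraMap A K π ^ (n' : ℤ) =
        (algebraMap A K π ^ (q * (p : ℤ)) * algebraMap A K π ^ k * algebraMap A K π ^ (n' : ℤ)) *
          algebraMap A K (a₀ : A) := by ring
    rw [this, ← zpow_add₀ hπK, ← zpow_add₀ hπK]
    have : q * (p : ℤ) + k + (n' : ℤ) = 0 := by linarith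
    rw [this, zpow_zero, one_mul]
  by_cases hn'0 : n' = 0
  · rw [hn'0, pow_zero, mul_one] at hu'
    rw [hu', ← IsScalarTower.algebraMap_apply A K L] at hY2
    exact cases_of_unit p A K L ζ hζ P hP π hπ a₀ a₀.isUnit _ hY2 hgen2
  · have hnd : ¬ p ∣ n' := by
      intro hd
      have := Nat.le_of_dvd (Nat.pos_of_ne_zero hn'0) hd
      omega
    exact Or.inr (Or.inr (Or.inl (K1 p A K L ζ hζ π hπ _ _ hY2 hgen2 n' a₀
      (Nat.pos_of_ne_zero hn'0) hnd hu')))

end Master

theorem main (p : ℕ) (hp : p.Prime) (A K L : Type u) [CommRing A] [IsDomain A]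
    [IsDiscreteValuationRing A] [Field K] [Algebra A K] [IsFractionRing A K] [Field L]
    [Algebra K L] [Algebra A L]
    [IsScalarTower A K L] [CharZero K] [CharP (IsLocalRing.ResidueField A) p] (ζ : A)
    (hζ : aeval ζ (cyclotomic p ℤ) = 0) (P : A[X])
    (hP : C ((1 - ζ) ^ p) * P = (1 + C (1 - ζ) * X) ^ p - 1) (π : A)
    (hπ : IsLocalRing.maximalIdeal A = Ideal.span {π})
    (ξ : K) (z : L) (hz : aeval z P = algebraMap K L ξ)
    (hgen : IntermediateField.adjoin K {z} = ⊤) :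
    IsGalois K L ∧ Cases p A K L ∧
      ((∃ a : A, algebraMap A K a = ξ) → Module.finrank K L = 1 ∨
        (EtRam.IsUnramifiedExt A (algebraMap A L) ∧ Module.finrank K L = p)) ∧
      (∀ (n : ℕ) (a : Aˣ), 0 < n → ¬ p ∣ n →
        ξ * algebraMap A K π ^ n = algebraMap A K a →
          (EtRam.IsTotallyRamified A (algebraMap A L) ∧ Module.finrank K L = p)) ∧
      (∀ (n : ℕ) (a : A), 0 < n → p ∣ n →
        (∀ r : A, IsLocalRing.residue A a ≠ IsLocalRing.residue A r ^ p) →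
          ξ * algebraMap A K π ^ n = algebraMap A K a → Case4 p A L) := by
  haveI : Fact p.Prime := ⟨hp⟩
  have hπi : Irreducible π := (IsDiscreteValuationRing.irreducible_iff_uniformizer π).2 hπ
  have hfield := P_field p A K L ζ hζ P hP ξ z hz hgen
  refine ⟨hfield.1, ?_, ?_, ?_, ?_⟩
  · exact kummer_cases p A K L ζ hζ P hP π hπi _ _ (Y_pow p A K L ζ P hP ξ z hz)
      (adjoin_Y p A K L ζ hζ z hgen)
  · rintro ⟨a, rfl⟩
    rcases hfield.2 with h | h
    · exact Or.inl h
    · exact Or.inr ⟨unram_PA p A K L ζ hζ P hP z a hz hgen, h⟩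
  · intro n a hn hpn hξ
    exact PB p A K L ζ hζ P hP π hπi ξ z hz hgen n a hn hpn hξ
  · intro n a hn hpn ha hξ
    exact PC p A K L ζ hζ P hP π hπi ξ z hz hgen n a hn hpn ha hξ

end Groth.Agent.H10.GAS
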