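import Mathlib.RingTheory.Flat.Basic
import Mathlib.RingTheory.Ideal.Quotient.Operations
import Mathlib.RingTheory.Ideal.Maps
import Mathlib.LinearAlgebra.TensorProduct.RightExactness
import Mathlib.LinearAlgebra.TensorProduct.Quotient

set_option autoImplicit false

namespace Groth.Agent.H10

open TensorProduct

section

variable {R S : Type*} [CommRing R] [CommRing S] [Algebra R S]

/-- The predicate: the map `R/J → S/JS` is bijective, stated elementwise. -/
def QuotBij (R S : Type*) [CommRing R] [CommRing S] [Algebra R S] (J : Ideal R) : Prop :=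
  (∀ r : R, algebraMap R S r ∈ J.map (algebraMap R S) → r ∈ J) ∧
    ∀ s : S, ∃ r : R, algebraMap R S r - s ∈ J.map (algebraMap R S)

theorem quotBij_iff (J : Ideal R) :
    QuotBij R S J ↔ Function.Bijective
      (Ideal.quotientMap (J.map (algebraMap R S)) (algebraMap R S) Ideal.le_comap_map) := by
  constructor
  · rintro ⟨h1, h2⟩
    constructor
    · rw [injective_iff_map_eq_zero]
      intro x hx
      obtain ⟨r, rfl⟩ := Ideal.Quotient.mk_surjective x
      rw [Ideal.quotientMap_mk, Ideal.Quotient.eq_zero_iff_mem] at hx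
      rw [Ideal.Quotient.eq_zero_iff_mem]
      exact h1 r hx
    · intro y
      obtain ⟨s, rfl⟩ := Ideal.Quotient.mk_surjective y
      obtain ⟨r, hr⟩ := h2 s
      refine ⟨Ideal.Quotient.mk J r, ?_⟩
      rw [Ideal.quotientMap_mk, Ideal.Quotient.eq]
      exact hr
  · rintro ⟨h1, h2⟩
    constructor
    · intro r hr
      have : Ideal.quotientMap (J.map (algebraMap R S)) (algebraMap R S) Ideal.le_comap_map
          (Ideal.Quotient.mk J r) = 0 := by
        rw [Ideal.quotientMap_mk, Ideal.Quotient.eq_zero_iff_mem]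
        exact hr
      have := h1 (this.trans (map_zero _).symm)
      rwa [Ideal.Quotient.eq_zero_iff_mem] at this
    · intro s
      obtain ⟨x, hx⟩ := h2 (Ideal.Quotient.mk _ s)
      obtain ⟨r, rfl⟩ := Ideal.Quotient.mk_surjective x
      rw [Ideal.quotientMap_mk, Ideal.Quotient.eq] at hx
      exact ⟨r, hx⟩

variable {M : Type*} [AddCommGroup M] [Module R M]

/-- If `J` kills `m` and `x ∈ J S`, then `x ⊗ m = 0`. -/
theorem tmul_eq_zero_of_mem_map {J : Ideal R} {m : M} (hm : ∀ a ∈ J, a • m = 0) {x : S}
    (hx : x ∈ J.map (algebraMap R S)) : x ⊗ₜ[R] m = 0 := by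
  have hx' : x ∈ J • (⊤ : Submodule R S) := by
    rw [Ideal.smul_top_eq_map]; exact hx
  refine Submodule.smul_induction_on hx' (fun a ha s _ => ?_) (fun x y hx hy => ?_)
  · rw [TensorProduct.smul_tmul, hm a ha, TensorProduct.tmul_zero]
  · rw [TensorProduct.add_tmul, hx, hy, add_zero]

end

section Antitone

variable {R S : Type*} [CommRing R] [CommRing S] [Algebra R S]
variable {M : Type*} [AddCommGroup M] [Module R M]
variable (F : ℕ → Ideal R) (hF : Antitone F) (hbij : ∀ n, QuotBij R S (F n))
  (hM : ∀ m : M, ∃ n, ∀ a ∈ F n, a • m = 0)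

include hF hbij in
theorem smul_eq_of_levels {s : S} {m : M} {n n' : ℕ} {r r' : R}
    (hn : ∀ a ∈ F n, a • m = 0) (hr : algebraMap R S r - s ∈ (F n).map (algebraMap R S))
    (_hn' : ∀ a ∈ F n', a • m = 0) (hr' : algebraMap R S r' - s ∈ (F n').map (algebraMap R S))
    (hnn' : n ≤ n') : r • m = r' • m := by
  have h1 : algebraMap R S (r - r') ∈ (F n).map (algebraMap R S) := by
    have h2 : algebraMap R S r' - s ∈ (F n).map (algebraMap R S) :=
      Ideal.map_mono (hF hnn') hr'
    have : algebraMap R S (r - r') = (algebraMap R S r - s) - (algebraMap R S r' - s) := by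
      rw [map_sub]; ring
    rw [this]
    exact Ideal.sub_mem _ hr h2
  have h3 := hn _ ((hbij n).1 _ h1)
  rwa [sub_smul, sub_eq_zero] at h3

include hbij hM in
theorem exists_level (s : S) (m : M) : ∃ (n : ℕ) (r : R), (∀ a ∈ F n, a • m = 0) ∧
    algebraMap R S r - s ∈ (F n).map (algebraMap R S) := by
  obtain ⟨n, hn⟩ := hM m
  obtain ⟨r, hr⟩ := (hbij n).2 s
  exact ⟨n, r, hn, hr⟩

/-- The action `ρ s m = r • m` for `r ≡ s` modulo a level killing `m`. -/
noncomputable def rho (s : S) (m : M) : M :=
  (exists_level F hbij hM s m).choose_spec.choose • m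

include hF in
theorem rho_eq {s : S} {m : M} {n : ℕ} {r : R} (hn : ∀ a ∈ F n, a • m = 0)
    (hr : algebraMap R S r - s ∈ (F n).map (algebraMap R S)) : rho F hbij hM s m = r • m := by
  obtain ⟨h1, h2⟩ := (exists_level F hbij hM s m).choose_spec.choose_spec
  rcases le_total (exists_level F hbij hM s m).choose n with h | h
  · exact smul_eq_of_levels F hF hbij h1 h2 hn hr h
  · exact (smul_eq_of_levels F hF hbij hn hr h1 h2 h).symm

include hF hM in
theorem exists_common_level (m m' : M) : ∃ n, (∀ a ∈ F n, a • m = 0) ∧ (∀ a ∈ F n, a • m' = 0) := by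
  obtain ⟨n, hn⟩ := hM m
  obtain ⟨n', hn'⟩ := hM m'
  exact ⟨max n n', fun a ha => hn a (hF (le_max_left _ _) ha),
    fun a ha => hn' a (hF (le_max_right _ _) ha)⟩

/-- The bilinear map `S × M → M`. -/
noncomputable def rhoBilin : S →ₗ[R] M →ₗ[R] M :=
  LinearMap.mk₂ R (rho F hbij hM)
    (by
      intro s s' m
      obtain ⟨n, hn⟩ := hM m
      obtain ⟨r, hr⟩ := (hbij n).2 s
      obtain ⟨r', hr'⟩ := (hbij n).2 s'
      have hrr' : algebraMap R S (r + r') - (s + s') ∈ (F n).map (algebraMap R S) := by
        have : algebraMap R S (r + r') - (s + s') =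
            (algebraMap R S r - s) + (algebraMap R S r' - s') := by rw [map_add]; ring
        rw [this]; exact Ideal.add_mem _ hr hr'
      rw [rho_eq F hF hbij hM hn hr, rho_eq F hF hbij hM hn hr', rho_eq F hF hbij hM hn hrr',
        add_smul])
    (by
      intro c s m
      obtain ⟨n, hn⟩ := hM m
      obtain ⟨r, hr⟩ := (hbij n).2 s
      have hcr : algebraMap R S (c * r) - c • s ∈ (F n).map (algebraMap R S) := by
        have : algebraMap R S (c * r) - c • s = algebraMap R S c * (algebraMap R S r - s) := by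
          rw [map_mul, Algebra.smul_def]; ring
        rw [this]; exact Ideal.mul_mem_left _ _ hr
      rw [rho_eq F hF hbij hM hn hr, rho_eq F hF hbij hM hn hcr, mul_smul])
    (by
      intro s m m'
      obtain ⟨n, hn, hn'⟩ := exists_common_level F hF hM m m'
      obtain ⟨r, hr⟩ := (hbij n).2 s
      have hnn : ∀ a ∈ F n, a • (m + m') = 0 := fun a ha => by
        rw [smul_add, hn a ha, hn' a ha, add_zero]
      rw [rho_eq F hF hbij hM hn hr, rho_eq F hF hbij hM hn' hr, rho_eq F hF hbij hM hnn hr,
        smul_add])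
    (by
      intro c s m
      obtain ⟨n, hn⟩ := hM m
      obtain ⟨r, hr⟩ := (hbij n).2 s
      have hcn : ∀ a ∈ F n, a • (c • m) = 0 := fun a ha => by
        rw [smul_comm, hn a ha, smul_zero]
      rw [rho_eq F hF hbij hM hn hr, rho_eq F hF hbij hM hcn hr, smul_comm])

include hF hbij hM in
/-- For a module each of whose elements is killed by some level of an antitone sequence of ideals at
which `R/F n → S/F n S` is bijective, the map `M → S ⊗ M` is bijective. -/
theorem mk_bijective_of_levels : Function.Bijective (TensorProduct.mk R S M 1) := by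
  constructor
  · have hleft : ∀ m, TensorProduct.lift (rhoBilin F hF hbij hM) (TensorProduct.mk R S M 1 m) = m := by
      intro m
      simp only [TensorProduct.mk_apply, TensorProduct.lift.tmul]
      obtain ⟨n, hn⟩ := hM m
      have h1 : algebraMap R S 1 - 1 ∈ (F n).map (algebraMap R S) := by
        rw [map_one, sub_self]; exact Ideal.zero_mem _
      change rho F hbij hM 1 m = m
      rw [rho_eq F hF hbij hM hn h1, one_smul]
    exact Function.LeftInverse.injective hleft
  · rw [← LinearMap.range_eq_top, eq_top_iff, ← TensorProduct.span_tmul_eq_top, Submodule.span_le]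
    rintro _ ⟨s, m, rfl⟩
    obtain ⟨n, hn⟩ := hM m
    obtain ⟨r, hr⟩ := (hbij n).2 s
    refine ⟨r • m, ?_⟩
    have h0 := tmul_eq_zero_of_mem_map (M := M) hn hr
    rw [TensorProduct.sub_tmul, sub_eq_zero] at h0
    rw [TensorProduct.mk_apply, ← h0, Algebra.algebraMap_eq_smul_one, TensorProduct.smul_tmul]

end Antitone

section Killed

variable {R S : Type*} [CommRing R] [CommRing S] [Algebra R S]
variable {M : Type*} [AddCommGroup M] [Module R M]

/-- If `R/J → S/JS` is bijective and `J` kills `M` then `M → S ⊗ M` is bijective. -/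
theorem mk_bijective_of_killed {J : Ideal R} (hJ : QuotBij R S J)
    (hM : ∀ a ∈ J, ∀ m : M, a • m = 0) : Function.Bijective (TensorProduct.mk R S M 1) :=
  mk_bijective_of_levels (fun _ => J) (fun _ _ _ => le_rfl) (fun _ => hJ)
    (fun m => ⟨0, fun a ha => hM a ha m⟩)

/-- Conversely, bijectivity of `R/J → S ⊗ R/J` gives bijectivity of `R/J → S/JS`. -/
theorem quotBij_of_mk_bijective {J : Ideal R}
    (h : Function.Bijective (TensorProduct.mk R S (R ⧸ J) 1)) : QuotBij R S J := by
  have hsm : ∀ r : R, Ideal.Quotient.mk J r = r • Ideal.Quotient.mk J 1 := by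
    intro r
    rw [Algebra.smul_def, Ideal.Quotient.algebraMap_eq, ← map_mul, mul_one]
  have hkill : ∀ a ∈ J, a • (Ideal.Quotient.mk J 1) = 0 := by
    intro a ha
    rw [← hsm]
    exact Ideal.Quotient.eq_zero_iff_mem.mpr ha
  constructor
  · intro r hr
    have h0 : TensorProduct.mk R S (R ⧸ J) 1 (Ideal.Quotient.mk J r) = 0 := by
      rw [TensorProduct.mk_apply, hsm r, ← TensorProduct.smul_tmul, Algebra.smul_def, mul_one]
      exact tmul_eq_zero_of_mem_map hkill hr
    have := h.1 (h0.trans (map_zero _).symm)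
    rwa [Ideal.Quotient.eq_zero_iff_mem] at this
  · intro s
    obtain ⟨x, hx⟩ := h.2 (s ⊗ₜ[R] Ideal.Quotient.mk J 1)
    obtain ⟨r, rfl⟩ := Ideal.Quotient.mk_surjective x
    refine ⟨r, ?_⟩
    have h1 := congrArg (TensorProduct.tensorQuotEquivQuotSMul S J) hx
    rw [TensorProduct.mk_apply] at h1
    erw [TensorProduct.tensorQuotEquivQuotSMul_tmul_mk,
      TensorProduct.tensorQuotEquivQuotSMul_tmul_mk] at h1
    rw [Submodule.Quotient.eq, Ideal.smul_top_eq_map] at h1
    simpa [Algebra.smul_def] using h1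

end Killed

end Groth.Agent.H10
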