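import Groth.Prelude.Def_EtGlue
import Groth.Agent.H10.TorsionTensor
import Mathlib

set_option autoImplicit false

/-!
# Elementwise consequences of `EtGlue.QuotPowBijective`, and torsion criteria
-/

namespace Groth.Agent.H10

open TensorProduct

universe u

section Ring

variable {R R' : Type u} [CommRing R] [CommRing R'] [Algebra R R'] {f : R}

theorem quotBij_of_quotPowBijective (hq : EtGlue.QuotPowBijective R R' f) {n : ℕ} (hn : 0 < n) :
    QuotBij R R' (Ideal.span {f ^ n}) :=
  (quotBij_iff _).2 (hq n hn)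

theorem map_span_pow (n : ℕ) : (Ideal.span {f ^ n}).map (algebraMap R R') =
    Ideal.span {algebraMap R R' f ^ n} := by
  rw [Ideal.map_span, Set.image_singleton, map_pow]

/-- injectivity of `R/f^n → R'/f^n`, elementwise. -/
theorem exists_eq_pow_mul_of_map_eq (hq : EtGlue.QuotPowBijective R R' f) (n : ℕ) {r : R} {s' : R'}
    (h : algebraMap R R' r = algebraMap R R' f ^ n * s') : ∃ s, r = f ^ n * s := by
  rcases Nat.eq_zero_or_pos n with rfl | hn
  · exact ⟨r, by simp⟩
  · have h1 := (quotBij_of_quotPowBijective hq hn).1 r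
    rw [map_span_pow, Ideal.mem_span_singleton, Ideal.mem_span_singleton] at h1
    obtain ⟨s, hs⟩ := h1 ⟨s', h⟩
    exact ⟨s, hs⟩

/-- surjectivity of `R/f^n → R'/f^n`, elementwise. -/
theorem exists_map_add_pow_mul (hq : EtGlue.QuotPowBijective R R' f) (n : ℕ) (x' : R') :
    ∃ (r : R) (s' : R'), x' = algebraMap R R' r + algebraMap R R' f ^ n * s' := by
  rcases Nat.eq_zero_or_pos n with rfl | hn
  · exact ⟨0, x', by simp⟩
  · obtain ⟨r, hr⟩ := (quotBij_of_quotPowBijective hq hn).2 x'
    rw [map_span_pow, Ideal.mem_span_singleton] at hr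
    obtain ⟨s', hs'⟩ := hr
    exact ⟨r, -s', by linear_combination -hs'⟩

end Ring

section Module

variable {R R' : Type u} [CommRing R] [CommRing R'] [Algebra R R'] {f : R}
variable {M : Type u} [AddCommGroup M] [Module R M]

theorem mk_eq_zero_iff_pow (m : M) :
    LocalizedModule.mkLinearMap (Submonoid.powers f) M m = 0 ↔ ∃ n : ℕ, f ^ n • m = 0 := by
  rw [IsLocalizedModule.eq_zero_iff (Submonoid.powers f)]
  constructor
  · rintro ⟨⟨_, n, rfl⟩, h⟩
    exact ⟨n, h⟩
  · rintro ⟨n, h⟩
    exact ⟨⟨f ^ n, n, rfl⟩, h⟩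

theorem exists_pow_smul_eq_mk (y : LocalizedModule (Submonoid.powers f) M) :
    ∃ (m : M) (n : ℕ), f ^ n • y = LocalizedModule.mkLinearMap (Submonoid.powers f) M m := by
  obtain ⟨⟨m, ⟨_, n, rfl⟩⟩, h⟩ := IsLocalizedModule.surj (Submonoid.powers f)
    (LocalizedModule.mkLinearMap (Submonoid.powers f) M) y
  exact ⟨m, n, h⟩

theorem pow_smul_injective (n : ℕ) :
    Function.Injective fun y : LocalizedModule (Submonoid.powers f) M => f ^ n • y :=
  IsLocalizedModule.smul_injective (LocalizedModule.mkLinearMap (Submonoid.powers f) M)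
    (⟨f ^ n, n, rfl⟩ : Submonoid.powers f)

/-- surjectivity of `M/f^n → (R' ⊗ M)/f^n`, elementwise. -/
theorem exists_tmul_add_pow_smul (hq : EtGlue.QuotPowBijective R R' f) (n : ℕ) (x : R' ⊗[R] M) :
    ∃ (m : M) (z : R' ⊗[R] M), x = (1 : R') ⊗ₜ[R] m + f ^ n • z := by
  induction x using TensorProduct.induction_on with
  | zero => exact ⟨0, 0, by simp⟩
  | tmul r' m₀ =>
    obtain ⟨r, s', hr⟩ := exists_map_add_pow_mul hq n r'
    refine ⟨r • m₀, s' ⊗ₜ[R] m₀, ?_⟩
    rw [hr, TensorProduct.add_tmul, TensorProduct.smul_tmul', Algebra.smul_def, map_pow,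
      Algebra.algebraMap_eq_smul_one, TensorProduct.smul_tmul]
  | add x y hx hy =>
    obtain ⟨m, z, rfl⟩ := hx
    obtain ⟨m', z', rfl⟩ := hy
    exact ⟨m + m', z + z', by rw [TensorProduct.tmul_add, smul_add]; abel⟩

/-- injectivity of `M/f^n → (R' ⊗ M)/f^n`, elementwise. -/
theorem exists_eq_pow_smul_of_tmul_eq (hq : EtGlue.QuotPowBijective R R' f) (n : ℕ) {m : M}
    {z : R' ⊗[R] M} (h : (1 : R') ⊗ₜ[R] m = f ^ n • z) : ∃ s : M, m = f ^ n • s := by
  rcases Nat.eq_zero_or_pos n with rfl | hn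
  · exact ⟨m, by simp⟩
  have hQ : ∀ a ∈ Ideal.span {f ^ n},
      ∀ q : M ⧸ ((Ideal.span {f ^ n} : Ideal R) • (⊤ : Submodule R M)), a • q = 0 := by
    intro a ha q
    obtain ⟨m', rfl⟩ := Submodule.Quotient.mk_surjective _ q
    rw [← Submodule.Quotient.mk_smul, Submodule.Quotient.mk_eq_zero]
    exact Submodule.smul_mem_smul ha trivial
  have hbij := mk_bijective_of_killed (S := R') (quotBij_of_quotPowBijective hq hn) hQ
  have h1 : (1 : R') ⊗ₜ[R] (Submodule.Quotient.mk m :
      M ⧸ ((Ideal.span {f ^ n} : Ideal R) • (⊤ : Submodule R M))) = 0 := by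
    have := congrArg
      ((Submodule.mkQ ((Ideal.span {f ^ n} : Ideal R) • (⊤ : Submodule R M))).lTensor R') h
    rw [LinearMap.lTensor_tmul, map_smul, Submodule.mkQ_apply] at this
    rw [this]
    generalize (LinearMap.lTensor R' ((Ideal.span {f ^ n} : Ideal R) • (⊤ : Submodule R M)).mkQ) z = w
    induction w using TensorProduct.induction_on with
    | zero => simp
    | tmul a q =>
      rw [← TensorProduct.tmul_smul, hQ _ (Ideal.mem_span_singleton_self _), TensorProduct.tmul_zero]
    | add x y hx hy => rw [smul_add, hx, hy, add_zero]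
  have h2 := hbij.1 (h1.trans (map_zero (TensorProduct.mk R R' _ 1)).symm)
  rw [Submodule.Quotient.mk_eq_zero, Submodule.ideal_span_singleton_smul,
    Submodule.mem_smul_pointwise_iff_exists] at h2
  obtain ⟨s, -, hs⟩ := h2
  exact ⟨s, hs.symm⟩

/-- If every `f`-power torsion element of `R'` comes from an `f`-power torsion element of `R`
(and the quotients mod `f^n` agree) then the same holds for `M → R' ⊗ M`, for every module `M`. -/
theorem tm2_of_t2 (hq : EtGlue.QuotPowBijective R R' f)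
    (hT2 : ∀ x' : R', (∃ n : ℕ, algebraMap R R' f ^ n * x' = 0) →
          ∃ x : R, (∃ n : ℕ, f ^ n * x = 0) ∧ algebraMap R R' x = x')
    (x : R' ⊗[R] M) (hx : ∃ n : ℕ, f ^ n • x = 0) :
    ∃ m : M, (∃ n : ℕ, f ^ n • m = 0) ∧ (1 : R') ⊗ₜ[R] m = x := by
  classical
  obtain ⟨n, hn⟩ := hx
  let π : (M →₀ R) →ₗ[R] M := Finsupp.linearCombination R id
  have hπ : Function.Surjective π := Finsupp.linearCombination_id_surjective R M
  have hex : Function.Exact (LinearMap.ker π).subtype π := LinearMap.exact_subtype_ker_map π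
  have hex' := @lTensor_exact R (LinearMap.ker π) (M →₀ R) M _ _ _ _ _ _ _
    (LinearMap.ker π).subtype π R' _ _ hex hπ
  have hsurj' : Function.Surjective (π.lTensor R') := LinearMap.lTensor_surjective R' hπ
  obtain ⟨x', rfl⟩ := hsurj' x
  have h1 : π.lTensor R' (f ^ n • x') = 0 := by rw [map_smul, hn]
  obtain ⟨w, hw⟩ : ∃ w : R' ⊗[R] (LinearMap.ker π),
      (LinearMap.ker π).subtype.lTensor R' w = f ^ n • x' := (hex' _).1 h1
  obtain ⟨k, w', hw'⟩ := exists_tmul_add_pow_smul (M := LinearMap.ker π) hq n w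
  set y := x' - (LinearMap.ker π).subtype.lTensor R' w' with hy
  have hy1 : π.lTensor R' y = π.lTensor R' x' := by
    rw [hy, map_sub, (hex' _).2 ⟨w', rfl⟩, sub_zero]
  have hy2 : f ^ n • y = (1 : R') ⊗ₜ[R] (k : M →₀ R) := by
    rw [hy, smul_sub, ← hw, hw', map_add, map_smul, LinearMap.lTensor_tmul]
    simp
  set g := TensorProduct.finsuppScalarRight R R' R' M y with hg
  have hg1 : ∀ i, algebraMap R R' f ^ n * g i = algebraMap R R' ((k : M →₀ R) i) := by
    intro i
    have := congrArg (fun t => TensorProduct.finsuppScalarRight R R' R' M t i) hy2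
    beta_reduce at this
    rw [TensorProduct.finsuppScalarRight_apply_tmul_apply] at this
    have h2 : TensorProduct.finsuppScalarRight R R' R' M (f ^ n • y) =
        f ^ n • TensorProduct.finsuppScalarRight R R' R' M y := by
      rw [algebra_compatible_smul R' (f ^ n) y, map_smul, ← algebra_compatible_smul]
    rw [h2, Finsupp.smul_apply, Algebra.smul_def, map_pow] at this
    rw [← hg] at this
    rw [this, Algebra.smul_def, mul_one]
  have hc : ∀ r : R, ∃ a : R, (r = 0 → a = 0) ∧ ((∃ s, r = f ^ n * s) → r = f ^ n * a) := by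
    intro r
    by_cases h0 : r = 0
    · exact ⟨0, fun _ => rfl, fun _ => by rw [h0, mul_zero]⟩
    · by_cases h : ∃ s, r = f ^ n * s
      · obtain ⟨s, hs⟩ := h
        exact ⟨s, fun h => absurd h h0, fun _ => hs⟩
      · exact ⟨0, fun _ => rfl, fun h' => absurd h' h⟩
  choose c hc0 hc1 using hc
  let a : M →₀ R := (k : M →₀ R).mapRange c (hc0 0 rfl)
  have ha : ∀ i, (k : M →₀ R) i = f ^ n * a i := by
    intro i
    rw [Finsupp.mapRange_apply]
    exact hc1 _ (exists_eq_pow_mul_of_map_eq hq n (hg1 i).symm)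
  have htor : ∀ i, ∃ u : R, (g i - algebraMap R R' (a i) = 0 → u = 0) ∧
      (∃ N : ℕ, f ^ N * u = 0) ∧ algebraMap R R' u = g i - algebraMap R R' (a i) := by
    intro i
    by_cases h0 : g i - algebraMap R R' (a i) = 0
    · exact ⟨0, fun _ => rfl, ⟨0, by simp⟩, by rw [map_zero, h0]⟩
    · obtain ⟨u, hu, hu'⟩ := hT2 (g i - algebraMap R R' (a i))
        ⟨n, by rw [mul_sub, hg1, ha, map_mul, map_pow]; ring⟩
      exact ⟨u, fun h => absurd h h0, hu, hu'⟩
  choose u0 hu0 hu1 hu2 using htor
  have hsupp : ∀ i, i ∉ g.support ∪ a.support → u0 i = 0 := by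
    intro i hi
    simp only [Finset.mem_union, Finsupp.mem_support_iff, not_or, not_not] at hi
    exact hu0 i (by rw [hi.1, hi.2, map_zero, sub_zero])
  let u : M →₀ R := Finsupp.onFinset (g.support ∪ a.support) u0 (by
    intro i hi
    by_contra hni
    exact hi (hsupp i hni))
  have hgu : ∀ i, g i = algebraMap R R' ((a + u) i) := by
    intro i
    rw [Finsupp.add_apply, map_add, Finsupp.onFinset_apply, hu2]
    ring
  have hy3 : y = (1 : R') ⊗ₜ[R] (a + u) := by
    apply (TensorProduct.finsuppScalarRight R R' R' M).injective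
    ext i
    rw [← hg, hgu, TensorProduct.finsuppScalarRight_apply_tmul_apply, Algebra.smul_def, mul_one]
  refine ⟨π (a + u), ?_, ?_⟩
  · have h3 : f ^ n • a = (k : M →₀ R) := by
      ext i
      rw [Finsupp.smul_apply, smul_eq_mul, ← ha]
    have h4 : ∃ N, f ^ N • u = 0 := by
      choose N0 hN0 using hu1
      refine ⟨(g.support ∪ a.support).sup N0, ?_⟩
      ext i
      rw [Finsupp.smul_apply, Finsupp.zero_apply, smul_eq_mul, Finsupp.onFinset_apply]
      by_cases hi : i ∈ g.support ∪ a.support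
      · have hle : N0 i ≤ (g.support ∪ a.support).sup N0 := Finset.le_sup hi
        obtain ⟨d, hd⟩ := Nat.exists_eq_add_of_le hle
        rw [hd, pow_add, mul_comm (f ^ N0 i), mul_assoc, hN0, mul_zero]
      · rw [hsupp i hi, mul_zero]
    obtain ⟨N, hN⟩ := h4
    refine ⟨N + n, ?_⟩
    have h5 : f ^ (N + n) • (a + u) = f ^ N • (k : M →₀ R) := by
      rw [smul_add, pow_add, mul_smul, h3, mul_comm, mul_smul, hN, smul_zero, add_zero]
    rw [← map_smul, h5, map_smul]
    have : π (k : M →₀ R) = 0 := k.2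
    rw [this, smul_zero]
  · rw [← hy1, hy3, LinearMap.lTensor_tmul]

end Module

end Groth.Agent.H10
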