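import Mathlib
import Groth.Prelude.Def_CycDet
import Groth.Agent.H10.LocLength

set_option autoImplicit false
set_option linter.style.haveILetI false
universe u
namespace Groth.Agent.H10

section Quot
variable {R : Type*} [CommRing R] {M : Type*} [AddCommGroup M] [Module R M]

/-- `B / (A ∩ B) ≃ image of B in M / A`. -/
noncomputable def quotSubmoduleOfEquivMap (A B : Submodule R M) :
    (B ⧸ A.submoduleOf B) ≃ₗ[R] (B.map A.mkQ) :=
  (Submodule.quotEquivOfEq _ _ (by
      rw [LinearMap.ker_comp, Submodule.ker_mkQ]
      rfl)).trans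
    ((LinearMap.quotKerEquivRange (A.mkQ ∘ₗ B.subtype)).trans
      (LinearEquiv.ofEq _ _ (by
        rw [LinearMap.range_comp, Submodule.range_subtype])))

theorem map_mkQ_sup_span_singleton (A : Submodule R M) (z : M) :
    (A ⊔ Submodule.span R {z}).map A.mkQ = Submodule.span R {A.mkQ z} := by
  rw [Submodule.map_sup, Submodule.mkQ_map_self, bot_sup_eq, Submodule.map_span,
    Set.image_singleton]

/-- `span {z} ≃ R / ann z`. -/
noncomputable def spanSingletonEquivQuot (z : M) (q : Ideal R)
    (hq : q = (⊥ : Submodule R M).colon {z}) :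
    (Submodule.span R {z}) ≃ₗ[R] (R ⧸ q) :=
  ((LinearEquiv.ofEq _ _ (LinearMap.range_toSpanSingleton (R := R) z).symm).trans
    (LinearMap.quotKerEquivRange (LinearMap.toSpanSingleton R M z)).symm).trans
    (Submodule.quotEquivOfEq _ _ (by
      ext r
      rw [hq, LinearMap.mem_ker, Submodule.mem_colon_singleton, Submodule.mem_bot]
      rfl))

end Quot

section Ass
variable (R : Type u) [CommRing R] [IsNoetherianRing R] (M : Type u) [AddCommGroup M] [Module R M]
  [Module.Finite R M]

theorem exists_colon_eq_of_mem_support_quotient (q : PrimeSpectrum R)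
    (hq : Minimal (fun p : PrimeSpectrum R => p ∈ Module.support R M) q) (N : Submodule R M)
    (hN : q ∈ Module.support R (M ⧸ N)) :
    ∃ z : M, q.asIdeal = (⊥ : Submodule R (M ⧸ N)).colon {N.mkQ z} := by
  have hmin : q.asIdeal ∈ (Module.annihilator R (M ⧸ N)).minimalPrimes := by
    refine ⟨⟨q.2, ?_⟩, ?_⟩
    · rw [Module.support_eq_zeroLocus] at hN
      exact hN
    · rintro p ⟨hp, hann⟩ hpq
      have hp' : (⟨p, hp⟩ : PrimeSpectrum R) ∈ Module.support R (M ⧸ N) := by
        rw [Module.support_eq_zeroLocus]
        exact hann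
      have hp'' : (⟨p, hp⟩ : PrimeSpectrum R) ∈ Module.support R M :=
        Module.support_subset_of_surjective N.mkQ (Submodule.mkQ_surjective N) hp'
      exact hq.2 hp'' hpq
  have hass := Module.associatedPrimes.minimalPrimes_annihilator_subset_associatedPrimes R
    (M ⧸ N) hmin
  obtain ⟨-, z', hz'⟩ := isAssociatedPrime_iff.1 hass
  obtain ⟨z, rfl⟩ := Submodule.mkQ_surjective N z'
  exact ⟨z, hz'⟩

end Ass

section Seq
variable (R : Type u) [CommRing R] (M : Type u) [AddCommGroup M] [Module R M]
  (q : PrimeSpectrum R)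

open Classical in
/-- choose the next element. -/
noncomputable def nextElt (N : Submodule R M) : M :=
  if h : ∃ z : M, q.asIdeal = (⊥ : Submodule R (M ⧸ N)).colon {N.mkQ z} then h.choose else 0

/-- the chain of submodules. -/
noncomputable def chainSub : ℕ → Submodule R M
  | 0 => ⊥
  | k + 1 => chainSub k ⊔ Submodule.span R {nextElt R M q (chainSub k)}

/-- the chain of elements. -/
noncomputable def chainElt (k : ℕ) : M := nextElt R M q (chainSub R M q k)

theorem chainSub_succ (k : ℕ) : chainSub R M q (k + 1) =
    chainSub R M q k ⊔ Submodule.span R {chainElt R M q k} := rfl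

theorem chainSub_eq_span (k : ℕ) :
    chainSub R M q k = Submodule.span R (chainElt R M q '' Set.Iio k) := by
  induction k with
  | zero =>
    have : Set.Iio (0 : ℕ) = ∅ := by
      ext n
      simp
    rw [this, Set.image_empty, Submodule.span_empty]
    rfl
  | succ k ih =>
    have : Set.Iio (k + 1) = insert k (Set.Iio k) := by
      ext n
      simp only [Set.mem_Iio, Set.mem_insert_iff]
      omega
    rw [chainSub_succ, this, Set.image_insert_eq, Submodule.span_insert, ← ih, sup_comm]

theorem chainSub_mono : Monotone (chainSub R M q) :=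
  monotone_nat_of_le_succ fun k => by
    rw [chainSub_succ]
    exact le_sup_left

theorem spanBefore_chainElt (l i : ℕ) (hi : i ≤ l) :
    CycDet.spanBefore R M (fun j : Fin l => chainElt R M q j) i = chainSub R M q i := by
  rw [chainSub_eq_span, CycDet.spanBefore]
  congr 1
  ext m
  constructor
  · rintro ⟨j, hj, rfl⟩
    exact ⟨j, hj, rfl⟩
  · rintro ⟨n, hn, rfl⟩
    have hn' : n < i := hn
    exact ⟨⟨n, lt_of_lt_of_le hn' hi⟩, hn', rfl⟩

theorem span_range_chainElt (l : ℕ) :
    Submodule.span R (Set.range fun j : Fin l => chainElt R M q j) = chainSub R M q l := by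
  rw [← spanBefore_chainElt R M q l l le_rfl, CycDet.spanBefore]
  congr 1
  ext m
  constructor
  · rintro ⟨j, rfl⟩
    exact ⟨j, j.2, rfl⟩
  · rintro ⟨j, -, rfl⟩
    exact ⟨j, rfl⟩

end Seq

section Exists
variable (R : Type u) [CommRing R] [IsNoetherianRing R] (M : Type u) [AddCommGroup M] [Module R M]
  [Module.Finite R M] (q : PrimeSpectrum R)
  (hq : Minimal (fun p : PrimeSpectrum R => p ∈ Module.support R M) q)

include hq in
theorem chainElt_colon (k : ℕ) (hk : q ∈ Module.support R (M ⧸ chainSub R M q k)) :
    q.asIdeal = (⊥ : Submodule R (M ⧸ chainSub R M q k)).colon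
      {(chainSub R M q k).mkQ (chainElt R M q k)} := by
  have h := exists_colon_eq_of_mem_support_quotient R M q hq _ hk
  rw [chainElt, nextElt, dif_pos h]
  exact h.choose_spec

include hq in
theorem chainSub_lt (k : ℕ) (hk : q ∈ Module.support R (M ⧸ chainSub R M q k)) :
    chainSub R M q k < chainSub R M q (k + 1) := by
  refine lt_of_le_of_ne (chainSub_mono R M q (Nat.le_succ k)) ?_
  intro heq
  have hmem : chainElt R M q k ∈ chainSub R M q k := by
    rw [heq, chainSub_succ]
    exact Submodule.mem_sup_right (Submodule.mem_span_singleton_self _)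
  have h0 : (chainSub R M q k).mkQ (chainElt R M q k) = 0 := by
    rw [Submodule.mkQ_apply, Submodule.Quotient.mk_eq_zero]
    exact hmem
  have hc := chainElt_colon R M q hq k hk
  rw [h0] at hc
  have : (1 : R) ∈ q.asIdeal := by
    rw [hc, Submodule.mem_colon_singleton, smul_zero]
    exact Submodule.zero_mem _
  exact q.2.ne_top ((Ideal.eq_top_iff_one _).2 this)

include hq in
theorem exists_notMem_support_chainSub :
    ∃ n, q ∉ Module.support R (M ⧸ chainSub R M q n) := by
  haveI : IsNoetherian R M := isNoetherian_of_isNoetherianRing_of_finite R M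
  obtain ⟨n, hn⟩ := monotone_stabilizes_iff_noetherian.2 ‹IsNoetherian R M›
    ⟨chainSub R M q, chainSub_mono R M q⟩
  refine ⟨n, fun hmem => ?_⟩
  have := chainSub_lt R M q hq n hmem
  exact this.ne (hn (n + 1) (Nat.le_succ n))

include hq in
theorem exists_good_sequence :
    ∃ (l : ℕ) (x : Fin l → M), q ∉ Module.support R (M ⧸ Submodule.span R (Set.range x)) ∧
      ∀ i : Fin l, Nonempty ((↥(CycDet.spanBefore R M x (i + 1)) ⧸
        (CycDet.spanBefore R M x i).submoduleOf (CycDet.spanBefore R M x (i + 1))) ≃ₗ[R]
          (R ⧸ q.asIdeal)) := by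
  classical
  have hex := exists_notMem_support_chainSub R M q hq
  refine ⟨Nat.find hex, fun j => chainElt R M q j, ?_, ?_⟩
  · rw [span_range_chainElt]
    exact Nat.find_spec hex
  · intro i
    have hi : q ∈ Module.support R (M ⧸ chainSub R M q i) := by
      by_contra h
      exact Nat.find_min hex i.2 h
    rw [spanBefore_chainElt R M q _ (i + 1) i.2, spanBefore_chainElt R M q _ i i.2.le,
      chainSub_succ]
    have hc := chainElt_colon R M q hq i hi
    refine ⟨(quotSubmoduleOfEquivMap _ _).trans ((LinearEquiv.ofEq _ _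
      (map_mkQ_sup_span_singleton _ _)).trans (spanSingletonEquivQuot _ _ hc))⟩

end Exists

section Count
variable (R : Type u) [CommRing R] (M : Type u) [AddCommGroup M] [Module R M]
  (q : PrimeSpectrum R)

theorem spanBefore_mono {l : ℕ} (x : Fin l → M) {i j : ℕ} (hij : i ≤ j) :
    CycDet.spanBefore R M x i ≤ CycDet.spanBefore R M x j := by
  apply Submodule.span_mono
  apply Set.image_mono
  intro k hk
  exact lt_of_lt_of_le hk hij

theorem length_step (A B : Submodule R M) (hAB : A ≤ B)
    (e : (B ⧸ A.submoduleOf B) ≃ₗ[R] (R ⧸ q.asIdeal)) :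
    Module.length (Localization q.asIdeal.primeCompl) (LocalizedModule q.asIdeal.primeCompl B) =
      Module.length (Localization q.asIdeal.primeCompl) (LocalizedModule q.asIdeal.primeCompl A)
        + 1 := by
  haveI := q.2
  rw [length_localizedModule_eq_add q.asIdeal.primeCompl (Submodule.inclusion hAB)
    (A.submoduleOf B).mkQ (Submodule.inclusion_injective hAB) (Submodule.mkQ_surjective _) (by
      intro b
      rw [Submodule.mkQ_apply, Submodule.Quotient.mk_eq_zero]
      constructor
      · intro hb
        exact ⟨⟨b.1, hb⟩, rfl⟩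
      · rintro ⟨a, rfl⟩
        exact a.2),
    length_localizedModule_congr q.asIdeal.primeCompl e, length_localizedModule_quotient]

theorem length_spanBefore {l : ℕ} (x : Fin l → M)
    (h : ∀ i : Fin l, Nonempty ((↥(CycDet.spanBefore R M x (i + 1)) ⧸
        (CycDet.spanBefore R M x i).submoduleOf (CycDet.spanBefore R M x (i + 1))) ≃ₗ[R]
          (R ⧸ q.asIdeal))) (k : ℕ) (hk : k ≤ l) :
    Module.length (Localization q.asIdeal.primeCompl)
      (LocalizedModule q.asIdeal.primeCompl (CycDet.spanBefore R M x k)) = k := by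
  induction k with
  | zero =>
    have h0 : CycDet.spanBefore R M x 0 = ⊥ := by
      rw [CycDet.spanBefore]
      have : {j : Fin l | (j : ℕ) < 0} = ∅ := by
        ext j
        simp
      rw [this, Set.image_empty, Submodule.span_empty]
    rw [h0]
    haveI : Subsingleton (⊥ : Submodule R M) := inferInstance
    rw [length_localizedModule_of_subsingleton]
    rfl
  | succ k ih =>
    obtain ⟨e⟩ := h ⟨k, hk⟩
    rw [length_step R M q _ _ (spanBefore_mono R M x (Nat.le_succ k)) e, ih (Nat.le_of_succ_le hk)]
    rfl

theorem length_localizedModule_eq_of_notMem_support (N : Submodule R M)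
    (hN : q ∉ Module.support R (M ⧸ N)) :
    Module.length (Localization q.asIdeal.primeCompl) (LocalizedModule q.asIdeal.primeCompl M) =
      Module.length (Localization q.asIdeal.primeCompl)
        (LocalizedModule q.asIdeal.primeCompl N) := by
  rw [Module.mem_support_iff, not_nontrivial_iff_subsingleton] at hN
  rw [length_localizedModule_eq_add q.asIdeal.primeCompl N.subtype N.mkQ
    (Submodule.subtype_injective _) (Submodule.mkQ_surjective _) (LinearMap.exact_subtype_mkQ N),
    Module.length_eq_zero_iff.2 hN, add_zero]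

theorem count_good_sequence (l : ℕ) (x : Fin l → M)
    (hx : q ∉ Module.support R (M ⧸ Submodule.span R (Set.range x)))
    (h : ∀ i : Fin l, Nonempty ((↥(CycDet.spanBefore R M x (i + 1)) ⧸
        (CycDet.spanBefore R M x i).submoduleOf (CycDet.spanBefore R M x (i + 1))) ≃ₗ[R]
          (R ⧸ q.asIdeal))) :
    (l : ℕ∞) = Module.length (Localization.AtPrime q.asIdeal)
      (LocalizedModule q.asIdeal.primeCompl M) := by
  have hspan : Submodule.span R (Set.range x) = CycDet.spanBefore R M x l := by
    rw [CycDet.spanBefore]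
    congr 1
    ext m
    constructor
    · rintro ⟨j, rfl⟩
      exact ⟨j, j.2, rfl⟩
    · rintro ⟨j, -, rfl⟩
      exact ⟨j, rfl⟩
  rw [hspan] at hx
  have h1 := length_localizedModule_eq_of_notMem_support R M q _ hx
  have h2 := length_spanBefore R M q x h l le_rfl
  exact (h1.trans h2).symm

end Count

end Groth.Agent.H10
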