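import Mathlib.RingTheory.Henselian
import Mathlib.Dynamics.Newton
import Mathlib.RingTheory.Jacobson.Ideal
import Mathlib.RingTheory.Nilpotent.Lemmas

set_option autoImplicit false

namespace Groth.Agent.H10

open Polynomial

theorem radical_le_jacobson_bot {R : Type*} [CommRing R] {I : Ideal R}
    (h : I ≤ Ideal.jacobson ⊥) : I.radical ≤ Ideal.jacobson ⊥ := by
  calc I.radical ≤ I.jacobson := Ideal.radical_le_jacobson
    _ ≤ (Ideal.jacobson ⊥).jacobson := Ideal.jacobson_mono h
    _ = Ideal.jacobson ⊥ := Ideal.jacobson_idem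

theorem isUnit_add_of_mem_jacobson_bot {R : Type*} [CommRing R] {w j : R} (hw : IsUnit w)
    (hj : j ∈ Ideal.jacobson (⊥ : Ideal R)) : IsUnit (w + j) := by
  obtain ⟨w, rfl⟩ := hw
  have h := Ideal.mem_jacobson_bot.mp hj (↑w⁻¹ : R)
  have : (w : R) + j = w * (j * ↑w⁻¹ + 1) := by
    rw [mul_add, mul_one, mul_comm j, ← mul_assoc, Units.mul_inv, one_mul, add_comm]
  rw [this]
  exact w.isUnit.mul h

theorem isUnit_mk_of_isUnit_mk_radical {R : Type*} [CommRing R] (I : Ideal R) (x : R)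
    (h : IsUnit (Ideal.Quotient.mk I.radical x)) : IsUnit (Ideal.Quotient.mk I x) := by
  rw [isUnit_iff_exists_inv] at h
  obtain ⟨b, hb⟩ := h
  obtain ⟨v, rfl⟩ := Ideal.Quotient.mk_surjective b
  rw [← map_mul, ← map_one (Ideal.Quotient.mk I.radical), Ideal.Quotient.eq] at hb
  -- x * v - 1 ∈ rad I so its image in R/I is nilpotent
  have hn : IsNilpotent (Ideal.Quotient.mk I (x * v - 1)) := by
    obtain ⟨n, hn⟩ := hb
    exact ⟨n, by rw [← map_pow, Ideal.Quotient.eq_zero_iff_mem]; exact hn⟩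
  have hu : IsUnit (Ideal.Quotient.mk I (x * v)) := by
    have : Ideal.Quotient.mk I (x * v) = Ideal.Quotient.mk I (x * v - 1) + 1 := by
      rw [map_sub, map_one, sub_add_cancel]
    rw [this]
    exact hn.isUnit_add_one
  rw [map_mul] at hu
  exact isUnit_of_mul_isUnit_left hu

theorem henselianRing_radical {R : Type*} [CommRing R] (I : Ideal R) [h : HenselianRing R I] :
    HenselianRing R I.radical := by
  refine ⟨radical_le_jacobson_bot h.jac, ?_⟩
  intro f hf a₀ h₁ h₂
  -- work in the quotient by I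
  set x : R ⧸ I := Ideal.Quotient.mk I a₀ with hx
  have hmk : ∀ (g : R[X]) (a : R), aeval (Ideal.Quotient.mk I a) g = Ideal.Quotient.mk I (g.eval a) := by
    intro g a
    rw [← Ideal.Quotient.algebraMap_eq, aeval_algebraMap_apply_eq_algebraMap_eval]
  have hnil : IsNilpotent (aeval x f) := by
    rw [hx, hmk]
    obtain ⟨n, hn⟩ := h₁
    exact ⟨n, by rw [← map_pow, Ideal.Quotient.eq_zero_iff_mem]; exact hn⟩
  have hunit : IsUnit (aeval x (derivative f)) := by
    rw [hx, hmk]
    exact isUnit_mk_of_isUnit_mk_radical I _ h₂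
  obtain ⟨r, ⟨hr₁, hr₂⟩, -⟩ := existsUnique_nilpotent_sub_and_aeval_eq_zero hnil hunit
  obtain ⟨a₁, rfl⟩ := Ideal.Quotient.mk_surjective r
  have h₁' : f.eval a₁ ∈ I := by
    rw [hmk, Ideal.Quotient.eq_zero_iff_mem] at hr₂
    exact hr₂
  have h₂' : IsUnit (Ideal.Quotient.mk I (f.derivative.eval a₁)) := by
    rw [← hmk]
    refine isUnit_aeval_of_isUnit_aeval_of_isNilpotent_sub hunit ?_
    rw [← neg_sub, isNilpotent_neg_iff]
    exact hr₁
  obtain ⟨a, ha, haa⟩ := h.is_henselian f hf a₁ h₁' h₂'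
  refine ⟨a, ha, ?_⟩
  have h3 : a₀ - a₁ ∈ I.radical := by
    rw [hx, ← map_sub] at hr₁
    obtain ⟨n, hn⟩ := hr₁
    rw [← map_pow, Ideal.Quotient.eq_zero_iff_mem] at hn
    exact ⟨n, hn⟩
  have : a - a₀ = (a - a₁) - (a₀ - a₁) := by ring
  rw [this]
  exact Ideal.sub_mem _ (Ideal.le_radical haa) h3

theorem henselianRing_of_radical {R : Type*} [CommRing R] (I : Ideal R)
    [h : HenselianRing R I.radical] : HenselianRing R I := by
  have hjac : I ≤ Ideal.jacobson ⊥ := Ideal.le_radical.trans h.jac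
  refine ⟨hjac, ?_⟩
  intro f hf a₀ h₁ h₂
  have h₂' : IsUnit (Ideal.Quotient.mk I.radical (f.derivative.eval a₀)) := by
    have := h₂.map (Ideal.Quotient.factor (Ideal.le_radical (I := I)))
    simpa using this
  obtain ⟨a, ha, haa⟩ := h.is_henselian f hf a₀ (Ideal.le_radical h₁) h₂'
  refine ⟨a, ha, ?_⟩
  obtain ⟨u, hu⟩ := binomExpansion f a₀ (a - a₀)
  rw [add_sub_cancel, ha] at hu
  have hunit₀ : IsUnit (f.derivative.eval a₀) := by
    have := isLocalHom_of_le_jacobson_bot I hjac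
    exact isUnit_of_map_unit (Ideal.Quotient.mk I) _ h₂
  have hunit : IsUnit (f.derivative.eval a₀ + u * (a - a₀)) :=
    isUnit_add_of_mem_jacobson_bot hunit₀ (h.jac (Ideal.mul_mem_left _ _ haa))
  have hmem : (a - a₀) * (f.derivative.eval a₀ + u * (a - a₀)) ∈ I := by
    have : (a - a₀) * (f.derivative.eval a₀ + u * (a - a₀)) = - f.eval a₀ := by
      linear_combination -hu
    rw [this]
    exact I.neg_mem h₁
  obtain ⟨w, hw⟩ := hunit
  rw [← hw] at hmem
  have := I.mul_mem_right (↑w⁻¹ : R) hmem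
  rwa [mul_assoc, Units.mul_inv, mul_one] at this

theorem henselianRing_radical_iff {R : Type*} [CommRing R] (I : Ideal R) :
    HenselianRing R I.radical ↔ HenselianRing R I :=
  ⟨fun _ => henselianRing_of_radical I, fun _ => henselianRing_radical I⟩

theorem henselianRing_of_radical_eq {R : Type*} [CommRing R] {I J : Ideal R}
    (hIJ : I.radical = J.radical) (h : HenselianRing R I) : HenselianRing R J := by
  rw [← henselianRing_radical_iff] at h ⊢
  rwa [← hIJ]

end Groth.Agent.H10
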