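import Mathlib

set_option autoImplicit false

/-!
# Henselian local rings and square-zero extensions
-/

namespace Groth.Agent.H10

open Polynomial

/-- A surjective ring map with square-zero kernel reflects units. -/
theorem isLocalHom_of_surjective_of_sq_zero {R' S : Type*} [CommRing R'] [CommRing S]
    (π : R' →+* S) (hπ : Function.Surjective π)
    (hK : ∀ x y, π x = 0 → π y = 0 → x * y = 0) : IsLocalHom π := by
  refine ⟨fun x hx => ?_⟩
  obtain ⟨s', hs'⟩ := isUnit_iff_exists_inv.1 hx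
  obtain ⟨y, rfl⟩ := hπ s'
  have hk : π (x * y - 1) = 0 := by rw [map_sub, map_mul, hs', map_one, sub_self]
  have hkk := hK _ _ hk hk
  refine isUnit_iff_exists_inv.2 ⟨y * (1 - (x * y - 1)), ?_⟩
  linear_combination (-1 : R') * hkk

/-- A ring mapping onto a henselian local ring with square-zero kernel is henselian local. -/
theorem henselianLocalRing_of_surjective_of_sq_zero {R' S : Type*} [CommRing R'] [CommRing S]
    [HenselianLocalRing S] (π : R' →+* S) (hπ : Function.Surjective π)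
    (hK : ∀ x y, π x = 0 → π y = 0 → x * y = 0) : HenselianLocalRing R' := by
  haveI := isLocalHom_of_surjective_of_sq_zero π hπ hK
  haveI : IsLocalRing R' := RingHom.domain_isLocalRing π
  have hmem : ∀ x : R', π x ∈ IsLocalRing.maximalIdeal S → x ∈ IsLocalRing.maximalIdeal R' := by
    intro x hx hu
    exact hx (hu.map π)
  have hmem' : ∀ x : R', x ∈ IsLocalRing.maximalIdeal R' → π x ∈ IsLocalRing.maximalIdeal S := by
    intro x hx hu
    exact hx (isUnit_of_map_unit π x hu)
  refine ⟨fun f hf a₀ h₁ h₂ => ?_⟩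
  -- solve in S
  have h₁' : (f.map π).eval (π a₀) ∈ IsLocalRing.maximalIdeal S := by
    rw [Polynomial.eval_map, Polynomial.eval₂_at_apply]
    exact hmem' _ h₁
  have h₂' : IsUnit ((f.map π).derivative.eval (π a₀)) := by
    rw [Polynomial.derivative_map, Polynomial.eval_map, Polynomial.eval₂_at_apply]
    exact h₂.map π
  obtain ⟨b, hb, hb0⟩ := HenselianLocalRing.is_henselian (f.map π) (hf.map π) (π a₀) h₁' h₂'
  obtain ⟨a₁, rfl⟩ := hπ b
  have ha₁ : a₁ - a₀ ∈ IsLocalRing.maximalIdeal R' := hmem _ (by rw [map_sub]; exact hb0)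
  have hfa₁ : π (f.eval a₁) = 0 := by
    rw [← Polynomial.eval₂_at_apply, ← Polynomial.eval_map]
    exact hb
  -- derivative at a₁ is a unit
  have hu : IsUnit (f.derivative.eval a₁) := by
    have hdvd : a₁ - a₀ ∣ f.derivative.eval a₁ - f.derivative.eval a₀ :=
      Polynomial.sub_dvd_eval_sub a₁ a₀ f.derivative
    obtain ⟨c, hc⟩ := hdvd
    have : f.derivative.eval a₁ = f.derivative.eval a₀ + (a₁ - a₀) * c := by
      linear_combination hc
    rw [this]
    by_contra hnu
    have h3 : f.derivative.eval a₀ + (a₁ - a₀) * c ∈ IsLocalRing.maximalIdeal R' := hnu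
    have h4 : (a₁ - a₀) * c ∈ IsLocalRing.maximalIdeal R' := Ideal.mul_mem_right _ _ ha₁
    have h5 := (Ideal.add_mem_iff_left _ h4).1 h3
    exact h5 h₂
  obtain ⟨u, hu⟩ := hu
  obtain ⟨k, hk⟩ := Polynomial.binomExpansion f a₁ (- (f.eval a₁ * ↑u⁻¹))
  have hy : π (- (f.eval a₁ * ↑u⁻¹)) = 0 := by
    rw [map_neg, map_mul, hfa₁, zero_mul, neg_zero]
  have hyy := hK _ _ hy hy
  refine ⟨a₁ + - (f.eval a₁ * ↑u⁻¹), ?_, ?_⟩
  · rw [Polynomial.IsRoot.def, hk, ← hu, sq, hyy]
    have h6 : (u : R') * ↑u⁻¹ = 1 := Units.mul_inv u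
    linear_combination (- f.eval a₁) * h6
  · have h7 : - (f.eval a₁ * ↑u⁻¹) ∈ IsLocalRing.maximalIdeal R' := hmem _ (by rw [hy]; exact zero_mem _)
    have : a₁ + -(f.eval a₁ * ↑u⁻¹) - a₀ = (a₁ - a₀) + -(f.eval a₁ * ↑u⁻¹) := by ring
    rw [this]
    exact Ideal.add_mem _ ha₁ h7

end Groth.Agent.H10
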