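import Mathlib
import Groth.Prelude.Def_CycAlg

set_option autoImplicit false
set_option linter.style.haveILetI false
universe u v
namespace Groth.Agent.H10

open CycAlg

section Len
variable {R : Type u} [CommRing R] {X Y : Type*} [AddCommGroup X] [Module R X] [AddCommGroup Y]
  [Module R Y]

theorem length_eq_ker_add_range (a : X →ₗ[R] Y) :
    Module.length R X = Module.length R (LinearMap.ker a) + Module.length R (LinearMap.range a) :=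
  Module.length_eq_add_of_exact (LinearMap.ker a).subtype a.rangeRestrict
    (Submodule.subtype_injective _) (LinearMap.surjective_rangeRestrict a) (by
      intro x
      constructor
      · intro hx
        exact ⟨⟨x, by
          have := congrArg Subtype.val hx
          simpa using this⟩, rfl⟩
      · rintro ⟨y, rfl⟩
        apply Subtype.ext
        simp)

theorem length_eq_range_add_coker (a : X →ₗ[R] Y) :
    Module.length R Y = Module.length R (LinearMap.range a) +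
      Module.length R (Y ⧸ LinearMap.range a) :=
  Module.length_eq_add_of_exact (LinearMap.range a).subtype (LinearMap.range a).mkQ
    (Submodule.subtype_injective _) (Submodule.mkQ_surjective _)
    (LinearMap.exact_subtype_mkQ _)

end Len

section Map
variable {R : Type u} [CommRing R]
variable {M N M' N' : Type v} [AddCommGroup M] [Module R M] [AddCommGroup N] [Module R N]
  [AddCommGroup M'] [Module R M'] [AddCommGroup N'] [Module R N']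

/-- the map induced on `perH` by a morphism of periodic complexes. -/
def perHMap (φ : M →ₗ[R] N) (ψ : N →ₗ[R] M) (φ' : M' →ₗ[R] N') (ψ' : N' →ₗ[R] M')
    (f : M →ₗ[R] M') (g : N →ₗ[R] N') (cφ : φ' ∘ₗ f = g ∘ₗ φ) (cψ : ψ' ∘ₗ g = f ∘ₗ ψ) :
    perH φ ψ →ₗ[R] perH φ' ψ' :=
  Submodule.mapQ _ _ (f.restrict (p := LinearMap.ker φ) (q := LinearMap.ker φ') (fun x hx => by
    rw [LinearMap.mem_ker] at hx ⊢
    have := LinearMap.congr_fun cφ x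
    simp only [LinearMap.comp_apply] at this
    rw [this, hx, map_zero])) (by
    rintro ⟨x, hx⟩ hx'
    rw [Submodule.mem_comap]
    change f x ∈ LinearMap.range ψ'
    obtain ⟨n, hn⟩ : x ∈ LinearMap.range ψ := hx'
    refine ⟨g n, ?_⟩
    have := LinearMap.congr_fun cψ n
    simp only [LinearMap.comp_apply] at this
    rw [this, hn])

theorem perHMap_mk (φ : M →ₗ[R] N) (ψ : N →ₗ[R] M) (φ' : M' →ₗ[R] N') (ψ' : N' →ₗ[R] M')
    (f : M →ₗ[R] M') (g : N →ₗ[R] N') (cφ : φ' ∘ₗ f = g ∘ₗ φ) (cψ : ψ' ∘ₗ g = f ∘ₗ ψ)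
    (x : LinearMap.ker φ) :
    ((perHMap φ ψ φ' ψ' f g cφ cψ (Submodule.Quotient.mk x) : perH φ' ψ') =
      Submodule.Quotient.mk ⟨f x.1, by
        have hx := x.2
        rw [LinearMap.mem_ker] at hx ⊢
        have := LinearMap.congr_fun cφ x.1
        simp only [LinearMap.comp_apply] at this
        rw [this, hx, map_zero]⟩) := rfl

theorem perH_mk_eq_zero_iff (φ : M →ₗ[R] N) (ψ : N →ₗ[R] M) (x : LinearMap.ker φ) :
    (Submodule.Quotient.mk x : perH φ ψ) = 0 ↔ (x : M) ∈ LinearMap.range ψ := by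
  rw [Submodule.Quotient.mk_eq_zero]
  rfl

end Map

section SES
variable (R : Type u) [CommRing R]
variable (M₁ N₁ M₂ N₂ M₃ N₃ : Type v) [AddCommGroup M₁] [Module R M₁] [AddCommGroup N₁] [Module R N₁]
  [AddCommGroup M₂] [Module R M₂] [AddCommGroup N₂] [Module R N₂] [AddCommGroup M₃] [Module R M₃]
  [AddCommGroup N₃] [Module R N₃]

/-- a short exact sequence of 2-periodic complexes. -/
structure PerSES where
  φ₁ : M₁ →ₗ[R] N₁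
  ψ₁ : N₁ →ₗ[R] M₁
  φ₂ : M₂ →ₗ[R] N₂
  ψ₂ : N₂ →ₗ[R] M₂
  φ₃ : M₃ →ₗ[R] N₃
  ψ₃ : N₃ →ₗ[R] M₃
  f₁ : M₁ →ₗ[R] M₂
  g₁ : N₁ →ₗ[R] N₂
  f₂ : M₂ →ₗ[R] M₃
  g₂ : N₂ →ₗ[R] N₃
  h₁ : IsPeriodic φ₁ ψ₁
  h₂ : IsPeriodic φ₂ ψ₂
  h₃ : IsPeriodic φ₃ ψ₃
  cφ₁ : φ₂ ∘ₗ f₁ = g₁ ∘ₗ φ₁
  cψ₁ : ψ₂ ∘ₗ g₁ = f₁ ∘ₗ ψ₁
  cφ₂ : φ₃ ∘ₗ f₂ = g₂ ∘ₗ φ₂
  cψ₂ : ψ₃ ∘ₗ g₂ = f₂ ∘ₗ ψ₂
  hf₁ : Function.Injective f₁
  hg₁ : Function.Injective g₁
  hf₂ : Function.Surjective f₂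
  hg₂ : Function.Surjective g₂
  hM : LinearMap.range f₁ = LinearMap.ker f₂
  hN : LinearMap.range g₁ = LinearMap.ker g₂

variable {R M₁ N₁ M₂ N₂ M₃ N₃}

/-- swapping the roles of the two terms. -/
def PerSES.swap (S : PerSES R M₁ N₁ M₂ N₂ M₃ N₃) : PerSES R N₁ M₁ N₂ M₂ N₃ M₃ where
  φ₁ := S.ψ₁
  ψ₁ := S.φ₁
  φ₂ := S.ψ₂
  ψ₂ := S.φ₂
  φ₃ := S.ψ₃
  ψ₃ := S.φ₃
  f₁ := S.g₁
  g₁ := S.f₁
  f₂ := S.g₂
  g₂ := S.f₂
  h₁ := ⟨S.h₁.2, S.h₁.1⟩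
  h₂ := ⟨S.h₂.2, S.h₂.1⟩
  h₃ := ⟨S.h₃.2, S.h₃.1⟩
  cφ₁ := S.cψ₁
  cψ₁ := S.cφ₁
  cφ₂ := S.cψ₂
  cψ₂ := S.cφ₂
  hf₁ := S.hg₁
  hg₁ := S.hf₁
  hf₂ := S.hg₂
  hg₂ := S.hf₂
  hM := S.hN
  hN := S.hM

variable (S : PerSES R M₁ N₁ M₂ N₂ M₃ N₃)

/-- `H⁰₁ → H⁰₂`. -/
def PerSES.a₁ : perH S.φ₁ S.ψ₁ →ₗ[R] perH S.φ₂ S.ψ₂ :=
  perHMap S.φ₁ S.ψ₁ S.φ₂ S.ψ₂ S.f₁ S.g₁ S.cφ₁ S.cψ₁

/-- `H⁰₂ → H⁰₃`. -/
def PerSES.a₂ : perH S.φ₂ S.ψ₂ →ₗ[R] perH S.φ₃ S.ψ₃ :=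
  perHMap S.φ₂ S.ψ₂ S.φ₃ S.ψ₃ S.f₂ S.g₂ S.cφ₂ S.cψ₂

/-- `H¹₁ → H¹₂`. -/
def PerSES.b₁ : perH S.ψ₁ S.φ₁ →ₗ[R] perH S.ψ₂ S.φ₂ :=
  perHMap S.ψ₁ S.φ₁ S.ψ₂ S.φ₂ S.g₁ S.f₁ S.cψ₁ S.cφ₁

/-- `H¹₂ → H¹₃`. -/
def PerSES.b₂ : perH S.ψ₂ S.φ₂ →ₗ[R] perH S.ψ₃ S.φ₃ :=
  perHMap S.ψ₂ S.φ₂ S.ψ₃ S.φ₃ S.g₂ S.f₂ S.cψ₂ S.cφ₂

theorem PerSES.swap_a₁ : S.swap.a₁ = S.b₁ := rfl
theorem PerSES.swap_a₂ : S.swap.a₂ = S.b₂ := rfl
theorem PerSES.swap_b₁ : S.swap.b₁ = S.a₁ := rfl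
theorem PerSES.swap_b₂ : S.swap.b₂ = S.a₂ := rfl

/-- exactness at `H⁰₂`. -/
theorem PerSES.ker_a₂ : LinearMap.ker S.a₂ = LinearMap.range S.a₁ := by
  apply le_antisymm
  · intro c hc
    obtain ⟨⟨m₂, hm₂⟩, rfl⟩ := Submodule.Quotient.mk_surjective _ c
    rw [LinearMap.mem_ker, PerSES.a₂, perHMap_mk, perH_mk_eq_zero_iff] at hc
    obtain ⟨n₃, hn₃⟩ := hc
    obtain ⟨n₂, rfl⟩ := S.hg₂ n₃
    have h1 : S.f₂ (m₂ - S.ψ₂ n₂) = 0 := by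
      have := LinearMap.congr_fun S.cψ₂ n₂
      simp only [LinearMap.comp_apply] at this
      rw [map_sub, ← this, hn₃, sub_self]
    have h2 : m₂ - S.ψ₂ n₂ ∈ LinearMap.range S.f₁ := by
      rw [S.hM]
      exact h1
    obtain ⟨m₁, hm₁⟩ := h2
    have hφ₁ : S.φ₁ m₁ = 0 := by
      apply S.hg₁
      have := LinearMap.congr_fun S.cφ₁ m₁
      simp only [LinearMap.comp_apply] at this
      rw [← this, hm₁, map_sub, map_zero]
      have h3 := LinearMap.congr_fun S.h₂.1 n₂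
      simp only [LinearMap.comp_apply, LinearMap.zero_apply] at h3
      rw [LinearMap.mem_ker] at hm₂
      rw [hm₂, h3, sub_zero]
    refine ⟨Submodule.Quotient.mk ⟨m₁, hφ₁⟩, ?_⟩
    rw [PerSES.a₁, perHMap_mk, ← sub_eq_zero, ← Submodule.Quotient.mk_sub,
      perH_mk_eq_zero_iff]
    refine ⟨-n₂, ?_⟩
    change S.ψ₂ (-n₂) = S.f₁ m₁ - m₂
    rw [hm₁, map_neg]
    abel
  · rintro _ ⟨c, rfl⟩
    obtain ⟨⟨m₁, hm₁⟩, rfl⟩ := Submodule.Quotient.mk_surjective _ c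
    rw [LinearMap.mem_ker, PerSES.a₁, perHMap_mk, PerSES.a₂, perHMap_mk, perH_mk_eq_zero_iff]
    refine ⟨0, ?_⟩
    rw [map_zero]
    have : S.f₁ m₁ ∈ LinearMap.ker S.f₂ := by
      rw [← S.hM]
      exact ⟨m₁, rfl⟩
    exact this.symm

end SES

section Delta
variable {R : Type u} [CommRing R]
variable {M₁ N₁ M₂ N₂ M₃ N₃ : Type v} [AddCommGroup M₁] [Module R M₁] [AddCommGroup N₁] [Module R N₁]
  [AddCommGroup M₂] [Module R M₂] [AddCommGroup N₂] [Module R N₂] [AddCommGroup M₃] [Module R M₃]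
  [AddCommGroup N₃] [Module R N₃]
variable (S : PerSES R M₁ N₁ M₂ N₂ M₃ N₃)

/-- the module of "pre-cycles" used to define the connecting map. -/
def PerSES.Z : Submodule R M₂ := Submodule.comap S.φ₂ (LinearMap.range S.g₁)

/-- `Z → ker φ₃`. -/
def PerSES.Zto3 : S.Z →ₗ[R] LinearMap.ker S.φ₃ :=
  (S.f₂.domRestrict S.Z).codRestrict (LinearMap.ker S.φ₃) (fun m => by
    obtain ⟨n₁, hn₁⟩ : S.φ₂ m.1 ∈ LinearMap.range S.g₁ := m.2
    rw [LinearMap.mem_ker, LinearMap.domRestrict_apply]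
    have := LinearMap.congr_fun S.cφ₂ m.1
    simp only [LinearMap.comp_apply] at this
    rw [this, ← hn₁]
    have h : S.g₁ n₁ ∈ LinearMap.ker S.g₂ := by
      rw [← S.hN]
      exact ⟨n₁, rfl⟩
    exact h)

/-- `Z → coker a₂`. -/
def PerSES.α : S.Z →ₗ[R] (perH S.φ₃ S.ψ₃ ⧸ LinearMap.range S.a₂) :=
  (LinearMap.range S.a₂).mkQ ∘ₗ
    ((LinearMap.range S.ψ₃).submoduleOf (LinearMap.ker S.φ₃)).mkQ ∘ₗ S.Zto3

/-- `Z → N₁`, `m₂ ↦ g₁⁻¹ (φ₂ m₂)`. -/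
noncomputable def PerSES.γ : S.Z →ₗ[R] N₁ :=
  (LinearEquiv.ofInjective S.g₁ S.hg₁).symm.toLinearMap ∘ₗ
    (S.φ₂.domRestrict S.Z).codRestrict (LinearMap.range S.g₁) (fun m => m.2)

theorem PerSES.g₁_γ (m : S.Z) : S.g₁ (S.γ m) = S.φ₂ m.1 := by
  have := (LinearEquiv.ofInjective S.g₁ S.hg₁).apply_symm_apply
    ((S.φ₂.domRestrict S.Z).codRestrict (LinearMap.range S.g₁) (fun m => m.2) m)
  exact congrArg Subtype.val this

/-- `Z → ker ψ₁`. -/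
noncomputable def PerSES.Zto1 : S.Z →ₗ[R] LinearMap.ker S.ψ₁ :=
  S.γ.codRestrict (LinearMap.ker S.ψ₁) (fun m => by
    rw [LinearMap.mem_ker]
    apply S.hf₁
    have := LinearMap.congr_fun S.cψ₁ (S.γ m)
    simp only [LinearMap.comp_apply] at this
    rw [← this, S.g₁_γ, map_zero]
    have h := LinearMap.congr_fun S.h₂.2 m.1
    simpa using h)

/-- `Z → H¹₁`. -/
noncomputable def PerSES.β₀ : S.Z →ₗ[R] perH S.ψ₁ S.φ₁ :=
  ((LinearMap.range S.φ₁).submoduleOf (LinearMap.ker S.ψ₁)).mkQ ∘ₗ S.Zto1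

theorem PerSES.β₀_mem (m : S.Z) : S.β₀ m ∈ LinearMap.ker S.b₁ := by
  rw [LinearMap.mem_ker]
  change S.b₁ (Submodule.Quotient.mk (S.Zto1 m)) = 0
  rw [PerSES.b₁, perHMap_mk, perH_mk_eq_zero_iff]
  exact ⟨m.1, (S.g₁_γ m).symm⟩

/-- `Z → ker b₁`. -/
noncomputable def PerSES.β : S.Z →ₗ[R] LinearMap.ker S.b₁ :=
  S.β₀.codRestrict (LinearMap.ker S.b₁) S.β₀_mem

theorem PerSES.α_surjective : Function.Surjective S.α := by
  intro c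
  obtain ⟨c', rfl⟩ := Submodule.Quotient.mk_surjective _ c
  obtain ⟨⟨m₃, hm₃⟩, rfl⟩ := Submodule.Quotient.mk_surjective _ c'
  obtain ⟨m₂, rfl⟩ := S.hf₂ m₃
  have hZ : m₂ ∈ S.Z := by
    change S.φ₂ m₂ ∈ LinearMap.range S.g₁
    rw [S.hN, LinearMap.mem_ker]
    have := LinearMap.congr_fun S.cφ₂ m₂
    simp only [LinearMap.comp_apply] at this
    rw [← this]
    exact hm₃
  exact ⟨⟨m₂, hZ⟩, rfl⟩

theorem PerSES.β_surjective : Function.Surjective S.β := by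
  rintro ⟨c, hc⟩
  obtain ⟨⟨n₁, hn₁⟩, rfl⟩ := Submodule.Quotient.mk_surjective _ c
  rw [LinearMap.mem_ker, PerSES.b₁, perHMap_mk, perH_mk_eq_zero_iff] at hc
  obtain ⟨m₂, hm₂⟩ := hc
  have hZ : m₂ ∈ S.Z := ⟨n₁, hm₂.symm⟩
  refine ⟨⟨m₂, hZ⟩, ?_⟩
  apply Subtype.ext
  change Submodule.Quotient.mk (S.Zto1 ⟨m₂, hZ⟩) = Submodule.Quotient.mk ⟨n₁, hn₁⟩
  congr 1
  apply Subtype.ext
  apply S.hg₁
  change S.g₁ (S.γ ⟨m₂, hZ⟩) = S.g₁ n₁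
  rw [S.g₁_γ]
  exact hm₂

theorem PerSES.mem_ker_α_iff (m : S.Z) :
    m ∈ LinearMap.ker S.α ↔ ∃ (m₁ : M₁) (m₂' : M₂), S.φ₂ m₂' = 0 ∧ m.1 = m₂' + S.f₁ m₁ := by
  rw [LinearMap.mem_ker]
  change Submodule.Quotient.mk (Submodule.Quotient.mk (S.Zto3 m)) = 0 ↔ _
  rw [Submodule.Quotient.mk_eq_zero]
  constructor
  · rintro ⟨c, hc⟩
    obtain ⟨⟨m₂', hm₂'⟩, rfl⟩ := Submodule.Quotient.mk_surjective _ c
    rw [PerSES.a₂, perHMap_mk, ← sub_eq_zero, ← Submodule.Quotient.mk_sub,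
      perH_mk_eq_zero_iff] at hc
    obtain ⟨n₃, hn₃⟩ := hc
    obtain ⟨n₂, rfl⟩ := S.hg₂ n₃
    have h1 : S.f₂ (m₂' - m.1 - S.ψ₂ n₂) = 0 := by
      have := LinearMap.congr_fun S.cψ₂ n₂
      simp only [LinearMap.comp_apply] at this
      rw [map_sub, ← this, hn₃]
      change S.f₂ (m₂' - m.1) - (S.f₂ m₂' - S.f₂ m.1) = 0
      rw [map_sub, sub_self]
    have h2 : m₂' - m.1 - S.ψ₂ n₂ ∈ LinearMap.range S.f₁ := by
      rw [S.hM]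
      exact h1
    obtain ⟨m₁, hm₁⟩ := h2
    refine ⟨-m₁, m₂' - S.ψ₂ n₂, ?_, ?_⟩
    · rw [map_sub]
      have h3 := LinearMap.congr_fun S.h₂.1 n₂
      simp only [LinearMap.comp_apply, LinearMap.zero_apply] at h3
      rw [LinearMap.mem_ker] at hm₂'
      rw [hm₂', h3, sub_zero]
    · rw [map_neg, hm₁]
      abel
  · rintro ⟨m₁, m₂', hm₂', hm⟩
    refine ⟨Submodule.Quotient.mk ⟨m₂', hm₂'⟩, ?_⟩
    rw [PerSES.a₂, perHMap_mk, ← sub_eq_zero, ← Submodule.Quotient.mk_sub,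
      perH_mk_eq_zero_iff]
    refine ⟨0, ?_⟩
    rw [map_zero]
    change 0 = S.f₂ m₂' - S.f₂ m.1
    rw [hm, map_add]
    have : S.f₁ m₁ ∈ LinearMap.ker S.f₂ := by
      rw [← S.hM]
      exact ⟨m₁, rfl⟩
    rw [LinearMap.mem_ker] at this
    rw [this]
    abel

theorem PerSES.mem_ker_β_iff (m : S.Z) :
    m ∈ LinearMap.ker S.β ↔ ∃ (m₁ : M₁) (m₂' : M₂), S.φ₂ m₂' = 0 ∧ m.1 = m₂' + S.f₁ m₁ := by
  rw [LinearMap.mem_ker]
  have h0 : S.β m = 0 ↔ S.β₀ m = 0 := by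
    constructor
    · intro h
      exact congrArg Subtype.val h
    · intro h
      exact Subtype.ext h
  rw [h0]
  change Submodule.Quotient.mk (S.Zto1 m) = 0 ↔ _
  rw [perH_mk_eq_zero_iff]
  change S.γ m ∈ LinearMap.range S.φ₁ ↔ _
  constructor
  · rintro ⟨m₁, hm₁⟩
    refine ⟨m₁, m.1 - S.f₁ m₁, ?_, by abel⟩
    rw [map_sub]
    have := LinearMap.congr_fun S.cφ₁ m₁
    simp only [LinearMap.comp_apply] at this
    rw [this, hm₁, S.g₁_γ, sub_self]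
  · rintro ⟨m₁, m₂', hm₂', hm⟩
    refine ⟨m₁, ?_⟩
    apply S.hg₁
    have := LinearMap.congr_fun S.cφ₁ m₁
    simp only [LinearMap.comp_apply] at this
    rw [← this, S.g₁_γ, hm, map_add, hm₂', zero_add]

theorem PerSES.ker_α_eq_ker_β : LinearMap.ker S.α = LinearMap.ker S.β := by
  ext m
  rw [S.mem_ker_α_iff, S.mem_ker_β_iff]

/-- the connecting isomorphism, at the level of lengths. -/
theorem PerSES.length_coker_a₂ :
    Module.length R (perH S.φ₃ S.ψ₃ ⧸ LinearMap.range S.a₂) =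
      Module.length R (LinearMap.ker S.b₁) := by
  rw [← (S.α.quotKerEquivOfSurjective S.α_surjective).length_eq,
    ← (S.β.quotKerEquivOfSurjective S.β_surjective).length_eq]
  exact (Submodule.quotEquivOfEq _ _ S.ker_α_eq_ker_β).length_eq

end Delta

section Final
variable {R : Type u} [CommRing R]
variable {M₁ N₁ M₂ N₂ M₃ N₃ : Type v} [AddCommGroup M₁] [Module R M₁] [AddCommGroup N₁] [Module R N₁]
  [AddCommGroup M₂] [Module R M₂] [AddCommGroup N₂] [Module R N₂] [AddCommGroup M₃] [Module R M₃]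
  [AddCommGroup N₃] [Module R N₃]
variable (S : PerSES R M₁ N₁ M₂ N₂ M₃ N₃)

theorem PerSES.E1 : Module.length R (perH S.φ₁ S.ψ₁) =
    Module.length R (LinearMap.ker S.a₁) + Module.length R (LinearMap.range S.a₁) :=
  length_eq_ker_add_range S.a₁

theorem PerSES.E2 : Module.length R (perH S.φ₂ S.ψ₂) =
    Module.length R (LinearMap.range S.a₁) + Module.length R (LinearMap.range S.a₂) := by
  rw [length_eq_ker_add_range S.a₂, S.ker_a₂]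

theorem PerSES.E3 : Module.length R (perH S.φ₃ S.ψ₃) =
    Module.length R (LinearMap.range S.a₂) + Module.length R (LinearMap.ker S.b₁) := by
  rw [length_eq_range_add_coker S.a₂, S.length_coker_a₂]

theorem PerSES.E4 : Module.length R (perH S.ψ₁ S.φ₁) =
    Module.length R (LinearMap.ker S.b₁) + Module.length R (LinearMap.range S.b₁) :=
  length_eq_ker_add_range S.b₁

theorem PerSES.E5 : Module.length R (perH S.ψ₂ S.φ₂) =
    Module.length R (LinearMap.range S.b₁) + Module.length R (LinearMap.range S.b₂) :=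
  S.swap.E2

theorem PerSES.E6 : Module.length R (perH S.ψ₃ S.φ₃) =
    Module.length R (LinearMap.range S.b₂) + Module.length R (LinearMap.ker S.a₁) :=
  S.swap.E3

theorem PerSES.main
    (htwo : (FinCoh R S.φ₁ S.ψ₁ ∧ FinCoh R S.φ₂ S.ψ₂) ∨ (FinCoh R S.φ₁ S.ψ₁ ∧ FinCoh R S.φ₃ S.ψ₃) ∨
      (FinCoh R S.φ₂ S.ψ₂ ∧ FinCoh R S.φ₃ S.ψ₃)) :
    FinCoh R S.φ₁ S.ψ₁ ∧ FinCoh R S.φ₂ S.ψ₂ ∧ FinCoh R S.φ₃ S.ψ₃ ∧
      herbrand R S.φ₂ S.ψ₂ = herbrand R S.φ₁ S.ψ₁ + herbrand R S.φ₃ S.ψ₃ := by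
  have e1 := S.E1
  have e2 := S.E2
  have e3 := S.E3
  have e4 := S.E4
  have e5 := S.E5
  have e6 := S.E6
  set x₁ := Module.length R (LinearMap.range S.a₁)
  set x₂ := Module.length R (LinearMap.range S.a₂)
  set x₃ := Module.length R (LinearMap.ker S.b₁)
  set x₄ := Module.length R (LinearMap.range S.b₁)
  set x₅ := Module.length R (LinearMap.range S.b₂)
  set x₆ := Module.length R (LinearMap.ker S.a₁)
  unfold FinCoh at htwo ⊢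
  unfold herbrand
  rw [e1, e2, e3, e4, e5, e6] at htwo ⊢
  clear e1 e2 e3 e4 e5 e6
  clear_value x₁ x₂ x₃ x₄ x₅ x₆
  have key : x₁ < ⊤ ∧ x₂ < ⊤ ∧ x₃ < ⊤ ∧ x₄ < ⊤ ∧ x₅ < ⊤ ∧ x₆ < ⊤ := by
    simp only [ENat.add_lt_top] at htwo
    rcases htwo with h | h | h <;> tauto
  obtain ⟨h1, h2, h3, h4, h5, h6⟩ := key
  lift x₁ to ℕ using h1.ne
  lift x₂ to ℕ using h2.ne
  lift x₃ to ℕ using h3.ne
  lift x₄ to ℕ using h4.ne
  lift x₅ to ℕ using h5.ne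
  lift x₆ to ℕ using h6.ne
  simp only [← Nat.cast_add, ENat.toNat_natCast, ENat.natCast_lt_top, and_self, true_and]
  push_cast
  ring

end Final

end Groth.Agent.H10
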