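import Mathlib
import Groth.Agent.H10.Herbrand

set_option autoImplicit false
set_option linter.style.haveILetI false
universe u v
namespace Groth.Agent.H10

open CycAlg

section FiniteLength
variable {R : Type u} [CommRing R] {X : Type v} [AddCommGroup X] [Module R X]

theorem length_ker_eq_range_add_perH (φ ψ : X →ₗ[R] X) (h : φ ∘ₗ ψ = 0) :
    Module.length R (LinearMap.ker φ) =
      Module.length R (LinearMap.range ψ) + Module.length R (perH φ ψ) := by
  have hle : LinearMap.range ψ ≤ LinearMap.ker φ := by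
    rintro _ ⟨x, rfl⟩
    exact LinearMap.congr_fun h x
  rw [← (Submodule.submoduleOfEquivOfLe hle).length_eq]
  exact Module.length_eq_add_of_exact
    ((LinearMap.range ψ).submoduleOf (LinearMap.ker φ)).subtype
    ((LinearMap.range ψ).submoduleOf (LinearMap.ker φ)).mkQ
    (Submodule.subtype_injective _) (Submodule.mkQ_surjective _) (LinearMap.exact_subtype_mkQ _)

theorem finCoh_and_herbrand_eq_zero_of_length_lt_top (φ ψ : X →ₗ[R] X) (h : IsPeriodic φ ψ)
    (hX : Module.length R X < ⊤) : FinCoh R φ ψ ∧ herbrand R φ ψ = 0 := by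
  have e1 := length_ker_eq_range_add_perH φ ψ h.1
  have e2 := length_ker_eq_range_add_perH ψ φ h.2
  have e3 := length_eq_ker_add_range (R := R) φ
  have e4 := length_eq_ker_add_range (R := R) ψ
  have hkφ : Module.length R (LinearMap.ker φ) < ⊤ :=
    lt_of_le_of_lt (Module.length_le_of_injective _ (Submodule.subtype_injective _)) hX
  have hkψ : Module.length R (LinearMap.ker ψ) < ⊤ :=
    lt_of_le_of_lt (Module.length_le_of_injective _ (Submodule.subtype_injective _)) hX
  have hrφ : Module.length R (LinearMap.range φ) < ⊤ :=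
    lt_of_le_of_lt (Module.length_le_of_injective _ (Submodule.subtype_injective _)) hX
  have hrψ : Module.length R (LinearMap.range ψ) < ⊤ :=
    lt_of_le_of_lt (Module.length_le_of_injective _ (Submodule.subtype_injective _)) hX
  have h0 : Module.length R (perH φ ψ) < ⊤ :=
    lt_of_le_of_lt (Module.length_le_of_surjective _ (Submodule.mkQ_surjective _)) hkφ
  have h1 : Module.length R (perH ψ φ) < ⊤ :=
    lt_of_le_of_lt (Module.length_le_of_surjective _ (Submodule.mkQ_surjective _)) hkψ
  refine ⟨⟨h0, h1⟩, ?_⟩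
  unfold herbrand
  generalize Module.length R (perH φ ψ) = a at *
  generalize Module.length R (perH ψ φ) = b at *
  generalize Module.length R (LinearMap.ker φ) = kφ at *
  generalize Module.length R (LinearMap.ker ψ) = kψ at *
  generalize Module.length R (LinearMap.range φ) = rφ at *
  generalize Module.length R (LinearMap.range ψ) = rψ at *
  generalize Module.length R X = x at *
  lift a to ℕ using h0.ne
  lift b to ℕ using h1.ne
  lift kφ to ℕ using hkφ.ne
  lift kψ to ℕ using hkψ.ne
  lift rφ to ℕ using hrφ.ne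
  lift rψ to ℕ using hrψ.ne
  lift x to ℕ using hX.ne
  simp only [ENat.toNat_natCast]
  norm_cast at e1 e2 e3 e4
  omega

end FiniteLength

section Morphism
variable {R : Type u} [CommRing R] {M M' : Type v} [AddCommGroup M] [Module R M]
  [AddCommGroup M'] [Module R M']

theorem herbrand_eq_of_finite_ker_coker (φ ψ : M →ₗ[R] M) (φ' ψ' : M' →ₗ[R] M')
    (h : IsPeriodic φ ψ) (h' : IsPeriodic φ' ψ') (f : M →ₗ[R] M') (cφ : φ' ∘ₗ f = f ∘ₗ φ)
    (cψ : ψ' ∘ₗ f = f ∘ₗ ψ) (hfin : FinCoh R φ ψ) (hfin' : FinCoh R φ' ψ')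
    (hker : Module.length R (LinearMap.ker f) < ⊤)
    (hcoker : Module.length R (M' ⧸ LinearMap.range f) < ⊤) :
    herbrand R φ ψ = herbrand R φ' ψ' := by
  have cφa : ∀ x, φ' (f x) = f (φ x) := fun x => LinearMap.congr_fun cφ x
  have cψa : ∀ x, ψ' (f x) = f (ψ x) := fun x => LinearMap.congr_fun cψ x
  have hφψ : ∀ x, φ (ψ x) = 0 := fun x => LinearMap.congr_fun h.1 x
  have hψφ : ∀ x, ψ (φ x) = 0 := fun x => LinearMap.congr_fun h.2 x
  have hφψ' : ∀ x, φ' (ψ' x) = 0 := fun x => LinearMap.congr_fun h'.1 x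
  have hψφ' : ∀ x, ψ' (φ' x) = 0 := fun x => LinearMap.congr_fun h'.2 x
  -- restrictions to the kernel
  have hKφ : ∀ x ∈ LinearMap.ker f, φ x ∈ LinearMap.ker f := fun x hx => by
    rw [LinearMap.mem_ker] at hx ⊢
    rw [← cφa, hx, map_zero]
  have hKψ : ∀ x ∈ LinearMap.ker f, ψ x ∈ LinearMap.ker f := fun x hx => by
    rw [LinearMap.mem_ker] at hx ⊢
    rw [← cψa, hx, map_zero]
  let φK : LinearMap.ker f →ₗ[R] LinearMap.ker f := φ.restrict hKφ
  let ψK : LinearMap.ker f →ₗ[R] LinearMap.ker f := ψ.restrict hKψ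
  -- restrictions to the image
  have hIφ : ∀ y ∈ LinearMap.range f, φ' y ∈ LinearMap.range f := by
    rintro _ ⟨x, rfl⟩
    exact ⟨φ x, (cφa x).symm⟩
  have hIψ : ∀ y ∈ LinearMap.range f, ψ' y ∈ LinearMap.range f := by
    rintro _ ⟨x, rfl⟩
    exact ⟨ψ x, (cψa x).symm⟩
  let φI : LinearMap.range f →ₗ[R] LinearMap.range f := φ'.restrict hIφ
  let ψI : LinearMap.range f →ₗ[R] LinearMap.range f := ψ'.restrict hIψ
  -- induced maps on the cokernel
  let φC : (M' ⧸ LinearMap.range f) →ₗ[R] (M' ⧸ LinearMap.range f) :=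
    Submodule.mapQ _ _ φ' (fun y hy => hIφ y hy)
  let ψC : (M' ⧸ LinearMap.range f) →ₗ[R] (M' ⧸ LinearMap.range f) :=
    Submodule.mapQ _ _ ψ' (fun y hy => hIψ y hy)
  have hK : IsPeriodic φK ψK := by
    constructor
    · apply LinearMap.ext
      intro x
      apply Subtype.ext
      exact hφψ x.1
    · apply LinearMap.ext
      intro x
      apply Subtype.ext
      exact hψφ x.1
  have hI : IsPeriodic φI ψI := by
    constructor
    · apply LinearMap.ext
      intro x
      apply Subtype.ext
      exact hφψ' x.1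
    · apply LinearMap.ext
      intro x
      apply Subtype.ext
      exact hψφ' x.1
  have hC : IsPeriodic φC ψC := by
    constructor
    · apply LinearMap.ext
      intro x
      obtain ⟨y, rfl⟩ := Submodule.Quotient.mk_surjective _ x
      change Submodule.Quotient.mk (φ' (ψ' y)) = 0
      rw [hφψ', Submodule.Quotient.mk_zero]
    · apply LinearMap.ext
      intro x
      obtain ⟨y, rfl⟩ := Submodule.Quotient.mk_surjective _ x
      change Submodule.Quotient.mk (ψ' (φ' y)) = 0
      rw [hψφ', Submodule.Quotient.mk_zero]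
  obtain ⟨hKfin, hKe⟩ := finCoh_and_herbrand_eq_zero_of_length_lt_top φK ψK hK hker
  obtain ⟨hCfin, hCe⟩ := finCoh_and_herbrand_eq_zero_of_length_lt_top φC ψC hC hcoker
  -- first sequence
  let S1 : PerSES R (LinearMap.ker f) (LinearMap.ker f) M M (LinearMap.range f) (LinearMap.range f) :=
    { φ₁ := φK, ψ₁ := ψK, φ₂ := φ, ψ₂ := ψ, φ₃ := φI, ψ₃ := ψI
      f₁ := (LinearMap.ker f).subtype, g₁ := (LinearMap.ker f).subtype
      f₂ := f.rangeRestrict, g₂ := f.rangeRestrict
      h₁ := hK, h₂ := h, h₃ := hI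
      cφ₁ := rfl, cψ₁ := rfl
      cφ₂ := by
        apply LinearMap.ext
        intro x
        apply Subtype.ext
        exact cφa x
      cψ₂ := by
        apply LinearMap.ext
        intro x
        apply Subtype.ext
        exact cψa x
      hf₁ := Submodule.subtype_injective _, hg₁ := Submodule.subtype_injective _
      hf₂ := LinearMap.surjective_rangeRestrict f, hg₂ := LinearMap.surjective_rangeRestrict f
      hM := by rw [Submodule.range_subtype, LinearMap.ker_rangeRestrict]
      hN := by rw [Submodule.range_subtype, LinearMap.ker_rangeRestrict] }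
  obtain ⟨-, -, hIfin, he1⟩ := S1.main (Or.inl ⟨hKfin, hfin⟩)
  -- second sequence
  let S2 : PerSES R (LinearMap.range f) (LinearMap.range f) M' M' (M' ⧸ LinearMap.range f)
      (M' ⧸ LinearMap.range f) :=
    { φ₁ := φI, ψ₁ := ψI, φ₂ := φ', ψ₂ := ψ', φ₃ := φC, ψ₃ := ψC
      f₁ := (LinearMap.range f).subtype, g₁ := (LinearMap.range f).subtype
      f₂ := (LinearMap.range f).mkQ, g₂ := (LinearMap.range f).mkQ
      h₁ := hI, h₂ := h', h₃ := hC
      cφ₁ := rfl, cψ₁ := rfl
      cφ₂ := rfl, cψ₂ := rfl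
      hf₁ := Submodule.subtype_injective _, hg₁ := Submodule.subtype_injective _
      hf₂ := Submodule.mkQ_surjective _, hg₂ := Submodule.mkQ_surjective _
      hM := by rw [Submodule.range_subtype, Submodule.ker_mkQ]
      hN := by rw [Submodule.range_subtype, Submodule.ker_mkQ] }
  obtain ⟨-, -, -, he2⟩ := S2.main (Or.inl ⟨hIfin, hfin'⟩)
  change herbrand R φ ψ = herbrand R φK ψK + herbrand R φI ψI at he1
  change herbrand R φ' ψ' = herbrand R φI ψI + herbrand R φC ψC at he2
  rw [he1, he2, hKe, hCe, zero_add, add_zero]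

end Morphism

end Groth.Agent.H10
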