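import Mathlib
import Groth.Agent.H10.Herbrand

set_option autoImplicit false
set_option linter.style.haveILetI false
universe u v
namespace Groth.Agent.H10.Herbrand3

open CycAlg

variable {R : Type u} [CommRing R] {M N : Type v} [AddCommGroup M] [Module R M]
  [AddCommGroup N] [Module R N]

theorem length_ker_eq_range_add_perH (φ : M →ₗ[R] N) (ψ : N →ₗ[R] M) (h : φ ∘ₗ ψ = 0) :
    Module.length R (LinearMap.ker φ) =
      Module.length R (LinearMap.range ψ) + Module.length R (perH φ ψ) := by
  have hle : LinearMap.range ψ ≤ LinearMap.ker φ := by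
    rintro _ ⟨x, rfl⟩
    exact LinearMap.congr_fun h x
  rw [← (Submodule.submoduleOfEquivOfLe hle).length_eq]
  exact Module.length_eq_add_of_exact
    ((LinearMap.range ψ).submoduleOf (LinearMap.ker φ)).subtype
    ((LinearMap.range ψ).submoduleOf (LinearMap.ker φ)).mkQ
    (Submodule.subtype_injective _) (Submodule.mkQ_surjective _) (LinearMap.exact_subtype_mkQ _)

theorem finCoh_and_herbrand_eq (φ : M →ₗ[R] N) (ψ : N →ₗ[R] M) (h : IsPeriodic φ ψ)
    (hM : Module.length R M < ⊤) (hN : Module.length R N < ⊤) :
    FinCoh R φ ψ ∧ herbrand R φ ψ =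
      ((Module.length R M).toNat : ℤ) - ((Module.length R N).toNat : ℤ) := by
  have e1 := length_ker_eq_range_add_perH φ ψ h.1
  have e2 := length_ker_eq_range_add_perH ψ φ h.2
  have e3 := length_eq_ker_add_range (R := R) φ
  have e4 := length_eq_ker_add_range (R := R) ψ
  have hkφ : Module.length R (LinearMap.ker φ) < ⊤ :=
    lt_of_le_of_lt (Module.length_le_of_injective _ (Submodule.subtype_injective _)) hM
  have hkψ : Module.length R (LinearMap.ker ψ) < ⊤ :=
    lt_of_le_of_lt (Module.length_le_of_injective _ (Submodule.subtype_injective _)) hN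
  have hrφ : Module.length R (LinearMap.range φ) < ⊤ :=
    lt_of_le_of_lt (Module.length_le_of_injective _ (Submodule.subtype_injective _)) hN
  have hrψ : Module.length R (LinearMap.range ψ) < ⊤ :=
    lt_of_le_of_lt (Module.length_le_of_injective _ (Submodule.subtype_injective _)) hM
  have h0 : Module.length R (perH φ ψ) < ⊤ :=
    lt_of_le_of_lt (Module.length_le_of_surjective _ (Submodule.mkQ_surjective _)) hkφ
  have h1 : Module.length R (perH ψ φ) < ⊤ :=
    lt_of_le_of_lt (Module.length_le_of_surjective _ (Submodule.mkQ_surjective _)) hkψ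
  refine ⟨⟨h0, h1⟩, ?_⟩
  unfold herbrand
  generalize Module.length R (perH φ ψ) = a at *
  generalize Module.length R (perH ψ φ) = b at *
  generalize Module.length R (LinearMap.ker φ) = kφ at *
  generalize Module.length R (LinearMap.ker ψ) = kψ at *
  generalize Module.length R (LinearMap.range φ) = rφ at *
  generalize Module.length R (LinearMap.range ψ) = rψ at *
  generalize Module.length R M = m at *
  generalize Module.length R N = n at *
  lift a to ℕ using h0.ne
  lift b to ℕ using h1.ne
  lift kφ to ℕ using hkφ.ne
  lift kψ to ℕ using hkψ.ne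
  lift rφ to ℕ using hrφ.ne
  lift rψ to ℕ using hrψ.ne
  lift m to ℕ using hM.ne
  lift n to ℕ using hN.ne
  simp only [ENat.toNat_natCast]
  norm_cast at e1 e2 e3 e4
  omega

end Groth.Agent.H10.Herbrand3
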