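import Mathlib
import Groth.Agent.H10.Frob4

/-!
# Coefficient functionals on `SepQuot f` and their values on monomials
-/

set_option autoImplicit false

namespace Groth.Agent.H10.Minor

open PiTensorProduct Polynomial
open scoped TensorProduct
open Groth.Agent.H78.ASFam Groth.Agent.H10.Frob

variable {R : Type*} [CommRing R] {ι : Type*} [Fintype ι] [DecidableEq ι]
variable (f : ι → R[X]) (hf : ∀ i, (f i).Monic)

/-- functional on `SepQuot f` induced by a family of functionals on the `AdjoinRoot (f i)`. -/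
noncomputable def LA (ℓ : ∀ i, AdjoinRoot (f i) →ₗ[R] R) : SepQuot f →ₗ[R] R :=
  tauT ℓ ∘ₗ (tensorEquiv f).toLinearMap

theorem LA_prod_aeval (ℓ : ∀ i, AdjoinRoot (f i) →ₗ[R] R) (P : ι → R[X]) :
    LA f ℓ (∏ i, aeval (u f i) (P i)) = ∏ i, ℓ i (aeval (AdjoinRoot.root (f i)) (P i)) := by
  unfold LA
  rw [LinearMap.comp_apply]
  change tauT _ (tensorEquiv f _) = _
  rw [tensorEquiv_prod_aeval, tauT_tprod]

/-- coefficient functional: coefficient of `∏ u_i^(E i)`. -/
noncomputable def cf (E : ι → ℕ) : SepQuot f →ₗ[R] R :=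
  LA f (fun i => (Polynomial.lcoeff R (E i)) ∘ₗ (AdjoinRoot.modByMonicHom (hf i)))

theorem cf_prod_pow (E m : ι → ℕ) :
    cf f hf E (∏ i, u f i ^ m i) = ∏ i, ((X ^ m i : R[X]) %ₘ f i).coeff (E i) := by
  have h : ∏ i, u f i ^ m i = ∏ i, aeval (u f i) ((X : R[X]) ^ m i) := by
    refine Finset.prod_congr rfl fun i _ => ?_
    rw [map_pow, aeval_X]
  rw [h]
  unfold cf
  rw [LA_prod_aeval]
  refine Finset.prod_congr rfl fun i _ => ?_
  rw [AdjoinRoot.aeval_eq, LinearMap.comp_apply, AdjoinRoot.modByMonicHom_mk]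
  rfl

theorem coeff_X_pow_modByMonic [Nontrivial R] {g : R[X]} (hg : g.Monic) (m E : ℕ)
    (hm : m < g.natDegree) :
    ((X ^ m : R[X]) %ₘ g).coeff E = if m = E then 1 else 0 := by
  have hdeg : (X ^ m : R[X]).degree < g.degree := by
    rw [Polynomial.degree_X_pow, Polynomial.degree_eq_natDegree hg.ne_zero]
    exact_mod_cast hm
  rw [(Polynomial.modByMonic_eq_self_iff hg).2 hdeg, Polynomial.coeff_X_pow]
  by_cases h : m = E
  · rw [if_pos h, if_pos h.symm]
  · rw [if_neg h, if_neg (Ne.symm h)]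

end Groth.Agent.H10.Minor
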