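import Mathlib
import Groth.Agent.H10.Minor1

/-!
# Coefficient functionals on powers of a linear form in `SepQuot f`
-/

set_option autoImplicit false

namespace Groth.Agent.H10.Hs

open Polynomial
open Groth.Agent.H78.ASFam Groth.Agent.H10.Frob Groth.Agent.H10.Minor

variable {R : Type*} [CommRing R] [Nontrivial R] {ι : Type*} [Fintype ι] [DecidableEq ι]
variable (f : ι → R[X]) (hf : ∀ i, (f i).Monic)

theorem cf_monomial (E k : ι → ℕ) (hk : ∀ i, k i < (f i).natDegree) :
    cf f hf E (∏ i, u f i ^ k i) = if k = E then 1 else 0 := by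
  rw [cf_prod_pow]
  have h : ∀ i ∈ (Finset.univ : Finset ι), ((X ^ k i : R[X]) %ₘ f i).coeff (E i) =
      if k i = E i then 1 else 0 := fun i _ => coeff_X_pow_modByMonic (hf i) (k i) (E i) (hk i)
  rw [Finset.prod_congr rfl h]
  by_cases hkE : k = E
  · rw [if_pos hkE]
    apply Finset.prod_eq_one
    intro i _
    rw [if_pos (congrFun hkE i)]
  · rw [if_neg hkE]
    obtain ⟨i, hi⟩ : ∃ i, k i ≠ E i := by
      by_contra hne
      push Not at hne
      exact hkE (funext hne)
    exact Finset.prod_eq_zero (Finset.mem_univ i) (if_neg hi)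

variable (T : Finset ι) (γ : ι → R)

/-- a linear form in the generators. -/
noncomputable def zlin : SepQuot f := ∑ i ∈ T, algebraMap R (SepQuot f) (γ i) * u f i

theorem zlin_pow (m : ℕ) :
    zlin f T γ ^ m = ∑ k ∈ Finset.piAntidiag T m,
      algebraMap R (SepQuot f) ((Nat.multinomial T k : R) * ∏ i ∈ T, γ i ^ k i) *
        ∏ i, u f i ^ k i := by
  unfold zlin
  rw [Finset.sum_pow_eq_sum_piAntidiag]
  refine Finset.sum_congr rfl fun k hk => ?_
  rw [Finset.mem_piAntidiag] at hk
  have h1 : ∏ i ∈ T, (algebraMap R (SepQuot f) (γ i) * u f i) ^ k i =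
      algebraMap R (SepQuot f) (∏ i ∈ T, γ i ^ k i) * ∏ i ∈ T, u f i ^ k i := by
    rw [map_prod, ← Finset.prod_mul_distrib]
    refine Finset.prod_congr rfl fun i _ => ?_
    rw [mul_pow, map_pow]
  have h2 : ∏ i ∈ T, u f i ^ k i = ∏ i, u f i ^ k i := by
    apply Finset.prod_subset (Finset.subset_univ T)
    intro i _ hi
    have : k i = 0 := by
      by_contra h0
      exact hi (hk.2 i h0)
    rw [this, pow_zero]
  rw [h1, h2, map_mul, map_natCast]
  ring

theorem cf_single_zlin_pow (i0 : ι) (hi0 : i0 ∈ T) (m m' : ℕ)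
    (hm' : ∀ i, m' < (f i).natDegree) :
    cf f hf (Pi.single i0 m) (zlin f T γ ^ m') = if m' = m then γ i0 ^ m else 0 := by
  classical
  rw [zlin_pow, map_sum]
  have hterm : ∀ k ∈ Finset.piAntidiag T m',
      cf f hf (Pi.single i0 m) (algebraMap R (SepQuot f)
        ((Nat.multinomial T k : R) * ∏ i ∈ T, γ i ^ k i) * ∏ i, u f i ^ k i) =
      if k = Pi.single i0 m then ((Nat.multinomial T k : R) * ∏ i ∈ T, γ i ^ k i) else 0 := by
    intro k hk
    rw [Finset.mem_piAntidiag] at hk
    have hlt : ∀ i, k i < (f i).natDegree := by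
      intro i
      refine lt_of_le_of_lt ?_ (hm' i)
      by_cases hi : i ∈ T
      · rw [← hk.1]
        exact Finset.single_le_sum (f := k) (fun _ _ => Nat.zero_le _) hi
      · have : k i = 0 := by
          by_contra h0
          exact hi (hk.2 i h0)
        rw [this]; exact Nat.zero_le _
    rw [← Algebra.smul_def, map_smul, cf_monomial f hf _ k hlt, smul_eq_mul]
    split_ifs <;> simp
  rw [Finset.sum_congr rfl hterm, Finset.sum_ite_eq']
  by_cases hmm : m' = m
  · have hmem : Pi.single i0 m ∈ Finset.piAntidiag T m' := by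
      rw [Finset.mem_piAntidiag]
      refine ⟨?_, fun i hi => ?_⟩
      · rw [Finset.sum_pi_single', if_pos hi0, hmm]
      · by_contra hiT
        apply hi
        rw [Pi.single_apply, if_neg]
        rintro rfl
        exact hiT hi0
    rw [if_pos hmem, if_pos hmm, Nat.multinomial_single, Nat.cast_one, one_mul]
    rw [Finset.prod_eq_single i0]
    · rw [Pi.single_eq_same]
    · intro j _ hj
      rw [Pi.single_eq_of_ne hj, pow_zero]
    · intro h; exact absurd hi0 h
  · rw [if_neg hmm, if_neg]
    intro hmem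
    rw [Finset.mem_piAntidiag] at hmem
    apply hmm
    rw [← hmem.1, Finset.sum_pi_single', if_pos hi0]

end Groth.Agent.H10.Hs
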