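import Mathlib
import Groth.Agent.H10.Hs1
import Groth.Agent.H78.ASFam.Aut

/-!
# The element `z_s` in the Artin–Schreier family
-/

set_option autoImplicit false

namespace Groth.Agent.H10.Hs

open Polynomial
open Groth.Agent.H78.ASFam Groth.Agent.H10.Frob Groth.Agent.H10.Minor

universe u

variable {R : Type u} [CommRing R] [IsDomain R] (p n : ℕ) [hp : Fact p.Prime] [CharP R p]
variable (b x : Fin n → R) (s : Fin n → ZMod p) (γ : Fin n → R) (d : R)

/-- the cast `ZMod p → R`. -/
noncomputable abbrev cR (c : ZMod p) : R := ZMod.castHom (dvd_refl p) R c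

/-- the support of `s`. -/
noncomputable abbrev supp : Finset (Fin n) := Finset.univ.filter (fun i => s i ≠ 0)

/-- the element `z = ∑_{s_i ≠ 0} γ_i u_i`. -/
noncomputable abbrev zz : AS p n (fun i => b i ^ (p - 1)) x :=
  zlin (asPoly p n (fun i => b i ^ (p - 1)) x) (supp p n s) γ

/-- the polynomial `f = T^p - d^(p-1) T - ∑ γ_i^p x_i`. -/
noncomputable def fpoly : R[X] :=
  X ^ p - C (d ^ (p - 1)) * X - C (∑ i ∈ supp p n s, γ i ^ p * x i)

theorem fpoly_monic : (fpoly p n x s γ d).Monic := by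
  have h : fpoly p n x s γ d = X ^ p - (C (d ^ (p - 1)) * X + C (∑ i ∈ supp p n s, γ i ^ p * x i)) := by
    unfold fpoly; ring
  rw [h]
  apply Polynomial.monic_X_pow_sub
  refine lt_of_le_of_lt Polynomial.degree_linear_le ?_
  exact_mod_cast hp.out.one_lt

theorem fpoly_natDegree : (fpoly p n x s γ d).natDegree = p := by
  have h : fpoly p n x s γ d = X ^ p - (C (d ^ (p - 1)) * X + C (∑ i ∈ supp p n s, γ i ^ p * x i)) := by
    unfold fpoly; ring
  have hlt : (C (d ^ (p - 1)) * X + C (∑ i ∈ supp p n s, γ i ^ p * x i) : R[X]).degree <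
      (p : WithBot ℕ) := by
    refine lt_of_le_of_lt Polynomial.degree_linear_le ?_
    exact_mod_cast hp.out.one_lt
  have h2 : (fpoly p n x s γ d).degree = (p : WithBot ℕ) := by
    rw [h, Polynomial.degree_sub_eq_left_of_degree_lt (by rwa [Polynomial.degree_X_pow]),
      Polynomial.degree_X_pow]
  exact Polynomial.natDegree_eq_of_degree_eq_some h2

variable (hγ : ∀ i ∈ supp p n s, γ i * b i = cR p (s i) * d)

theorem cR_pow_pred {c : ZMod p} (hc : c ≠ 0) : (cR p c : R) ^ (p - 1) = 1 := by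
  unfold cR
  rw [← map_pow, ZMod.pow_card_sub_one_eq_one hc, map_one]

include hγ in
theorem zz_pow [CharP (AS p n (fun i => b i ^ (p - 1)) x) p] :
    zz p n b x s γ ^ p =
      algebraMap R (AS p n (fun i => b i ^ (p - 1)) x) (d ^ (p - 1)) * zz p n b x s γ +
        algebraMap R (AS p n (fun i => b i ^ (p - 1)) x) (∑ i ∈ supp p n s, γ i ^ p * x i) := by
  have hu := u_pow p n (fun i => b i ^ (p - 1)) x
  unfold zz zlin
  rw [sum_pow_char, Finset.mul_sum, map_sum, ← Finset.sum_add_distrib]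
  refine Finset.sum_congr rfl fun i hi => ?_
  have hui := hu i
  simp only [uu] at hui
  rw [mul_pow, hui]
  have hs : s i ≠ 0 := (Finset.mem_filter.1 hi).2
  have e1 : γ i ^ p * b i ^ (p - 1) = d ^ (p - 1) * γ i := by
    have : γ i ^ p = γ i ^ (p - 1) * γ i := by
      rw [← pow_succ, Nat.sub_add_cancel hp.out.one_le]
    rw [this, mul_assoc, mul_comm (γ i) (b i ^ (p - 1)), ← mul_assoc, ← mul_pow, hγ i hi, mul_pow,
      cR_pow_pred p hs, one_mul]
  have e2 : algebraMap R (AS p n (fun i => b i ^ (p - 1)) x) (γ i ^ p) *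
      algebraMap R (AS p n (fun i => b i ^ (p - 1)) x) (b i ^ (p - 1)) =
      algebraMap R (AS p n (fun i => b i ^ (p - 1)) x) (d ^ (p - 1)) *
        algebraMap R (AS p n (fun i => b i ^ (p - 1)) x) (γ i) := by
    rw [← map_mul, e1, map_mul]
  rw [← map_pow, map_mul]
  linear_combination (u (asPoly p n (fun i => b i ^ (p - 1)) x) i) * e2

include hγ in
theorem aeval_zz_fpoly [CharP (AS p n (fun i => b i ^ (p - 1)) x) p] :
    aeval (zz p n b x s γ) (fpoly p n x s γ d) = 0 := by
  unfold fpoly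
  simp only [map_sub, map_pow, aeval_X, map_mul, aeval_C]
  rw [zz_pow p n b x s γ d hγ, map_pow]
  ring

omit [IsDomain R] [CharP R p] in
theorem cf_aeval_zz [Nontrivial R] (i0 : Fin n) (hi0 : i0 ∈ supp p n s) (P : R[X])
    (hP : P.natDegree < p) (m : ℕ) (hm : m < p) :
    cf (asPoly p n (fun i => b i ^ (p - 1)) x) (asPoly_monic p n _ x hp.out.two_le)
      (Pi.single i0 m) (aeval (zz p n b x s γ) P) = P.coeff m * γ i0 ^ m := by
  rw [Polynomial.aeval_eq_sum_range' hP, map_sum]
  have hterm : ∀ m' ∈ Finset.range p,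
      cf (asPoly p n (fun i => b i ^ (p - 1)) x) (asPoly_monic p n _ x hp.out.two_le)
        (Pi.single i0 m) (P.coeff m' • zz p n b x s γ ^ m') =
      if m' = m then P.coeff m * γ i0 ^ m else 0 := by
    intro m' hm'
    rw [map_smul, cf_single_zlin_pow _ _ _ _ i0 hi0 m m'
      (fun i => by rw [asPoly_natDegree p n _ x hp.out.two_le]; exact Finset.mem_range.1 hm'),
      smul_eq_mul]
    by_cases h : m' = m
    · rw [if_pos h, if_pos h, h]
    · rw [if_neg h, if_neg h, mul_zero]
  rw [Finset.sum_congr rfl hterm, Finset.sum_ite_eq', if_pos (Finset.mem_range.2 hm)]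

omit [CharP R p] in
theorem eq_zero_of_aeval_zz (i0 : Fin n) (hi0 : i0 ∈ supp p n s) (hγ0 : γ i0 ≠ 0) (P : R[X])
    (hP : P.natDegree < p) (h0 : aeval (zz p n b x s γ) P = 0) : P = 0 := by
  ext m
  rw [Polynomial.coeff_zero]
  by_cases hm : m < p
  · have h := cf_aeval_zz p n b x s γ i0 hi0 P hP m hm
    rw [h0, map_zero] at h
    rcases mul_eq_zero.1 h.symm with h | h
    · exact h
    · exact absurd (eq_zero_of_pow_eq_zero h) hγ0
  · exact Polynomial.coeff_eq_zero_of_natDegree_lt (by omega)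

include hγ in
theorem ker_aeval_zz [CharP (AS p n (fun i => b i ^ (p - 1)) x) p]
    (i0 : Fin n) (hi0 : i0 ∈ supp p n s) (hγ0 : γ i0 ≠ 0) :
    RingHom.ker (aeval (zz p n b x s γ) : R[X] →ₐ[R] AS p n (fun i => b i ^ (p - 1)) x) =
      Ideal.span {fpoly p n x s γ d} := by
  have hmon := fpoly_monic p n x s γ d
  have hf0 := aeval_zz_fpoly p n b x s γ d hγ
  apply le_antisymm
  · intro P hP
    rw [RingHom.mem_ker] at hP
    have h1 : aeval (zz p n b x s γ) (P %ₘ fpoly p n x s γ d) = 0 := by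
      have h2 := congrArg (aeval (zz p n b x s γ)) (Polynomial.modByMonic_add_div P (fpoly p n x s γ d))
      rw [map_add, map_mul, hf0, zero_mul, add_zero] at h2
      rw [h2]
      exact hP
    have hne1 : fpoly p n x s γ d ≠ 1 := by
      intro h
      have := fpoly_natDegree p n x s γ d
      rw [h, Polynomial.natDegree_one] at this
      exact hp.out.ne_zero this.symm
    have hdeg : (P %ₘ fpoly p n x s γ d).natDegree < p := by
      have := Polynomial.natDegree_modByMonic_lt P hmon hne1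
      rwa [fpoly_natDegree] at this
    have h3 := eq_zero_of_aeval_zz p n b x s γ i0 hi0 hγ0 _ hdeg h1
    exact Ideal.mem_span_singleton.2 ((Polynomial.modByMonic_eq_zero_iff_dvd hmon).1 h3)
  · rw [Ideal.span_le, Set.singleton_subset_iff, SetLike.mem_coe, RingHom.mem_ker]
    exact hf0

omit [CharP R p] in
theorem dvd_coeff_of_aeval_zz (i0 : Fin n) (hi0 : i0 ∈ supp p n s) (π : R) (hπ : Prime π)
    (hπγ : ¬ π ∣ γ i0) (P : R[X]) (hP : P.natDegree < p)
    (y : AS p n (fun i => b i ^ (p - 1)) x)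
    (h : aeval (zz p n b x s γ) P = algebraMap R _ π * y) : C π ∣ P := by
  rw [Polynomial.C_dvd_iff_dvd_coeff]
  intro m
  by_cases hm : m < p
  · have h1 := cf_aeval_zz p n b x s γ i0 hi0 P hP m hm
    rw [h, ← Algebra.smul_def, map_smul, smul_eq_mul] at h1
    have h2 : π ∣ P.coeff m * γ i0 ^ m := ⟨_, h1.symm⟩
    rcases hπ.dvd_or_dvd h2 with h3 | h3
    · exact h3
    · exact absurd (hπ.dvd_of_dvd_pow h3) hπγ
  · rw [Polynomial.coeff_eq_zero_of_natDegree_lt (by omega)]
    exact dvd_zero _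

theorem sigmaEquiv_uu [CharP (AS p n (fun i => b i ^ (p - 1)) x) p] (e : Fin n → ZMod p)
    (i : Fin n) :
    sigmaEquiv p n b x e (uu p n (fun i => b i ^ (p - 1)) x i) =
      uu p n (fun i => b i ^ (p - 1)) x i +
        algebraMap R (AS p n (fun i => b i ^ (p - 1)) x) (cR p (e i) * b i) := by
  have h := sigma_uu p n b x e i
  unfold shiftVal cst at h
  exact h

include hγ in
theorem sigmaEquiv_zz [CharP (AS p n (fun i => b i ^ (p - 1)) x) p] (e : Fin n → ZMod p) :
    sigmaEquiv p n b x e (zz p n b x s γ) = zz p n b x s γ +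
      algebraMap R (AS p n (fun i => b i ^ (p - 1)) x) (d * cR p (∑ i, e i * s i)) := by
  have hsum : (∑ i, e i * s i) = ∑ i ∈ supp p n s, e i * s i := by
    rw [Finset.sum_filter]
    refine Finset.sum_congr rfl fun i _ => ?_
    by_cases h : s i = 0
    · rw [h, mul_zero]; simp
    · rw [if_pos h]
  have hc : cR p (∑ i ∈ supp p n s, e i * s i) =
      (∑ i ∈ supp p n s, cR p (e i) * cR p (s i) : R) := by
    unfold cR
    rw [map_sum]
    refine Finset.sum_congr rfl fun i _ => ?_
    rw [map_mul]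
  unfold zz zlin
  rw [map_sum, hsum, hc, Finset.mul_sum, map_sum, ← Finset.sum_add_distrib]
  refine Finset.sum_congr rfl fun i hi => ?_
  have hu := sigmaEquiv_uu p n b x e i
  simp only [uu] at hu
  rw [map_mul, AlgEquiv.commutes, hu, mul_add, ← map_mul]
  congr 2
  calc γ i * (cR p (e i) * b i) = cR p (e i) * (γ i * b i) := by ring
    _ = cR p (e i) * (cR p (s i) * d) := by rw [hγ i hi]
    _ = d * (cR p (e i) * cR p (s i)) := by ring

end Groth.Agent.H10.Hs
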