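import Mathlib

/-!
# Vandermonde inversion inside a subalgebra
-/

set_option autoImplicit false

namespace Groth.Agent.H10.Hs

open Matrix

theorem adjugate_mem {R A : Type*} [CommRing R] [CommRing A] [Algebra R A] (S : Subalgebra R A)
    {N : ℕ} (M : Matrix (Fin N) (Fin N) A) (hM : ∀ i j, M i j ∈ S) (i j : Fin N) :
    adjugate M i j ∈ S := by
  let M' : Matrix (Fin N) (Fin N) S := fun i j => ⟨M i j, hM i j⟩
  have h1 : M = S.val.mapMatrix M' := by
    ext i j
    rfl
  rw [h1, ← AlgHom.map_adjugate]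
  exact (adjugate M' i j).2

theorem vandermonde_mem {R A : Type*} [CommRing R] [CommRing A] [Algebra R A] (S : Subalgebra R A)
    {N : ℕ} (v T : Fin N → A) (hv : ∀ j, v j ∈ S)
    (hW : ∀ m : Fin N, ∑ j, v j ^ (m : ℕ) * T j ∈ S) (j0 : Fin N) :
    (∏ i, ∏ j ∈ Finset.Ioi i, (v j - v i)) * T j0 ∈ S := by
  set V := (vandermonde v)ᵀ with hV
  have hVent : ∀ i j, V i j ∈ S := by
    intro i j
    rw [hV, transpose_apply, vandermonde_apply]
    exact S.pow_mem (hv j) _
  have hmul : V.mulVec T = fun m : Fin N => ∑ j, v j ^ (m : ℕ) * T j := by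
    funext m
    rw [mulVec, dotProduct]
    refine Finset.sum_congr rfl fun j _ => ?_
    rw [hV, transpose_apply, vandermonde_apply]
  have h1 : (adjugate V).mulVec (V.mulVec T) = V.det • T := by
    rw [mulVec_mulVec, adjugate_mul, smul_mulVec, one_mulVec]
  have h2 := congrFun h1 j0
  rw [hmul, Pi.smul_apply, smul_eq_mul, hV, det_transpose, det_vandermonde, ← hV] at h2
  rw [← h2, mulVec, dotProduct]
  exact S.sum_mem fun m _ => S.mul_mem (adjugate_mem S V hVent j0 m) (hW m)

end Groth.Agent.H10.Hs
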