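import Mathlib
import Groth.Agent.H10.Hs2
import Groth.Agent.H10.Hs4

/-!
# Invariants of the hyperplane subgroup `H_s` in the Artin–Schreier family
-/

set_option autoImplicit false

namespace Groth.Agent.H10.Hs

open Polynomial
open Groth.Agent.H78.ASFam Groth.Agent.H10.Frob Groth.Agent.H10.Minor

universe u

variable {R : Type u} [CommRing R] [IsDomain R] (p n : ℕ) [hp : Fact p.Prime] [CharP R p]
variable (b x : Fin n → R)

section Inv

variable [IsIntegrallyClosed R] [IsDomain (AS p n (fun i => b i ^ (p - 1)) x)]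
  [CharP (AS p n (fun i => b i ^ (p - 1)) x) p]

theorem sigmaEquiv_add (e e' : Fin n → ZMod p) (y : AS p n (fun i => b i ^ (p - 1)) x) :
    sigmaEquiv p n b x (e + e') y = sigmaEquiv p n b x e (sigmaEquiv p n b x e' y) := by
  change sigma p n b x (e + e') y = sigma p n b x e (sigma p n b x e' y)
  rw [← sigma_comp]
  rfl

theorem sigmaEquiv_zero (y : AS p n (fun i => b i ^ (p - 1)) x) :
    sigmaEquiv p n b x 0 y = y := by
  change sigma p n b x 0 y = y
  rw [sigma_zero]
  rfl

/-- an element fixed by all `σ_e` lies in `R`. -/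
theorem mem_range_of_fixed (hb0 : ∀ i, b i ≠ 0) (y : AS p n (fun i => b i ^ (p - 1)) x)
    (hy : ∀ e : Fin n → ZMod p, sigmaEquiv p n b x e y = y) :
    y ∈ Set.range (algebraMap R (AS p n (fun i => b i ^ (p - 1)) x)) := by
  have hp2 : 2 ≤ p := hp.out.two_le
  haveI := free_AS p n (fun i => b i ^ (p - 1)) x hp2
  haveI := finite_AS p n (fun i => b i ^ (p - 1)) x hp2
  have hinj := algebraMap_injective_AS p n (fun i => b i ^ (p - 1)) x hp2
  haveI : FaithfulSMul R (AS p n (fun i => b i ^ (p - 1)) x) :=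
    (faithfulSMul_iff_algebraMap_injective R _).2 hinj
  have hPsi : Function.Injective (Psi p n b x) := by
    intro e e' hee
    have h1 : ∀ i, Multiplicative.toAdd e i = Multiplicative.toAdd e' i := by
      intro i
      have h2 : shiftVal p n b x (Multiplicative.toAdd e) i =
          shiftVal p n b x (Multiplicative.toAdd e') i := by
        rw [← Psi_apply_uu, ← Psi_apply_uu, hee]
      unfold shiftVal at h2
      have h3 := hinj (add_left_cancel h2)
      unfold cst at h3
      have h4 := mul_right_cancel₀ (hb0 i) h3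
      exact (ZMod.castHom (dvd_refl p) R).injective h4
    exact Multiplicative.toAdd.injective (funext h1)
  letI : MulSemiringAction (Multiplicative (Fin n → ZMod p)) (AS p n (fun i => b i ^ (p - 1)) x) :=
    MulSemiringAction.compHom _ (Psi p n b x)
  have hsmul : ∀ (g : Multiplicative (Fin n → ZMod p)) (c : AS p n (fun i => b i ^ (p - 1)) x),
      g • c = Psi p n b x g c := fun _ _ => rfl
  haveI : SMulCommClass (Multiplicative (Fin n → ZMod p)) R (AS p n (fun i => b i ^ (p - 1)) x) :=
    ⟨fun g r c => by rw [hsmul, hsmul, map_smul]⟩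
  haveI : FaithfulSMul (Multiplicative (Fin n → ZMod p)) (AS p n (fun i => b i ^ (p - 1)) x) :=
    ⟨fun {g g'} h => hPsi (AlgEquiv.ext fun c => by rw [← hsmul, ← hsmul, h c])⟩
  have hcardG : Nat.card (Multiplicative (Fin n → ZMod p)) = p ^ n := by
    rw [Nat.card_congr Multiplicative.toAdd, Nat.card_fun, Nat.card_zmod, Nat.card_fin]
  have hfr := finrank_AS p n (fun i => b i ^ (p - 1)) x hp2
  have hGal : IsGaloisGroup (Multiplicative (Fin n → ZMod p)) R (AS p n (fun i => b i ^ (p - 1)) x) :=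
    isGaloisGroup_of_card_eq R _ _ (hcardG.trans hfr.symm)
  obtain ⟨r, hr⟩ := hGal.isInvariant.isInvariant y (fun g => by
    rw [hsmul]; exact hy (Multiplicative.toAdd g))
  exact ⟨r, hr⟩

section Trace

variable (s : Fin n → ZMod p) (γ : Fin n → R) (d : R)
variable (hγ : ∀ i ∈ supp p n s, γ i * b i = cR p (s i) * d)
variable (e0 : Fin n → ZMod p) (he0 : ∑ i, e0 i * s i = 1)
variable (t : AS p n (fun i => b i ^ (p - 1)) x)
variable (hinv : ∀ e : Fin n → ZMod p, ∑ i, e i * s i = 0 → sigmaEquiv p n b x e t = t)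

/-- the translates of `t`. -/
noncomputable def tc (c : ZMod p) : AS p n (fun i => b i ^ (p - 1)) x :=
  sigmaEquiv p n b x (c • e0) t

include he0 hinv in
theorem sigmaEquiv_tc (e : Fin n → ZMod p) (c : ZMod p) :
    sigmaEquiv p n b x e (tc p n b x e0 t c) = tc p n b x e0 t (c + ∑ i, e i * s i) := by
  unfold tc
  rw [← sigmaEquiv_add]
  have hsplit : e + c • e0 = (c + ∑ i, e i * s i) • e0 + (e - (∑ i, e i * s i) • e0) := by
    rw [add_smul]; abel
  have h0 : ∑ i, (e - (∑ i, e i * s i) • e0) i * s i = 0 := by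
    have : ∀ i, (e - (∑ i, e i * s i) • e0) i * s i =
        e i * s i - (∑ i, e i * s i) * (e0 i * s i) := by
      intro i
      rw [Pi.sub_apply, Pi.smul_apply, smul_eq_mul]; ring
    rw [Finset.sum_congr rfl (fun i _ => this i), Finset.sum_sub_distrib, ← Finset.mul_sum, he0,
      mul_one, sub_self]
  rw [hsplit, sigmaEquiv_add, hinv _ h0]

/-- the twisted traces. -/
noncomputable def Wm (m : ℕ) : AS p n (fun i => b i ^ (p - 1)) x :=
  ∑ c : ZMod p, (zz p n b x s γ + algebraMap R _ (d * cR p c)) ^ m * tc p n b x e0 t c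

include hγ he0 hinv in
theorem sigmaEquiv_Wm (e : Fin n → ZMod p) (m : ℕ) :
    sigmaEquiv p n b x e (Wm p n b x s γ d e0 t m) = Wm p n b x s γ d e0 t m := by
  unfold Wm
  rw [map_sum]
  have hterm : ∀ c : ZMod p,
      sigmaEquiv p n b x e ((zz p n b x s γ + algebraMap R _ (d * cR p c)) ^ m *
        tc p n b x e0 t c) =
      (zz p n b x s γ + algebraMap R _ (d * cR p (c + ∑ i, e i * s i))) ^ m *
        tc p n b x e0 t (c + ∑ i, e i * s i) := by
    intro c
    rw [map_mul, map_pow, map_add, AlgEquiv.commutes, sigmaEquiv_zz p n b x s γ d hγ,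
      sigmaEquiv_tc p n b x s e0 he0 t hinv]
    congr 2
    rw [add_assoc, ← map_add]
    congr 2
    unfold cR
    rw [map_add]; ring
  rw [Finset.sum_congr rfl (fun c _ => hterm c)]
  exact Fintype.sum_equiv (Equiv.addRight (∑ i, e i * s i)) _ _ (fun c => rfl)

omit [IsIntegrallyClosed R] [IsDomain (AS p n (fun i => b i ^ (p - 1)) x)]
  [CharP (AS p n (fun i => b i ^ (p - 1)) x) p] in
theorem isUnit_cR {c : ZMod p} (hc : c ≠ 0) : IsUnit (cR p c : R) :=
  (isUnit_iff_ne_zero.2 hc).map (ZMod.castHom (dvd_refl p) R)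

include hγ he0 hinv in
/-- a nonzero element `D`, all of whose prime divisors divide `d`, multiplying `t` into `R[z]`. -/
theorem exists_mul_mem_range (hb0 : ∀ i, b i ≠ 0) (hd : d ≠ 0) :
    ∃ D : R, D ≠ 0 ∧ (∀ π : R, Prime π → π ∣ D → π ∣ d) ∧
      algebraMap R (AS p n (fun i => b i ^ (p - 1)) x) D * t ∈
        (aeval (zz p n b x s γ) : R[X] →ₐ[R] AS p n (fun i => b i ^ (p - 1)) x).range := by
  classical
  set S := (aeval (zz p n b x s γ) : R[X] →ₐ[R] AS p n (fun i => b i ^ (p - 1)) x).range with hS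
  have hzS : zz p n b x s γ ∈ S := ⟨X, aeval_X _⟩
  let eqv : Fin p ≃ ZMod p := (Fintype.equivFinOfCardEq (ZMod.card p)).symm
  let v : Fin p → AS p n (fun i => b i ^ (p - 1)) x :=
    fun j => zz p n b x s γ + algebraMap R _ (d * cR p (eqv j))
  let T : Fin p → AS p n (fun i => b i ^ (p - 1)) x := fun j => tc p n b x e0 t (eqv j)
  have hv : ∀ j, v j ∈ S := fun j => S.add_mem hzS (S.algebraMap_mem _)
  have hW : ∀ m : Fin p, ∑ j, v j ^ (m : ℕ) * T j ∈ S := by
    intro m
    have h1 : ∑ j, v j ^ (m : ℕ) * T j = Wm p n b x s γ d e0 t m := by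
      unfold Wm
      exact Fintype.sum_equiv eqv _ _ (fun j => rfl)
    rw [h1]
    obtain ⟨r, hr⟩ := mem_range_of_fixed p n b x hb0 _
      (fun e => sigmaEquiv_Wm p n b x s γ d hγ e0 he0 t hinv e m)
    rw [← hr]
    exact S.algebraMap_mem r
  have hmain := vandermonde_mem S v T hv hW (eqv.symm 0)
  have hT0 : T (eqv.symm 0) = t := by
    change tc p n b x e0 t (eqv (eqv.symm 0)) = t
    rw [Equiv.apply_symm_apply]
    unfold tc
    rw [zero_smul, sigmaEquiv_zero]
  rw [hT0] at hmain
  refine ⟨∏ i, ∏ j ∈ Finset.Ioi i, (d * cR p (eqv j - eqv i)), ?_, ?_, ?_⟩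
  · rw [Finset.prod_ne_zero_iff]
    intro i _
    rw [Finset.prod_ne_zero_iff]
    intro j hj
    have hne : eqv j - eqv i ≠ 0 := by
      rw [sub_ne_zero]
      intro h
      have := eqv.injective h
      rw [Finset.mem_Ioi] at hj
      exact absurd this (ne_of_gt hj)
    exact mul_ne_zero hd (isUnit_cR p hne).ne_zero
  · intro π hπ hdvd
    obtain ⟨i, -, hi⟩ := hπ.exists_mem_finset_dvd hdvd
    obtain ⟨j, hj, hij⟩ := hπ.exists_mem_finset_dvd hi
    have hne : eqv j - eqv i ≠ 0 := by
      rw [sub_ne_zero]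
      intro h
      have := eqv.injective h
      rw [Finset.mem_Ioi] at hj
      exact absurd this (ne_of_gt hj)
    rcases hπ.dvd_or_dvd hij with h | h
    · exact h
    · exact absurd (isUnit_of_dvd_unit h (isUnit_cR p hne)) hπ.not_isUnit
  · have hprod : (∏ i, ∏ j ∈ Finset.Ioi i, (v j - v i)) =
        algebraMap R _ (∏ i, ∏ j ∈ Finset.Ioi i, (d * cR p (eqv j - eqv i))) := by
      rw [map_prod]
      refine Finset.prod_congr rfl fun i _ => ?_
      rw [map_prod]
      refine Finset.prod_congr rfl fun j _ => ?_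
      change (zz p n b x s γ + algebraMap R _ (d * cR p (eqv j))) -
        (zz p n b x s γ + algebraMap R _ (d * cR p (eqv i))) = _
      rw [add_sub_add_left_eq_sub, ← map_sub]
      congr 1
      unfold cR
      rw [map_sub]; ring
    rw [← hprod]
    exact hmain

end Trace

end Inv

end Groth.Agent.H10.Hs
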