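import Mathlib
import Groth.Agent.H10.Hs3

/-!
# Invariants of `H_s`: the main theorem
-/

set_option autoImplicit false

namespace Groth.Agent.H10.Hs

open Polynomial
open Groth.Agent.H78.ASFam Groth.Agent.H10.Frob Groth.Agent.H10.Minor

universe u

variable {R : Type u} [CommRing R] [IsDomain R] (p n : ℕ) [hp : Fact p.Prime] [CharP R p]
variable (b x : Fin n → R)
variable [IsDomain (AS p n (fun i => b i ^ (p - 1)) x)]
  [CharP (AS p n (fun i => b i ^ (p - 1)) x) p]
variable (s : Fin n → ZMod p) (γ : Fin n → R) (d : R)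
variable (hγ : ∀ i ∈ supp p n s, γ i * b i = cR p (s i) * d)
variable (hprime : ∀ π : R, Prime π → π ∣ d → ∃ i0 ∈ supp p n s, ¬ π ∣ γ i0)

include hγ hprime in
theorem mem_range_of_mul_mem [UniqueFactorizationMonoid R] :
    ∀ D : R, D ≠ 0 → (∀ π : R, Prime π → π ∣ D → π ∣ d) →
      ∀ t : AS p n (fun i => b i ^ (p - 1)) x,
        algebraMap R _ D * t ∈
          (aeval (zz p n b x s γ) : R[X] →ₐ[R] AS p n (fun i => b i ^ (p - 1)) x).range →
        t ∈ (aeval (zz p n b x s γ) : R[X] →ₐ[R] AS p n (fun i => b i ^ (p - 1)) x).range := by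
  have hp2 : 2 ≤ p := hp.out.two_le
  have hinj := algebraMap_injective_AS p n (fun i => b i ^ (p - 1)) x hp2
  have hmon := fpoly_monic p n x s γ d
  have hf0 := aeval_zz_fpoly p n b x s γ d hγ
  intro D
  induction D using UniqueFactorizationMonoid.induction_on_prime with
  | h₁ => intro h; exact absurd rfl h
  | h₂ D hD =>
    intro _ _ t ht
    obtain ⟨D', hD'⟩ := hD.exists_left_inv
    have : t = algebraMap R _ D' * (algebraMap R _ D * t) := by
      rw [← mul_assoc, ← map_mul, hD', map_one, one_mul]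
    rw [this]
    exact Subalgebra.mul_mem _ (Subalgebra.algebraMap_mem _ _) ht
  | h₃ D' π hD'0 hπ IH =>
    intro _ hdvd t ht
    obtain ⟨P0, hP0⟩ := ht
    replace hP0 : aeval (zz p n b x s γ) P0 = algebraMap R _ (π * D') * t := hP0
    -- reduce modulo f
    have hP : aeval (zz p n b x s γ) (P0 %ₘ fpoly p n x s γ d) = aeval (zz p n b x s γ) P0 := by
      have h2 := congrArg (aeval (zz p n b x s γ))
        (Polynomial.modByMonic_add_div P0 (fpoly p n x s γ d))
      rw [map_add, map_mul, hf0, zero_mul, add_zero] at h2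
      exact h2
    have hne1 : fpoly p n x s γ d ≠ 1 := by
      intro h
      have := fpoly_natDegree p n x s γ d
      rw [h, Polynomial.natDegree_one] at this
      exact hp.out.ne_zero this.symm
    have hdeg : (P0 %ₘ fpoly p n x s γ d).natDegree < p := by
      have := Polynomial.natDegree_modByMonic_lt P0 hmon hne1
      rwa [fpoly_natDegree] at this
    obtain ⟨i0, hi0, hπγ⟩ := hprime π hπ (hdvd π hπ (dvd_mul_right π D'))
    have heq : aeval (zz p n b x s γ) (P0 %ₘ fpoly p n x s γ d) =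
        algebraMap R _ π * (algebraMap R _ D' * t) := by
      rw [hP, hP0, map_mul, mul_assoc]
    obtain ⟨P', hP'⟩ := dvd_coeff_of_aeval_zz p n b x s γ i0 hi0 π hπ hπγ _ hdeg _ heq
    have hπ0 : algebraMap R (AS p n (fun i => b i ^ (p - 1)) x) π ≠ 0 := by
      intro h
      exact hπ.ne_zero (hinj (h.trans (map_zero _).symm))
    have h3 : algebraMap R _ D' * t = aeval (zz p n b x s γ) P' := by
      apply mul_left_cancel₀ hπ0
      rw [← heq, hP', map_mul, aeval_C]
    exact IH hD'0 (fun π' hπ' h' => hdvd π' hπ' (Dvd.dvd.mul_left h' π)) t ⟨P', h3.symm⟩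

include hγ hprime in
theorem main [IsIntegrallyClosed R] [UniqueFactorizationMonoid R] (hs : s ≠ 0)
    (hb0 : ∀ i, b i ≠ 0) (hd : d ≠ 0) (hγ0 : ∀ i ∈ supp p n s, γ i ≠ 0) :
    (∀ t : AS p n (fun i => b i ^ (p - 1)) x,
      (∀ e : Fin n → ZMod p, ∑ i, e i * s i = 0 → sigmaEquiv p n b x e t = t) ↔
        t ∈ (aeval (zz p n b x s γ) : R[X] →ₐ[R] AS p n (fun i => b i ^ (p - 1)) x).range) ∧
    RingHom.ker (aeval (zz p n b x s γ) : R[X] →ₐ[R] AS p n (fun i => b i ^ (p - 1)) x) =
      Ideal.span {fpoly p n x s γ d} := by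
  obtain ⟨i1, hi1⟩ : ∃ i1, s i1 ≠ 0 := by
    by_contra h
    push Not at h
    exact hs (funext h)
  have hi1s : i1 ∈ supp p n s := Finset.mem_filter.2 ⟨Finset.mem_univ _, hi1⟩
  refine ⟨fun t => ⟨fun hinv => ?_, ?_⟩, ker_aeval_zz p n b x s γ d hγ i1 hi1s (hγ0 i1 hi1s)⟩
  · have he0 : ∑ i, (Pi.single i1 (s i1)⁻¹ : Fin n → ZMod p) i * s i = 1 := by
      rw [Fintype.sum_eq_single i1]
      · rw [Pi.single_eq_same, inv_mul_cancel₀ hi1]
      · intro j hj
        rw [Pi.single_eq_of_ne hj, zero_mul]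
    obtain ⟨D, hD0, hDd, hDt⟩ := exists_mul_mem_range p n b x s γ d hγ
      (Pi.single i1 (s i1)⁻¹) he0 t hinv hb0 hd
    exact mem_range_of_mul_mem p n b x s γ d hγ hprime D hD0 hDd t hDt
  · rintro ⟨P, rfl⟩ e he
    have h1 : sigmaEquiv p n b x e (aeval (zz p n b x s γ) P) =
        aeval (sigmaEquiv p n b x e (zz p n b x s γ)) P :=
      (Polynomial.aeval_algHom_apply (sigmaEquiv p n b x e).toAlgHom (zz p n b x s γ) P).symm
    change sigmaEquiv p n b x e (aeval (zz p n b x s γ) P) = aeval (zz p n b x s γ) P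
    rw [h1, sigmaEquiv_zz p n b x s γ d hγ, he]
    unfold cR
    rw [map_zero, mul_zero, map_zero, add_zero]

end Groth.Agent.H10.Hs
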