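import Mathlib
import Groth.Agent.H10.Hs5

/-!
# Products of the basic automorphisms
-/

set_option autoImplicit false

namespace Groth.Agent.H10.Hs

open Polynomial
open Groth.Agent.H78.ASFam Groth.Agent.H10.Frob Groth.Agent.H10.Minor

universe u

variable {R : Type u} [CommRing R] [IsDomain R] (p n : ℕ) [hp : Fact p.Prime] [CharP R p]
variable (b x : Fin n → R)
variable [CharP (AS p n (fun i => b i ^ (p - 1)) x) p]

theorem algEquiv_ext_uu {f g : AS p n (fun i => b i ^ (p - 1)) x ≃ₐ[R] AS p n (fun i => b i ^ (p - 1)) x}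
    (h : ∀ i, f (uu p n (fun i => b i ^ (p - 1)) x i) = g (uu p n (fun i => b i ^ (p - 1)) x i)) :
    f = g := by
  have h1 : (f : AS p n (fun i => b i ^ (p - 1)) x →ₐ[R] AS p n (fun i => b i ^ (p - 1)) x) = g :=
    algHom_ext_uu p n b x h
  ext y
  exact congrFun (congrArg DFunLike.coe h1) y

theorem sigma_eq_Psi_single (σ : AS p n (fun i => b i ^ (p - 1)) x ≃ₐ[R] AS p n (fun i => b i ^ (p - 1)) x)
    (i : Fin n)
    (hσ : ∀ j, σ (uu p n (fun i => b i ^ (p - 1)) x j) = uu p n (fun i => b i ^ (p - 1)) x j +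
      (if i = j then algebraMap R _ (b i) else 0)) :
    σ = Psi p n b x (Multiplicative.ofAdd (Pi.single i 1)) := by
  apply algEquiv_ext_uu
  intro j
  rw [hσ j]
  change _ = sigmaEquiv p n b x (Pi.single i 1) _
  rw [sigmaEquiv_uu]
  congr 1
  by_cases hij : i = j
  · subst hij
    rw [if_pos rfl, Pi.single_eq_same]
    unfold cR
    rw [map_one, one_mul]
  · rw [if_neg hij, Pi.single_eq_of_ne (Ne.symm hij)]
    unfold cR
    rw [map_zero, zero_mul, map_zero]

theorem prod_eq_sigmaEquiv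
    (σ : Fin n → (AS p n (fun i => b i ^ (p - 1)) x ≃ₐ[R] AS p n (fun i => b i ^ (p - 1)) x))
    (hσ : ∀ i j, σ i (uu p n (fun i => b i ^ (p - 1)) x j) = uu p n (fun i => b i ^ (p - 1)) x j +
      (if i = j then algebraMap R _ (b i) else 0)) (ν : Fin n → ZMod p) :
    (List.ofFn (fun i => σ i ^ (ν i).val)).prod = sigmaEquiv p n b x ν := by
  have h1 : ∀ i, σ i ^ (ν i).val =
      Psi p n b x (Multiplicative.ofAdd (Pi.single i (ν i))) := by
    intro i
    rw [sigma_eq_Psi_single p n b x (σ i) i (hσ i), ← map_pow, ← ofAdd_nsmul]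
    congr 2
    funext j
    rw [Pi.smul_apply]
    by_cases hij : j = i
    · subst hij
      rw [Pi.single_eq_same, Pi.single_eq_same, nsmul_eq_mul, mul_one, ZMod.natCast_zmod_val]
    · rw [Pi.single_eq_of_ne hij, Pi.single_eq_of_ne hij, smul_zero]
  have h2 : (fun i => σ i ^ (ν i).val) =
      (Psi p n b x) ∘ (fun i => Multiplicative.ofAdd (Pi.single i (ν i))) := funext h1
  rw [h2, ← List.map_ofFn, ← map_list_prod, List.prod_ofFn]
  change sigmaEquiv p n b x (Multiplicative.toAdd (∏ i, Multiplicative.ofAdd (Pi.single i (ν i)))) = _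
  congr 1
  rw [toAdd_prod]
  simp only [toAdd_ofAdd]
  exact Finset.univ_sum_single ν

end Groth.Agent.H10.Hs
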