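import Mathlib
import Groth.Agent.H10.Hs6
import Groth.Agent.H61.PSDim
import Groth.Agent.H56.AusBuchUFD
import Groth.Agent.H14.RegularNormal

/-!
# Invariants of `H_s` for `R = k[[x_1, …, x_n]]`
-/

set_option autoImplicit false

namespace Groth.Agent.H10.Hs

open Polynomial
open Groth.Agent.H78.ASFam Groth.Agent.H10.Frob Groth.Agent.H10.Minor

universe u

open MvPolynomial in
theorem main_I (p : ℕ) [Fact p.Prime] (k : Type u) [Field k] [CharP k p] (n : ℕ) (hn : 2 ≤ n)
    (a : Fin n → MvPowerSeries (Fin n) k) (μ : MvPowerSeries (Fin n) k)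
    (ham : ∀ i, MvPowerSeries.constantCoeff (a i) = 0) (hcop : ∀ i j, i ≠ j → IsRelPrime (a i) (a j))
    (hμ : μ ≠ 0) (hμa : ∀ i, IsRelPrime μ (a i))
    (s : Fin n → ZMod p) (hs : s ≠ 0)
    (I : Ideal (MvPolynomial (Fin n) (MvPowerSeries (Fin n) k)))
    (hI : I = sepIdeal (asPoly p n (fun i => (μ * a i) ^ (p - 1))
      (MvPowerSeries.X : Fin n → MvPowerSeries (Fin n) k))) :
    let R := MvPowerSeries (Fin n) k
    let A := MvPolynomial (Fin n) R ⧸ I
    let u : Fin n → A := fun i => Ideal.Quotient.mk I (X i)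
    let c : Fin n → R := fun i => algebraMap k R (ZMod.castHom (dvd_refl p) k (s i))
    let α : R := ∏ i ∈ Finset.univ.filter (fun i => s i ≠ 0), a i
    let αi : Fin n → R := fun i => ∏ j ∈ (Finset.univ.filter (fun j => s j ≠ 0)).erase i, a j
    let z : A := ∑ i ∈ Finset.univ.filter (fun i => s i ≠ 0), algebraMap R A (c i * αi i) * u i
    let f : Polynomial R := Polynomial.X ^ p - Polynomial.C ((μ * α) ^ (p - 1)) * Polynomial.X
      - Polynomial.C (∑ i ∈ Finset.univ.filter (fun i => s i ≠ 0), c i * αi i ^ p * MvPowerSeries.X i)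
    ∀ σ : Fin n → (A ≃ₐ[R] A),
      (∀ i j, σ i (u j) = u j + (if i = j then algebraMap R A (μ * a i) else 0)) →
      (∀ t : A, (∀ ν : Fin n → ZMod p, ∑ i, ν i * s i = 0 →
          (List.ofFn (fun i : Fin n => σ i ^ (ν i).val)).prod t = t) ↔
        t ∈ (Polynomial.aeval z : Polynomial R →ₐ[R] A).range) ∧
      RingHom.ker (Polynomial.aeval z : Polynomial R →ₐ[R] A) = Ideal.span {f} := by
  subst hI
  intro R A u c α αi z f σ hσ
  haveI : CharP (MvPowerSeries (Fin n) k) p :=
    charP_of_injective_ringHom (f := (MvPowerSeries.C : k →+* MvPowerSeries (Fin n) k))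
      MvPowerSeries.C_injective p
  haveI : IsDomain (MvPowerSeries (Fin n) k) := NoZeroDivisors.to_isDomain _
  have hp2 : 2 ≤ p := (Fact.out : p.Prime).two_le
  -- all `a i` are nonzero
  have ha0 : ∀ i, a i ≠ 0 := by
    intro i h0
    obtain ⟨j, hj⟩ : ∃ j : Fin n, j ≠ i := by
      by_cases h : i = ⟨0, by omega⟩
      · exact ⟨⟨1, by omega⟩, by rw [h]; intro h'; simpa using congrArg Fin.val h'⟩
      · exact ⟨⟨0, by omega⟩, fun h' => h h'.symm⟩
    have h1 := hcop i j (Ne.symm hj)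
    rw [h0, isRelPrime_zero_left, MvPowerSeries.isUnit_iff_constantCoeff, ham j] at h1
    exact not_isUnit_zero h1
  have hnu : ∀ i, ¬ IsUnit (a i) := by
    intro i h
    rw [MvPowerSeries.isUnit_iff_constantCoeff, ham i] at h
    exact not_isUnit_zero h
  have hc : ∀ i, (μ * a i) ^ (p - 1) ∈ IsLocalRing.maximalIdeal (MvPowerSeries (Fin n) k) := by
    intro i
    apply Ideal.pow_mem_of_mem _ _ _ (by omega)
    apply Ideal.mul_mem_left
    rw [IsLocalRing.mem_maximalIdeal, mem_nonunits_iff]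
    exact hnu i
  have hxm := Groth.Agent.H61.maximalIdeal_ps_eq_span_X k n
  have hdim := Groth.Agent.H61.ringKrullDim_ps k n
  haveI : IsDomain (AS p n (fun i => (μ * a i) ^ (p - 1))
      (MvPowerSeries.X : Fin n → MvPowerSeries (Fin n) k)) :=
    isDomain_AS p n _ _ hp2 hc hxm hdim
  have hinj := algebraMap_injective_AS p n (fun i => (μ * a i) ^ (p - 1))
    (MvPowerSeries.X : Fin n → MvPowerSeries (Fin n) k) hp2
  haveI : CharP (AS p n (fun i => (μ * a i) ^ (p - 1))
      (MvPowerSeries.X : Fin n → MvPowerSeries (Fin n) k)) p :=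
    charP_of_injective_algebraMap hinj p
  haveI : IsIntegrallyClosed (MvPowerSeries (Fin n) k) :=
    Groth.Agent.H14.isIntegrallyClosed_of_isRegularLocalRing _
  haveI : UniqueFactorizationMonoid (MvPowerSeries (Fin n) k) :=
    Groth.Agent.H56.AusBuchUFD.uniqueFactorizationMonoid _
  -- identification of `c`
  have hcc : ∀ i, c i = cR p (s i) := by
    intro i
    have : (algebraMap k (MvPowerSeries (Fin n) k)).comp (ZMod.castHom (dvd_refl p) k) =
        ZMod.castHom (dvd_refl p) (MvPowerSeries (Fin n) k) := Subsingleton.elim _ _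
    exact congrFun (congrArg DFunLike.coe this) (s i)
  have hαi : ∀ i ∈ supp p n s, αi i * a i = α := by
    intro i hi
    exact Finset.prod_erase_mul _ _ hi
  have hγ : ∀ i ∈ supp p n s, (c i * αi i) * (μ * a i) = cR p (s i) * (μ * α) := by
    intro i hi
    rw [← hαi i hi, hcc i]; ring
  have hαi0 : ∀ i, αi i ≠ 0 := fun i => Finset.prod_ne_zero_iff.2 fun j _ => ha0 j
  have hα0 : α ≠ 0 := Finset.prod_ne_zero_iff.2 fun j _ => ha0 j
  have hcu : ∀ i ∈ supp p n s, IsUnit (c i) := by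
    intro i hi
    rw [hcc i]
    exact isUnit_cR p (Finset.mem_filter.1 hi).2
  have hγ0 : ∀ i ∈ supp p n s, c i * αi i ≠ 0 := fun i hi =>
    mul_ne_zero (hcu i hi).ne_zero (hαi0 i)
  have hnd : ∀ (π : MvPowerSeries (Fin n) k), Prime π → ∀ i ∈ supp p n s,
      (∀ j ∈ (supp p n s).erase i, ¬ π ∣ a j) → ¬ π ∣ c i * αi i := by
    intro π hπ i hi hj hdvd
    rcases hπ.dvd_or_dvd hdvd with h | h
    · exact hπ.not_isUnit (isUnit_of_dvd_unit h (hcu i hi))
    · obtain ⟨j, hjm, hjd⟩ := hπ.exists_mem_finset_dvd h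
      exact hj j hjm hjd
  have hprime : ∀ π : MvPowerSeries (Fin n) k, Prime π → π ∣ μ * α →
      ∃ i0 ∈ supp p n s, ¬ π ∣ c i0 * αi i0 := by
    intro π hπ hdvd
    obtain ⟨i1, hi1⟩ : ∃ i1, s i1 ≠ 0 := by
      by_contra h
      push Not at h
      exact hs (funext h)
    have hi1s : i1 ∈ supp p n s := Finset.mem_filter.2 ⟨Finset.mem_univ _, hi1⟩
    by_cases hπμ : π ∣ μ
    · refine ⟨i1, hi1s, hnd π hπ i1 hi1s fun j _ hj => ?_⟩
      exact hπ.not_isUnit (hμa j hπμ hj)
    · rcases hπ.dvd_or_dvd hdvd with h | h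
      · exact absurd h hπμ
      · obtain ⟨l, hl, hld⟩ := hπ.exists_mem_finset_dvd h
        refine ⟨l, hl, hnd π hπ l hl fun j hj hjd => ?_⟩
        exact hπ.not_isUnit (hcop l j (Finset.ne_of_mem_erase hj).symm hld hjd)
  have hb0 : ∀ i, μ * a i ≠ 0 := fun i => mul_ne_zero hμ (ha0 i)
  have hmain := main p n (fun i => μ * a i) (MvPowerSeries.X : Fin n → MvPowerSeries (Fin n) k) s
    (fun i => c i * αi i) (μ * α) hγ hprime hs hb0 (mul_ne_zero hμ hα0) hγ0
  have hcp : ∀ i, c i ^ p = c i := by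
    intro i
    rw [hcc i]
    unfold cR
    rw [← map_pow, ZMod.pow_card]
  have hsum : (∑ i ∈ supp p n s, c i * αi i ^ p * MvPowerSeries.X i : MvPowerSeries (Fin n) k) =
      ∑ i ∈ supp p n s, (c i * αi i) ^ p * MvPowerSeries.X i :=
    Finset.sum_congr rfl fun i _ => by rw [mul_pow, hcp i]
  have hf : f = fpoly p n (MvPowerSeries.X : Fin n → MvPowerSeries (Fin n) k) s
      (fun i => c i * αi i) (μ * α) := by
    unfold fpoly
    rw [← hsum]
  rw [hf]
  refine ⟨fun t => ?_, hmain.2⟩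
  refine Iff.trans ?_ (hmain.1 t)
  have hprod := prod_eq_sigmaEquiv p n (fun i => μ * a i)
    (MvPowerSeries.X : Fin n → MvPowerSeries (Fin n) k) σ hσ
  constructor
  · intro h e he
    rw [← hprod e]
    exact h e he
  · intro h ν hν
    rw [hprod ν]
    exact h ν hν

end Groth.Agent.H10.Hs
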