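import Mathlib
import Groth.Prelude.Def_Wider

/-!
# Objects of `D(A)` which look like a shifted residue field

An object `K` of `D(A)` with bounded cohomology, nonzero, killed by a maximal ideal `m`, without
negative self-extensions and whose endomorphisms are all scalars is isomorphic to a shift of
`A ⧸ m`.
-/

set_option autoImplicit false
universe u
open CategoryTheory CategoryTheory.Limits DerivedCategory
attribute [local instance] HasDerivedCategory.standard

namespace Groth.Agent.H10.IV

variable {A : Type u} [CommRing A]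

section Modules

variable (m : Ideal A) [m.IsMaximal]

/-- Two nonzero modules killed by a maximal ideal admit a nonzero linear map between them. -/
lemma exists_linearMap_ne_zero (M N : Type u) [AddCommGroup M] [Module A M] [AddCommGroup N]
    [Module A N] [Nontrivial M] [Nontrivial N] (hM : ∀ x ∈ m, ∀ v : M, x • v = 0)
    (hN : ∀ x ∈ m, ∀ v : N, x • v = 0) : ∃ f : M →ₗ[A] N, f ≠ 0 := by
  let _ : Field (A ⧸ m) := Ideal.Quotient.field m
  have hM' : Module.IsTorsionBySet A M (m : Set A) := fun v x => hM x.1 x.2 v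
  have hN' : Module.IsTorsionBySet A N (m : Set A) := fun v x => hN x.1 x.2 v
  let _ : Module (A ⧸ m) M := hM'.module
  let _ : Module (A ⧸ m) N := hN'.module
  have : IsScalarTower A (A ⧸ m) M := hM'.isScalarTower
  have : IsScalarTower A (A ⧸ m) N := hN'.isScalarTower
  obtain ⟨x, hx⟩ := exists_ne (0 : M)
  obtain ⟨y, hy⟩ := exists_ne (0 : N)
  obtain ⟨ψ, hψ⟩ : ∃ ψ : Module.Dual (A ⧸ m) M, ψ x ≠ 0 := by
    by_contra h
    push Not at h
    exact hx ((Module.forall_dual_apply_eq_zero_iff (A ⧸ m) x).1 h)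
  let g : M →ₗ[A ⧸ m] N := (LinearMap.toSpanSingleton (A ⧸ m) N y).comp ψ
  refine ⟨g.restrictScalars A, fun h0 => ?_⟩
  have h1 : g x = 0 := by
    have := congr($h0 x)
    simpa using this
  have h2 : ψ x • y = 0 := by simpa [g, LinearMap.toSpanSingleton_apply] using h1
  rcases smul_eq_zero.1 h2 with h3 | h3
  · exact hψ h3
  · exact hy h3

/-- A nonzero module killed by a maximal ideal all of whose endomorphisms are scalars is
isomorphic to the residue field. -/
lemma nonempty_linearEquiv_quotient (V : Type u) [AddCommGroup V] [Module A V] [Nontrivial V]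
    (hV : ∀ x ∈ m, ∀ v : V, x • v = 0)
    (hend : ∀ f : V →ₗ[A] V, ∃ a : A, ∀ v, f v = a • v) : Nonempty (V ≃ₗ[A] (A ⧸ m)) := by
  let _ : Field (A ⧸ m) := Ideal.Quotient.field m
  have hV' : Module.IsTorsionBySet A V (m : Set A) := fun v x => hV x.1 x.2 v
  let _ : Module (A ⧸ m) V := hV'.module
  have : IsScalarTower A (A ⧸ m) V := hV'.isScalarTower
  obtain ⟨x, hx⟩ := exists_ne (0 : V)
  obtain ⟨ψ, hψ⟩ : ∃ ψ : Module.Dual (A ⧸ m) V, ψ x ≠ 0 := by
    by_contra h
    push Not at h
    exact hx ((Module.forall_dual_apply_eq_zero_iff (A ⧸ m) x).1 h)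
  let p : V →ₗ[A ⧸ m] V := (LinearMap.toSpanSingleton (A ⧸ m) V x).comp ψ
  obtain ⟨a, ha⟩ := hend (p.restrictScalars A)
  have hp : ∀ v, ψ v • x = a • v := fun v => by
    have := ha v
    simpa [p, LinearMap.toSpanSingleton_apply] using this
  have hsm : ∀ v : V, a • v = (Ideal.Quotient.mk m a) • v := fun v =>
    (algebraMap_smul (A ⧸ m) a v).symm
  have ha0 : Ideal.Quotient.mk m a ≠ 0 := by
    intro h0
    have h1 := hp x
    rw [hsm, h0, zero_smul] at h1
    exact (smul_ne_zero hψ hx) h1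
  let ι : (A ⧸ m) →ₗ[A ⧸ m] V := LinearMap.toSpanSingleton (A ⧸ m) V x
  have hbij : Function.Bijective ι := by
    constructor
    · intro c d hcd
      have h1 : c • x = d • x := by simpa [ι, LinearMap.toSpanSingleton_apply] using hcd
      exact smul_left_injective (A ⧸ m) hx h1
    · intro v
      refine ⟨(Ideal.Quotient.mk m a)⁻¹ * ψ v, ?_⟩
      change ((Ideal.Quotient.mk m a)⁻¹ * ψ v) • x = v
      rw [mul_smul, hp v, hsm, smul_smul, inv_mul_cancel₀ ha0, one_smul]
  exact ⟨((LinearEquiv.ofBijective ι hbij).restrictScalars A).symm⟩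

end Modules

section Derived

variable (m : Ideal A) [m.IsMaximal]

/-- the module of a `ModuleCat` object is killed by `x` if `x • 𝟙 = 0` -/
lemma smul_eq_zero_of_smul_id {V : ModuleCat.{u} A} (x : A) (h : x • 𝟙 V = 0) (v : V) :
    x • v = 0 := by
  have := congr($(h).hom v)
  simp only [ModuleCat.hom_smul, ModuleCat.hom_id, LinearMap.smul_apply, LinearMap.id_coe, id_eq,
    ModuleCat.hom_zero, LinearMap.zero_apply] at this
  exact this

lemma single_smul_id (n : ℤ) (V : ModuleCat.{u} A) (x : A) :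
    x • 𝟙 ((singleFunctor (ModuleCat.{u} A) n).obj V) =
      (singleFunctor (ModuleCat.{u} A) n).map (x • 𝟙 V) := by
  rw [Functor.map_smul, CategoryTheory.Functor.map_id]

lemma smul_id_of_iso {K L : Dual.D A} (e : K ≅ L) (x : A) (h : x • 𝟙 K = 0) : x • 𝟙 L = 0 := by
  have : x • 𝟙 L = e.inv ≫ (x • 𝟙 K) ≫ e.hom := by
    rw [Linear.smul_comp, Linear.comp_smul, Category.id_comp, e.inv_hom_id]
  rw [this, h, zero_comp, comp_zero]

lemma nontrivial_of_not_isZero_single (n : ℤ) (V : ModuleCat.{u} A)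
    (h : ¬ IsZero ((singleFunctor (ModuleCat.{u} A) n).obj V)) : Nontrivial V := by
  by_contra hV
  rw [not_nontrivial_iff_subsingleton] at hV
  exact h ((singleFunctor (ModuleCat.{u} A) n).map_isZero (ModuleCat.isZero_of_subsingleton V))

/-- The two-ended argument: if `K` has top cohomology in degree `t` and `K'` has bottom
cohomology in degree `t`, both being killed by `m`, there is a nonzero map `K ⟶ K'`. -/
lemma exists_hom_ne_zero (K K' : Dual.D A) (t : ℤ) [K.IsLE t] (hK : ¬ K.IsLE (t - 1))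
    [K'.IsGE t] (hK' : ¬ K'.IsGE (t + 1)) (hmK : ∀ x ∈ m, x • 𝟙 K = 0)
    (hmK' : ∀ x ∈ m, x • 𝟙 K' = 0) : ∃ c : K ⟶ K', c ≠ 0 := by
  let T := (TStructure.t.truncGE t).obj K
  let π : K ⟶ T := (TStructure.t.truncGEπ t).app K
  let B := (TStructure.t.truncLE t).obj K'
  let ι : B ⟶ K' := (TStructure.t.truncLEι t).app K'
  have hT0 : ¬ IsZero T := fun h =>
    hK ((TStructure.t.isLE_iff_isZero_truncGE_obj (t - 1) t (by omega) K).2 h)
  have hB0 : ¬ IsZero B := fun h =>
    hK' ((TStructure.t.isGE_iff_isZero_truncLE_obj t (t + 1) rfl K').2 h)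
  have hTle : T.IsLE t := by
    change TStructure.t.IsLE ((TStructure.t.truncGE t).obj K) t
    infer_instance
  have hTge : T.IsGE t := by
    change TStructure.t.IsGE ((TStructure.t.truncGE t).obj K) t
    infer_instance
  have hBle : B.IsLE t := by
    change TStructure.t.IsLE ((TStructure.t.truncLE t).obj K') t
    infer_instance
  have hBge : B.IsGE t := by
    change TStructure.t.IsGE ((TStructure.t.truncLE t).obj K') t
    infer_instance
  obtain ⟨V, ⟨eT⟩⟩ := exists_iso_singleFunctor_obj_of_isGE_of_isLE T t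
  obtain ⟨W, ⟨eB⟩⟩ := exists_iso_singleFunctor_obj_of_isGE_of_isLE B t
  have hV : Nontrivial V := nontrivial_of_not_isZero_single t V (fun h => hT0 (IsZero.of_iso h eT))
  have hW : Nontrivial W := nontrivial_of_not_isZero_single t W (fun h => hB0 (IsZero.of_iso h eB))
  -- `T` and `B` are killed by `m`
  have hmT : ∀ x ∈ m, x • 𝟙 T = 0 := by
    intro x hx
    apply TStructure.t.from_truncGE_obj_ext (n := t) (X := K)
    change π ≫ (x • 𝟙 T) = π ≫ 0
    rw [Linear.comp_smul, Category.comp_id, comp_zero]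
    have : x • π = (x • 𝟙 K) ≫ π := by rw [Linear.smul_comp, Category.id_comp]
    rw [this, hmK x hx, zero_comp]
  have hmB : ∀ x ∈ m, x • 𝟙 B = 0 := by
    intro x hx
    apply TStructure.t.to_truncLE_obj_ext (n := t) (X := K')
    change (x • 𝟙 B) ≫ ι = 0 ≫ ι
    rw [Linear.smul_comp, Category.id_comp, zero_comp]
    have : x • ι = ι ≫ (x • 𝟙 K') := by rw [Linear.comp_smul, Category.comp_id]
    rw [this, hmK' x hx, comp_zero]
  have hmV : ∀ x ∈ m, ∀ v : V, x • v = 0 := by
    intro x hx v
    apply smul_eq_zero_of_smul_id x _ v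
    apply (singleFunctor (ModuleCat.{u} A) t).map_injective
    rw [← single_smul_id, Functor.map_zero]
    exact smul_id_of_iso eT x (hmT x hx)
  have hmW : ∀ x ∈ m, ∀ v : W, x • v = 0 := by
    intro x hx v
    apply smul_eq_zero_of_smul_id x _ v
    apply (singleFunctor (ModuleCat.{u} A) t).map_injective
    rw [← single_smul_id, Functor.map_zero]
    exact smul_id_of_iso eB x (hmB x hx)
  obtain ⟨θ, hθ⟩ := exists_linearMap_ne_zero m V W hmV hmW
  let r : T ⟶ B := eT.hom ≫ (singleFunctor (ModuleCat.{u} A) t).map (ModuleCat.ofHom θ) ≫ eB.inv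
  refine ⟨π ≫ r ≫ ι, fun h0 => hθ ?_⟩
  have h1 : r ≫ ι = 0 := by
    apply TStructure.t.from_truncGE_obj_ext (n := t) (X := K)
    change π ≫ r ≫ ι = π ≫ 0
    rw [h0, comp_zero]
  have h2 : r = 0 := by
    apply TStructure.t.to_truncLE_obj_ext (n := t) (X := K')
    change r ≫ ι = 0 ≫ ι
    rw [h1, zero_comp]
  have h3 : (singleFunctor (ModuleCat.{u} A) t).map (ModuleCat.ofHom θ) = 0 := by
    have : (singleFunctor (ModuleCat.{u} A) t).map (ModuleCat.ofHom θ) = eT.inv ≫ r ≫ eB.hom := by
      simp [r]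
    rw [this, h2, zero_comp, comp_zero]
  have h4 : ModuleCat.ofHom θ = 0 := by
    apply (singleFunctor (ModuleCat.{u} A) t).map_injective
    rw [h3, Functor.map_zero]
  have := congr($(h4).hom)
  simpa using this

/-- The characterization of shifted residue fields. -/
theorem exists_iso_shift_residue (K : Dual.D A) (a b : ℤ) [K.IsGE a] [K.IsLE b]
    (hK0 : ¬ IsZero K) (hm : ∀ x ∈ m, x • 𝟙 K = 0)
    (hneg : ∀ l : ℤ, l < 0 → ∀ f : K ⟶ K⟦l⟧, f = 0)
    (hend : ∀ f : K ⟶ K, ∃ x : A, f = x • 𝟙 K) :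
    ∃ s : ℤ, Nonempty (K ≅ (Dual.inD A (A ⧸ m))⟦s⟧) := by
  obtain ⟨j, hj, hjmax⟩ := Int.exists_greatest_of_bdd (P := fun z => K.IsGE z)
    ⟨b, fun z hz => by
      by_contra hlt
      push Not at hlt
      have : K.IsGE z := hz
      exact hK0 (TStructure.t.isZero K b z hlt)⟩ ⟨a, inferInstance⟩
  obtain ⟨t, ht, htmin⟩ := Int.exists_least_of_bdd (P := fun z => K.IsLE z)
    ⟨a, fun z hz => by
      by_contra hlt
      push Not at hlt
      have : K.IsLE z := hz
      exact hK0 (TStructure.t.isZero K z a hlt)⟩ ⟨b, inferInstance⟩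
  have hj' : K.IsGE j := hj
  have ht' : K.IsLE t := ht
  have hjt : j ≤ t := by
    by_contra hlt
    push Not at hlt
    exact hK0 (TStructure.t.isZero K t j hlt)
  have hj1 : ¬ K.IsGE (j + 1) := fun h => by
    have := hjmax (j + 1) h
    omega
  have ht1 : ¬ K.IsLE (t - 1) := fun h => by
    have := htmin (t - 1) h
    omega
  by_cases hlt : j < t
  · exfalso
    let K' : Dual.D A := K⟦j - t⟧
    have hK'ge : K'.IsGE t := TStructure.t.isGE_shift K j (j - t) t (by omega)
    have hK'1 : ¬ K'.IsGE (t + 1) := by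
      intro h
      have h1 : (K'⟦t - j⟧).IsGE (j + 1) := TStructure.t.isGE_shift K' (t + 1) (t - j) (j + 1) (by omega)
      have h2 : TStructure.t.IsGE
          ((shiftFunctor (Dual.D A) (j - t) ⋙ shiftFunctor (Dual.D A) (t - j)).obj K) (j + 1) := h1
      exact hj1 (TStructure.t.isGE_of_iso
        ((shiftFunctorCompIsoId (Dual.D A) (j - t) (t - j) (by omega)).app K) (j + 1))
    have hmK' : ∀ x ∈ m, x • 𝟙 K' = 0 := by
      intro x hx
      have : x • 𝟙 K' = (shiftFunctor (Dual.D A) (j - t)).map (x • 𝟙 K) := by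
        rw [Functor.map_smul, CategoryTheory.Functor.map_id]
      rw [this, hm x hx, Functor.map_zero]
    obtain ⟨c, hc⟩ := exists_hom_ne_zero m K K' t ht1 hK'1 hm hmK'
    exact hc (hneg (j - t) (by omega) c)
  · obtain rfl : j = t := by omega
    obtain ⟨V, ⟨e⟩⟩ := exists_iso_singleFunctor_obj_of_isGE_of_isLE K j
    have hV : Nontrivial V := nontrivial_of_not_isZero_single j V (fun h => hK0 (IsZero.of_iso h e))
    have hmV : ∀ x ∈ m, ∀ v : V, x • v = 0 := by
      intro x hx v
      apply smul_eq_zero_of_smul_id x _ v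
      apply (singleFunctor (ModuleCat.{u} A) j).map_injective
      rw [← single_smul_id, Functor.map_zero]
      exact smul_id_of_iso e x (hm x hx)
    have hendV : ∀ g : V →ₗ[A] V, ∃ x : A, ∀ v, g v = x • v := by
      intro g
      obtain ⟨x, hx⟩ := hend (e.hom ≫ (singleFunctor (ModuleCat.{u} A) j).map (ModuleCat.ofHom g) ≫ e.inv)
      refine ⟨x, fun v => ?_⟩
      have h1 : (singleFunctor (ModuleCat.{u} A) j).map (ModuleCat.ofHom g) =
          (singleFunctor (ModuleCat.{u} A) j).map (x • 𝟙 V) := by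
        rw [← single_smul_id]
        have : (singleFunctor (ModuleCat.{u} A) j).map (ModuleCat.ofHom g) =
            e.inv ≫ (e.hom ≫ (singleFunctor (ModuleCat.{u} A) j).map (ModuleCat.ofHom g) ≫ e.inv) ≫
              e.hom := by simp
        rw [this, hx, Linear.smul_comp, Linear.comp_smul, Category.id_comp, e.inv_hom_id]
      have h2 := (singleFunctor (ModuleCat.{u} A) j).map_injective h1
      have := congr($(h2).hom v)
      simpa using this
    obtain ⟨ℓ⟩ := nonempty_linearEquiv_quotient m V hmV hendV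
    refine ⟨-j, ⟨e ≪≫ (singleFunctor (ModuleCat.{u} A) j).mapIso ℓ.toModuleIso ≪≫
      (((singleFunctors (ModuleCat.{u} A)).shiftIso (-j) j 0 (by omega)).app
        (ModuleCat.of A (A ⧸ m))).symm⟩⟩

end Derived

end Groth.Agent.H10.IV
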