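import Groth.Agent.H10.IV1
import Groth.Agent.H28.DualField

/-!
# Objects of `D(k)`, `k` a field, detected by maps to shifts of `k`
-/

set_option autoImplicit false
universe u
open CategoryTheory CategoryTheory.Limits DerivedCategory Pretriangulated
attribute [local instance] HasDerivedCategory.standard

namespace Groth.Agent.H10.IV

variable {k : Type u} [Field k]

/-- `k` placed in degree `j`. -/
noncomputable abbrev Fk (k : Type u) [Field k] (j : ℤ) : Dual.D k :=
  (singleFunctor (ModuleCat.{u} k) j).obj (ModuleCat.of k k)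

lemma exists_dual_ne_zero (V : Type u) [AddCommGroup V] [Module k V] (v : V) (hv : v ≠ 0) :
    ∃ ψ : Module.Dual k V, ψ v ≠ 0 := by
  have : Module.Free k V := Module.Free.of_divisionRing k V
  by_contra h'
  push Not at h'
  exact hv ((Module.forall_dual_apply_eq_zero_iff k v).1 h')

/-- If all maps `X ⟶ k[-j]` vanish then `H^j(X) = 0`. -/
lemma isZero_homology_of_hom_eq_zero (X : Dual.D k) (j : ℤ)
    (h : ∀ g : X ⟶ Fk k j, g = 0) :
    IsZero ((homologyFunctor (ModuleCat.{u} k) j).obj X) := by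
  let t := TStructure.t (C := ModuleCat.{u} k)
  let X' := (t.truncGE j).obj X
  let π : X ⟶ X' := (t.truncGEπ j).app X
  let B := (t.truncLE j).obj X'
  let ι : B ⟶ X' := (t.truncLEι j).app X'
  have hX'ge : X'.IsGE j := by
    change t.IsGE ((t.truncGE j).obj X) j
    infer_instance
  have hBle : B.IsLE j := by
    change t.IsLE ((t.truncLE j).obj X') j
    infer_instance
  have hBge : B.IsGE j := by
    change t.IsGE ((t.truncLE j).obj X') j
    infer_instance
  obtain ⟨V, ⟨e⟩⟩ := exists_iso_singleFunctor_obj_of_isGE_of_isLE B j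
  have hV : Subsingleton V := by
    by_contra hV
    rw [not_subsingleton_iff_nontrivial] at hV
    obtain ⟨x, hx⟩ := exists_ne (0 : V)
    obtain ⟨ψ, hψ⟩ := exists_dual_ne_zero (k := k) V x hx
    let g'' : B ⟶ Fk k j := e.hom ≫ (singleFunctor (ModuleCat.{u} k) j).map (ModuleCat.ofHom ψ)
    let T := (t.triangleLEGE j (j + 1) rfl).obj X'
    have hT : T ∈ distTriang (Dual.D k) := t.triangleLEGE_distinguished j (j + 1) rfl X'
    have h₃ : Subsingleton (T.obj₃⟦(-1 : ℤ)⟧ ⟶ Fk k j) := by
      have h1 : T.obj₃.IsGE (j + 1) := by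
        change t.IsGE ((t.truncGE (j + 1)).obj X') (j + 1)
        infer_instance
      have h2 : (T.obj₃⟦(-1 : ℤ)⟧).IsGE (j + 2) :=
        t.isGE_shift T.obj₃ (j + 1) (-1) (j + 2) (by omega)
      exact Groth.Agent.H28.DualField.subsingleton_hom_single (ModuleCat.of k k) j (j + 2)
        (by omega) _
    obtain ⟨g', hg''⟩ : ∃ g' : X' ⟶ Fk k j, g'' = ι ≫ g' :=
      Triangle.yoneda_exact₂ T.invRotate (inv_rot_of_distTriang T hT) g'' (h₃.elim _ _)
    have h0 : π ≫ g' = 0 := h _
    have h1 : g' = 0 := by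
      apply t.from_truncGE_obj_ext (n := j) (X := X)
      change π ≫ g' = π ≫ 0
      rw [h0, comp_zero]
    have h2 : g'' = 0 := by rw [hg'', h1, comp_zero]
    have h3 : (singleFunctor (ModuleCat.{u} k) j).map (ModuleCat.ofHom ψ) = 0 := by
      have : (singleFunctor (ModuleCat.{u} k) j).map (ModuleCat.ofHom ψ) = e.inv ≫ g'' := by
        simp [g'']
      rw [this, h2, comp_zero]
    have h4 : ModuleCat.ofHom ψ = 0 := by
      apply (singleFunctor (ModuleCat.{u} k) j).map_injective
      rw [h3, Functor.map_zero]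
    apply hψ
    have := congr($(h4).hom x)
    simpa using this
  have hB0 : IsZero B :=
    IsZero.of_iso ((singleFunctor (ModuleCat.{u} k) j).map_isZero
      (ModuleCat.isZero_of_subsingleton V)) e
  have hX'1 : X'.IsGE (j + 1) := (t.isGE_iff_isZero_truncLE_obj j (j + 1) rfl X').2 hB0
  have hH' : IsZero ((homologyFunctor (ModuleCat.{u} k) j).obj X') :=
    X'.isZero_of_isGE (j + 1) j (by omega)
  have hT2 := t.triangleLTGE_distinguished j X
  have hmono : Mono ((homologyFunctor (ModuleCat.{u} k) j).map π) := by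
    have h := (homologyFunctor (ModuleCat.{u} k) 0).homologySequence_mono_shift_map_mor₂_iff _ hT2 j
    refine h.mpr ?_
    apply IsZero.eq_of_src
    exact isZero_of_isLE ((t.truncLT j).obj X) (j - 1) j (by omega)
  exact IsZero.of_mono ((homologyFunctor (ModuleCat.{u} k) j).map π) hH'

/-- An object of `D(k)` with cohomology only in degree `j` and such that `Hom(X, k[-j])` is
nonzero and cyclic over `k` is isomorphic to `k[-j]`. -/
lemma nonempty_iso_Fk (X : Dual.D k) (j : ℤ)
    (hvan : ∀ i : ℤ, i ≠ j → IsZero ((homologyFunctor (ModuleCat.{u} k) i).obj X))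
    (g₀ : X ⟶ Fk k j) (hg₀ : g₀ ≠ 0) (hcyc : ∀ g : X ⟶ Fk k j, ∃ c : k, g = c • g₀) :
    Nonempty (X ≅ Fk k j) := by
  have hge : X.IsGE j := by
    rw [isGE_iff]
    intro i hi
    exact hvan i (by omega)
  have hle : X.IsLE j := by
    rw [isLE_iff]
    intro i hi
    exact hvan i (by omega)
  obtain ⟨V, ⟨e⟩⟩ := exists_iso_singleFunctor_obj_of_isGE_of_isLE X j
  obtain ⟨φ₀, hφ₀⟩ := (singleFunctor (ModuleCat.{u} k) j).map_surjective (e.inv ≫ g₀)
  have hg₀' : g₀ = e.hom ≫ (singleFunctor (ModuleCat.{u} k) j).map φ₀ := by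
    rw [hφ₀, e.hom_inv_id_assoc]
  have hφ₀ne : φ₀ ≠ 0 := by
    intro h0
    apply hg₀
    rw [hg₀', h0, Functor.map_zero, comp_zero]
  have hinj : Function.Injective φ₀.hom := by
    rw [← LinearMap.ker_eq_bot, LinearMap.ker_eq_bot']
    intro v hv
    by_contra hv0
    obtain ⟨ψ, hψ⟩ := exists_dual_ne_zero (k := k) V v hv0
    obtain ⟨c, hc⟩ := hcyc (e.hom ≫ (singleFunctor (ModuleCat.{u} k) j).map (ModuleCat.ofHom ψ))
    have h1 : (singleFunctor (ModuleCat.{u} k) j).map (ModuleCat.ofHom ψ) =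
        (singleFunctor (ModuleCat.{u} k) j).map (c • φ₀) := by
      rw [Functor.map_smul, ← cancel_epi e.hom, hc, hg₀', Linear.comp_smul]
    have h2 := (singleFunctor (ModuleCat.{u} k) j).map_injective h1
    apply hψ
    have := congr($(h2).hom v)
    simp only [ModuleCat.hom_ofHom, ModuleCat.hom_smul, LinearMap.smul_apply] at this
    rw [this, hv, smul_zero]
  have hsurj : Function.Surjective φ₀.hom := by
    have : ∃ v : V, φ₀.hom v ≠ 0 := by
      by_contra h'
      push Not at h'
      apply hφ₀ne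
      ext v
      exact h' v
    obtain ⟨v, hv⟩ := this
    intro c
    refine ⟨(c * (φ₀.hom v)⁻¹) • v, ?_⟩
    rw [map_smul, smul_eq_mul, mul_assoc, inv_mul_cancel₀ hv, mul_one]
  let ℓ : V ≃ₗ[k] k := LinearEquiv.ofBijective φ₀.hom ⟨hinj, hsurj⟩
  exact ⟨e ≪≫ (singleFunctor (ModuleCat.{u} k) j).mapIso ℓ.toModuleIso⟩

end Groth.Agent.H10.IV
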