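import Groth.Agent.H10.IV2
import Groth.Agent.H5.LBaseChangeAdj

/-!
# Semilinearity of restriction of scalars on derived categories, and maps to residue fields
-/

set_option autoImplicit false
universe u
open CategoryTheory CategoryTheory.Limits DerivedCategory Pretriangulated
attribute [local instance] HasDerivedCategory.standard

namespace Groth.Agent.H10.IV

section Semilinear

variable {A B : Type u} [CommRing A] [CommRing B] (φ : A →+* B)

lemma restrictScalars_map_smul_id (M : ModuleCat.{u} B) (a : A) :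
    (ModuleCat.restrictScalars.{u} φ).map ((φ a) • 𝟙 M) =
      a • 𝟙 ((ModuleCat.restrictScalars.{u} φ).obj M) := by
  ext x
  rfl

lemma mapHomologicalComplex_map_smul_id (Y₀ : DRing.Cx B) (a : A) :
    ((ModuleCat.restrictScalars.{u} φ).mapHomologicalComplex (ComplexShape.up ℤ)).map
        ((φ a) • 𝟙 Y₀) =
      a • 𝟙 (((ModuleCat.restrictScalars.{u} φ).mapHomologicalComplex (ComplexShape.up ℤ)).obj Y₀) := by
  ext i : 1
  exact restrictScalars_map_smul_id φ (Y₀.X i) a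

/-- Restriction of scalars is semilinear. -/
lemma restrictD_map_smul_id (Y : Dual.D B) (a : A) :
    (DRing.restrictD φ).map ((φ a) • 𝟙 Y) = a • 𝟙 ((DRing.restrictD φ).obj Y) := by
  let Y₀ := Q.objPreimage Y
  let i : Q.obj Y₀ ≅ Y := Q.objObjPreimageIso Y
  have h1 : (φ a) • 𝟙 Y = i.inv ≫ Q.map ((φ a) • 𝟙 Y₀) ≫ i.hom := by
    rw [Functor.map_smul, CategoryTheory.Functor.map_id, Linear.smul_comp, Linear.comp_smul,
      Category.id_comp, i.inv_hom_id]
  let F := ModuleCat.restrictScalars.{u} φ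
  have h2 : (DRing.restrictD φ).map (Q.map ((φ a) • 𝟙 Y₀)) =
      a • 𝟙 ((DRing.restrictD φ).obj (Q.obj Y₀)) := by
    have nat := F.mapDerivedCategoryFactors_hom_naturality ((φ a) • 𝟙 Y₀)
    have h3 : (DRing.restrictD φ).map (Q.map ((φ a) • 𝟙 Y₀)) =
        F.mapDerivedCategoryFactors.hom.app Y₀ ≫
          Q.map ((F.mapHomologicalComplex (ComplexShape.up ℤ)).map ((φ a) • 𝟙 Y₀)) ≫
          F.mapDerivedCategoryFactors.inv.app Y₀ := by
      rw [← cancel_mono (F.mapDerivedCategoryFactors.hom.app Y₀)]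
      simpa using nat
    rw [h3, mapHomologicalComplex_map_smul_id, Functor.map_smul, CategoryTheory.Functor.map_id]
    simp only [Linear.smul_comp, Linear.comp_smul]
    erw [Category.id_comp, Iso.hom_inv_id_app]
    rfl
  rw [h1, Functor.map_comp, Functor.map_comp, h2, Linear.smul_comp, Linear.comp_smul,
    Category.id_comp, ← Functor.map_comp, i.inv_hom_id, CategoryTheory.Functor.map_id]

variable {L : Dual.D A ⥤ Dual.D B} (adj : L ⊣ DRing.restrictD φ)

include adj in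
/-- The adjunction bijection is semilinear. -/
lemma homEquiv_smul (E : Dual.D A) (Y : Dual.D B) (g : L.obj E ⟶ Y) (a : A) :
    adj.homEquiv E Y ((φ a) • g) = a • adj.homEquiv E Y g := by
  have h1 : (φ a) • g = g ≫ ((φ a) • 𝟙 Y) := by rw [Linear.comp_smul, Category.comp_id]
  rw [Adjunction.homEquiv_unit, Adjunction.homEquiv_unit, h1, Functor.map_comp,
    restrictD_map_smul_id, Linear.comp_smul, Linear.comp_smul, Category.comp_id]

end Semilinear

section Residue

variable {A : Type u} [CommRing A] (m : Ideal A)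

/-- `A ⧸ m` as a module over itself, restricted to `A`, is `A ⧸ m`. -/
noncomputable def resQuotientIso :
    (ModuleCat.restrictScalars.{u} (Ideal.Quotient.mk m)).obj (ModuleCat.of (A ⧸ m) (A ⧸ m)) ≅
      ModuleCat.of A (A ⧸ m) :=
  LinearEquiv.toModuleIso
    { toFun := fun x => x
      invFun := fun x => x
      map_add' := fun _ _ => rfl
      map_smul' := fun a x => by
        change (Ideal.Quotient.mk m a) • (x : A ⧸ m) = a • (x : A ⧸ m)
        rw [Algebra.smul_def]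
        rfl
      left_inv := fun _ => rfl
      right_inv := fun _ => rfl }

/-- The residue field `A ⧸ m` as an object of `D(A)`. -/
noncomputable abbrev kap : Dual.D A := Dual.inD A (A ⧸ m)

/-- `A ⧸ m` placed in degree `j` (as an object of `D(A ⧸ m)`). -/
noncomputable abbrev Gk (j : ℤ) : Dual.D (A ⧸ m) :=
  (singleFunctor (ModuleCat.{u} (A ⧸ m)) j).obj (ModuleCat.of (A ⧸ m) (A ⧸ m))

/-- The restriction to `A` of `A ⧸ m` placed in degree `j` is `(A ⧸ m)[i]`, `i + j = 0`. -/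
noncomputable def resGkIso (j i : ℤ) (h : i + j = 0) :
    (DRing.restrictD (Ideal.Quotient.mk m)).obj (Gk m j) ≅ (kap m)⟦i⟧ :=
  ((ModuleCat.restrictScalars.{u} (Ideal.Quotient.mk m)).mapDerivedCategorySingleFunctor j).app
      (ModuleCat.of (A ⧸ m) (A ⧸ m)) ≪≫
    (singleFunctor (ModuleCat.{u} A) j).mapIso (resQuotientIso m) ≪≫
    (((singleFunctors (ModuleCat.{u} A)).shiftIso i j 0 h).app (ModuleCat.of A (A ⧸ m))).symm

variable {L : Dual.D A ⥤ Dual.D (A ⧸ m)} (adj : L ⊣ DRing.restrictD (Ideal.Quotient.mk m))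

/-- Maps `E ⊗^L A/m ⟶ (A/m)[-j]` over `A ⧸ m` correspond to maps `E ⟶ (A/m)[i]` over `A`. -/
noncomputable def thetaEquiv (E : Dual.D A) (j i : ℤ) (h : i + j = 0) :
    (L.obj E ⟶ Gk m j) ≃ (E ⟶ (kap m)⟦i⟧) :=
  (adj.homEquiv E (Gk m j)).trans ((Iso.refl E).homCongr (resGkIso m j i h))

lemma thetaEquiv_apply (E : Dual.D A) (j i : ℤ) (h : i + j = 0) (g : L.obj E ⟶ Gk m j) :
    thetaEquiv m adj E j i h g = adj.homEquiv E (Gk m j) g ≫ (resGkIso m j i h).hom := by
  simp [thetaEquiv, Iso.homCongr]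

lemma thetaEquiv_smul (E : Dual.D A) (j i : ℤ) (h : i + j = 0) (g : L.obj E ⟶ Gk m j) (a : A) :
    thetaEquiv m adj E j i h ((Ideal.Quotient.mk m a) • g) = a • thetaEquiv m adj E j i h g := by
  rw [thetaEquiv_apply, thetaEquiv_apply, homEquiv_smul, Linear.smul_comp]

lemma thetaEquiv_zero (E : Dual.D A) (j i : ℤ) (h : i + j = 0) :
    thetaEquiv m adj E j i h 0 = 0 := by
  rw [thetaEquiv_apply, Adjunction.homEquiv_unit, Functor.map_zero, comp_zero, zero_comp]

include adj in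
/-- Vanishing of maps to `(A/m)[i]` gives vanishing of maps to `(A/m)[-j]` after base change. -/
lemma hom_Gk_eq_zero (E : Dual.D A) (j i : ℤ) (h : i + j = 0)
    (hE : ∀ f : E ⟶ (kap m)⟦i⟧, f = 0) (g : L.obj E ⟶ Gk m j) : g = 0 := by
  apply (thetaEquiv m adj E j i h).injective
  rw [thetaEquiv_zero]
  exact hE _

include adj in
/-- Cyclicity of `Hom(E, (A/m)[i])` over `A` gives cyclicity after base change. -/
lemma exists_cyclic_Gk (E : Dual.D A) (j i : ℤ) (h : i + j = 0) (f₀ : E ⟶ (kap m)⟦i⟧)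
    (hf₀ : f₀ ≠ 0) (hcyc : ∀ f : E ⟶ (kap m)⟦i⟧, ∃ a : A, f = a • f₀) :
    ∃ g₀ : L.obj E ⟶ Gk m j, g₀ ≠ 0 ∧ ∀ g : L.obj E ⟶ Gk m j, ∃ c : A ⧸ m, g = c • g₀ := by
  refine ⟨(thetaEquiv m adj E j i h).symm f₀, fun h0 => hf₀ ?_, fun g => ?_⟩
  · have := congrArg (thetaEquiv m adj E j i h) h0
    rwa [Equiv.apply_symm_apply, thetaEquiv_zero] at this
  · obtain ⟨a, ha⟩ := hcyc (thetaEquiv m adj E j i h g)
    refine ⟨Ideal.Quotient.mk m a, ?_⟩
    apply (thetaEquiv m adj E j i h).injective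
    rw [thetaEquiv_smul, Equiv.apply_symm_apply, ha]

section Field

variable [m.IsMaximal]

include adj in
lemma isZero_homology_baseChange (E : Dual.D A) (j i : ℤ) (h : i + j = 0)
    (hE : ∀ f : E ⟶ (kap m)⟦i⟧, f = 0) :
    IsZero ((homologyFunctor (ModuleCat.{u} (A ⧸ m)) j).obj (L.obj E)) := by
  let _ : Field (A ⧸ m) := Ideal.Quotient.field m
  exact isZero_homology_of_hom_eq_zero (k := A ⧸ m) (L.obj E) j
    (fun g => hom_Gk_eq_zero m adj E j i h hE g)

include adj in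
lemma nonempty_baseChange_iso_Gk (E : Dual.D A) (j s : ℤ) (h : s + j = 0)
    (hvan : ∀ i : ℤ, i ≠ s → ∀ f : E ⟶ (kap m)⟦i⟧, f = 0)
    (f₀ : E ⟶ (kap m)⟦s⟧) (hf₀ : f₀ ≠ 0) (hcyc : ∀ f : E ⟶ (kap m)⟦s⟧, ∃ a : A, f = a • f₀) :
    Nonempty (L.obj E ≅ Gk m j) := by
  let _ : Field (A ⧸ m) := Ideal.Quotient.field m
  obtain ⟨g₀, hg₀, hg⟩ := exists_cyclic_Gk m adj E j s h f₀ hf₀ hcyc
  refine nonempty_iso_Fk (k := A ⧸ m) (L.obj E) j (fun i hi => ?_) g₀ hg₀ hg
  exact isZero_homology_baseChange m adj E i (-i) (by omega) (hvan (-i) (by omega))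

end Field

end Residue

end Groth.Agent.H10.IV
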