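import Groth.Agent.H10.WO2
import Groth.Agent.H10.DT5
import Groth.Agent.H35.TensorAmp
import Groth.Agent.H35.InjBounded

/-!
# Amplitude of `A[-k] ⊗^L Y`, and vanishing of maps to complexes of finite injective dimension
-/

set_option autoImplicit false
universe u
open CategoryTheory CategoryTheory.Limits MonoidalCategory DerivedCategory
attribute [local instance] HasDerivedCategory.standard

namespace Groth.Agent.H10.WO

open DTen Groth.Agent.H10.DT HomologicalComplex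

variable {A : Type u} [CommRing A]

/-- The complex `A` in degree `k`. -/
noncomputable abbrev Sk (k : ℤ) : DRing.Cx A :=
  (HomologicalComplex.single (ModuleCat.{u} A) (ComplexShape.up ℤ) k).obj (ModuleCat.of A A)

lemma isZero_Sk_X (k p : ℤ) (h : p ≠ k) : IsZero ((Sk (A := A) k).X p) :=
  isZero_single_obj_X (ComplexShape.up ℤ) k (ModuleCat.of A A) p h

lemma isKFlat_Sk (k : ℤ) : DRing.IsKFlat A (Sk k) := by
  refine isKFlat_of_bounded_flat (Sk k) k (fun i hi => isZero_Sk_X k i (by omega)) (fun n => ?_)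
  by_cases hn : n = k
  · subst hn
    exact Module.Flat.of_linearEquiv
      (HomologicalComplex.singleObjXSelf (ComplexShape.up ℤ) n (ModuleCat.of A A)).toLinearEquiv
  · have := ModuleCat.subsingleton_of_isZero (isZero_Sk_X (A := A) k n hn)
    infer_instance

/-- `A[-k] ≅ Q (Sk k)`. -/
noncomputable def TkIso (k : ℤ) : Tk (A := A) k ≅ q (Sk k) :=
  (singleFunctorIsoCompQ (ModuleCat.{u} A) k).app (ModuleCat.of A A)

section Tensor

variable [DTen.HasLTen A]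

/-- `A[-k] ⊗^L Y ≅ Q (Sk k ⊗ Y₀)`. -/
noncomputable def tnTkIso (k : ℤ) (Y : Dual.D A) (Y₀ : DRing.Cx A) (e : Y ≅ q Y₀) :
    tn (Tk k) Y ≅ q (Sk k ⊗ Y₀) :=
  haveI : IsIso (ee (Sk k) Y₀) := isIso_ee (Sk k) Y₀ (Or.inl (isKFlat_Sk k))
  (LTen₂ A).mapIso (Iso.prod (TkIso k) e) ≪≫ asIso (ee (Sk k) Y₀)

lemma isGE_tn_Tk (k m n : ℤ) (hn : k + m = n) (Y : Dual.D A) [Y.IsGE m] :
    (tn (Tk k) Y).IsGE n := by
  let Y₀ := Q.objPreimage Y
  let e : Y ≅ q Y₀ := (Q.objObjPreimageIso Y).symm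
  have h1 : (Q.obj Y₀).IsGE m := TStructure.t.isGE_of_iso e m
  have h2 : Y₀.IsGE m := (isGE_Q_obj_iff Y₀ m).1 h1
  have h3 : (Sk (A := A) k ⊗ Y₀).IsGE n := by
    rw [CochainComplex.isGE_iff]
    intro i hi
    exact Groth.Agent.H35.LT.exactAt_tensor_of_lt (Sk k) Y₀ (isKFlat_Sk k) k m
      (fun p hp => isZero_Sk_X k p (by omega)) i (by omega)
  exact TStructure.t.isGE_of_iso (tnTkIso k Y Y₀ e).symm n

lemma isLE_tn_Tk (k m n : ℤ) (hn : k + m = n) (Y : Dual.D A) [Y.IsLE m] :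
    (tn (Tk k) Y).IsLE n := by
  let Y₀ := Q.objPreimage Y
  let e : Y ≅ q Y₀ := (Q.objObjPreimageIso Y).symm
  have h1 : (Q.obj Y₀).IsLE m := TStructure.t.isLE_of_iso e m
  have h2 : Y₀.IsLE m := (isLE_Q_obj_iff Y₀ m).1 h1
  have h3 : (Sk (A := A) k ⊗ Y₀).IsLE n := by
    rw [CochainComplex.isLE_iff]
    intro i hi
    exact Groth.Agent.H35.LT.exactAt_tensor_of_gt (Sk k) Y₀ (isKFlat_Sk k) k m
      (fun p hp => isZero_Sk_X k p (by omega)) i (by omega)
  exact TStructure.t.isLE_of_iso (tnTkIso k Y Y₀ e).symm n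

end Tensor

section Injective

/-- Maps from `D^{> b}` to a complex of injective amplitude `≤ b` vanish. -/
theorem hom_eq_zero_of_hasInjAmplitudeIn (M : Dual.D A) (a b : ℤ)
    (hM : DRing.HasInjAmplitudeIn A a b M) (Z : Dual.D A) (n : ℤ) (hn : b < n) [Z.IsGE n]
    (f : Z ⟶ M) : f = 0 := by
  obtain ⟨J, hJ, hinj, ⟨e⟩⟩ := hM
  have : J.IsKInjective := Groth.Agent.H35.isKInjective_of_vanishesBelow A J a
    (fun j hj => hJ j (Or.inl hj)) hinj
  obtain ⟨Z₀, hZ₀, ⟨eZ⟩⟩ := Z.exists_iso_Q_obj_of_isGE n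
  obtain ⟨g, hg⟩ := Groth.Agent.H35.Q_map_surjective_of_isKInjective Z₀ J
    (eZ.inv ≫ f ≫ e.inv)
  have hg0 : g = 0 := by
    apply HomologicalComplex.hom_ext
    intro i
    by_cases hi : i < n
    · exact (CochainComplex.isZero_of_isStrictlyGE Z₀ n i hi).eq_of_src _ _
    · exact (hJ i (Or.inr (by omega))).eq_of_tgt _ _
  rw [hg0, Functor.map_zero] at hg
  have h2 : f = eZ.hom ≫ (eZ.inv ≫ f ≫ e.inv) ≫ e.hom := by simp
  rw [h2, ← hg, zero_comp, comp_zero]

end Injective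

end Groth.Agent.H10.WO
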