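import Groth.Agent.H10.IV3
import Groth.Agent.H10.DT3
import Groth.Agent.H10.WO3
import Mathlib.CategoryTheory.Monoidal.Rigid.Basic

/-!
# Exact pairings with an invertible object: the evaluation is an isomorphism
-/

set_option autoImplicit false
universe v u
open CategoryTheory MonoidalCategory

namespace Groth.Agent.H10.IV.Gen

variable {C : Type u} [Category.{v} C] [MonoidalCategory C]

/-- Tensoring on the right with an invertible object is an equivalence. -/
def tensorRightEquiv (M Z : C) (e₁ : M ⊗ Z ≅ 𝟙_ C) (e₂ : Z ⊗ M ≅ 𝟙_ C) : C ≌ C :=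
  CategoryTheory.Equivalence.mk (tensorRight M) (tensorRight Z)
    (NatIso.ofComponents (fun W => (ρ_ W).symm ≪≫ whiskerLeftIso W e₁.symm ≪≫ (α_ W M Z).symm)
      (fun {W W'} f => by
        dsimp
        simp only [Category.assoc, whiskerLeftIso_hom, Iso.symm_hom]
        rw [rightUnitor_inv_naturality_assoc, ← whisker_exchange_assoc,
          associator_inv_naturality_left]))
    (NatIso.ofComponents (fun W => α_ W Z M ≪≫ whiskerLeftIso W e₂ ≪≫ ρ_ W)
      (fun {W W'} f => by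
        dsimp
        simp only [Category.assoc, whiskerLeftIso_hom]
        rw [associator_naturality_left_assoc, ← whisker_exchange_assoc, rightUnitor_naturality]))

/-- For an exact pairing `(M, M')` with `M` invertible, the evaluation `M' ⊗ M ⟶ 𝟙` is an
isomorphism. -/
theorem isIso_evaluation (M M' Z : C) [ExactPairing M M'] (e₁ : M ⊗ Z ≅ 𝟙_ C)
    (e₂ : Z ⊗ M ≅ 𝟙_ C) : IsIso (ε_ M M') := by
  have hE : (tensorRight M).IsEquivalence :=
    inferInstanceAs (tensorRightEquiv M Z e₁ e₂).functor.IsEquivalence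
  have h1 : IsIso ((tensorRightAdjunction M M').counit.app (𝟙_ C)) :=
    ((tensorRightAdjunction M M').isIso_counit_app_iff_mem_essImage).2
      (Functor.EssSurj.mem_essImage (tensorRight M) _)
  rw [Groth.Agent.H10.DT.Gen.tensorRightAdjunction_counit_app] at h1
  have h2 : IsIso (𝟙_ C ◁ ε_ M M' ≫ (ρ_ (𝟙_ C)).hom) :=
    IsIso.of_isIso_comp_left (α_ (𝟙_ C) M' M).hom _
  have h3 : IsIso (𝟙_ C ◁ ε_ M M') := IsIso.of_isIso_comp_right _ (ρ_ (𝟙_ C)).hom
  rw [MonoidalCategory.id_whiskerLeft] at h3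
  have h4 : IsIso (ε_ M M' ≫ (λ_ (𝟙_ C)).inv) := IsIso.of_isIso_comp_left (λ_ (M' ⊗ M)).hom _
  exact IsIso.of_isIso_comp_right _ (λ_ (𝟙_ C)).inv

end Groth.Agent.H10.IV.Gen

namespace Groth.Agent.H10.IV

open CategoryTheory.Limits DerivedCategory Groth.Agent.H10.DT Groth.Agent.H10.WO
attribute [local instance] HasDerivedCategory.standard

section TkInv

variable {A : Type u} [CommRing A]

/-- `A[-j] ⊗ A[-j'] ≅ A` for complexes, `j + j' = 0`. -/
noncomputable def SkTensorIso (j j' : ℤ) (h : j' + j = 0) :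
    (Sk (A := A) j ⊗ Sk j' : DRing.Cx A) ≅ 𝟙_ (DRing.Cx A) :=
  whiskerRightIso
      (((CochainComplex.singleFunctors (ModuleCat.{u} A)).shiftIso j' j 0 h).app
        (ModuleCat.of A A)).symm (Sk j') ≪≫
    CochainComplex.mapBifunctorShift₁Iso (Sk (A := A) 0) (Sk j')
      (curriedTensor (ModuleCat.{u} A)) j' ≪≫
    (shiftFunctor (DRing.Cx A) j').mapIso (λ_ (Sk (A := A) j')) ≪≫
    ((CochainComplex.singleFunctors (ModuleCat.{u} A)).shiftIso j' 0 j' (by omega)).app
      (ModuleCat.of A A)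

variable [DTen.HasLTen A]

/-- `A[-j] ⊗^L A[-j'] ≅ A` in `D(A)`, `j + j' = 0`. -/
noncomputable def tnTkTkIso (j j' : ℤ) (h : j' + j = 0) :
    tn (Tk (A := A) j) (Tk j') ≅ DTen.unit A :=
  tnTkIso j (Tk j') (Sk j') (TkIso j') ≪≫ Q.mapIso (SkTensorIso j j' h)

end TkInv

end Groth.Agent.H10.IV
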