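import Groth.Agent.H45.MultiDer.DTenAssoc
import Groth.Agent.S13576
import Groth.Prelude.Def_DTen3

/-!
# The binders `HasLTen`, `HasLTen₃`, `IsSymMonoidal` hold for every commutative ring
-/

set_option autoImplicit false
universe w v u v₄ u₄
open CategoryTheory CategoryTheory.Limits MonoidalCategory

namespace Groth.Agent.H10.RH

open Groth.Agent.H5 Groth.Agent.H45.MultiDer

section General

variable {A₁ : Type u} [Category.{v} A₁] [Abelian A₁] [HasDerivedCategory.{w} A₁]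
  {A₂ : Type u} [Category.{v} A₂] [Abelian A₂] [HasDerivedCategory.{w} A₂]
  {A₃ : Type u} [Category.{v} A₃] [Abelian A₃] [HasDerivedCategory.{w} A₃]
  {kf₁ : ObjectProperty (CochainComplex A₁ ℤ)} {kf₂ : ObjectProperty (CochainComplex A₂ ℤ)}
  {kf₃ : ObjectProperty (CochainComplex A₃ ℤ)}
  (H₁ : ResDerivLeft.Hyp kf₁) (H₂ : ResDerivLeft.Hyp kf₂) (H₃ : ResDerivLeft.Hyp kf₃)
  {H : Type u₄} [Category.{v₄} H]

local notation "qi" A => HomologicalComplex.quasiIso A (ComplexShape.up ℤ)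
local notation "he" A => HomologicalComplex.homotopyEquivalences A (ComplexShape.up ℤ)
local notation "quot" A => HomotopyCategory.quotient A (ComplexShape.up ℤ)

include H₁ H₂ in
theorem hasLeftDerivedFunctor₂
    (F : CochainComplex A₁ ℤ × CochainComplex A₂ ℤ ⥤ H)
    (hFq : ((he A₁).prod (he A₂)).IsInvertedBy F)
    (hF : ∀ ⦃P P' : CochainComplex A₁ ℤ × CochainComplex A₂ ℤ⦄ (φ : P ⟶ P'),
      kf₁ P.1 → kf₂ P.2 → kf₁ P'.1 → kf₂ P'.2 → QuasiIso φ.1 → QuasiIso φ.2 → IsIso (F.map φ)) :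
    F.HasLeftDerivedFunctor ((qi A₁).prod (qi A₂)) := by
  have := ResDerivLeft.isTriangulated H₁
  have := ResDerivLeft.isTriangulated H₂
  have := CxSetting.isLocalization_Qh A₁
  have := CxSetting.isLocalization_Qh A₂
  have S := (CxSetting.setting H₁).prod (CxSetting.setting H₂)
  have : (((quot A₁).prod (quot A₂)) ⋙
      ((DerivedCategory.Qh (C := A₁)).prod (DerivedCategory.Qh (C := A₂)))).IsLocalization
      ((qi A₁).prod (qi A₂)) :=
    show ((DerivedCategory.Q (C := A₁)).prod (DerivedCategory.Q (C := A₂))).IsLocalization _ from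
      inferInstance
  exact S.hasLeftDerivedFunctor ((he A₁).prod (he A₂))
    ((DerivedCategory.Qh (C := A₁)).prod (DerivedCategory.Qh (C := A₂))) F hFq
    (fun P P' φ hP hP' hφ => hF φ hP.1 hP.2 hP'.1 hP'.2 hφ.1 hφ.2)

include H₁ H₂ H₃ in
theorem hasLeftDerivedFunctor₃
    (F : CochainComplex A₁ ℤ × (CochainComplex A₂ ℤ × CochainComplex A₃ ℤ) ⥤ H)
    (hFq : ((he A₁).prod ((he A₂).prod (he A₃))).IsInvertedBy F)
    (hF : ∀ ⦃P P' : CochainComplex A₁ ℤ × (CochainComplex A₂ ℤ × CochainComplex A₃ ℤ)⦄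
      (φ : P ⟶ P'), kf₁ P.1 → kf₂ P.2.1 → kf₃ P.2.2 → kf₁ P'.1 → kf₂ P'.2.1 → kf₃ P'.2.2 →
      QuasiIso φ.1 → QuasiIso φ.2.1 → QuasiIso φ.2.2 → IsIso (F.map φ)) :
    F.HasLeftDerivedFunctor ((qi A₁).prod ((qi A₂).prod (qi A₃))) := by
  have := ResDerivLeft.isTriangulated H₁
  have := ResDerivLeft.isTriangulated H₂
  have := ResDerivLeft.isTriangulated H₃
  have := CxSetting.isLocalization_Qh A₁
  have := CxSetting.isLocalization_Qh A₂
  have := CxSetting.isLocalization_Qh A₃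
  have S := (CxSetting.setting H₁).prod ((CxSetting.setting H₂).prod (CxSetting.setting H₃))
  have : (((quot A₁).prod ((quot A₂).prod (quot A₃))) ⋙
      ((DerivedCategory.Qh (C := A₁)).prod
        ((DerivedCategory.Qh (C := A₂)).prod (DerivedCategory.Qh (C := A₃))))).IsLocalization
      ((qi A₁).prod ((qi A₂).prod (qi A₃))) :=
    show ((DerivedCategory.Q (C := A₁)).prod
      ((DerivedCategory.Q (C := A₂)).prod (DerivedCategory.Q (C := A₃)))).IsLocalization _ from
      inferInstance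
  exact S.hasLeftDerivedFunctor ((he A₁).prod ((he A₂).prod (he A₃)))
    ((DerivedCategory.Qh (C := A₁)).prod
      ((DerivedCategory.Qh (C := A₂)).prod (DerivedCategory.Qh (C := A₃)))) F hFq
    (fun P P' φ hP hP' hφ => hF φ hP.1 hP.2.1 hP.2.2 hP'.1 hP'.2.1 hP'.2.2 hφ.1 hφ.2.1 hφ.2.2)

end General

section Binders

open Groth.Agent.H45.MultiDer.DTenC DTen
attribute [local instance] HasDerivedCategory.standard

variable (A : Type u) [CommRing A]

/-- The derived tensor product exists. -/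
theorem hasLTen : DTen.HasLTen A :=
  hasLeftDerivedFunctor₂ (hyp A) (hypTop A) (DTen.tensor₂ A) (tensor₂_inverts_he A)
    (fun P P' φ h₁ _ h₁' _ hφ₁ hφ₂ => by
      have : QuasiIso (φ.1 ▷ P.2 ≫ P'.1 ◁ φ.2) := quasiIso_tensor_of_kflat_left _ _ h₁ h₁'
      exact (DerivedCategory.isIso_Q_map_iff_quasiIso _ _).2 this)

/-- The triple derived tensor product exists. -/
theorem hasLTen₃ : DTen.HasLTen₃ A :=
  hasLeftDerivedFunctor₃ (hyp A) (hyp A) (hyp A) (DTen.tensor₃ A) (tensor₃_inverts_he A)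
    (fun P P' φ h₁ h₂ h₃ h₁' h₂' h₃' hφ₁ hφ₂ hφ₃ => by
      have h4 : QuasiIso (φ.2.1 ▷ P.2.2 ≫ P'.2.1 ◁ φ.2.2) :=
        quasiIso_tensor_of_kflat_right _ _ h₃ h₂'
      have : QuasiIso (φ.1 ▷ (P.2.1 ⊗ P.2.2) ≫ P'.1 ◁ (φ.2.1 ▷ P.2.2 ≫ P'.2.1 ◁ φ.2.2)) :=
        quasiIso_tensor_of_kflat_left _ _ h₁ h₁'
      exact (DerivedCategory.isIso_Q_map_iff_quasiIso _ _).2 this)

/-- The symmetric monoidal binder. -/
theorem isSymMonoidal [DTen.HasLTen A] [DTen.HasLTen₃ A] : DTen.IsSymMonoidal A where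
  isIso_symm := by
    have : ∀ X, IsIso ((DTen.symm A).app X) := fun X => Groth.Agent.S13576.result A X.1 X.2
    exact NatIso.isIso_of_isIso_app _
  isIso_unitL := by
    have : ∀ X, IsIso ((DTen.unitL A).app X) := by
      intro X
      obtain ⟨K, hK, ⟨e⟩⟩ := exists_kflat_rep X
      rw [← NatTrans.isIso_app_iff_of_iso (DTen.unitL A) e, DTen.unitL_app]
      have := isIso_ε (𝟙_ (DRing.Cx A)) K (Or.inr hK)
      infer_instance
    exact NatIso.isIso_of_isIso_app _
  isIso_unitR := by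
    have : ∀ X, IsIso ((DTen.unitR A).app X) := by
      intro X
      obtain ⟨K, hK, ⟨e⟩⟩ := exists_kflat_rep X
      rw [← NatTrans.isIso_app_iff_of_iso (DTen.unitR A) e, DTen.unitR_app]
      have := isIso_ε K (𝟙_ (DRing.Cx A)) (Or.inl hK)
      infer_instance
    exact NatIso.isIso_of_isIso_app _
  isIso_assocL := by
    have : ∀ X, IsIso ((DTen.assocL A).app X) := fun X => (isIso_assoc_app X.1 X.2.1 X.2.2).1
    exact NatIso.isIso_of_isIso_app _
  isIso_assocR := by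
    have : ∀ X, IsIso ((DTen.assocR A).app X) := fun X => (isIso_assoc_app X.1 X.2.1 X.2.2).2
    exact NatIso.isIso_of_isIso_app _

end Binders

end Groth.Agent.H10.RH
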