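import Mathlib.CategoryTheory.Monoidal.Rigid.Basic
import Mathlib.CategoryTheory.Monoidal.Functor
import Groth.Agent.H10.DT3

/-!
# Monoidal functors preserve exact pairings
-/

set_option autoImplicit false
universe v v' u u'
open CategoryTheory MonoidalCategory

namespace Groth.Agent.H10.RHM.Gen

variable {C : Type u} [Category.{v} C] [MonoidalCategory C] {D : Type u'} [Category.{v'} D]
  [MonoidalCategory D] (F : C ⥤ D) [F.Monoidal]

open Functor.LaxMonoidal Functor.OplaxMonoidal Functor.Monoidal

/-- A monoidal functor preserves exact pairings. -/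
@[instance_reducible]
def exactPairingMap (X Y : C) [ExactPairing X Y] : ExactPairing (F.obj X) (F.obj Y) where
  coevaluation' := ε F ≫ F.map (η_ X Y) ≫ δ F X Y
  evaluation' := μ F Y X ≫ F.map (ε_ X Y) ≫ η F
  coevaluation_evaluation' := by
    have h := congrArg F.map (ExactPairing.coevaluation_evaluation X Y)
    simp only [Functor.map_comp, map_whiskerLeft, map_associator_inv, map_whiskerRight,
      map_rightUnitor, map_leftUnitor_inv] at h
    simp only [Category.assoc, μ_δ_assoc] at h
    have h1 := (cancel_epi _).1 h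
    simp only [← Category.assoc] at h1
    have h2 := (cancel_mono _).1 h1
    simp only [Category.assoc] at h2
    simp only [MonoidalCategory.whiskerLeft_comp, comp_whiskerRight, Category.assoc]
    rw [reassoc_of% h2]
    simp
  evaluation_coevaluation' := by
    have h := congrArg F.map (ExactPairing.evaluation_coevaluation X Y)
    simp only [Functor.map_comp, map_whiskerLeft, map_associator, map_whiskerRight,
      map_leftUnitor, map_rightUnitor_inv] at h
    simp only [Category.assoc, μ_δ_assoc] at h
    have h1 := (cancel_epi _).1 h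
    simp only [← Category.assoc] at h1
    have h2 := (cancel_mono _).1 h1
    simp only [Category.assoc] at h2
    simp only [MonoidalCategory.whiskerLeft_comp, comp_whiskerRight, Category.assoc]
    rw [reassoc_of% h2]
    simp

section InternalHom

open Groth.Agent.H10.DT.Gen

variable (K : C) {H : C ⥤ C} (adj : tensorRight K ⊣ H)
  {H' : D ⥤ D} (adj' : tensorRight (F.obj K) ⊣ H')

/-- A monoidal functor commutes with internal homs out of a dualizable object: a map
`F (H M) ⟶ H' (F M)` compatible with the evaluations is an isomorphism. -/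
theorem isIso_of_compatible (K' : C) [ExactPairing K K'] (M : C) (β : F.obj (H.obj M) ⟶ H'.obj (F.obj M))
    (hβ : δ F (H.obj M) K ≫ (β ▷ F.obj K) ≫ adj'.counit.app (F.obj M) =
      F.map (adj.counit.app M)) : IsIso β := by
  let _ := exactPairingMap F K K'
  have key : β = F.map ((psiR K K' adj).hom.app M) ≫ δ F M K' ≫
      (psiR (F.obj K) (F.obj K') adj').inv.app (F.obj M) := by
    apply (adj'.homEquiv _ _).symm.injective
    rw [Adjunction.homEquiv_counit, Adjunction.homEquiv_counit]
    change (β ▷ F.obj K) ≫ _ = ((F.map ((psiR K K' adj).hom.app M) ≫ δ F M K' ≫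
      (psiR (F.obj K) (F.obj K') adj').inv.app (F.obj M)) ▷ F.obj K) ≫ _
    have h1 : (β ▷ F.obj K) ≫ adj'.counit.app (F.obj M) =
        μ F (H.obj M) K ≫ F.map (adj.counit.app M) := by
      rw [← hβ, μ_δ_assoc]
    have h2 := psiR_counit (F.obj K) (F.obj K') adj' (F.obj M)
    have h3 := psiR_counit K K' adj M
    have h4 : ((psiR (F.obj K) (F.obj K') adj').inv.app (F.obj M) ▷ F.obj K) ≫
        adj'.counit.app (F.obj M) =
        (α_ (F.obj M) (F.obj K') (F.obj K)).hom ≫ F.obj M ◁ ε_ (F.obj K) (F.obj K') ≫
          (ρ_ (F.obj M)).hom := by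
      rw [← h2, ← comp_whiskerRight_assoc, Iso.inv_hom_id_app]
      simp
    have h5 : ε_ (F.obj K) (F.obj K') = μ F K' K ≫ F.map (ε_ K K') ≫ η F := rfl
    rw [h1, ← h3]
    simp only [comp_whiskerRight, Category.assoc, h4, h5]
    obtain ⟨f, hf⟩ : ∃ f : H.obj M ⟶ M ⊗ K', f = (psiR K K' adj).hom.app M := ⟨_, rfl⟩
    rw [← hf]
    simp only [Functor.map_comp, map_whiskerRight, map_associator, map_whiskerLeft,
      Category.assoc, μ_δ_assoc, MonoidalCategory.whiskerLeft_comp]
    erw [μ_δ_assoc]
    have h6 : μ F M (𝟙_ C) ≫ F.map (ρ_ M).hom = F.obj M ◁ η F ≫ (ρ_ (F.obj M)).hom := by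
      rw [map_rightUnitor, μ_δ_assoc]
    erw [h6]
  rw [key]
  infer_instance

end InternalHom

end Groth.Agent.H10.RHM.Gen
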