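import Groth.Agent.H10.RHM5
import Groth.Agent.H10.RHM6

/-!
# Base change for `RHom(K, -)` with `K` dualizable
-/

set_option autoImplicit false
universe u
open CategoryTheory CategoryTheory.Limits MonoidalCategory
attribute [local instance] HasDerivedCategory.standard

namespace Groth.Agent.H10.RHM

open DTen Groth.Agent.H10.DT Groth.Agent.H10.RH Groth.Agent.H45.MultiDer
  Groth.Agent.H45.MultiDer.DTenC

variable {R R' : Type u} [CommRing R] [CommRing R'] (φ : R →+* R')
  [DTen.HasLTen R] [DTen.HasLTen₃ R] [DTen.IsSymMonoidal R]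
  [DTen.HasLTen R'] [DTen.HasLTen₃ R'] [DTen.IsSymMonoidal R']
  [DTen.HasResTen φ] [DTen.ResLegIso φ] [DTen.HasLBase φ]

attribute [local instance] DT.monoidal laxMonoidal oplaxMonoidal

/-- Derived base change is a monoidal functor. -/
@[instance_reducible]
noncomputable def monoidalL : (LBase φ).Monoidal := Functor.Monoidal.ofOplaxMonoidal (LBase φ)

variable [DTen.HasRHom R] [DTen.HasRHom R']

theorem isIso_bcRHom_of_exactPairing (K K' M : Dual.D R) [ExactPairing K K']
    [IsIso (rhomBC φ K ((LBase φ).obj M))] : IsIso (bcRHom φ K M) := by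
  let _ := monoidalL φ
  refine Gen.isIso_of_compatible (LBase φ) K (rAdj K) (rAdj ((LBase φ).obj K)) K' M
    (bcRHom φ K M) ?_
  have h := lbaseμ_bcRHom φ K M
  rw [← δ_eq] at h
  exact h

theorem isIso_bcRHom_of_isPerfect (K M : Dual.D R) [IsIso (rhomBC φ K ((LBase φ).obj M))]
    (hK : DRing.IsPerfect R K) : IsIso (bcRHom φ K M) := by
  obtain ⟨K', -, ⟨P⟩, -⟩ := exists_exactPairing_of_isPerfect K hK
  exact isIso_bcRHom_of_exactPairing φ K K' M

end Groth.Agent.H10.RHM
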