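import Groth.Agent.H10.RH0
import Groth.Prelude.Def_DTen5

/-!
# The binders `HasResTen`, `ResLegIso` hold for every ring map
-/

set_option autoImplicit false
universe u
open CategoryTheory CategoryTheory.Limits MonoidalCategory
attribute [local instance] HasDerivedCategory.standard

namespace Groth.Agent.H10.TB

open Groth.Agent.H5 Groth.Agent.H45.MultiDer Groth.Agent.H45.MultiDer.DTenC DTen
  Groth.Agent.H10.RH

variable {R R' : Type u} [CommRing R] [CommRing R'] (φ : R →+* R')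

lemma resTen₂_inverts_he :
    ((HomologicalComplex.homotopyEquivalences (ModuleCat.{u} R') (ComplexShape.up ℤ)).prod
      (HomologicalComplex.homotopyEquivalences (ModuleCat.{u} R') (ComplexShape.up ℤ))).IsInvertedBy
      (DTen.resTen₂ φ) :=
  isInvertedBy₂ _ (fun _ _ _ _ h₁ h₂ =>
    DerivedCategory.Q_map_eq_of_homotopy _
      ((ModuleCat.restrictScalars.{u} φ).mapHomotopy (tensorHomotopy h₁ h₂)))

lemma isIso_resTen₂_map ⦃P P' : DRing.Cx R' × DRing.Cx R'⦄ (f : P ⟶ P')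
    (h₁ : kfl R' P.1) (h₁' : kfl R' P'.1) (hf₁ : QuasiIso f.1) (hf₂ : QuasiIso f.2) :
    IsIso ((DTen.resTen₂ φ).map f) := by
  have h : QuasiIso (f.1 ▷ P.2 ≫ P'.1 ◁ f.2) := quasiIso_tensor_of_kflat_left _ _ h₁ h₁'
  have h' : QuasiIso ((resCx φ).map (f.1 ▷ P.2 ≫ P'.1 ◁ f.2)) := inferInstance
  exact (DerivedCategory.isIso_Q_map_iff_quasiIso _ _).2 h'

/-- The derived functor of `(Y, Y') ↦ res (Y ⊗ Y')` exists. -/
theorem hasResTen : DTen.HasResTen φ :=
  hasLeftDerivedFunctor₂ (hyp R') (hypTop R') (DTen.resTen₂ φ) (resTen₂_inverts_he φ)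
    (fun _ _ f h₁ _ h₁' _ hf₁ hf₂ => isIso_resTen₂_map φ f h₁ h₁' hf₁ hf₂)

/-- Leg B is an isomorphism. -/
theorem resLegIso [DTen.HasLTen R'] [DTen.HasResTen φ] : DTen.ResLegIso φ := by
  constructor
  have : ∀ X, IsIso ((resLegB φ).app X) := by
    rintro ⟨E, E'⟩
    obtain ⟨Y, hY, ⟨e⟩⟩ := exists_kflat_rep E
    have e' : DerivedCategory.Q.obj (DerivedCategory.Q.objPreimage E') ≅ E' :=
      DerivedCategory.Q.objObjPreimageIso E'
    rw [← NatTrans.isIso_app_iff_of_iso (resLegB φ) (Iso.prod e e')]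
    have h := resLegB_fac φ (Y, DerivedCategory.Q.objPreimage E')
    have i1 : IsIso ((εRes φ).app (Y, DerivedCategory.Q.objPreimage E')) :=
      isIso_counit₂ (hyp R') (hypTop R') (DTen.resTen₂ φ) (resTen₂_inverts_he φ)
        (fun _ _ f h₁ _ h₁' _ hf₁ hf₂ => isIso_resTen₂_map φ f h₁ h₁' hf₁ hf₂)
        (ResTen φ) (εRes φ) Y _ hY trivial
    have i2 : IsIso ((resβB φ).app (Y, DerivedCategory.Q.objPreimage E')) := by
      have := isIso_ε Y (DerivedCategory.Q.objPreimage E') (Or.inl hY)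
      dsimp only [resβB]
      infer_instance
    have i3 : IsIso ((resLegB φ).app ((QQ R').obj (Y, DerivedCategory.Q.objPreimage E')) ≫
        (εRes φ).app (Y, DerivedCategory.Q.objPreimage E')) := by
      rw [h]
      exact i2
    exact @IsIso.of_isIso_comp_right _ _ _ _ _ _ ((εRes φ).app (Y, DerivedCategory.Q.objPreimage E')) i1 i3
  exact NatIso.isIso_of_isIso_app _

end Groth.Agent.H10.TB
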