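import Groth.Agent.H10.IV4
import Groth.Agent.H10.DT5
import Groth.Agent.H10.RHM7
import Groth.Agent.H10.RH0
import Groth.Agent.H10.TB3
import Groth.Agent.H28.PCohFibre
import Groth.Agent.H35.RelPerfectTri
import Groth.Agent.H35.TensorTerms
import Groth.Agent.H35.PerfectPC

/-!
# Conservativity of the residue field fibres, and perfectness of duals and tensor products
-/

set_option autoImplicit false
universe u
open CategoryTheory CategoryTheory.Limits MonoidalCategory DerivedCategory Pretriangulated
attribute [local instance] HasDerivedCategory.standard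

namespace Groth.Agent.H10.IV

open DTen Groth.Agent.H10.DT Groth.Agent.H10.WO

section Conservative

variable {A : Type u} [CommRing A]

lemma isZero_of_vanishesOutside_empty (E : DRing.Cx A) (hE : DRing.VanishesOutside E 1 0) :
    IsZero (DRing.toD E) := by
  have hE0 : IsZero E := by
    rw [IsZero.iff_id_eq_zero]
    ext i : 1
    exact (hE i (by omega)).eq_of_src _ _
  exact Q.map_isZero hE0

/-- A pseudo-coherent object all of whose residue field fibres vanish is zero. -/
theorem isZero_of_isZero_fibres (C : Dual.D A) (hC : DRing.IsPseudoCoherent' A C)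
    (h : ∀ m : Ideal A, m.IsMaximal → ∃ (L : Dual.D A ⥤ Dual.D (A ⧸ m))
      (_ : L ⊣ DRing.restrictD (Ideal.Quotient.mk m)), IsZero (L.obj C)) : IsZero C := by
  have inst : ∀ m : Ideal A, DRing.HasLBaseChange (Ideal.Quotient.mk m) := fun m =>
    Groth.Agent.H35.LT.hasLBaseChange _
  obtain ⟨G, hG, -, ⟨e⟩⟩ :=
    Groth.Agent.H28.PCohFibre.exists_finProj_rep_of_maximal_fibres_vanishing C
      ((Groth.Agent.H28.PCohRing.isPseudoCoherent'_iff A C).mp hC) 1 0
      (fun m hm n _ => by
        obtain ⟨L, adj, hz⟩ := h m hm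
        have e : DRing.LBaseChange (Ideal.Quotient.mk m) ≅ L :=
          (Groth.Agent.H5.LBaseChangeAdj.adj (Ideal.Quotient.mk m)).leftAdjointUniq adj
        exact (homologyFunctor _ n).map_isZero (IsZero.of_iso hz (e.app C)))
  exact IsZero.of_iso (isZero_of_vanishesOutside_empty G hG) e.symm

/-- A map of pseudo-coherent objects which is an isomorphism on all residue field fibres is an
isomorphism. -/
theorem isIso_of_isIso_fibres {X Y : Dual.D A} (f : X ⟶ Y) (hX : DRing.IsPseudoCoherent' A X)
    (hY : DRing.IsPseudoCoherent' A Y)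
    (h : ∀ m : Ideal A, m.IsMaximal → ∃ (L : Dual.D A ⥤ Dual.D (A ⧸ m))
      (_ : L ⊣ DRing.restrictD (Ideal.Quotient.mk m)), IsIso (L.map f)) : IsIso f := by
  obtain ⟨C, g, δ, hT⟩ := distinguished_cocone_triangle f
  have hC : DRing.IsPseudoCoherent' A C :=
    Groth.Agent.H35.KF.isPseudoCoherent'_obj₂ A _ (rot_of_distTriang _ hT) hY
      (Groth.Agent.H35.KF.isPseudoCoherent'_shift A X 1 hX)
  have hC0 : IsZero C := by
    apply isZero_of_isZero_fibres C hC
    intro m hm
    obtain ⟨L, adj, hf⟩ := h m hm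
    refine ⟨L, adj, ?_⟩
    let _ : L.CommShift ℤ := adj.leftAdjointCommShift ℤ
    have : adj.CommShift ℤ := adj.commShift_of_rightAdjoint ℤ
    have : L.IsTriangulated := adj.isTriangulated_leftAdjoint
    have hT' := L.map_distinguished _ hT
    exact (Triangle.isZero₃_iff_isIso₁ _ hT').2 hf
  exact (Triangle.isZero₃_iff_isIso₁ _ hT).1 hC0

end Conservative

section Perfect

variable {A : Type u} [CommRing A] [DTen.HasLTen A] [DTen.HasLTen₃ A] [DTen.IsSymMonoidal A]

attribute [local instance] Groth.Agent.H10.DT.monoidal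

omit [HasLTen₃ A] [IsSymMonoidal A] in
/-- The derived tensor product of perfect objects is perfect. -/
theorem isPerfect_tn (K L : Dual.D A) (hK : DRing.IsPerfect A K) (hL : DRing.IsPerfect A L) :
    DRing.IsPerfect A (tn K L) := by
  obtain ⟨P, a, b, hP, hPfp, ⟨e⟩⟩ := hK
  obtain ⟨P', a', b', hP', hP'fp, ⟨e'⟩⟩ := hL
  have hPK : DRing.IsKFlat A P :=
    isKFlat_of_bounded_flat P b (fun i hi => hP i (Or.inr hi)) (fun i => by
      have := (hPfp i).2
      infer_instance)
  let iso : q (P ⊗ P') ≅ tn K L :=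
    (eeIso P P' (Or.inl hPK)).symm ≪≫ (LTen₂ A).mapIso (Iso.prod e e')
  refine ⟨P ⊗ P', a + a', b + b', ?_, ?_, ⟨iso⟩⟩
  · intro n hn
    refine Groth.Agent.H35.LT.isZero_tensor_X P P' n (fun p q hpq => ?_)
    rcases hn with hn | hn
    · by_cases hp : p < a
      · exact Or.inl (hP p (Or.inl hp))
      · exact Or.inr (hP' q (Or.inl (by omega)))
    · by_cases hp : b < p
      · exact Or.inl (hP p (Or.inr hp))
      · exact Or.inr (hP' q (Or.inr (by omega)))
  · intro n
    exact ⟨Groth.Agent.H35.LT.finite_tensor_X P P' n b b' (fun p hp => hP p (Or.inr hp))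
        (fun q hq => hP' q (Or.inr hq)) (fun i => (hPfp i).1) (fun i => (hP'fp i).1),
      Groth.Agent.H35.LT.projective_tensor_X P P' n (fun i => (hPfp i).2) (fun i => (hP'fp i).2)⟩

open Groth.Agent.H10.DT.Cx in
/-- A perfect object has a perfect right dual. -/
theorem exists_exactPairing_perfect (K : Dual.D A) (hK : DRing.IsPerfect A K) :
    ∃ K' : Dual.D A, DRing.IsPerfect A K' ∧ Nonempty (ExactPairing K K') := by
  obtain ⟨E, a, b, hv, hfp, ⟨e⟩⟩ := hK
  have hfin : ∀ p, Module.Finite A (E.X p) := fun p => (hfp p).1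
  have hproj : ∀ p, Module.Projective A (E.X p) := fun p => (hfp p).2
  let _ : ∀ p, HasRightDual (E.X p) := fun p => Mod.hasRightDual (E.X p)
  have hE : ∀ p : ℤ, p < a ∨ a + ((b + 1 - a).toNat : ℤ) ≤ p → IsZero (E.X p) := by
    intro p hp
    apply hv
    omega
  let P1 : ExactPairing E (rd E) := (rdPData E a (b + 1 - a).toNat hE).exactPairing
  have hkf : DRing.IsKFlat A E :=
    isKFlat_of_bounded_flat E b (fun i hi => hv i (Or.inr hi)) (fun n => inferInstance)
  let Q1 : ExactPairing (q E) (q (rd E)) := exactPairingQ E (rd E) hkf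
  refine ⟨q (rd E), ⟨rd E, -b, -a, ?_, ?_, ⟨Iso.refl _⟩⟩, ⟨exactPairingCongrLeft e.symm⟩⟩
  · intro i hi
    apply isZero_rightDual
    apply hv
    omega
  · intro i
    constructor
    · change Module.Finite A (Module.Dual A (E.X (-i)))
      infer_instance
    · change Module.Projective A (Module.Dual A (E.X (-i)))
      infer_instance

end Perfect

end Groth.Agent.H10.IV
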