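import Groth.Agent.H10.WO8

/-!
# The evaluation map `P ⊗^L H(M) ⟶ H(P ⊗^L M)` for an arbitrary right adjoint `H` of `- ⊗^L K`,
`K` pseudo-coherent, `M` bounded below, `P` of finite tor dimension

This is `WO8` without the binder `DTen.HasRHom`: all the right adjoints which are needed are
provided explicitly (for perfect objects they come from duals).
-/

set_option autoImplicit false
universe u
open CategoryTheory CategoryTheory.Limits MonoidalCategory DerivedCategory Pretriangulated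
attribute [local instance] HasDerivedCategory.standard

namespace Groth.Agent.H10.TB.PC

open DTen Groth.Agent.H10.DT Groth.Agent.H10.WO

variable {A : Type u} [CommRing A] [DTen.HasLTen A] [DTen.HasLTen₃ A] [DTen.IsSymMonoidal A]

attribute [local instance] DT.monoidal

/-- The symmetry as a natural isomorphism `K ⊗ - ≅ - ⊗ K` (no `HasRHom`). -/
noncomputable def sigmaIso' (K : Dual.D A) : tensorLeft K ≅ tensorRight K :=
  NatIso.ofComponents (fun X => (braiding X K)) (by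
    intro X Y f
    exact (symm A).naturality (Prod.mkHom f (𝟙 K) : (X, K) ⟶ (Y, K)))

section HT

variable {HT : ℤ → (Dual.D A ⥤ Dual.D A)} (adjT : ∀ k : ℤ, tensorLeft (Tk (A := A) k) ⊣ HT k)

include adjT in
/-- A right adjoint of `A[-k] ⊗^L -` sends `D^{≥ n}` to `D^{≥ n - k}`. -/
lemma isGE_HT (k n m : ℤ) (hm : m + k = n) (L : Dual.D A) [L.IsGE n] :
    ((HT k).obj L).IsGE m := by
  apply isGE_of_hom_Tk
  intro r hr u
  apply ((adjT k).homEquiv _ _).symm.injective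
  have : (tn (Tk (A := A) k) (Tk r)).IsLE (k + r) := isLE_tn_Tk k r (k + r) rfl (Tk r)
  have h0 : ∀ f : tn (Tk (A := A) k) (Tk r) ⟶ L, f = 0 := fun f =>
    TStructure.t.zero f (k + r) n (by omega)
  exact (h0 _).trans (h0 _).symm

variable {K KN C : Dual.D A} (ι : KN ⟶ K) (p : K ⟶ C) (δ : C ⟶ KN⟦(1 : ℤ)⟧)
  (hT : Triangle.mk ι p δ ∈ distTriang (Dual.D A))
  {HK HKN : Dual.D A ⥤ Dual.D A} (adjK : tensorRight K ⊣ HK) (adjKN : tensorRight KN ⊣ HKN)

include adjT hT in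
/-- The cone of `H_K(L) ⟶ H_{KN}(L)` is in `D^{≥ n + N - 1}`. -/
lemma isGE_cone_conj' (N : ℤ) [C.IsLE (-N - 1)] (L : Dual.D A) (n : ℤ) [L.IsGE n] {Z : Dual.D A}
    (p' : HKN.obj L ⟶ Z) (δ' : Z ⟶ (HK.obj L)⟦(1 : ℤ)⟧)
    (hT' : Triangle.mk (Gen.conj ι adjK adjKN L) p' δ' ∈ distTriang (Dual.D A))
    (m : ℤ) (hm : m + 1 = n + N) : Z.IsGE m := by
  refine isGE_cone_of_bijective_hom_Tk _ hT' (n + N) m hm ?_
  intro k hk
  apply Gen.bijective_comp_conj ι adjK adjKN (adjT k) L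
  have hW : ((HT k).obj L).IsGE (n - k) := isGE_HT adjT k n (n - k) (by omega) L
  refine bijective_precomp_mor₁ (Triangle.mk ι p δ) hT _ ?_ ?_
  · intro f
    change C ⟶ _ at f
    exact TStructure.t.zero f (-N - 1) (n - k) (by omega)
  · intro f
    change C⟦(-1 : ℤ)⟧ ⟶ _ at f
    have : (C⟦(-1 : ℤ)⟧).IsLE (-N) := TStructure.t.isLE_shift C (-N - 1) (-1) (-N)
    exact TStructure.t.zero f (-N) (n - k) (by omega)

variable (P : Dual.D A) (G : Dual.D A ⥤ Dual.D A) [G.CommShift ℤ] [G.IsTriangulated]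
  (θ : tensorLeft P ≅ G) (d₁ d₂ : ℤ) (hP : DRing.HasTorAmplitudeIn A d₁ d₂ P)

include adjT hT θ hP in
/-- Step (b). -/
lemma bijective_whiskerLeft_conj_right' (N : ℤ) [C.IsLE (-N - 1)] (M : Dual.D A) (n : ℤ)
    [M.IsGE n] (j : ℤ) (hN : j - d₁ - n + 1 < N) :
    Function.Bijective (fun f : Tk j ⟶ tn P (HK.obj M) =>
      f ≫ tm (𝟙 P) (Gen.conj ι adjK adjKN M)) := by
  obtain ⟨Z, p', δ', hT'⟩ := distinguished_cocone_triangle (Gen.conj ι adjK adjKN M)
  have hZ : Z.IsGE (n + N - 1) :=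
    isGE_cone_conj' adjT ι p δ hT adjK adjKN N M n p' δ' hT' (n + N - 1) (by omega)
  have hPZ : (tn P Z).IsGE (d₁ + (n + N - 1)) :=
    isGE_tn_of_hasTorAmplitudeIn P d₁ d₂ hP (n + N - 1) _ rfl Z
  have hPZ' : ((tensorLeft P).obj Z).IsGE (d₁ + (n + N - 1)) := hPZ
  have hGZ : (G.obj Z).IsGE (d₁ + (n + N - 1)) :=
    TStructure.t.isGE_of_iso (θ.app Z) _
  have hT'' := G.map_distinguished _ hT'
  have : (G.mapTriangle.obj (Triangle.mk (Gen.conj ι adjK adjKN M) p' δ')).obj₃.IsGE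
      (d₁ + (n + N - 1)) := hGZ
  have hbij := bijective_hom_Tk_mor₁_of_isGE _ hT'' j (d₁ + (n + N - 1)) (by omega)
  exact bijective_postcomp_of_sq (tm (𝟙 P) (Gen.conj ι adjK adjKN M))
    (G.map (Gen.conj ι adjK adjKN M)) (θ.app _) (θ.app _)
    (θ.hom.naturality (Gen.conj ι adjK adjKN M)) hbij

include adjT hT hP in
/-- Step (a). -/
lemma bijective_whiskerLeft_ι' (N : ℤ) [C.IsLE (-N - 1)] (M : Dual.D A) (n : ℤ) [M.IsGE n]
    (j : ℤ) (hN : j - d₁ - n < N) :
    Function.Bijective (fun g : tn (Tk j) K ⟶ tn P M => (Tk j ◁ ι) ≫ g) := by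
  apply Gen.bijective_whiskerLeft_comp (adjT j) ι (tn P M)
  have hPM : (tn P M).IsGE (d₁ + n) := isGE_tn_of_hasTorAmplitudeIn P d₁ d₂ hP n _ rfl M
  have hW : ((HT j).obj (tn P M)).IsGE (d₁ + n - j) :=
    isGE_HT adjT j (d₁ + n) (d₁ + n - j) (by omega) (tn P M)
  refine bijective_precomp_mor₁ (Triangle.mk ι p δ) hT _ ?_ ?_
  · intro f
    change C ⟶ _ at f
    exact TStructure.t.zero f (-N - 1) (d₁ + n - j) (by omega)
  · intro f
    change C⟦(-1 : ℤ)⟧ ⟶ _ at f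
    have : (C⟦(-1 : ℤ)⟧).IsLE (-N) := TStructure.t.isLE_shift C (-N - 1) (-1) (-N)
    exact TStructure.t.zero f (-N) (d₁ + n - j) (by omega)

end HT

section Main

variable (P : Dual.D A) (G : Dual.D A ⥤ Dual.D A) [G.CommShift ℤ] [G.IsTriangulated]
  (θ : tensorLeft P ≅ G) (d₁ d₂ : ℤ) (hP : DRing.HasTorAmplitudeIn A d₁ d₂ P)

omit [DTen.HasLTen A] [DTen.HasLTen₃ A] [DTen.IsSymMonoidal A] in
lemma isPerfect_Tk (k : ℤ) : DRing.IsPerfect A (Tk (A := A) k) := by
  refine ⟨Sk k, k, k, ?_, ?_, ⟨(TkIso k).symm⟩⟩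
  · rintro i (hi | hi)
    · exact isZero_Sk_X k i (by omega)
    · exact isZero_Sk_X k i (by omega)
  · intro i
    by_cases hi : i = k
    · subst hi
      have e := (HomologicalComplex.singleObjXSelf (ComplexShape.up ℤ) i
        (ModuleCat.of A A)).toLinearEquiv
      exact ⟨Module.Finite.equiv e.symm, Module.Projective.of_equiv e.symm⟩
    · have := ModuleCat.subsingleton_of_isZero (isZero_Sk_X (A := A) k i hi)
      exact ⟨inferInstance, inferInstance⟩

/-- `A[-k] ⊗^L -` has a right adjoint. -/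
lemma exists_adjT (k : ℤ) :
    ∃ (H : Dual.D A ⥤ Dual.D A), Nonempty (tensorLeft (Tk (A := A) k) ⊣ H) := by
  have hTk : DRing.IsPerfect A (Tk (A := A) k) := isPerfect_Tk k
  obtain ⟨T', -, ⟨hP⟩, -⟩ := exists_exactPairing_of_isPerfect _ hTk
  exact ⟨tensorRight T', ⟨(tensorRightAdjunction (Tk k) T').ofNatIsoLeft (sigmaIso' (Tk k)).symm⟩⟩

include θ hP in
/-- The evaluation map `P ⊗^L H(M) ⟶ H(P ⊗^L M)` is an isomorphism for `K` pseudo-coherent, `M`
bounded below, `P` of finite tor dimension such that `P ⊗^L -` is (isomorphic to) a triangulated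
functor, and `H` any right adjoint of `- ⊗^L K`. -/
theorem isIso_evT_of_isPseudoCoherent (K : Dual.D A) {HK : Dual.D A ⥤ Dual.D A}
    (adjK : tensorRight K ⊣ HK) (M : Dual.D A) (hK : DRing.IsPseudoCoherent' A K)
    (n : ℤ) [M.IsGE n] : IsIso (Gen.evT P K adjK M) := by
  choose HT hHT using exists_adjT (A := A)
  let adjT : ∀ k : ℤ, tensorLeft (Tk (A := A) k) ⊣ HT k := fun k => (hHT k).some
  apply isIso_of_bijective_hom_Tk
  intro j
  obtain ⟨KN, C, ι, p, δ, hT, hC, hKN⟩ := exists_perfect_approx K hK (j - d₁ - n + 2)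
  obtain ⟨KN', -, ⟨hPair⟩, -⟩ := exists_exactPairing_of_isPerfect KN hKN
  let adjKN : tensorRight KN ⊣ tensorRight KN' := tensorRightAdjunction KN KN'
  have h1 := bijective_whiskerLeft_conj_right' adjT ι p δ hT adjK adjKN P G θ d₁ d₂ hP
    (j - d₁ - n + 2) M n j (by omega)
  have h2 := bijective_whiskerLeft_ι' adjT ι p δ hT P d₁ d₂ hP (j - d₁ - n + 2) M n j (by omega)
  have i3 : IsIso (Gen.evT P KN adjKN M) := Gen.isIso_evT_right P KN KN' adjKN M
  have h3 : Function.Bijective (fun f : Tk j ⟶ tn P ((tensorRight KN').obj M) =>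
      f ≫ Gen.evT P KN adjKN M) :=
    ⟨fun u v huv => by simpa using congrArg (· ≫ inv (Gen.evT P KN adjKN M)) huv,
      fun v => ⟨v ≫ inv (Gen.evT P KN adjKN M), by simp⟩⟩
  exact Gen.bijective_comp_evT ι adjK adjKN P M (Tk j) h1 h2 h3

end Main

end Groth.Agent.H10.TB.PC
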