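import Groth.Agent.H10.IV3
import Groth.Agent.H10.IV5
import Groth.Agent.H10.RHM7
import Groth.Agent.H10.TB3
import Groth.Agent.H10.TB7
import Groth.Agent.H5.LBaseChangeAdj

/-!
# A fibrewise criterion for invertibility in `D(A)`
-/

set_option autoImplicit false
universe u
open CategoryTheory CategoryTheory.Limits MonoidalCategory DerivedCategory Pretriangulated
attribute [local instance] HasDerivedCategory.standard

namespace Groth.Agent.H10.IV

open DTen Groth.Agent.H10.DT Groth.Agent.H10.WO Groth.Agent.H10.RHM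

section Fibre

variable {R R' : Type u} [CommRing R] [CommRing R'] (φ : R →+* R')
  [DTen.HasLTen R] [DTen.HasLTen₃ R] [DTen.IsSymMonoidal R]
  [DTen.HasLTen R'] [DTen.HasLTen₃ R'] [DTen.IsSymMonoidal R']
  [DTen.HasResTen φ] [DTen.ResLegIso φ] [DTen.HasLBase φ]

attribute [local instance] DT.monoidal laxMonoidal oplaxMonoidal

open Functor.LaxMonoidal Functor.OplaxMonoidal Functor.Monoidal in
/-- If the base change of `E` is a shift of the unit then the base change of the evaluation of an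
exact pairing `(E, E')` is an isomorphism. -/
theorem isIso_map_evaluation (E E' : Dual.D R) [ExactPairing E E'] (j j' : ℤ) (h : j' + j = 0)
    (e : (LBase φ).obj E ≅ Tk (A := R') j) : IsIso ((LBase φ).map (ε_ E E')) := by
  let _ := monoidalL φ
  let _ := Gen.exactPairingMap (LBase φ) E E'
  have e₁ : (LBase φ).obj E ⊗ Tk (A := R') j' ≅ 𝟙_ (Dual.D R') :=
    whiskerRightIso e _ ≪≫ tnTkTkIso j j' h
  have e₂ : Tk (A := R') j' ⊗ (LBase φ).obj E ≅ 𝟙_ (Dual.D R') :=
    whiskerLeftIso _ e ≪≫ tnTkTkIso j' j (by omega)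
  have h1 : IsIso (ε_ ((LBase φ).obj E) ((LBase φ).obj E')) :=
    Gen.isIso_evaluation _ _ (Tk j') e₁ e₂
  have h5 : ε_ ((LBase φ).obj E) ((LBase φ).obj E') =
      μ (LBase φ) E' E ≫ (LBase φ).map (ε_ E E') ≫ η (LBase φ) := rfl
  rw [h5] at h1
  have h2 : IsIso ((LBase φ).map (ε_ E E') ≫ η (LBase φ)) :=
    IsIso.of_isIso_comp_left (μ (LBase φ) E' E) _
  exact IsIso.of_isIso_comp_right _ (η (LBase φ))

end Fibre

section Criterion

variable (A : Type u) [CommRing A] in
lemma isPerfect_unit : DRing.IsPerfect A (DTen.unit A) := by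
  obtain ⟨G, a, b, h1, h2, ⟨e⟩⟩ := TB.PC.isPerfect_Tk (A := A) 0
  exact ⟨G, a, b, h1, h2, ⟨e ≪≫ TkIso 0⟩⟩

variable {A : Type u} [CommRing A] [DTen.HasLTen A]

/-- The fibrewise criterion for invertibility: a pseudo-coherent object `E` such that for every
maximal ideal `m` the groups `Hom(E, κ(m)[i])` vanish except for one `i = s(m)` (with `s(m)`
uniformly bounded), where it is cyclic and nonzero, is invertible. -/
theorem isInvertible_of_residue_data (E : Dual.D A) (hE : DRing.IsPseudoCoherent' A E) (a b : ℤ)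
    (h : ∀ m : Ideal A, m.IsMaximal → ∃ s : ℤ, a ≤ s ∧ s ≤ b ∧
      (∀ i : ℤ, i ≠ s → ∀ f : E ⟶ (kap m)⟦i⟧, f = 0) ∧
      ∃ f₀ : E ⟶ (kap m)⟦s⟧, f₀ ≠ 0 ∧ ∀ f : E ⟶ (kap m)⟦s⟧, ∃ x : A, f = x • f₀) :
    DTen.IsInvertible A E := by
  have : DTen.HasLTen₃ A := RH.hasLTen₃ A
  have : DTen.IsSymMonoidal A := RH.isSymMonoidal A
  have inst : ∀ m : Ideal A, DRing.HasLBaseChange (Ideal.Quotient.mk m) := fun m =>
    Groth.Agent.H35.LT.hasLBaseChange _
  have hperf : DRing.IsPerfect A E := by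
    obtain ⟨G, hG, hGfp, ⟨e⟩⟩ :=
      Groth.Agent.H28.PCohFibre.exists_finProj_rep_of_maximal_fibres_vanishing E
        ((Groth.Agent.H28.PCohRing.isPseudoCoherent'_iff A E).mp hE) (-b) (-a)
        (fun m hm n hn => by
          obtain ⟨s, hs1, hs2, hvan, -⟩ := h m hm
          exact isZero_homology_baseChange m
            (Groth.Agent.H5.LBaseChangeAdj.adj (Ideal.Quotient.mk m)) E n (-n) (by omega)
            (hvan (-n) (by omega)))
    exact ⟨G, -b, -a, hG, hGfp, ⟨e⟩⟩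
  obtain ⟨E', hE', ⟨hPair⟩⟩ := exists_exactPairing_perfect E hperf
  let _ := DT.monoidal A
  have hiso : IsIso (ε_ E E') := by
    refine isIso_of_isIso_fibres (ε_ E E')
      (Groth.Agent.H35.KF.isPseudoCoherent'_of_isPerfect _ (isPerfect_tn E' E hE' hperf))
      (Groth.Agent.H35.KF.isPseudoCoherent'_of_isPerfect _
        (isPerfect_unit A)) ?_
    intro m hm
    have : DTen.HasLTen (A ⧸ m) := RH.hasLTen _
    have : DTen.HasLTen₃ (A ⧸ m) := RH.hasLTen₃ _
    have : DTen.IsSymMonoidal (A ⧸ m) := RH.isSymMonoidal _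
    have : DTen.HasResTen (Ideal.Quotient.mk m) := TB.hasResTen _
    have : DTen.ResLegIso (Ideal.Quotient.mk m) := TB.resLegIso _
    have : DTen.HasLBase (Ideal.Quotient.mk m) :=
      ⟨(Groth.Agent.H5.LBaseChangeAdj.adj (Ideal.Quotient.mk m)).isRightAdjoint⟩
    refine ⟨LBase (Ideal.Quotient.mk m), baseAdj (Ideal.Quotient.mk m), ?_⟩
    obtain ⟨s, hs1, hs2, hvan, f₀, hf₀, hcyc⟩ := h m hm
    obtain ⟨e⟩ := nonempty_baseChange_iso_Gk m (baseAdj (Ideal.Quotient.mk m)) E (-s) s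
      (by omega) hvan f₀ hf₀ hcyc
    exact isIso_map_evaluation (Ideal.Quotient.mk m) E E' (-s) s (by omega) e
  exact ⟨E', ⟨(braiding E E').symm ≪≫ asIso (ε_ E E')⟩, ⟨asIso (ε_ E E')⟩⟩

end Criterion

end Groth.Agent.H10.IV
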