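import Mathlib

/-!
# Transport of shifted Hom groups along fully faithful linear functors commuting with shifts
-/

set_option autoImplicit false
universe w v v' u u'
open CategoryTheory CategoryTheory.Limits

namespace Groth.Agent.H10.IV.FF

variable {A : Type w} [Semiring A]
  {C : Type u} [Category.{v} C] {D : Type u'} [Category.{v'} D]
  [HasShift C ℤ] [HasShift D ℤ]
  (ι G : C ⥤ D) [ι.Full] [ι.Faithful] [G.Full] [G.Faithful] [ι.CommShift ℤ] [G.CommShift ℤ]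

/-- For fully faithful functors `ι`, `G` commuting with shifts:
`Hom(ι X, (ι Y)[n]) ≃ Hom(G X, (G Y)[n])`. -/
noncomputable def homShiftEquiv (X Y : C) (n : ℤ) :
    (ι.obj X ⟶ (ι.obj Y)⟦n⟧) ≃ (G.obj X ⟶ (G.obj Y)⟦n⟧) :=
  ((Iso.refl _).homCongr ((ι.commShiftIso n).app Y).symm).trans <|
  (Functor.FullyFaithful.ofFullyFaithful ι).homEquiv.symm.trans <|
  (Functor.FullyFaithful.ofFullyFaithful G).homEquiv.trans <|
  (Iso.refl _).homCongr ((G.commShiftIso n).app Y)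

lemma homShiftEquiv_apply (X Y : C) (n : ℤ) (f : ι.obj X ⟶ (ι.obj Y)⟦n⟧) :
    homShiftEquiv ι G X Y n f =
      G.map (ι.preimage (f ≫ (ι.commShiftIso n).inv.app Y)) ≫ (G.commShiftIso n).hom.app Y := by
  simp [homShiftEquiv, Iso.homCongr, Functor.FullyFaithful.homEquiv]
  rfl

variable [Preadditive C] [Preadditive D] [Linear A C] [Linear A D]
  [ι.Additive] [G.Additive] [ι.Linear A] [G.Linear A]

omit [HasShift C ℤ] [HasShift D ℤ] [ι.CommShift ℤ] [ι.Additive] in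
lemma preimage_smul {X Y : C} (x : A) (f : ι.obj X ⟶ ι.obj Y) :
    ι.preimage (x • f) = x • ι.preimage f := by
  apply ι.map_injective
  rw [Functor.map_smul, Functor.map_preimage, Functor.map_preimage]

omit [G.Additive] [ι.Additive] in
lemma homShiftEquiv_smul (X Y : C) (n : ℤ) (x : A) (f : ι.obj X ⟶ (ι.obj Y)⟦n⟧) :
    homShiftEquiv ι G X Y n (x • f) = x • homShiftEquiv ι G X Y n f := by
  rw [homShiftEquiv_apply, homShiftEquiv_apply, Linear.smul_comp, preimage_smul,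
    Functor.map_smul, Linear.smul_comp]

lemma homShiftEquiv_zero (X Y : C) (n : ℤ) :
    homShiftEquiv ι G X Y n 0 = 0 := by
  rw [homShiftEquiv_apply, zero_comp]
  have h : ι.preimage (0 : ι.obj X ⟶ ι.obj ((shiftFunctor C n).obj Y)) = 0 := by
    apply ι.map_injective
    rw [Functor.map_preimage, Functor.map_zero]
  rw [h, Functor.map_zero, zero_comp]

section T

variable {G}
variable {Y : C} {Z : D} {s : ℤ} (e : G.obj Y ≅ Z⟦s⟧) (X : C) (n i : ℤ) (h : s + n = i)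

/-- If `G Y ≅ Z[s]`, then `Hom(ι X, (ι Y)[n]) ≃ Hom(G X, Z[s + n])`. -/
noncomputable def tEquiv : (ι.obj X ⟶ (ι.obj Y)⟦n⟧) ≃ (G.obj X ⟶ Z⟦i⟧) :=
  (homShiftEquiv ι G X Y n).trans
    ((Iso.refl _).homCongr ((shiftFunctor D n).mapIso e ≪≫ (shiftFunctorAdd' D s n i h).symm.app Z))

omit [Preadditive C] [Preadditive D] [Linear A C] [Linear A D] [ι.Additive] [G.Additive]
  [ι.Linear A] [G.Linear A] in
lemma tEquiv_apply (f : ι.obj X ⟶ (ι.obj Y)⟦n⟧) :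
    tEquiv ι e X n i h f = homShiftEquiv ι G X Y n f ≫
      (e.hom⟦n⟧' ≫ (shiftFunctorAdd' D s n i h).inv.app Z) := by
  simp [tEquiv, Iso.homCongr]

omit [ι.Additive] [G.Additive] in
lemma tEquiv_smul (x : A) (f : ι.obj X ⟶ (ι.obj Y)⟦n⟧) :
    tEquiv ι e X n i h (x • f) = x • tEquiv ι e X n i h f := by
  rw [tEquiv_apply, tEquiv_apply, homShiftEquiv_smul, Linear.smul_comp]

lemma tEquiv_zero : tEquiv ι e X n i h (0 : ι.obj X ⟶ (ι.obj Y)⟦n⟧) = 0 := by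
  rw [tEquiv_apply, homShiftEquiv_zero, zero_comp]

include e h in
lemma hom_eq_zero_of_tEquiv (h0 : ∀ f : ι.obj X ⟶ (ι.obj Y)⟦n⟧, f = 0) (g : G.obj X ⟶ Z⟦i⟧) :
    g = 0 := by
  obtain ⟨f, rfl⟩ := (tEquiv ι e X n i h).surjective g
  rw [h0 f, tEquiv_zero]

include e h in
lemma hom_eq_zero_of_tEquiv' (h0 : ∀ g : G.obj X ⟶ Z⟦i⟧, g = 0) (f : ι.obj X ⟶ (ι.obj Y)⟦n⟧) :
    f = 0 := by
  apply (tEquiv ι e X n i h).injective
  rw [tEquiv_zero]
  exact h0 _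

include e h in
omit [ι.Additive] [G.Additive] in
lemma exists_cyclic_of_tEquiv (f₀ : ι.obj X ⟶ (ι.obj Y)⟦n⟧) (hf₀ : f₀ ≠ 0)
    (hcyc : ∀ f : ι.obj X ⟶ (ι.obj Y)⟦n⟧, ∃ x : A, f = x • f₀) :
    ∃ g₀ : G.obj X ⟶ Z⟦i⟧, g₀ ≠ 0 ∧ ∀ g : G.obj X ⟶ Z⟦i⟧, ∃ x : A, g = x • g₀ := by
  refine ⟨tEquiv ι e X n i h f₀, fun h0 => hf₀ ?_, fun g => ?_⟩
  · apply (tEquiv ι e X n i h).injective
    rw [h0]
    have h1 := tEquiv_smul (A := A) ι e X n i h 0 f₀
    rw [zero_smul, zero_smul] at h1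
    exact h1.symm
  · obtain ⟨f, rfl⟩ := (tEquiv ι e X n i h).surjective g
    obtain ⟨x, rfl⟩ := hcyc f
    exact ⟨x, tEquiv_smul ι e X n i h x f₀⟩

end T

include ι in
omit [HasShift C ℤ] [HasShift D ℤ] [ι.Full] [G.Full] [G.Faithful] [ι.CommShift ℤ]
  [G.CommShift ℤ] in
lemma smul_id_eq_zero (X : C) (x : A) (h : x • 𝟙 (ι.obj X) = 0) : x • 𝟙 (G.obj X) = 0 := by
  have h1 : x • 𝟙 X = 0 := by
    apply ι.map_injective
    rw [Functor.map_smul, CategoryTheory.Functor.map_id, h, Functor.map_zero]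
  rw [← G.map_id, ← Functor.map_smul, h1, Functor.map_zero]

include ι in
omit [HasShift C ℤ] [HasShift D ℤ] [ι.Full] [G.Faithful] [ι.CommShift ℤ] [G.CommShift ℤ]
  [ι.Additive] [G.Additive] in
lemma exists_smul_id (X : C) (h : ∀ f : ι.obj X ⟶ ι.obj X, ∃ x : A, f = x • 𝟙 _)
    (g : G.obj X ⟶ G.obj X) : ∃ x : A, g = x • 𝟙 _ := by
  obtain ⟨g', rfl⟩ := G.map_surjective g
  obtain ⟨x, hx⟩ := h (ι.map g')
  refine ⟨x, ?_⟩
  have : g' = x • 𝟙 X := by
    apply ι.map_injective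
    rw [hx, Functor.map_smul, CategoryTheory.Functor.map_id]
  rw [this, Functor.map_smul, CategoryTheory.Functor.map_id]

include ι in
omit [HasShift C ℤ] [HasShift D ℤ] [ι.Faithful] [ι.Full] [G.Full] [ι.CommShift ℤ]
  [G.CommShift ℤ] [ι.Linear A] [G.Linear A] in
lemma not_isZero (X : C) (h : ¬ IsZero (ι.obj X)) : ¬ IsZero (G.obj X) := by
  intro h0
  apply h
  rw [IsZero.iff_id_eq_zero] at h0 ⊢
  have h1 : 𝟙 X = 0 := by
    apply G.map_injective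
    rw [G.map_id, h0, Functor.map_zero]
  rw [← ι.map_id, h1, Functor.map_zero]

end Groth.Agent.H10.IV.FF
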