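import Groth.Agent.H10.IV1
import Groth.Agent.H10.IV3
import Groth.Agent.H10.IV6
import Groth.Agent.H10.IV7
import Groth.Agent.H28.DualSelf
import Groth.Agent.H28.PCohRing2

/-!
# Facts on residue fields in `D(A)` and the unit object
-/

set_option autoImplicit false
universe u
open CategoryTheory CategoryTheory.Limits DerivedCategory Pretriangulated
attribute [local instance] HasDerivedCategory.standard

namespace Groth.Agent.H10.IV

open Groth.Agent.H10.WO

section Kap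

variable {A : Type u} [CommRing A] (m : Ideal A)

lemma not_isZero_kap (hm : m ≠ ⊤) : ¬ IsZero (kap m) := by
  intro h0
  rw [IsZero.iff_id_eq_zero] at h0
  have h1 : 𝟙 (ModuleCat.of A (A ⧸ m)) = 0 := by
    apply (singleFunctor (ModuleCat.{u} A) 0).map_injective
    rw [CategoryTheory.Functor.map_id, Functor.map_zero]
    exact h0
  have h2 := congr($(h1).hom (1 : A ⧸ m))
  simp only [ModuleCat.hom_id, LinearMap.id_coe, id_eq, ModuleCat.hom_zero,
    LinearMap.zero_apply] at h2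
  have : Nontrivial (A ⧸ m) := Ideal.Quotient.nontrivial_iff.2 hm
  exact one_ne_zero h2

lemma smul_id_kap (x : A) (hx : x ∈ m) : x • 𝟙 (kap m) = 0 := by
  have h1 : x • 𝟙 (ModuleCat.of A (A ⧸ m)) = 0 := by
    ext
    change x • (Submodule.mkQ m (1 : A)) = 0
    rw [← map_smul, Submodule.mkQ_apply, Submodule.Quotient.mk_eq_zero]
    simpa using hx
  rw [single_smul_id, h1, Functor.map_zero]

lemma hom_kap_shift_neg (l : ℤ) (hl : l < 0) (f : kap m ⟶ (kap m)⟦l⟧) : f = 0 :=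
  (Groth.Agent.H28.DualSelf.subsingleton_hom_shift_of_neg A (A ⧸ m) (A ⧸ m) l hl).elim _ _

lemma end_kap (f : kap m ⟶ kap m) : ∃ x : A, f = x • 𝟙 (kap m) := by
  obtain ⟨g, rfl⟩ := (singleFunctor (ModuleCat.{u} A) 0).map_surjective f
  obtain ⟨x, hx⟩ := Ideal.Quotient.mk_surjective (g.hom (1 : A ⧸ m))
  refine ⟨x, ?_⟩
  rw [single_smul_id]
  congr 1
  ext
  change g.hom (1 : A ⧸ m) = x • (1 : A ⧸ m)
  rw [← hx, Algebra.smul_def, mul_one]
  rfl

end Kap

section Unit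

open CategoryTheory.Abelian

variable {A : Type u} [CommRing A] (m : Ideal A)

variable (A) in
/-- The unit object is `A` in degree `0`. -/
noncomputable def unitIso : DTen.unit A ≅ Dual.inD A A := (TkIso 0).symm

lemma hom_inD_kap_eq_zero (n : ℤ) (hn : n ≠ 0) (f : Dual.inD A A ⟶ (kap m)⟦n⟧) : f = 0 := by
  rcases lt_or_gt_of_ne hn with h | h
  · exact (Groth.Agent.H28.DualSelf.subsingleton_hom_shift_of_neg A (A ⧸ m) A n h).elim _ _
  · obtain ⟨k, rfl⟩ : ∃ k : ℕ, n = ((k + 1 : ℕ) : ℤ) := ⟨(n - 1).toNat, by omega⟩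
    have h1 : Subsingleton (Ext (ModuleCat.of A A) (ModuleCat.of A (A ⧸ m)) (k + 1)) :=
      Ext.subsingleton_of_projective _ _ k
    have h2 := (Groth.Agent.H28.DualSelf.subsingleton_hom_shift_iff_ext A
      (ModuleCat.of A (A ⧸ m)) (ModuleCat.of A A) (k + 1)).2 h1
    exact h2.elim _ _

lemma hom_unit_kap_eq_zero (n : ℤ) (hn : n ≠ 0) (f : DTen.unit A ⟶ (kap m)⟦n⟧) : f = 0 := by
  have h : f = (unitIso A).hom ≫ ((unitIso A).inv ≫ f) := by rw [Iso.hom_inv_id_assoc]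
  rw [h, hom_inD_kap_eq_zero m n hn ((unitIso A).inv ≫ f), comp_zero]

/-- The quotient map `A ⟶ A ⧸ m` in `D(A)`. -/
noncomputable def piKap : Dual.inD A A ⟶ kap m :=
  (singleFunctor (ModuleCat.{u} A) 0).map (ModuleCat.ofHom (Submodule.mkQ m))

lemma exists_smul_piKap (g : Dual.inD A A ⟶ kap m) : ∃ x : A, g = x • piKap m := by
  obtain ⟨g', rfl⟩ := (singleFunctor (ModuleCat.{u} A) 0).map_surjective g
  obtain ⟨x, hx⟩ := Ideal.Quotient.mk_surjective (g'.hom (1 : A))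
  refine ⟨x, ?_⟩
  rw [piKap, ← Functor.map_smul]
  congr 1
  ext
  change g'.hom (1 : A) = x • (Submodule.mkQ m (1 : A))
  rw [← hx, ← map_smul]
  simp

lemma piKap_ne_zero (hm : m ≠ ⊤) : piKap m ≠ 0 := by
  intro h0
  have h1 : ModuleCat.ofHom (Submodule.mkQ m) = 0 := by
    apply (singleFunctor (ModuleCat.{u} A) 0).map_injective
    rw [Functor.map_zero]
    exact h0
  have h2 := congr($(h1).hom (1 : A))
  simp only [ModuleCat.hom_ofHom, Submodule.mkQ_apply, ModuleCat.hom_zero,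
    LinearMap.zero_apply] at h2
  rw [Submodule.Quotient.mk_eq_zero] at h2
  exact hm ((Ideal.eq_top_iff_one m).2 h2)

lemma exists_cyclic_unit_kap (hm : m ≠ ⊤) :
    ∃ f₀ : DTen.unit A ⟶ (kap m)⟦(0 : ℤ)⟧, f₀ ≠ 0 ∧
      ∀ f : DTen.unit A ⟶ (kap m)⟦(0 : ℤ)⟧, ∃ x : A, f = x • f₀ := by
  let z := (shiftFunctorZero (Dual.D A) ℤ).app (kap m)
  refine ⟨(unitIso A).hom ≫ piKap m ≫ z.inv, fun h0 => piKap_ne_zero m hm ?_, fun f => ?_⟩
  · rw [← cancel_epi (unitIso A).hom, ← cancel_mono z.inv, Category.assoc, h0, comp_zero,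
      zero_comp]
  · obtain ⟨x, hx⟩ := exists_smul_piKap m ((unitIso A).inv ≫ f ≫ z.hom)
    refine ⟨x, ?_⟩
    have h1 : f = (unitIso A).hom ≫ ((unitIso A).inv ≫ f ≫ z.hom) ≫ z.inv := by simp
    rw [h1, hx, Linear.smul_comp, Linear.comp_smul]

end Unit

end Groth.Agent.H10.IV
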