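import Groth.Agent.H10.IV8

/-!
# `F(A)` is invertible for an `A`-linear triangulated autoequivalence `F` of `D^b_Coh(A)`
-/

set_option autoImplicit false
universe u
open CategoryTheory CategoryTheory.Limits DerivedCategory Pretriangulated
attribute [local instance] HasDerivedCategory.standard

namespace Groth.Agent.H10.IV

open Groth.Agent.H10.WO

section Main

variable {A : Type u} [CommRing A]

/-- Membership in `D^b_Coh(A)`. -/
def IsDbCoh (K : Dual.D A) : Prop :=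
  (∀ i : ℤ, Module.Finite A (Dual.HD A K i)) ∧
    ∃ a b : ℤ, ∀ i : ℤ, (i < a ∨ b < i) → Subsingleton (Dual.HD A K i)

lemma isDbCoh_inD (M : Type u) [AddCommGroup M] [Module A M] [Module.Finite A M] :
    IsDbCoh (Dual.inD A M) := by
  refine ⟨fun i => Groth.Agent.H28.DualSelf.finite_HD_inD A M i, 0, 0, fun i hi => ?_⟩
  apply ModuleCat.subsingleton_of_isZero
  rcases hi with h | h
  · exact DerivedCategory.isZero_of_isGE _ 0 i h
  · exact DerivedCategory.isZero_of_isLE _ 0 i h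

lemma exists_isGE_isLE (K : Dual.D A) (h : IsDbCoh K) : ∃ a b : ℤ, K.IsGE a ∧ K.IsLE b := by
  obtain ⟨-, a, b, hab⟩ := h
  refine ⟨a, b, ?_, ?_⟩
  · rw [DerivedCategory.isGE_iff]
    intro i hi
    have := hab i (Or.inl hi)
    exact ModuleCat.isZero_of_subsingleton _
  · rw [DerivedCategory.isLE_iff]
    intro i hi
    have := hab i (Or.inr hi)
    exact ModuleCat.isZero_of_subsingleton _

lemma isPseudoCoherent'_of_isDbCoh [IsNoetherianRing A] (K : Dual.D A) (h : IsDbCoh K) :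
    DRing.IsPseudoCoherent' A K := by
  rw [Groth.Agent.H28.PCohRing.isPseudoCoherent'_iff]
  intro j
  rw [Groth.Agent.H28.PCohRing.isNPC_iff_of_noetherian]
  obtain ⟨hfin, a, b, hab⟩ := h
  refine ⟨⟨b, fun i hi => ?_⟩, fun i _ => hfin i⟩
  have := hab i (Or.inr hi)
  exact ModuleCat.isZero_of_subsingleton _

/-- S13589. -/
theorem isInvertible_map_unit [IsNoetherianRing A] [DTen.HasLTen A]
    (P : ObjectProperty (Dual.D A)) (hP : ∀ K : Dual.D A, P K ↔ IsDbCoh K) [P.IsTriangulated]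
    (F : P.FullSubcategory ⥤ P.FullSubcategory) [F.CommShift ℤ] [F.IsTriangulated]
    [F.IsEquivalence] [F.Additive] [F.Linear A] (hA : P (DTen.unit A)) :
    DTen.IsInvertible A (F.obj ⟨DTen.unit A, hA⟩).obj := by
  let AP : P.FullSubcategory := ⟨DTen.unit A, hA⟩
  obtain ⟨E'P, ⟨eE'⟩⟩ : ∃ E'P : P.FullSubcategory, Nonempty (F.obj E'P ≅ AP) :=
    ⟨F.objPreimage AP, ⟨F.objObjPreimageIso AP⟩⟩
  obtain ⟨aE, bE, hEge, hEle⟩ := exists_isGE_isLE (F.obj AP).obj ((hP _).1 (F.obj AP).property)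
  obtain ⟨aE', bE', hE'ge, hE'le⟩ := exists_isGE_isLE E'P.obj ((hP _).1 E'P.property)
  apply isInvertible_of_residue_data (F.obj AP).obj
    (isPseudoCoherent'_of_isDbCoh _ ((hP _).1 (F.obj AP).property)) (-bE) bE'
  intro m hm
  let κP : P.FullSubcategory := ⟨kap m, (hP _).2 (isDbCoh_inD _)⟩
  let G : P.FullSubcategory ⥤ Dual.D A := F ⋙ P.ι
  obtain ⟨a1, b1, hK1ge, hK1le⟩ := exists_isGE_isLE (G.obj κP) ((hP _).1 (F.obj κP).property)
  obtain ⟨s, ⟨e⟩⟩ := exists_iso_shift_residue m (G.obj κP) a1 b1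
    (FF.not_isZero P.ι G κP (not_isZero_kap m hm.ne_top))
    (fun x hx => FF.smul_id_eq_zero P.ι G κP x (smul_id_kap m x hx))
    (fun l hl f => by
      obtain ⟨f', rfl⟩ := (FF.homShiftEquiv P.ι G κP κP l).surjective f
      rw [hom_kap_shift_neg m l hl f', FF.homShiftEquiv_zero])
    (FF.exists_smul_id P.ι G κP (end_kap m))
  obtain ⟨f₀, hf₀, hcyc⟩ := exists_cyclic_unit_kap m hm.ne_top
  obtain ⟨g₀, hg₀, hgcyc⟩ := FF.exists_cyclic_of_tEquiv (A := A) P.ι e AP 0 s (by omega) f₀ hf₀ hcyc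
  refine ⟨s, ?_, ?_, ?_, g₀, hg₀, hgcyc⟩
  · by_contra hlt
    have : ((kap m)⟦s⟧).IsGE (-s) := TStructure.t.isGE_shift (kap m) 0 s (-s) (by omega)
    have : (G.obj AP).IsLE bE := hEle
    exact hg₀ (TStructure.t.zero g₀ bE (-s) (by omega))
  · by_contra hlt
    have : ((P.ι.obj κP)⟦-s⟧).IsGE s := TStructure.t.isGE_shift (kap m) 0 (-s) s (by omega)
    have : (P.ι.obj E'P).IsLE bE' := hE'le
    have h0 : ∀ f : P.ι.obj E'P ⟶ (P.ι.obj κP)⟦-s⟧, f = 0 := fun f =>
      TStructure.t.zero f bE' s (by omega)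
    have h1 := FF.hom_eq_zero_of_tEquiv P.ι e E'P (-s) 0 (by omega) h0
      ((P.ι.mapIso eE').hom ≫ f₀)
    apply hf₀
    rw [← cancel_epi (P.ι.mapIso eE').hom, h1, comp_zero]
  · intro i hi g
    exact FF.hom_eq_zero_of_tEquiv P.ι e AP (i - s) i (by omega)
      (hom_unit_kap_eq_zero m (i - s) (by omega)) g

end Main

end Groth.Agent.H10.IV
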