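import Groth.Prelude.Def_PBC
import Mathlib

set_option autoImplicit false
set_option linter.style.haveILetI false

/-!
# A directed union of étale subalgebras is ind-étale
-/

open CategoryTheory CategoryTheory.Limits

namespace Groth.Agent.H10

universe u

section

variable {A B : Type u} [CommRing A] [CommRing B] [Algebra A B]
variable (P : Set (Subalgebra A B))

/-- the diagram of the subalgebras in `P`. -/
noncomputable def unionDiagram : ↥P ⥤ Under (CommRingCat.of A) where
  obj S := Under.mk (CommRingCat.ofHom (algebraMap A S.1))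
  map {S T} h := Under.homMk (CommRingCat.ofHom (Subalgebra.inclusion (leOfHom h)).toRingHom)
    (by ext; rfl)
  map_id S := by ext x; rfl
  map_comp f g := by ext x; rfl

/-- the cocone with vertex `B`. -/
noncomputable def unionCocone : Cocone (unionDiagram P) where
  pt := Under.mk (CommRingCat.ofHom (algebraMap A B))
  ι :=
    { app := fun S => Under.homMk (CommRingCat.ofHom S.1.val.toRingHom) (by ext; rfl)
      naturality := fun S T h => by ext x; rfl }

variable {P}

/-- the maps of a cocone, as algebra homs. -/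
noncomputable def coconeAlgHom (s : Cocone (unionDiagram P)) (S : ↥P) :
    letI : Algebra A s.pt.right := s.pt.hom.hom.toAlgebra
    ↥S.1 →ₐ[A] s.pt.right :=
  letI : Algebra A s.pt.right := s.pt.hom.hom.toAlgebra
  { (s.ι.app S).right.hom with
    commutes' := fun a => by
      have := Under.w (s.ι.app S)
      exact congrArg (fun φ => φ.hom a) this }

theorem coconeAlgHom_comp (s : Cocone (unionDiagram P)) (S T : ↥P) (h : S.1 ≤ T.1) :
    letI : Algebra A s.pt.right := s.pt.hom.hom.toAlgebra
    coconeAlgHom s S = (coconeAlgHom s T).comp (Subalgebra.inclusion h) := by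
  letI : Algebra A s.pt.right := s.pt.hom.hom.toAlgebra
  ext x
  have := s.w (homOfLE (show S ≤ T from h))
  have h2 : ((unionDiagram P).map (homOfLE (show S ≤ T from h)) ≫ s.ι.app T).right.hom x =
      (s.ι.app S).right.hom x := by rw [this]
  exact h2.symm

variable (hdir : DirectedOn (· ≤ ·) P) (hne : P.Nonempty) (hcov : ∀ b : B, ∃ S ∈ P, b ∈ S)

include hcov in
theorem top_le_iSup : (⊤ : Subalgebra A B) ≤ iSup (fun S : ↥P => S.1) := by
  intro b _
  obtain ⟨S, hS, hb⟩ := hcov b
  exact (le_iSup (fun S : ↥P => S.1) ⟨S, hS⟩) hb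

/-- the descended map. -/
noncomputable def unionDesc (s : Cocone (unionDiagram P)) :
    letI : Algebra A s.pt.right := s.pt.hom.hom.toAlgebra
    B →ₐ[A] s.pt.right :=
  letI : Algebra A s.pt.right := s.pt.hom.hom.toAlgebra
  haveI : Nonempty ↥P := hne.to_subtype
  (Subalgebra.iSupLift (fun S : ↥P => S.1) hdir.directed_val (coconeAlgHom s)
    (fun S T h => coconeAlgHom_comp s S T h) ⊤ (top_le_iSup hcov)).comp
    (Subalgebra.topEquiv.symm : B ≃ₐ[A] (⊤ : Subalgebra A B)).toAlgHom

theorem unionDesc_apply (s : Cocone (unionDiagram P)) (S : ↥P) (x : ↥S.1) :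
    unionDesc hdir hne hcov s (x : B) = (s.ι.app S).right.hom x := by
  letI : Algebra A s.pt.right := s.pt.hom.hom.toAlgebra
  haveI : Nonempty ↥P := hne.to_subtype
  have := Subalgebra.iSupLift_of_mem (K := fun S : ↥P => S.1) (dir := hdir.directed_val)
    (f := coconeAlgHom s) (hf := fun S T h => coconeAlgHom_comp s S T h) (T := ⊤)
    (hT := top_le_iSup hcov) (i := S) ⟨(x : B), Algebra.mem_top⟩ x.2
  exact this

/-- `B` is the colimit of the diagram of subalgebras in `P`. -/
noncomputable def unionIsColimit : IsColimit (unionCocone P) where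
  desc s :=
    letI : Algebra A s.pt.right := s.pt.hom.hom.toAlgebra
    Under.homMk (CommRingCat.ofHom (unionDesc hdir hne hcov s).toRingHom) (by
      ext a
      exact (unionDesc hdir hne hcov s).commutes a)
  fac s S := by
    ext x
    exact unionDesc_apply hdir hne hcov s S x
  uniq s m hm := by
    ext b
    obtain ⟨S, hS, hb⟩ := hcov b
    have h1 := unionDesc_apply hdir hne hcov s ⟨S, hS⟩ ⟨b, hb⟩
    have h2 : ((unionCocone P).ι.app ⟨S, hS⟩ ≫ m).right.hom ⟨b, hb⟩ =
        (s.ι.app ⟨S, hS⟩).right.hom ⟨b, hb⟩ := by rw [hm]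
    exact h2.trans h1.symm

include hdir hne hcov in
/-- A directed union of étale subalgebras is ind-étale. -/
theorem isIndEtale_of_directedOn (het : ∀ S ∈ P, Algebra.Etale A S) : EtPBC.IsIndEtale A B := by
  haveI : Nonempty ↥P := hne.to_subtype
  haveI : IsDirected ↥P (· ≤ ·) := ⟨fun S T => by
    obtain ⟨U, hU, h1, h2⟩ := hdir S.1 S.2 T.1 T.2
    exact ⟨⟨U, hU⟩, h1, h2⟩⟩
  refine ⟨↥P, inferInstance, inferInstance, unionDiagram P, unionCocone P,
    unionIsColimit hdir hne hcov, ?_, ⟨Iso.refl _⟩⟩
  intro S
  have h1 : Algebra.Etale A S.1 := het S.1 S.2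
  have h3 : (((unionDiagram P).obj S).hom.hom.toAlgebra : Algebra A S.1) =
      Subalgebra.algebra S.1 := by
    apply Algebra.algebra_ext
    intro r
    rfl
  change @Algebra.Etale A S.1 _ _ (((unionDiagram P).obj S).hom.hom.toAlgebra)
  rw [h3]
  exact h1

end

end Groth.Agent.H10
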