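import Mathlib.LinearAlgebra.Matrix.Charpoly.LinearMap
import Mathlib.RingTheory.IntegralClosure.IsIntegral.Basic
import Mathlib.RingTheory.IntegralClosure.Algebra.Basic
import Mathlib.RingTheory.Ideal.Maps

set_option autoImplicit false
universe u

namespace Groth.Agent.H10

open Polynomial

/-- An element of `I B`, with `B` integral over `A`, is a root of a monic polynomial whose
lower coefficients lie in the appropriate powers of `I`. -/
theorem exists_monic_coeff_mem_pow_of_mem_map {A B : Type*} [CommRing A] [CommRing B] [Algebra A B]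
    [Algebra.IsIntegral A B] (I : Ideal A) (c : B) (hc : c ∈ I.map (algebraMap A B)) :
    ∃ p : A[X], p.Monic ∧ (∀ k, p.coeff k ∈ I ^ (p.natDegree - k)) ∧ aeval c p = 0 := by
  classical
  have hc' : c ∈ I • (⊤ : Submodule A B) := by
    rw [Ideal.smul_top_eq_map]; exact hc
  rw [← Submodule.span_univ, ← Set.image_id Set.univ,
    Submodule.mem_ideal_smul_span_iff_exists_sum'] at hc'
  obtain ⟨a, ha, hsum⟩ := hc'
  simp only [id_eq, Finsupp.sum] at hsum
  -- the finite set of elements involved
  let T : Set B := (fun i : (Set.univ : Set B) => (i : B)) '' (a.support : Set (Set.univ : Set B))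
  have hT : T.Finite := (Finset.finite_toSet _).image _
  let B₀ := Algebra.adjoin A T
  have hfin : Module.Finite A B₀ :=
    Algebra.finite_adjoin_of_finite_of_isIntegral hT (fun x _ => Algebra.IsIntegral.isIntegral x)
  have hβ : ∀ i ∈ a.support, (i : B) ∈ B₀ := fun i hi => Algebra.subset_adjoin ⟨i, hi, rfl⟩
  have hcB₀ : c ∈ B₀ := by
    rw [← hsum]
    exact Subalgebra.sum_mem _ fun i hi => Subalgebra.smul_mem _ (hβ i hi) _
  let c₀ : B₀ := ⟨c, hcB₀⟩
  let μ : Module.End A B₀ := LinearMap.mulLeft A c₀
  have hμ : LinearMap.range μ ≤ I • (⊤ : Submodule A B₀) := by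
    rintro _ ⟨x, rfl⟩
    have : μ x = ∑ i ∈ a.support.attach, a i.1 • ((⟨(i.1 : B), hβ i.1 i.2⟩ : B₀) * x) := by
      apply Subtype.ext
      simp only [μ, LinearMap.mulLeft_apply, c₀, AddSubmonoidClass.coe_finsetSum,
        Subalgebra.coe_smul, Subalgebra.coe_mul]
      rw [Finset.sum_attach a.support (fun i => a i • ((i : B) * (x : B))), ← hsum, Finset.sum_mul]
      simp only [smul_mul_assoc]
    rw [this]
    exact Submodule.sum_mem _ fun i _ => Submodule.smul_mem_smul (ha _) Submodule.mem_top
  obtain ⟨p, hp, -, hcoeff, hpe⟩ :=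
    LinearMap.exists_monic_and_natDegree_eq_and_coeff_mem_pow_and_aeval_eq_zero A μ I hμ
  refine ⟨p, hp, hcoeff, ?_⟩
  have h1 : aeval c₀ p = 0 := by
    have := congrArg (fun φ : Module.End A B₀ => φ 1) hpe
    simp only [LinearMap.zero_apply] at this
    rw [← this]
    have hμ' : μ = Algebra.lmul A B₀ c₀ := rfl
    rw [hμ', Polynomial.aeval_algHom_apply]
    simp
  have h2 := congrArg (B₀.val) h1
  rw [← Polynomial.aeval_algHom_apply] at h2
  simpa [c₀] using h2

end Groth.Agent.H10
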