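import Mathlib

set_option autoImplicit false
universe u
open Polynomial

namespace Groth.Agent.H10.KummerNorm

theorem exists_pow_mul_unit (A : Type u) [CommRing A] [IsDomain A] (π : A) (hπ0 : π ≠ 0)
    (hp : (Ideal.span {π}).IsPrime) (N : ℕ) : ∀ (f g : A), f * g = π ^ N →
    ∃ (k : ℕ) (u : Aˣ), f = π ^ k * u := by
  induction N with
  | zero =>
    intro f g h
    rw [pow_zero] at h
    exact ⟨0, ⟨f, g, h, by rw [mul_comm]; exact h⟩, by rw [pow_zero, one_mul]⟩
  | succ N ih =>
    intro f g h
    have hmem : f * g ∈ Ideal.span {π} := by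
      rw [h, Ideal.mem_span_singleton]
      exact dvd_pow_self π (Nat.succ_ne_zero N)
    rcases hp.mem_or_mem hmem with h1 | h1
    · rw [Ideal.mem_span_singleton] at h1
      obtain ⟨f', rfl⟩ := h1
      have h2 : f' * g = π ^ N := by
        apply mul_left_cancel₀ hπ0
        rw [← mul_assoc, h, pow_succ, mul_comm]
      obtain ⟨k, u, hk⟩ := ih f' g h2
      exact ⟨k + 1, u, by rw [hk, pow_succ]; ring⟩
    · rw [Ideal.mem_span_singleton] at h1
      obtain ⟨g', rfl⟩ := h1
      have h2 : f * g' = π ^ N := by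
        apply mul_left_cancel₀ hπ0
        rw [pow_succ] at h
        linear_combination h
      exact ih f g' h2

theorem dvd_of_prime_integralClosure (A S : Type u) [CommRing A] [IsDomain A] [CommRing S]
    [IsDomain S] [Algebra A S] (π : A) (hπS : IsUnit (algebraMap A S π))
    (hsp : (Ideal.span {algebraMap A (integralClosure A S) π}).IsPrime) (m k : ℕ) (hm : 0 < m)
    (u : Aˣ) (z : S) (hz : z ^ m = algebraMap A S (π ^ k * u)) : m ∣ k := by
  obtain ⟨πi, hπi⟩ := hπS.exists_left_inv
  set q := k / m with hq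
  set r := k % m with hr
  have hk : k = m * q + r := (Nat.div_add_mod k m).symm
  have hrm : r < m := Nat.mod_lt k hm
  rw [Nat.dvd_iff_mod_eq_zero]
  by_contra hr0
  have hrpos : 0 < r := Nat.pos_of_ne_zero hr0
  let y : S := z * πi ^ q
  have hy : y ^ m = algebraMap A S (π ^ r * u) := by
    simp only [y]
    rw [mul_pow, hz, hk, map_mul, map_mul, map_pow, map_pow, pow_add, ← pow_mul]
    have : (πi ^ (q * m)) * (algebraMap A S π) ^ (m * q) = 1 := by
      rw [mul_comm q m, ← mul_pow, hπi, one_pow]
    linear_combination (algebraMap A S π ^ r * algebraMap A S u) * this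
  have hyint : IsIntegral A y := by
    refine ⟨X ^ m - C (π ^ r * u), monic_X_pow_sub_C _ hm.ne', ?_⟩
    rw [eval₂_sub, eval₂_pow, eval₂_X, eval₂_C, hy, sub_self]
  let yB : integralClosure A S := ⟨y, hyint⟩
  have hyB : yB ^ m = algebraMap A (integralClosure A S) (π ^ r * u) := by
    apply Subtype.ext
    show y ^ m = _
    rw [hy]; rfl
  have hmem : yB ^ m ∈ Ideal.span {algebraMap A (integralClosure A S) π} := by
    rw [hyB, map_mul, map_pow, Ideal.mem_span_singleton]
    exact Dvd.dvd.mul_right (dvd_pow_self _ hr0) _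
  have hmem' := hsp.mem_of_pow_mem m hmem
  rw [Ideal.mem_span_singleton] at hmem'
  obtain ⟨y', hy'⟩ := hmem'
  have hπB0 : algebraMap A (integralClosure A S) π ≠ 0 := by
    intro h0
    have := congrArg (Subtype.val) h0
    have h1 : algebraMap A S π = 0 := this
    rw [h1, mul_zero] at hπi
    exact zero_ne_one hπi
  -- π_B is a unit
  have hunit : IsUnit (algebraMap A (integralClosure A S) π) := by
    have h1 : algebraMap A (integralClosure A S) π ^ m * y' ^ m =
        algebraMap A (integralClosure A S) π ^ r * algebraMap A (integralClosure A S) u := by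
      rw [← mul_pow, ← hy', hyB, map_mul, map_pow]
    obtain ⟨d, hd⟩ : ∃ d, m = r + (d + 1) := ⟨m - r - 1, by omega⟩
    have h2 : algebraMap A (integralClosure A S) π ^ (d + 1) * y' ^ m =
        algebraMap A (integralClosure A S) u := by
      apply mul_left_cancel₀ (pow_ne_zero r hπB0)
      rw [← mul_assoc, ← pow_add, ← hd, h1]
    have h3 : IsUnit (algebraMap A (integralClosure A S) π ^ (d + 1) * y' ^ m) := by
      rw [h2]; exact u.isUnit.map _
    have h4 := isUnit_of_mul_isUnit_left h3
    exact (isUnit_pow_iff (Nat.succ_ne_zero d)).1 h4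
  exact hsp.ne_top (Ideal.eq_top_of_isUnit_mem _ (Ideal.mem_span_singleton_self _) hunit)

theorem main (R : Type u) [CommRing R]
    [IsDomain R] [IsDiscreteValuationRing R] (ϖ : R) (hϖ : Irreducible ϖ)
    (A : Type u) [CommRing A] [IsDomain A] [Algebra R A]
    (hinj : Function.Injective (algebraMap R A)) (hprime : (Ideal.span {algebraMap R A ϖ}).IsPrime)
    (m : ℕ) (hm : 0 < m) (f : A)
    (hf : IsUnit (algebraMap A (Localization.Away (algebraMap R A ϖ)) f))
    [IsDomain (AdjoinRoot (Polynomial.X ^ m -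
      Polynomial.C (algebraMap A (Localization.Away (algebraMap R A ϖ)) f)))]
    (hsp : (Ideal.span {algebraMap A (integralClosure A
        (AdjoinRoot (Polynomial.X ^ m -
          Polynomial.C (algebraMap A (Localization.Away (algebraMap R A ϖ)) f))))
          (algebraMap R A ϖ)}).IsPrime) :
    ∃ (q : ℕ) (u : Aˣ), f = algebraMap R A ϖ ^ (m * q) * (u : A) := by
  have hπ0 : algebraMap R A ϖ ≠ 0 := fun h => hϖ.ne_zero (hinj (h.trans (map_zero _).symm))
  obtain ⟨y, hy⟩ := hf.exists_right_inv
  obtain ⟨⟨g, ⟨_, N, rfl⟩⟩, hg⟩ := IsLocalization.surj (Submonoid.powers (algebraMap R A ϖ)) y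
  have hfg : f * g = algebraMap R A ϖ ^ N := by
    apply IsLocalization.injective (Localization.Away (algebraMap R A ϖ))
      (powers_le_nonZeroDivisors_of_noZeroDivisors hπ0)
    rw [map_mul, ← hg, ← mul_assoc, hy, one_mul]
  obtain ⟨k, u, hk⟩ := exists_pow_mul_unit A (algebraMap R A ϖ) hπ0 hprime N f g hfg
  have hπS : IsUnit (algebraMap A (AdjoinRoot (Polynomial.X ^ m -
      Polynomial.C (algebraMap A (Localization.Away (algebraMap R A ϖ)) f))) (algebraMap R A ϖ)) := by
    rw [IsScalarTower.algebraMap_apply A (Localization.Away (algebraMap R A ϖ))]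
    exact (IsLocalization.Away.algebraMap_isUnit
      (S := Localization.Away (algebraMap R A ϖ)) (algebraMap R A ϖ)).map
      (algebraMap (Localization.Away (algebraMap R A ϖ)) (AdjoinRoot (Polynomial.X ^ m -
      Polynomial.C (algebraMap A (Localization.Away (algebraMap R A ϖ)) f))))
  have hz : (AdjoinRoot.root (Polynomial.X ^ m -
      Polynomial.C (algebraMap A (Localization.Away (algebraMap R A ϖ)) f))) ^ m =
      algebraMap A _ (algebraMap R A ϖ ^ k * u) := by
    rw [← hk]
    have := AdjoinRoot.mk_self (f := (Polynomial.X ^ m -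
      Polynomial.C (algebraMap A (Localization.Away (algebraMap R A ϖ)) f)))
    rw [map_sub, map_pow, AdjoinRoot.mk_X, AdjoinRoot.mk_C, sub_eq_zero] at this
    exact this.trans (IsScalarTower.algebraMap_apply A
      (Localization.Away (algebraMap R A ϖ)) _ f).symm
  have hdvd := dvd_of_prime_integralClosure A _ (algebraMap R A ϖ) hπS hsp m k hm u _ hz
  obtain ⟨q, rfl⟩ := hdvd
  exact ⟨q, u, hk⟩

end Groth.Agent.H10.KummerNorm
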