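import Mathlib
import Groth.Agent.H10.WeaklyEtaleField2
import Groth.Agent.H10.WeaklyEtaleResidue
import Groth.Prelude.Def_EtAlgD

set_option autoImplicit false
set_option linter.style.haveILetI false
set_option linter.unusedSimpArgs false

/-!
# The maximal weakly étale subalgebra of an algebra over a field
-/

universe u
open Polynomial

namespace Groth.Agent.H10

section

variable (K : Type u) [Field K] (A : Type u) [CommRing A] [Algebra K A]

theorem weaklyEtale_of_le {S T : Subalgebra K A} (h : T ≤ S) [Algebra.WeaklyEtale K S] :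
    Algebra.WeaklyEtale K T := by
  have h1 : Algebra.WeaklyEtale K (Subalgebra.inclusion h).range :=
    weaklyEtale_subalgebra K S _
  let e : T ≃ₐ[K] (Subalgebra.inclusion h).range :=
    AlgEquiv.ofInjective (Subalgebra.inclusion h) (Subalgebra.inclusion_injective h)
  exact weaklyEtale_of_surjective K e.symm.toAlgHom e.symm.surjective

theorem weaklyEtale_maxWE : Algebra.WeaklyEtale K (EtAlgD.maxWeaklyEtale K A) :=
  weaklyEtale_sSup K A

theorem le_maxWE (S : Subalgebra K A) [h : Algebra.WeaklyEtale K S] :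
    S ≤ EtAlgD.maxWeaklyEtale K A :=
  le_sSup h

variable {A} in
theorem weaklyEtale_map {B : Type u} [CommRing B] [Algebra K B] (f : A →ₐ[K] B)
    (S : Subalgebra K A) [Algebra.WeaklyEtale K S] : Algebra.WeaklyEtale K (S.map f) := by
  have h1 := weaklyEtale_range K (f.comp S.val)
  rwa [AlgHom.range_comp, Subalgebra.range_val] at h1

variable {A} in
theorem weaklyEtale_comap_val (A' T : Subalgebra K A) (hT : T ≤ A') [Algebra.WeaklyEtale K T] :
    Algebra.WeaklyEtale K (T.comap A'.val) := by
  have h1 : (T.comap A'.val).map A'.val = T := by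
    rw [Subalgebra.map_comap_eq, Subalgebra.range_val]
    exact inf_eq_left.2 hT
  have h2 : Algebra.WeaklyEtale K ((T.comap A'.val).map A'.val) := by rw [h1]; infer_instance
  let e := (T.comap A'.val).equivMapOfInjective A'.val Subtype.val_injective
  exact weaklyEtale_of_surjective K e.symm.toAlgHom e.symm.surjective

theorem maxWE_map_val (A' : Subalgebra K A) :
    (EtAlgD.maxWeaklyEtale K A').map A'.val = EtAlgD.maxWeaklyEtale K A ⊓ A' := by
  haveI := weaklyEtale_maxWE K A
  haveI := weaklyEtale_maxWE K A'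
  apply le_antisymm
  · apply le_inf
    · haveI := weaklyEtale_map K A'.val (EtAlgD.maxWeaklyEtale K A')
      exact le_maxWE K A _
    · rintro x ⟨y, _, rfl⟩
      exact y.2
  · set T := EtAlgD.maxWeaklyEtale K A ⊓ A' with hT
    haveI : Algebra.WeaklyEtale K T := weaklyEtale_of_le K A inf_le_left
    haveI := weaklyEtale_comap_val K A' T inf_le_right
    have h1 : T.comap A'.val ≤ EtAlgD.maxWeaklyEtale K A' := le_maxWE K A' _
    have h2 : (T.comap A'.val).map A'.val = T := by
      rw [Subalgebra.map_comap_eq, Subalgebra.range_val]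
      exact inf_eq_left.2 inf_le_right
    rw [← h2]
    exact Subalgebra.map_mono h1

variable {A} in
theorem formallyUnramified_adjoin_of_separable (b : A) (P : K[X]) (hP : P.Separable)
    (hb : aeval b P = 0) : Algebra.FormallyUnramified K (Algebra.adjoin K {b}) := by
  rw [Algebra.FormallyUnramified.iff_comp_injective]
  intro B _ _ I hI f₁ f₂ e
  set x : Algebra.adjoin K {b} := ⟨b, Algebra.subset_adjoin (Set.mem_singleton b)⟩ with hx
  have hxP : aeval x P = 0 := by
    apply Subtype.val_injective
    have := aeval_algHom_apply (Algebra.adjoin K {b}).val x P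
    simp [hx, hb, ← this]
  have hgen : Algebra.adjoin K {x} = ⊤ := by
    rw [eq_top_iff]
    rintro ⟨y, hy⟩ -
    induction hy using Algebra.adjoin_induction with
    | mem z hz =>
      rw [Set.mem_singleton_iff] at hz
      subst hz
      exact Algebra.subset_adjoin (Set.mem_singleton _)
    | algebraMap r => exact Subalgebra.algebraMap_mem _ r
    | add y z hy hz hy' hz' => exact Subalgebra.add_mem _ hy' hz'
    | mul y z hy hz hy' hz' => exact Subalgebra.mul_mem _ hy' hz'
  have key : f₁ x = f₂ x := by
    have h1 : f₁ x - f₂ x ∈ I := by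
      simpa [Ideal.Quotient.mk_eq_mk_iff_sub_mem] using AlgHom.congr_fun e x
    have := Polynomial.eval_add_of_sq_eq_zero (P.map (algebraMap K B)) (f₂ x)
      (f₁ x - f₂ x) (show (f₁ x - f₂ x) ^ 2 ∈ ⊥ from hI ▸ Ideal.pow_mem_pow h1 2)
    simp only [add_sub_cancel, eval_map_algebraMap, aeval_algHom_apply, hxP, map_zero,
      derivative_map, zero_add] at this
    obtain ⟨u, v, huv⟩ := hP
    have hunit : IsUnit (aeval x (derivative P)) := by
      have h2 := congrArg (aeval x) huv
      simp only [map_add, map_mul, hxP, mul_zero, zero_add, map_one] at h2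
      exact IsUnit.of_mul_eq_one_right _ h2
    rwa [eq_comm, (hunit.map f₂).mul_right_eq_zero, sub_eq_zero] at this
  exact AlgHom.ext_of_adjoin_eq_top hgen (by
    intro y hy
    rw [Set.mem_singleton_iff] at hy
    subst hy
    exact key)

variable {A} in
theorem weaklyEtale_adjoin_of_separable (b : A) (P : K[X]) (hP : P.Separable)
    (hb : aeval b P = 0) : Algebra.WeaklyEtale K (Algebra.adjoin K {b}) := by
  haveI := formallyUnramified_adjoin_of_separable K b P hP hb
  have hint : IsIntegral K b := ⟨P * C (P.leadingCoeff)⁻¹,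
    Polynomial.monic_mul_leadingCoeff_inv hP.ne_zero, by
      rw [← aeval_def, map_mul, hb, zero_mul]⟩
  haveI : Module.Finite K (Algebra.adjoin K {b}) :=
    Module.Finite.iff_fg.2 hint.fg_adjoin_singleton
  haveI : Algebra.FormallyEtale K (Algebra.adjoin K {b}) :=
    Algebra.FormallyEtale.of_formallyUnramified_of_field K _
  haveI : Algebra.FinitePresentation K (Algebra.adjoin K {b}) :=
    Algebra.FinitePresentation.of_finiteType.mp inferInstance
  haveI : Algebra.Etale K (Algebra.adjoin K {b}) := ⟨inferInstance, inferInstance⟩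
  infer_instance

theorem exists_separable_of_pi {I : Type*} [Finite I] (Ai : I → Type*) [∀ i, Field (Ai i)]
    [∀ i, Algebra K (Ai i)] [∀ i, Algebra.IsSeparable K (Ai i)] (y : ∀ i, Ai i) :
    ∃ Q : K[X], Q.Separable ∧ aeval y Q = 0 := by
  classical
  haveI := Fintype.ofFinite I
  have hint : ∀ i, IsIntegral K (y i) := fun i => Algebra.IsSeparable.isIntegral K (y i)
  let s : Finset K[X] := Finset.univ.image (fun i => minpoly K (y i))
  refine ⟨∏ q ∈ s, q, ?_, ?_⟩
  · apply Polynomial.separable_prod'
    · intro q₁ hq₁ q₂ hq₂ hne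
      obtain ⟨i, -, rfl⟩ := Finset.mem_image.1 hq₁
      obtain ⟨j, -, rfl⟩ := Finset.mem_image.1 hq₂
      rw [(minpoly.irreducible (hint i)).coprime_iff_not_dvd]
      intro hdvd
      apply hne
      exact Polynomial.eq_of_monic_of_associated (minpoly.monic (hint i)) (minpoly.monic (hint j))
        ((minpoly.irreducible (hint i)).associated_of_dvd (minpoly.irreducible (hint j)) hdvd)
    · intro q hq
      obtain ⟨i, -, rfl⟩ := Finset.mem_image.1 hq
      exact Algebra.IsSeparable.isSeparable K (y i)
  · funext i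
    have h1 := aeval_algHom_apply (Pi.evalAlgHom K Ai i) y (∏ q ∈ s, q)
    simp only [Pi.evalAlgHom_apply] at h1
    rw [← h1]
    apply Polynomial.aeval_eq_zero_of_dvd_aeval_eq_zero (p := minpoly K (y i))
    · exact Finset.dvd_prod_of_mem _ (Finset.mem_image.2 ⟨i, Finset.mem_univ _, rfl⟩)
    · exact minpoly.aeval K (y i)

variable {A} in
theorem exists_separable_of_weaklyEtale [Algebra.WeaklyEtale K A] (b : A) :
    ∃ Q : K[X], Q.Separable ∧ aeval b Q = 0 := by
  have hint : IsIntegral K b := isIntegral_of_weaklyEtale K A b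
  set C := Algebra.adjoin K {b} with hC
  haveI : Algebra.WeaklyEtale K C := weaklyEtale_subalgebra K A C
  haveI : Algebra.FormallyUnramified K C := formallyUnramified_of_weaklyEtale K C
  haveI : Module.Finite K C := Module.Finite.iff_fg.2 hint.fg_adjoin_singleton
  haveI : Algebra.FormallyEtale K C := Algebra.FormallyEtale.of_formallyUnramified_of_field K _
  obtain ⟨I, _, Ai, _, _, e, hsep⟩ :=
    (Algebra.FormallyEtale.iff_exists_algEquiv_prod K C).1 inferInstance
  set x : C := ⟨b, Algebra.subset_adjoin (Set.mem_singleton b)⟩ with hx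
  obtain ⟨Q, hQ, hQy⟩ := exists_separable_of_pi K Ai (e x)
  refine ⟨Q, hQ, ?_⟩
  have h1 : aeval x Q = 0 := by
    apply e.injective
    rw [← aeval_algHom_apply, map_zero]
    exact hQy
  have h2 := aeval_algHom_apply C.val x Q
  rw [h1, map_zero] at h2
  exact h2

theorem maxWE_bijOn_quotient :
    Set.BijOn (Ideal.Quotient.mkₐ K (nilradical A)) (EtAlgD.maxWeaklyEtale K A)
      (EtAlgD.maxWeaklyEtale K (A ⧸ nilradical A)) := by
  haveI := weaklyEtale_maxWE K A
  haveI := weaklyEtale_maxWE K (A ⧸ nilradical A)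
  refine ⟨?_, ?_, ?_⟩
  · intro x hx
    haveI := weaklyEtale_map K (Ideal.Quotient.mkₐ K (nilradical A)) (EtAlgD.maxWeaklyEtale K A)
    exact le_maxWE K (A ⧸ nilradical A)
      ((EtAlgD.maxWeaklyEtale K A).map (Ideal.Quotient.mkₐ K (nilradical A)))
      (Subalgebra.mem_map.2 ⟨x, hx, rfl⟩)
  · intro x hx y hy hxy
    have hred : IsReduced (EtAlgD.maxWeaklyEtale K A) :=
      (isVNR_of_weaklyEtale K (EtAlgD.maxWeaklyEtale K A)).isReduced
    have h1 : x - y ∈ nilradical A := by
      rw [← Ideal.Quotient.eq]
      exact hxy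
    obtain ⟨n, hn⟩ := h1
    have h2 : IsNilpotent ((⟨x, hx⟩ - ⟨y, hy⟩ : EtAlgD.maxWeaklyEtale K A)) :=
      ⟨n, Subtype.ext (by simpa using hn)⟩
    have h3 := hred.eq_zero _ h2
    have h4 := congrArg Subtype.val h3
    simpa [sub_eq_zero] using h4
  · intro c hc
    obtain ⟨P, hP, hPc⟩ := exists_separable_of_weaklyEtale K
      (⟨c, hc⟩ : EtAlgD.maxWeaklyEtale K (A ⧸ nilradical A))
    have hPc' : aeval c P = 0 := by
      have := aeval_algHom_apply (EtAlgD.maxWeaklyEtale K (A ⧸ nilradical A)).val ⟨c, hc⟩ P
      rw [hPc, map_zero] at this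
      exact this
    obtain ⟨x, rfl⟩ := Ideal.Quotient.mk_surjective c
    have hnil : IsNilpotent (aeval x P) := by
      have h1 := aeval_algHom_apply (Ideal.Quotient.mkₐ K (nilradical A)) x P
      rw [Ideal.Quotient.mkₐ_eq_mk, hPc'] at h1
      exact Ideal.Quotient.eq_zero_iff_mem.1 h1.symm
    have hunit : IsUnit (aeval x (derivative P)) := by
      obtain ⟨u, v, huv⟩ := hP
      have h2 := congrArg (aeval x) huv
      simp only [map_add, map_mul, map_one] at h2
      have h3 : aeval x v * aeval x (derivative P) = 1 - aeval x u * aeval x P := by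
        rw [← h2]; ring
      have h4 : IsUnit (1 - aeval x u * aeval x P) :=
        IsNilpotent.isUnit_one_sub ((Commute.all _ _).isNilpotent_mul_left hnil)
      rw [← h3] at h4
      exact isUnit_of_mul_isUnit_right h4
    obtain ⟨r, ⟨hr1, hr2⟩, -⟩ := Polynomial.existsUnique_nilpotent_sub_and_aeval_eq_zero hnil hunit
    refine ⟨r, ?_, ?_⟩
    · haveI := weaklyEtale_adjoin_of_separable K r P hP hr2
      exact le_maxWE K A _ (Algebra.subset_adjoin (Set.mem_singleton r))
    · rw [Ideal.Quotient.mkₐ_eq_mk]
      symm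
      rw [Ideal.Quotient.eq]
      exact hr1

theorem maxWE_isField (hidem : ∀ e : A, IsIdempotentElem e → e = 0 ∨ e = 1) [Nontrivial A] :
    IsField (EtAlgD.maxWeaklyEtale K A) ∧ Algebra.IsSeparable K (EtAlgD.maxWeaklyEtale K A) := by
  haveI := weaklyEtale_maxWE K A
  constructor
  · refine ⟨⟨0, 1, ?_⟩, mul_comm, ?_⟩
    · intro h
      exact zero_ne_one (congrArg Subtype.val h)
    · intro x hx
      obtain ⟨t, ht⟩ := isVNR_of_weaklyEtale K (EtAlgD.maxWeaklyEtale K A) x
      refine ⟨t, ?_⟩
      have hid : IsIdempotentElem ((x * t : EtAlgD.maxWeaklyEtale K A) : A) := by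
        have : (x * t) * (x * t) = x * t := by
          calc (x * t) * (x * t) = (x * x * t) * t := by ring
            _ = x * t := by rw [← ht]
        exact congrArg Subtype.val this
      rcases hidem _ hid with h0 | h1
      · exfalso
        apply hx
        have h0' : x * t = 0 := Subtype.ext h0
        calc x = x * x * t := ht
          _ = x * (x * t) := by ring
          _ = 0 := by rw [h0', mul_zero]
      · exact Subtype.ext h1
  · refine ⟨fun x => ?_⟩
    obtain ⟨Q, hQ, hQx⟩ := exists_separable_of_weaklyEtale K x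
    exact hQ.of_dvd (minpoly.dvd K x hQx)

end

end Groth.Agent.H10
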