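import Mathlib
import Groth.Agent.H10.MaxWeaklyEtale

set_option autoImplicit false
set_option linter.style.haveILetI false

/-!
# The largest finite étale subalgebra of a subalgebra of a finite type algebra over a field
-/

universe u
open Polynomial

namespace Groth.Agent.H10

section

variable (k : Type u) [Field k]

theorem krullDimLE_zero_of_isIntegral_field (M : Type*) [CommRing M] [Algebra k M]
    [Algebra.IsIntegral k M] : Ring.KrullDimLE 0 M := by
  refine .mk₀ fun p hp => ?_
  apply Ideal.isMaximal_of_isIntegral_of_isMaximal_comap (R := k) p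
  have h1 : p.comap (algebraMap k M) = ⊥ := by
    rcases Ideal.eq_bot_or_top (p.comap (algebraMap k M)) with h | h
    · exact h
    · exfalso
      exact (Ideal.IsPrime.comap (algebraMap k M) (K := p)).ne_top h
  rw [h1]
  exact Ideal.bot_isMaximal

theorem finite_of_weaklyEtale_of_injective (M B : Type u) [CommRing M] [Algebra k M]
    [Algebra.WeaklyEtale k M] [CommRing B] [Algebra k B] [Algebra.FiniteType k B]
    (ι : M →ₐ[k] B) (hι : Function.Injective ι) : Module.Finite k M := by
  classical
  haveI : Algebra.IsIntegral k M := ⟨fun x => isIntegral_of_weaklyEtale k M x⟩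
  haveI := krullDimLE_zero_of_isIntegral_field k M
  haveI : IsNoetherianRing B := Algebra.FiniteType.isNoetherianRing k B
  have hred : IsReduced M := (isVNR_of_weaklyEtale k M).isReduced
  -- every prime of `M` is the contraction of a maximal ideal of `B`
  have key : ∀ p : PrimeSpectrum M, ∃ m : Ideal B, m.IsMaximal ∧ m.comap ι.toRingHom = p.asIdeal := by
    intro p
    have hp : p.asIdeal ∈ minimalPrimes M := Ideal.mem_minimalPrimes_of_krullDimLE_zero p.asIdeal
    obtain ⟨P, hP, hPp⟩ := Ideal.exists_comap_eq_of_mem_minimalPrimes_of_injective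
      (f := ι.toRingHom) hι p.asIdeal hp
    obtain ⟨m, hm, hPm⟩ := Ideal.exists_le_maximal P hP.ne_top
    refine ⟨m, hm, ?_⟩
    have h1 : p.asIdeal ≤ m.comap ι.toRingHom := hPp ▸ Ideal.comap_mono hPm
    have h2 : (m.comap ι.toRingHom) ≠ ⊤ := (Ideal.IsPrime.comap ι.toRingHom (K := m)).ne_top
    exact ((inferInstance : p.asIdeal.IsMaximal).eq_of_le h2 h1).symm
  -- finitely many primes
  have hfin : Finite (PrimeSpectrum M) := by
    have h1 : (minimalPrimes B).Finite := minimalPrimes.finite_of_isNoetherianRing B
    have h2 : Set.range (fun p : PrimeSpectrum M => p.asIdeal) ⊆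
        (Ideal.comap ι.toRingHom) '' (minimalPrimes B) := by
      rintro _ ⟨p, rfl⟩
      have hp : p.asIdeal ∈ minimalPrimes M :=
        Ideal.mem_minimalPrimes_of_krullDimLE_zero p.asIdeal
      have := Ideal.minimalPrimes_comap_subset ι.toRingHom (⊥ : Ideal B)
      rw [Ideal.comap_bot_of_injective ι.toRingHom hι] at this
      exact this hp
    have h3 := (h1.image _).subset h2
    exact Set.finite_range_iff (f := fun p : PrimeSpectrum M => p.asIdeal)
      (fun p q h => PrimeSpectrum.ext h) |>.1 h3 |> fun h => h
  choose m hm hmp using key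
  let φ : M →ₗ[k] (∀ p : PrimeSpectrum M, B ⧸ m p) :=
    LinearMap.pi (fun p => ((Ideal.Quotient.mkₐ k (m p)).comp ι).toLinearMap)
  have hφ : Function.Injective φ := by
    rw [← LinearMap.ker_eq_bot, LinearMap.ker_eq_bot']
    intro x hx
    have h1 : ∀ p : PrimeSpectrum M, x ∈ p.asIdeal := by
      intro p
      have := congrFun hx p
      have h2 : Ideal.Quotient.mk (m p) (ι x) = 0 := this
      rw [Ideal.Quotient.eq_zero_iff_mem] at h2
      rw [← hmp p]
      exact h2
    have h2 : x ∈ nilradical M := by
      rw [nilradical_eq_sInf, Ideal.mem_sInf]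
      intro p hp
      exact h1 ⟨p, hp⟩
    exact hred.eq_zero x h2
  haveI : ∀ p : PrimeSpectrum M, Module.Finite k (B ⧸ m p) := by
    intro p
    haveI := hm p
    letI : Field (B ⧸ m p) := Ideal.Quotient.field (m p)
    exact finite_of_finite_type_of_isJacobsonRing k (B ⧸ m p)
  haveI := Fintype.ofFinite (PrimeSpectrum M)
  exact Module.Finite.of_injective φ hφ

theorem spec_fibres_of_finite_of_idempotents {E A : Type*} [CommRing E] [CommRing A]
    [Algebra k E] [Algebra k A] [Module.Finite k E] (j : E →ₐ[k] A)
    (hj : Function.Injective j) (hidem : ∀ e : A, IsIdempotentElem e → ∃ e' : E, j e' = e) :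
    Function.Surjective (PrimeSpectrum.comap j.toRingHom) ∧
      ∀ p q : PrimeSpectrum A, PrimeSpectrum.comap j.toRingHom p = PrimeSpectrum.comap j.toRingHom q ↔
        connectedComponent p = connectedComponent q := by
  haveI : IsArtinianRing E := IsArtinianRing.of_finite k E
  haveI : DiscreteTopology (PrimeSpectrum E) := inferInstance
  constructor
  · intro p
    have hp : p.asIdeal ∈ minimalPrimes E := Ideal.mem_minimalPrimes_of_krullDimLE_zero p.asIdeal
    obtain ⟨P, hP, hPp⟩ := Ideal.exists_comap_eq_of_mem_minimalPrimes_of_injective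
      (f := j.toRingHom) hj p.asIdeal hp
    exact ⟨⟨P, hP⟩, PrimeSpectrum.ext hPp⟩
  · intro p q
    constructor
    · intro hpq
      set π := PrimeSpectrum.comap j.toRingHom with hπ
      have hcont : Continuous π := PrimeSpectrum.continuous_comap _
      set F : Set (PrimeSpectrum A) := π ⁻¹' {π p} with hF
      have hFopen : IsOpen F := (isOpen_discrete _).preimage hcont
      have hFclosed : IsClosed F := (isClosed_discrete _).preimage hcont
      have hpre : IsPreconnected F := by
        intro u v hu hv hFuv ⟨x, hxF, hxu⟩ ⟨y, hyF, hyv⟩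
        by_contra hne
        rw [Set.not_nonempty_iff_eq_empty] at hne
        have hU : IsClopen (F ∩ u) := by
          refine ⟨?_, hFopen.inter hu⟩
          have : F ∩ u = F ∩ vᶜ := by
            ext z
            constructor
            · rintro ⟨hzF, hzu⟩
              refine ⟨hzF, fun hzv => ?_⟩
              have : z ∈ F ∩ (u ∩ v) := ⟨hzF, hzu, hzv⟩
              rw [hne] at this
              exact this
            · rintro ⟨hzF, hzv⟩
              refine ⟨hzF, ?_⟩
              rcases hFuv hzF with h | h
              · exact h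
              · exact absurd h hzv
          rw [this]
          exact hFclosed.inter hv.isClosed_compl
        obtain ⟨e, he, hUe⟩ := PrimeSpectrum.isClopen_iff.1 hU
        obtain ⟨e', rfl⟩ := hidem e he
        have hx : x ∈ F ∩ u := ⟨hxF, hxu⟩
        have hy : y ∉ F ∩ u := by
          rintro ⟨_, hyu⟩
          have : y ∈ F ∩ (u ∩ v) := ⟨hyF, hyu, hyv⟩
          rw [hne] at this
          exact this
        rw [hUe] at hx hy
        have hx' : j e' ∉ x.asIdeal := hx
        have hy' : j e' ∈ y.asIdeal := by
          by_contra h
          exact hy h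
        have hxy : π x = π y := by
          have h1 : π x = π p := hxF
          have h2 : π y = π p := hyF
          rw [h1, h2]
        have h3 : e' ∈ (π y).asIdeal := hy'
        rw [← hxy] at h3
        exact hx' h3
      have hpF : p ∈ F := rfl
      have hqF : q ∈ F := hpq.symm
      have := hpre.subset_connectedComponent hpF hqF
      exact connectedComponent_eq this
    · intro hpq
      have hcont : Continuous (PrimeSpectrum.comap j.toRingHom) := PrimeSpectrum.continuous_comap _
      have h1 := hcont.image_connectedComponent_eq_singleton p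
      have h2 : q ∈ connectedComponent p := by
        rw [hpq]
        exact mem_connectedComponent
      have h3 : PrimeSpectrum.comap j.toRingHom q ∈
          PrimeSpectrum.comap j.toRingHom '' connectedComponent p := ⟨q, h2, rfl⟩
      rw [h1] at h3
      exact h3.symm

theorem idempotent_mem_maxWE (A : Type u) [CommRing A] [Algebra k A] (e : A)
    (he : IsIdempotentElem e) : e ∈ EtAlgD.maxWeaklyEtale k A := by
  have hsep : (X * (X - C (1 : k)) : k[X]).Separable := by
    refine Polynomial.Separable.mul Polynomial.separable_X (Polynomial.separable_X_sub_C) ?_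
    refine ⟨1, -1, ?_⟩
    rw [map_one]
    ring
  have hroot : aeval e (X * (X - C (1 : k)) : k[X]) = 0 := by
    simp only [map_mul, aeval_X, map_sub, map_one]
    rw [mul_sub, mul_one, he.eq, sub_self]
  haveI := weaklyEtale_adjoin_of_separable k e _ hsep hroot
  exact le_maxWE k A _ (Algebra.subset_adjoin (Set.mem_singleton e))

theorem etale_of_weaklyEtale_of_finite (M : Type u) [CommRing M] [Algebra k M]
    [Algebra.WeaklyEtale k M] [Module.Finite k M] : Algebra.Etale k M := by
  haveI : Algebra.FormallyUnramified k M := formallyUnramified_of_weaklyEtale k M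
  haveI : Algebra.FormallyEtale k M := Algebra.FormallyEtale.of_formallyUnramified_of_field k _
  haveI : Algebra.FinitePresentation k M :=
    Algebra.FinitePresentation.of_finiteType.mp inferInstance
  exact ⟨inferInstance, inferInstance⟩

theorem exists_largest_finite_etale (B : Type u) [CommRing B] [Algebra k B]
    [Algebra.FiniteType k B] (A : Subalgebra k B) :
    ∃ (E : Subalgebra k B) (hE : E ≤ A), Module.Finite k E ∧ Algebra.Etale k E ∧
      (∀ E' : Subalgebra k B, E' ≤ A → Module.Finite k E' → Algebra.Etale k E' → E' ≤ E) ∧
      Function.Surjective (PrimeSpectrum.comap (Subalgebra.inclusion hE).toRingHom) ∧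
      ∀ p q : PrimeSpectrum A, PrimeSpectrum.comap (Subalgebra.inclusion hE).toRingHom p =
          PrimeSpectrum.comap (Subalgebra.inclusion hE).toRingHom q ↔
        connectedComponent p = connectedComponent q := by
  haveI := weaklyEtale_maxWE k A
  set E : Subalgebra k B := (EtAlgD.maxWeaklyEtale k A).map A.val with hEdef
  have hE : E ≤ A := by
    rintro _ ⟨y, _, rfl⟩
    exact y.2
  haveI hWE : Algebra.WeaklyEtale k E := weaklyEtale_map k A.val (EtAlgD.maxWeaklyEtale k A)
  haveI hfin : Module.Finite k E :=
    finite_of_weaklyEtale_of_injective k E B E.val Subtype.val_injective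
  have hspec := spec_fibres_of_finite_of_idempotents k (Subalgebra.inclusion hE)
    (Subalgebra.inclusion_injective hE) (by
      intro e he
      have h1 := idempotent_mem_maxWE k A e he
      have h2 : (e : B) ∈ E := ⟨e, h1, rfl⟩
      exact ⟨⟨(e : B), h2⟩, rfl⟩)
  refine ⟨E, hE, hfin, etale_of_weaklyEtale_of_finite k E, ?_, hspec.1, hspec.2⟩
  intro E' hE' _ hEt
  haveI : Algebra.WeaklyEtale k E' := inferInstance
  haveI := weaklyEtale_comap_val k A E' hE'
  have h1 : E'.comap A.val ≤ EtAlgD.maxWeaklyEtale k A := le_maxWE k A _
  have h2 : (E'.comap A.val).map A.val = E' := by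
    rw [Subalgebra.map_comap_eq, Subalgebra.range_val]
    exact inf_eq_left.2 hE'
  rw [← h2]
  exact Subalgebra.map_mono h1

end

end Groth.Agent.H10
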