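import Mathlib
import Groth.Agent.H54.HilbertSamuel1

/-!
# Length over a local ring vs. length over a subring with the same residue field
-/

set_option autoImplicit false

namespace Groth.Agent.H10.Len

open IsLocalRing

universe u v w

variable {R : Type u} {A : Type v} [CommRing R] [CommRing A] [Algebra R A] [IsLocalRing A]

/-- a simple module over a local ring is killed by the maximal ideal. -/
theorem smul_eq_zero_of_isSimpleModule {M : Type w} [AddCommGroup M] [Module A M]
    [IsSimpleModule A M] (a : A) (ha : a ∈ maximalIdeal A) (x : M) : a • x = 0 := by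
  have hmax : (Module.annihilator A M).IsMaximal := IsSimpleModule.annihilator_isMaximal
  have h : Module.annihilator A M = maximalIdeal A := IsLocalRing.eq_maximalIdeal hmax
  rw [← h] at ha
  exact Module.mem_annihilator.1 ha x

theorem length_simple (hres : ∀ a : A, ∃ r : R, a - algebraMap R A r ∈ maximalIdeal A)
    {M : Type w} [AddCommGroup M] [Module A M] [Module R M] [IsScalarTower R A M]
    [IsSimpleModule A M] : Module.length R M = 1 := by
  rw [← Groth.Agent.H54.length_eq_of_forall_exists_smul_eq (R₀ := R) (A₀ := A) (X := M)]
  · exact Module.length_eq_one A M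
  · intro a x
    obtain ⟨r, hr⟩ := hres a
    refine ⟨r, ?_⟩
    have := smul_eq_zero_of_isSimpleModule (a - algebraMap R A r) hr x
    rw [sub_smul, sub_eq_zero, algebraMap_smul] at this
    exact this

theorem length_aux (hres : ∀ a : A, ∃ r : R, a - algebraMap R A r ∈ maximalIdeal A) (n : ℕ) :
    ∀ (M : Type w) [AddCommGroup M] [Module A M] [Module R M] [IsScalarTower R A M],
      Module.length A M = n → Module.length R M = n := by
  induction n with
  | zero =>
    intro M _ _ _ _ h
    rw [Nat.cast_zero, Module.length_eq_zero_iff] at h ⊢
    exact h
  | succ n ih =>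
    intro M _ _ _ _ h
    have hfin : IsFiniteLength A M := by
      rw [← Module.length_ne_top_iff, h]; exact ENat.natCast_ne_top _
    obtain ⟨hN, hA⟩ := isFiniteLength_iff_isNoetherian_isArtinian.1 hfin
    have : Nontrivial M := by
      rw [← Module.length_pos_iff (R := A), h]; exact_mod_cast Nat.succ_pos n
    obtain ⟨N, hNco⟩ := IsCoatomic.exists_coatom (Submodule A M)
    have : IsSimpleModule A (M ⧸ N) := isSimpleModule_iff_isCoatom.2 hNco
    have hexA := Module.length_eq_add_of_exact N.subtype N.mkQ N.subtype_injective
      N.mkQ_surjective (LinearMap.exact_subtype_mkQ N)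
    rw [h, Module.length_eq_one A (M ⧸ N)] at hexA
    have hNn : Module.length A N = n := by
      have h1 : ((n + 1 : ℕ) : ℕ∞) = (n : ℕ∞) + 1 := by push_cast; rfl
      rw [h1] at hexA
      exact (ENat.add_left_injective_of_ne_top ENat.one_ne_top hexA).symm
    have hNR : Module.length R N = n := ih N hNn
    have hQR : Module.length R (M ⧸ N) = 1 := length_simple hres
    have hexR := Module.length_eq_add_of_exact (N.subtype.restrictScalars R)
      (N.mkQ.restrictScalars R) N.subtype_injective N.mkQ_surjective
      (LinearMap.exact_subtype_mkQ N)
    rw [hexR, hNR, hQR]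
    push_cast; rfl

theorem length_eq_of_local (hres : ∀ a : A, ∃ r : R, a - algebraMap R A r ∈ maximalIdeal A)
    (M : Type w) [AddCommGroup M] [Module A M] [Module R M] [IsScalarTower R A M] :
    Module.length A M = Module.length R M := by
  by_cases h : Module.length A M = ⊤
  · have h1 : Module.length A M ≤ Module.length R M := by
      have := Submodule.length_le_length_restrictScalars R (⊤ : Submodule A M)
      rw [Module.length_top] at this
      refine this.trans ?_
      exact Module.length_le_of_injective ((⊤ : Submodule A M).restrictScalars R).subtype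
        Subtype.val_injective
    rw [h] at h1 ⊢
    exact (top_le_iff.1 h1).symm
  · obtain ⟨n, hn⟩ := ENat.ne_top_iff_exists.1 h
    rw [← hn, length_aux hres n M hn.symm]

end Groth.Agent.H10.Len
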