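import Mathlib
import Groth.Agent.H10.Len1
import Groth.Agent.H78.ASFam.Main

set_option autoImplicit false

namespace Groth.Agent.H10.Len

open IsLocalRing TensorProduct
open Groth.Agent.H78.ASFam

universe u

section Free

variable {R : Type u} [CommRing R] {M : Type u} [AddCommGroup M] [Module R M]

/-- length of `M / J M` for a finite free module `M`. -/
theorem length_quot_smul_top [Module.Free R M] [Module.Finite R M] [Nontrivial R] (J : Ideal R) :
    Module.length R (M ⧸ (J • ⊤ : Submodule R M)) =
      (Module.finrank R M : ℕ∞) * Module.length R (R ⧸ J) := by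
  classical
  let bs := Module.Free.chooseBasis R M
  let e : (M ⧸ (J • ⊤ : Submodule R M)) ≃ₗ[R] (Module.Free.ChooseBasisIndex R M → R ⧸ J) :=
    (quotTensorEquivQuotSMul M J).symm ≪≫ₗ
      (TensorProduct.congr (LinearEquiv.refl R (R ⧸ J)) bs.equivFun) ≪≫ₗ
      TensorProduct.piScalarRight R R (R ⧸ J) (Module.Free.ChooseBasisIndex R M)
  rw [e.length_eq, Module.length_pi, ENat.card_eq_coe_fintype_card,
    Module.finrank_eq_card_chooseBasisIndex]

end Free

variable {R : Type u} [CommRing R] [IsLocalRing R] (p n : ℕ) (c x b : Fin n → R)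
  (hp : 2 ≤ p) (hc : ∀ i, c i ∈ maximalIdeal R)
  (hxm : maximalIdeal R = Ideal.span (Set.range x))

omit [IsLocalRing R] in
/-- the ideal of `σ t - t` is `(b) A`. -/
theorem span_sub_eq (σ : AS p n c x ≃ₐ[R] AS p n c x)
    (hσ : ∀ i, σ (uu p n c x i) = uu p n c x i + algebraMap R (AS p n c x) (b i)) :
    Ideal.span (Set.range fun t : AS p n c x => σ t - t) =
      Ideal.map (algebraMap R (AS p n c x)) (Ideal.span (Set.range b)) := by
  have key : ∀ t : AS p n c x, σ t - t ∈
      Ideal.map (algebraMap R (AS p n c x)) (Ideal.span (Set.range b)) := by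
    intro t
    have ht : t ∈ Algebra.adjoin R (Set.range (uu p n c x)) := by
      rw [adjoin_uu]; exact Algebra.mem_top
    induction ht using Algebra.adjoin_induction with
    | mem z hz =>
      obtain ⟨i, rfl⟩ := hz
      rw [hσ, add_sub_cancel_left]
      exact Ideal.mem_map_of_mem _ (Ideal.subset_span ⟨i, rfl⟩)
    | algebraMap r => rw [AlgEquiv.commutes, sub_self]; exact Ideal.zero_mem _
    | add y z _ _ hy hz =>
      have : σ (y + z) - (y + z) = (σ y - y) + (σ z - z) := by rw [map_add]; ring
      rw [this]; exact Ideal.add_mem _ hy hz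
    | mul y z _ _ hy hz =>
      have : σ (y * z) - y * z = σ y * (σ z - z) + z * (σ y - y) := by rw [map_mul]; ring
      rw [this]
      exact Ideal.add_mem _ (Ideal.mul_mem_left _ _ hz) (Ideal.mul_mem_left _ _ hy)
  apply le_antisymm
  · rw [Ideal.span_le]
    rintro _ ⟨t, rfl⟩
    exact key t
  · rw [Ideal.map_span, Ideal.span_le]
    rintro _ ⟨_, ⟨i, rfl⟩, rfl⟩
    apply Ideal.subset_span
    refine ⟨uu p n c x i, ?_⟩
    simp only
    rw [hσ, add_sub_cancel_left]

include hp hc hxm in
/-- `m_R A ≤ (u)^p`. -/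
theorem map_maximalIdeal_le_pow :
    (maximalIdeal R).map (algebraMap R (AS p n c x)) ≤ Ideal.span (Set.range (uu p n c x)) ^ p := by
  have := isLocalRing_AS p n c x hp hc hxm
  have hm := maximalIdeal_AS p n c x hp hxm
  refine Submodule.le_of_le_smul_of_le_jacobson_bot
    (I := Ideal.span (Set.range (uu p n c x))) ?_ ?_ ?_
  · rw [hxm]
    exact Ideal.FG.map (Submodule.fg_span (Set.finite_range x)) _
  · rw [IsLocalRing.jacobson_eq_maximalIdeal ⊥ bot_ne_top, hm]
  · have hK : (maximalIdeal R).map (algebraMap R (AS p n c x)) =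
        Ideal.span (algebraMap R (AS p n c x) '' Set.range x) := by
      rw [hxm, Ideal.map_span]
    refine le_trans (le_of_eq hK) (Ideal.span_le.2 ?_)
    rintro _ ⟨_, ⟨i, rfl⟩, rfl⟩
    rw [SetLike.mem_coe]
    have h := u_pow p n c x i
    have h2 : algebraMap R (AS p n c x) (x i) =
        uu p n c x i ^ p + uu p n c x i • (- algebraMap R (AS p n c x) (c i)) := by
      rw [h, smul_eq_mul]; ring
    rw [h2]
    have hu : uu p n c x i ∈ Ideal.span (Set.range (uu p n c x)) := Ideal.subset_span ⟨i, rfl⟩
    refine Submodule.add_mem_sup (Ideal.pow_mem_pow hu p) ?_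
    refine Submodule.smul_mem_smul hu ?_
    exact (Ideal.neg_mem_iff _).2 (Ideal.mem_map_of_mem _ (hc i))

include hp hc hxm in
theorem main_general (hb : ∀ i, b i ∈ maximalIdeal R)
    (σ : AS p n c x ≃ₐ[R] AS p n c x)
    (hσ : ∀ i, σ (uu p n c x i) = uu p n c x i + algebraMap R (AS p n c x) (b i)) :
    Ideal.span (Set.range fun t : AS p n c x => σ t - t) ≤
        Ideal.span (Set.range (uu p n c x)) ^ p ∧
      Module.length (AS p n c x)
          (AS p n c x ⧸ Ideal.span (Set.range fun t : AS p n c x => σ t - t)) =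
        (p ^ n : ℕ∞) * Module.length R (R ⧸ Ideal.span (Set.range b)) := by
  have := isLocalRing_AS p n c x hp hc hxm
  have := free_AS p n c x hp
  have := finite_AS p n c x hp
  have hm := maximalIdeal_AS p n c x hp hxm
  rw [span_sub_eq p n c x b σ hσ]
  constructor
  · refine le_trans (Ideal.map_mono ?_) (map_maximalIdeal_le_pow p n c x hp hc hxm)
    rw [Ideal.span_le]
    rintro _ ⟨i, rfl⟩
    exact hb i
  · have hres : ∀ a : AS p n c x, ∃ r : R,
        a - algebraMap R (AS p n c x) r ∈ maximalIdeal (AS p n c x) := by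
      intro a
      rw [hm]
      exact exists_eq_add_of_adjoin_eq_top _ (adjoin_uu p n c x) a
    rw [length_eq_of_local hres,
      ← (Submodule.Quotient.restrictScalarsEquiv R
        (Ideal.map (algebraMap R (AS p n c x)) (Ideal.span (Set.range b)))).length_eq,
      ← Ideal.smul_top_eq_map, length_quot_smul_top, finrank_AS p n c x hp]
    push_cast
    rfl

end Groth.Agent.H10.Len
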