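import Mathlib
import Groth.Agent.H10.Len2

set_option autoImplicit false

namespace Groth.Agent.H10.Len

open IsLocalRing
open Groth.Agent.H78.ASFam

universe u

/-- version of `main_general` for an ideal propositionally equal to `sepIdeal`. -/
theorem main_I {R : Type u} [CommRing R] [IsLocalRing R] (p n : ℕ) (c x b : Fin n → R)
    (hp : 2 ≤ p) (hc : ∀ i, c i ∈ maximalIdeal R)
    (hxm : maximalIdeal R = Ideal.span (Set.range x)) (hb : ∀ i, b i ∈ maximalIdeal R)
    (I : Ideal (MvPolynomial (Fin n) R)) (hI : I = sepIdeal (asPoly p n c x))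
    (σ : (MvPolynomial (Fin n) R ⧸ I) ≃ₐ[R] (MvPolynomial (Fin n) R ⧸ I))
    (hσ : ∀ i, σ (Ideal.Quotient.mk I (MvPolynomial.X i)) =
      Ideal.Quotient.mk I (MvPolynomial.X i) + algebraMap R (MvPolynomial (Fin n) R ⧸ I) (b i)) :
    Ideal.span (Set.range fun t : MvPolynomial (Fin n) R ⧸ I => σ t - t) ≤
        Ideal.span (Set.range fun i : Fin n => Ideal.Quotient.mk I (MvPolynomial.X i)) ^ p ∧
      Module.length (MvPolynomial (Fin n) R ⧸ I)
          ((MvPolynomial (Fin n) R ⧸ I) ⧸
            Ideal.span (Set.range fun t : MvPolynomial (Fin n) R ⧸ I => σ t - t)) =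
        (p ^ n : ℕ∞) * Module.length R (R ⧸ Ideal.span (Set.range b)) := by
  subst hI
  exact main_general p n c x b hp hc hxm hb σ hσ

end Groth.Agent.H10.Len
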