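import Mathlib
import Groth.Agent.H10.Herbrand
import Groth.Agent.H10.LocLength

set_option autoImplicit false
set_option linter.style.haveILetI false
set_option linter.unusedSectionVars false

/-!
# length(M/xM) = length(M[x]) + Σ ord_{R/q}(x) length(M_q) for one-dimensional supports
-/

universe u

namespace Groth.Agent.H10

open CycAlg
open Pointwise

section A
variable (R : Type u) [CommRing R] [IsNoetherianRing R] [IsLocalRing R]

theorem length_lt_top_of_support_subset (N : Type u) [AddCommGroup N] [Module R N]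
    [hfin : Module.Finite R N]
    (h : ∀ p ∈ Module.support R N, p.asIdeal = IsLocalRing.maximalIdeal R) :
    Module.length R N < ⊤ := by
  induction hfin using IsNoetherianRing.induction_on_isQuotientEquivQuotientPrime R with
  | subsingleton N =>
    rw [Module.length_eq_zero]
    exact WithTop.top_pos
  | quotient N p f =>
    have hp : p ∈ Module.support R N := by
      rw [LinearEquiv.support_eq f, Module.support_eq_zeroLocus, Ideal.annihilator_quotient]
      exact fun x hx => hx
    have hpm := h p hp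
    haveI : p.asIdeal.IsMaximal := hpm ▸ IsLocalRing.maximalIdeal.isMaximal R
    haveI : IsSimpleModule R N := isSimpleModule_iff_quot_maximal.2 ⟨p.asIdeal, inferInstance, ⟨f⟩⟩
    rw [Module.length_eq_one]
    exact ENat.one_lt_top
  | exact N₁ N₂ N₃ f g hf hg hfg h₁ h₃ =>
    rw [Module.length_eq_add_of_exact f g hf hg hfg]
    have s1 : Module.support R N₁ ⊆ Module.support R N₂ := Module.support_subset_of_injective f hf
    have s3 : Module.support R N₃ ⊆ Module.support R N₂ := Module.support_subset_of_surjective g hg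
    exact ENat.add_lt_top.2 ⟨h₁ (fun p hp => h p (s1 hp)), h₃ (fun p hp => h p (s3 hp))⟩

end A

section B
variable {R : Type u} [CommRing R]

/-- `perH (x•) 0 ≃ ker (x•)`. -/
theorem length_perH_smul_zero (N : Type u) [AddCommGroup N] [Module R N] (x : R) :
    Module.length R (perH (LinearMap.lsmul R N x) (0 : N →ₗ[R] N)) =
      Module.length R (LinearMap.ker (LinearMap.lsmul R N x)) := by
  have h : (LinearMap.range (0 : N →ₗ[R] N)).submoduleOf (LinearMap.ker (LinearMap.lsmul R N x)) = ⊥ := by
    rw [LinearMap.range_zero]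
    ext ⟨m, hm⟩
    simp [Submodule.submoduleOf]
  exact (Submodule.quotEquivOfEqBot _ h).length_eq

/-- `perH 0 (x•) ≃ N ⧸ x • ⊤`. -/
theorem length_perH_zero_smul (N : Type u) [AddCommGroup N] [Module R N] (x : R) :
    Module.length R (perH (0 : N →ₗ[R] N) (LinearMap.lsmul R N x)) =
      Module.length R (N ⧸ x • (⊤ : Submodule R N)) := by
  let f : ↥(LinearMap.ker (0 : N →ₗ[R] N)) ≃ₗ[R] N :=
    (LinearEquiv.ofEq _ _ LinearMap.ker_zero).trans Submodule.topEquiv
  refine (Submodule.Quotient.equiv _ _ f ?_).length_eq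
  ext n
  constructor
  · rintro ⟨⟨m, hm⟩, ⟨k, hk⟩, rfl⟩
    change m ∈ x • (⊤ : Submodule R N)
    have : x • k = m := hk
    rw [← this]
    exact Submodule.smul_mem_pointwise_smul _ _ _ Submodule.mem_top
  · intro hn
    obtain ⟨k, -, rfl⟩ := hn
    refine ⟨⟨x • k, by simp⟩, ⟨k, rfl⟩, rfl⟩

/-- the short exact sequence of periodic complexes `(N_i, x, 0)`. -/
def smulPerSES {N₁ N₂ N₃ : Type u} [AddCommGroup N₁] [Module R N₁] [AddCommGroup N₂] [Module R N₂]
    [AddCommGroup N₃] [Module R N₃] (x : R) (f : N₁ →ₗ[R] N₂) (g : N₂ →ₗ[R] N₃)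
    (hf : Function.Injective f) (hg : Function.Surjective g) (hfg : Function.Exact f g) :
    PerSES R N₁ N₁ N₂ N₂ N₃ N₃ where
  φ₁ := LinearMap.lsmul R N₁ x
  ψ₁ := 0
  φ₂ := LinearMap.lsmul R N₂ x
  ψ₂ := 0
  φ₃ := LinearMap.lsmul R N₃ x
  ψ₃ := 0
  f₁ := f
  g₁ := f
  f₂ := g
  g₂ := g
  h₁ := ⟨by simp, by simp⟩
  h₂ := ⟨by simp, by simp⟩
  h₃ := ⟨by simp, by simp⟩
  cφ₁ := by ext n; simp
  cψ₁ := by ext n; simp
  cφ₂ := by ext n; simp
  cψ₂ := by ext n; simp
  hf₁ := hf
  hg₁ := hf
  hf₂ := hg
  hg₂ := hg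
  hM := hfg.linearMap_ker_eq.symm
  hN := hfg.linearMap_ker_eq.symm

theorem six_term {N₁ N₂ N₃ : Type u} [AddCommGroup N₁] [Module R N₁] [AddCommGroup N₂] [Module R N₂]
    [AddCommGroup N₃] [Module R N₃] (x : R) (f : N₁ →ₗ[R] N₂) (g : N₂ →ₗ[R] N₃)
    (hf : Function.Injective f) (hg : Function.Surjective g) (hfg : Function.Exact f g) :
    Module.length R (N₂ ⧸ x • (⊤ : Submodule R N₂)) +
        (Module.length R (LinearMap.ker (LinearMap.lsmul R N₁ x)) +
          Module.length R (LinearMap.ker (LinearMap.lsmul R N₃ x))) =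
      Module.length R (N₁ ⧸ x • (⊤ : Submodule R N₁)) +
        Module.length R (N₃ ⧸ x • (⊤ : Submodule R N₃)) +
          Module.length R (LinearMap.ker (LinearMap.lsmul R N₂ x)) := by
  set S := smulPerSES x f g hf hg hfg with hS
  have e1 := S.E1
  have e2 := S.E2
  have e3 := S.E3
  have e4 := S.E4
  have e5 := S.E5
  have e6 := S.E6
  have a1 : Module.length R (perH S.φ₁ S.ψ₁) = _ := length_perH_smul_zero N₁ x
  have a2 : Module.length R (perH S.φ₂ S.ψ₂) = _ := length_perH_smul_zero N₂ x
  have a3 : Module.length R (perH S.φ₃ S.ψ₃) = _ := length_perH_smul_zero N₃ x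
  have b1 : Module.length R (perH S.ψ₁ S.φ₁) = _ := length_perH_zero_smul N₁ x
  have b2 : Module.length R (perH S.ψ₂ S.φ₂) = _ := length_perH_zero_smul N₂ x
  have b3 : Module.length R (perH S.ψ₃ S.φ₃) = _ := length_perH_zero_smul N₃ x
  rw [← a1, ← a2, ← a3, ← b1, ← b2, ← b3, e1, e2, e3, e4, e5, e6]
  ring

/-- for a module of finite length, kernel and cokernel of multiplication by `x` have the same
length. -/
theorem length_quot_smul_eq_length_ker (N : Type u) [AddCommGroup N] [Module R N] (x : R)
    (h : Module.length R N < ⊤) :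
    Module.length R (N ⧸ x • (⊤ : Submodule R N)) =
      Module.length R (LinearMap.ker (LinearMap.lsmul R N x)) := by
  have h1 := length_eq_ker_add_range (LinearMap.lsmul R N x)
  have h2 := length_eq_range_add_coker (LinearMap.lsmul R N x)
  have hr : LinearMap.range (LinearMap.lsmul R N x) = x • (⊤ : Submodule R N) := by
    ext n
    constructor
    · rintro ⟨k, rfl⟩
      exact Submodule.smul_mem_pointwise_smul _ _ _ Submodule.mem_top
    · rintro ⟨k, -, rfl⟩
      exact ⟨k, rfl⟩
  rw [hr] at h1 h2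
  have hfin : Module.length R ↥(x • (⊤ : Submodule R N)) < ⊤ := by
    refine lt_of_le_of_lt ?_ h
    rw [h1]
    exact le_add_self
  rw [h1, add_comm] at h2
  exact (ENat.add_right_injective_of_ne_top hfin.ne h2).symm

/-- `length_R ((R/p)/x) = ord_{R/p}(x)`. -/
theorem length_quot_smul_of_equiv (p : Ideal R) (x : R) (N : Type u) [AddCommGroup N] [Module R N]
    (f : N ≃ₗ[R] R ⧸ p) :
    Module.length R (N ⧸ x • (⊤ : Submodule R N)) =
      Ring.ord (R ⧸ p) (Ideal.Quotient.mk p x) := by
  rw [Ring.ord, ← Module.length_eq_of_surjective (S := R) (R := R ⧸ p)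
    (M := (R ⧸ p) ⧸ Ideal.span {Ideal.Quotient.mk p x}) Ideal.Quotient.mk_surjective]
  have h1 : (x • (⊤ : Submodule R N)).map f.toLinearMap =
      (Ideal.span {Ideal.Quotient.mk p x}).restrictScalars R := by
    ext y
    constructor
    · rintro ⟨_, ⟨k, -, rfl⟩, rfl⟩
      change f (x • k) ∈ Ideal.span {Ideal.Quotient.mk p x}
      rw [map_smul, Algebra.smul_def]
      exact Ideal.mul_mem_right _ _ (Ideal.subset_span rfl)
    · intro hy
      have hy' : y ∈ Ideal.span {Ideal.Quotient.mk p x} := hy
      obtain ⟨z, rfl⟩ := Ideal.mem_span_singleton'.1 hy'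
      refine ⟨x • f.symm z, Submodule.smul_mem_pointwise_smul _ _ _ Submodule.mem_top, ?_⟩
      change f (x • f.symm z) = _
      rw [map_smul, LinearEquiv.apply_symm_apply, Algebra.smul_def, mul_comm]
      rfl
  exact ((Submodule.Quotient.equiv _ _ f h1).trans
    (Submodule.Quotient.restrictScalarsEquiv R _)).length_eq

theorem ker_smul_subsingleton_of_equiv (p : Ideal R) [p.IsPrime] (x : R) (hx : x ∉ p)
    (N : Type u) [AddCommGroup N] [Module R N] (f : N ≃ₗ[R] R ⧸ p) :
    Subsingleton (LinearMap.ker (LinearMap.lsmul R N x)) := by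
  refine ⟨fun a b => ?_⟩
  have key : ∀ c : LinearMap.ker (LinearMap.lsmul R N x), c = 0 := by
    rintro ⟨n, hn⟩
    apply Subtype.ext
    have h1 : x • n = 0 := hn
    have h2 : f (x • n) = 0 := by rw [h1, map_zero]
    rw [map_smul, Algebra.smul_def] at h2
    have h3 : (algebraMap R (R ⧸ p)) x ≠ 0 := by
      intro h
      exact hx (Ideal.Quotient.eq_zero_iff_mem.1 h)
    have h4 := (mul_eq_zero.1 h2).resolve_left h3
    exact f.map_eq_zero_iff.1 h4
  rw [key a, key b]

end B

section C
variable (R : Type u) [CommRing R] [IsNoetherianRing R] [IsLocalRing R] (x : R)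

/-- the `p`-term. -/
noncomputable def ordTerm (N : Type u) [AddCommGroup N] [Module R N] (p : PrimeSpectrum R) : ℕ∞ :=
  Ring.ord (R ⧸ p.asIdeal) (Ideal.Quotient.mk p.asIdeal x) *
    Module.length (Localization.AtPrime p.asIdeal) (LocalizedModule p.asIdeal.primeCompl N)

theorem ordTerm_eq_zero_of_notMem_support (N : Type u) [AddCommGroup N] [Module R N]
    (p : PrimeSpectrum R) (hp : p ∉ Module.support R N) : ordTerm R x N p = 0 := by
  rw [Module.notMem_support_iff] at hp
  rw [ordTerm, Module.length_eq_zero_iff.2 hp, mul_zero]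

theorem ordTerm_add {N₁ N₂ N₃ : Type u} [AddCommGroup N₁] [Module R N₁] [AddCommGroup N₂]
    [Module R N₂] [AddCommGroup N₃] [Module R N₃] (f : N₁ →ₗ[R] N₂) (g : N₂ →ₗ[R] N₃)
    (hf : Function.Injective f) (hg : Function.Surjective g) (hfg : Function.Exact f g)
    (p : PrimeSpectrum R) : ordTerm R x N₂ p = ordTerm R x N₁ p + ordTerm R x N₃ p := by
  rw [ordTerm, ordTerm, ordTerm, ← mul_add]
  congr 1
  exact length_localizedModule_eq_add p.asIdeal.primeCompl f g hf hg hfg

variable {R x}

theorem length_ker_smul_lt_top (Z : Set (PrimeSpectrum R))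
    (H1 : ∀ p ∈ Z, p.asIdeal ≠ IsLocalRing.maximalIdeal R → x ∉ p.asIdeal)
    (N : Type u) [AddCommGroup N] [Module R N] [Module.Finite R N]
    (hN : Module.support R N ⊆ Z) :
    Module.length R (LinearMap.ker (LinearMap.lsmul R N x)) < ⊤ := by
  haveI : IsNoetherian R N := isNoetherian_of_isNoetherianRing_of_finite R N
  apply length_lt_top_of_support_subset
  intro p hp
  by_contra hpm
  have hpN : p ∈ Module.support R N :=
    Module.support_subset_of_injective _ (Submodule.subtype_injective _) hp
  have hxp : x ∈ p.asIdeal := by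
    rw [Module.mem_support_iff_of_finite] at hp
    apply hp
    rw [Module.mem_annihilator]
    rintro ⟨n, hn⟩
    exact Subtype.ext hn
  exact H1 p (hN hpN) hpm hxp

theorem main_induction (Z : Set (PrimeSpectrum R)) (T : Finset (PrimeSpectrum R))
    (hT : ∀ p ∈ T, p.asIdeal ≠ IsLocalRing.maximalIdeal R)
    (hZT : ∀ p ∈ Z, p.asIdeal ≠ IsLocalRing.maximalIdeal R → p ∈ T)
    (H1 : ∀ p ∈ Z, p.asIdeal ≠ IsLocalRing.maximalIdeal R → x ∉ p.asIdeal)
    (H2 : ∀ p ∈ Z, p.asIdeal ≠ IsLocalRing.maximalIdeal R → ∀ q : PrimeSpectrum R, p ≤ q →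
      q = p ∨ q.asIdeal = IsLocalRing.maximalIdeal R)
    (N : Type u) [AddCommGroup N] [Module R N] [hfin : Module.Finite R N]
    (hN : Module.support R N ⊆ Z) :
    Module.length R (N ⧸ x • (⊤ : Submodule R N)) =
      Module.length R (LinearMap.ker (LinearMap.lsmul R N x)) + ∑ p ∈ T, ordTerm R x N p := by
  induction hfin using IsNoetherianRing.induction_on_isQuotientEquivQuotientPrime R with
  | subsingleton N =>
    rw [Module.length_eq_zero, Module.length_eq_zero]
    rw [Finset.sum_eq_zero, add_zero]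
    intro p _
    rw [ordTerm, length_localizedModule_of_subsingleton, mul_zero]
  | quotient N p f =>
    have hp : p ∈ Module.support R N := by
      rw [LinearEquiv.support_eq f, Module.support_eq_zeroLocus, Ideal.annihilator_quotient]
      exact fun x hx => hx
    have hsupp : ∀ q : PrimeSpectrum R, q ∈ Module.support R N ↔ p ≤ q := by
      intro q
      rw [LinearEquiv.support_eq f, Module.support_eq_zeroLocus, Ideal.annihilator_quotient]
      exact Iff.rfl
    by_cases hpm : p.asIdeal = IsLocalRing.maximalIdeal R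
    · -- finite length case
      have hlen : Module.length R N < ⊤ := by
        apply length_lt_top_of_support_subset
        intro q hq
        rw [hsupp] at hq
        have hq' : p.asIdeal ≤ q.asIdeal := hq
        rw [hpm] at hq'
        exact (IsLocalRing.le_maximalIdeal q.2.ne_top).antisymm hq'
      rw [length_quot_smul_eq_length_ker N x hlen, Finset.sum_eq_zero, add_zero]
      intro q hq
      apply ordTerm_eq_zero_of_notMem_support
      rw [hsupp]
      intro hpq
      have hq' : p.asIdeal ≤ q.asIdeal := hpq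
      rw [hpm] at hq'
      exact hT q hq ((IsLocalRing.le_maximalIdeal q.2.ne_top).antisymm hq')
    · have hpZ : p ∈ Z := hN hp
      have hxp : x ∉ p.asIdeal := H1 p hpZ hpm
      haveI := ker_smul_subsingleton_of_equiv p.asIdeal x hxp N f
      have hz : Module.length R (LinearMap.ker (LinearMap.lsmul R N x)) = 0 :=
        Module.length_eq_zero
      rw [hz, zero_add, length_quot_smul_of_equiv p.asIdeal x N f]
      rw [Finset.sum_eq_single p]
      · rw [ordTerm, length_localizedModule_congr p.asIdeal.primeCompl f,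
          length_localizedModule_quotient, mul_one]
      · intro q hq hqp
        apply ordTerm_eq_zero_of_notMem_support
        rw [hsupp]
        intro hpq
        rcases H2 p hpZ hpm q hpq with h | h
        · exact hqp h
        · exact hT q hq h
      · intro hpT
        exact absurd (hZT p hpZ hpm) hpT
  | exact N₁ N₂ N₃ f g hf hg hfg h₁ h₃ =>
    have s1 : Module.support R N₁ ⊆ Z :=
      (Module.support_subset_of_injective f hf).trans hN
    have s3 : Module.support R N₃ ⊆ Z :=
      (Module.support_subset_of_surjective g hg).trans hN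
    have e1 := h₁ s1
    have e3 := h₃ s3
    have six := six_term x f g hf hg hfg
    have fin1 := length_ker_smul_lt_top Z H1 N₁ s1
    have fin3 := length_ker_smul_lt_top Z H1 N₃ s3
    have hsum : ∑ p ∈ T, ordTerm R x N₂ p =
        ∑ p ∈ T, ordTerm R x N₁ p + ∑ p ∈ T, ordTerm R x N₃ p := by
      rw [← Finset.sum_add_distrib]
      exact Finset.sum_congr rfl (fun p _ => ordTerm_add R x f g hf hg hfg p)
    rw [hsum]
    rw [e1, e3] at six
    set a := Module.length R (LinearMap.ker (LinearMap.lsmul R N₁ x))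
    set c := Module.length R (LinearMap.ker (LinearMap.lsmul R N₃ x))
    set b := Module.length R (LinearMap.ker (LinearMap.lsmul R N₂ x))
    set s₁ := ∑ p ∈ T, ordTerm R x N₁ p
    set s₃ := ∑ p ∈ T, ordTerm R x N₃ p
    set L := Module.length R (N₂ ⧸ x • (⊤ : Submodule R N₂))
    have hac : a + c ≠ ⊤ := (ENat.add_lt_top.2 ⟨fin1, fin3⟩).ne
    have : L + (a + c) = (b + (s₁ + s₃)) + (a + c) := by
      rw [six]
      ring
    exact ENat.add_left_injective_of_ne_top hac this

theorem length_quot_eq_length_ker_add_sum (M : Type u) [AddCommGroup M] [Module R M]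
    [Module.Finite R M] (x : R) (h1 : Module.supportDim R M ≤ 1)
    (h0 : Module.supportDim R (M ⧸ x • (⊤ : Submodule R M)) ≤ 0) :
    Module.length R (M ⧸ x • (⊤ : Submodule R M)) =
      Module.length R (LinearMap.ker (LinearMap.lsmul R M x)) +
        ∑ᶠ (p : PrimeSpectrum R)
          (_ : p ∈ Module.support R M ∧ p.asIdeal ≠ IsLocalRing.maximalIdeal R),
          Ring.ord (R ⧸ p.asIdeal) (Ideal.Quotient.mk p.asIdeal x) *
            Module.length (Localization.AtPrime p.asIdeal)
              (LocalizedModule p.asIdeal.primeCompl M) := by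
  classical
  set Z := Module.support R M with hZ
  -- the closed point
  have hclosed : ∀ p ∈ Z, IsLocalRing.closedPoint R ∈ Z := by
    intro p hp
    exact Module.mem_support_mono (IsLocalRing.le_maximalIdeal p.2.ne_top) hp
  have H2 : ∀ p ∈ Z, p.asIdeal ≠ IsLocalRing.maximalIdeal R → ∀ q : PrimeSpectrum R, p ≤ q →
      q = p ∨ q.asIdeal = IsLocalRing.maximalIdeal R := by
    intro p hp hpm q hpq
    have hq : q ∈ Z := Module.mem_support_mono hpq hp
    have hdim : Order.krullDim (Module.support R M) ≤ 1 := h1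
    rw [Order.krullDim_le_one_iff] at hdim
    rcases hdim ⟨q, hq⟩ with hmin | hmax
    · left
      have : (⟨q, hq⟩ : Module.support R M) ≤ ⟨p, hp⟩ := hmin (show (⟨p, hp⟩ : Module.support R M) ≤ ⟨q, hq⟩ from hpq)
      exact le_antisymm this hpq
    · right
      have hle : (⟨q, hq⟩ : Module.support R M) ≤ ⟨IsLocalRing.closedPoint R, hclosed p hp⟩ :=
        IsLocalRing.le_maximalIdeal q.2.ne_top
      have := hmax hle
      have h3 : IsLocalRing.closedPoint R ≤ q := this
      exact le_antisymm (IsLocalRing.le_maximalIdeal q.2.ne_top) h3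
  have H1 : ∀ p ∈ Z, p.asIdeal ≠ IsLocalRing.maximalIdeal R → x ∉ p.asIdeal := by
    intro p hp hpm hxp
    have hsupp : Module.support R (M ⧸ x • (⊤ : Submodule R M)) =
        Module.support R M ∩ PrimeSpectrum.zeroLocus {x} := Module.support_quotSMulTop x
    have hp' : p ∈ Module.support R (M ⧸ x • (⊤ : Submodule R M)) := by
      rw [hsupp]
      exact ⟨hp, by simpa using hxp⟩
    have hm' : IsLocalRing.closedPoint R ∈ Module.support R (M ⧸ x • (⊤ : Submodule R M)) :=
      Module.mem_support_mono (IsLocalRing.le_maximalIdeal p.2.ne_top) hp'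
    have hdim : Order.krullDim (Module.support R (M ⧸ x • (⊤ : Submodule R M))) ≤ 0 := h0
    rw [Order.krullDim_nonpos_iff_forall_isMax] at hdim
    have hle : (⟨p, hp'⟩ : Module.support R (M ⧸ x • (⊤ : Submodule R M))) ≤
        ⟨IsLocalRing.closedPoint R, hm'⟩ := IsLocalRing.le_maximalIdeal p.2.ne_top
    have h3 : IsLocalRing.closedPoint R ≤ p := hdim _ hle
    exact hpm (le_antisymm (IsLocalRing.le_maximalIdeal p.2.ne_top) h3)
  -- finiteness
  have hfinite : {p : PrimeSpectrum R | p ∈ Z ∧ p.asIdeal ≠ IsLocalRing.maximalIdeal R}.Finite := by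
    have hmin : (Module.annihilator R M).minimalPrimes.Finite :=
      Ideal.finite_minimalPrimes_of_isNoetherianRing R _
    refine Set.Finite.subset (hmin.preimage (f := PrimeSpectrum.asIdeal)
      (fun p _ q _ h => PrimeSpectrum.ext h)) ?_
    rintro p ⟨hp, hpm⟩
    refine ⟨⟨p.2, (Module.mem_support_iff_of_finite.1 hp)⟩, ?_⟩
    rintro q ⟨hqprime, hq⟩ hqp
    have hqZ : (⟨q, hqprime⟩ : PrimeSpectrum R) ∈ Z := Module.mem_support_iff_of_finite.2 hq
    have hqm : q ≠ IsLocalRing.maximalIdeal R := by
      rintro rfl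
      exact hpm (le_antisymm (IsLocalRing.le_maximalIdeal p.2.ne_top) hqp)
    rcases H2 ⟨q, hqprime⟩ hqZ hqm p hqp with h | h
    · rw [h]
    · exact absurd h hpm
  have key := main_induction (x := x) Z hfinite.toFinset
    (fun p hp => ((Set.Finite.mem_toFinset _).1 hp).2)
    (fun p hp hpm => (Set.Finite.mem_toFinset _).2 ⟨hp, hpm⟩) H1 H2 M (le_refl _)
  rw [key]
  congr 1
  exact (finsum_mem_eq_finite_toFinset_sum _ hfinite).symm

end C

end Groth.Agent.H10
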