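import Mathlib
import Groth.Agent.H10.Minor1

set_option autoImplicit false

namespace Groth.Agent.H10.Minor

open Polynomial
open Groth.Agent.H78.ASFam Groth.Agent.H10.Frob

variable {R : Type*} [CommRing R] {n : ℕ} (i0 : Fin n)
variable (f : Fin n → R[X]) (hf : ∀ i, (f i).Monic)
variable (α : R) (β : {j : Fin n // j ≠ i0} → R)

/-- the minor elements `α u_j - β_j u_{i0}`. -/
noncomputable def zel (j : {j : Fin n // j ≠ i0}) : SepQuot f :=
  algebraMap R (SepQuot f) α * u f j.1 - algebraMap R (SepQuot f) (β j) * u f i0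

/-- extend an exponent vector on `j ≠ i0` by `M` at `i0`. -/
def ext (e : {j : Fin n // j ≠ i0} → ℕ) (M : ℕ) : Fin n → ℕ :=
  fun i => if h : i = i0 then M else e ⟨i, h⟩

@[simp] theorem ext_self (e : {j : Fin n // j ≠ i0} → ℕ) (M : ℕ) : ext i0 e M i0 = M := by
  simp [ext]

@[simp] theorem ext_ne (e : {j : Fin n // j ≠ i0} → ℕ) (M : ℕ) (j : {j : Fin n // j ≠ i0}) :
    ext i0 e M j.1 = e j := by
  simp [ext, j.2]

theorem prod_ext (e : {j : Fin n // j ≠ i0} → ℕ) (M : ℕ) :
    ∏ i, u f i ^ ext i0 e M i = u f i0 ^ M * ∏ j : {j : Fin n // j ≠ i0}, u f j.1 ^ e j := by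
  rw [Fintype.prod_eq_mul_prod_subtype_ne _ i0, ext_self]
  congr 1
  refine Finset.prod_congr rfl fun j _ => ?_
  rw [ext_ne]

/-- the scalar coefficient in the expansion. -/
def sc (e m : {j : Fin n // j ≠ i0} → ℕ) : R :=
  ∏ j, (α ^ m j * (-β j) ^ (e j - m j) * ((e j).choose (m j) : R))

theorem zprod_expand (e : {j : Fin n // j ≠ i0} → ℕ) :
    ∏ j, zel i0 f α β j ^ e j =
      ∑ m ∈ Fintype.piFinset (fun j => Finset.range (e j + 1)),
        algebraMap R (SepQuot f) (sc i0 α β e m) *
          (u f i0 ^ (∑ j, (e j - m j)) * ∏ j : {j : Fin n // j ≠ i0}, u f j.1 ^ m j) := by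
  have h1 : ∀ j : {j : Fin n // j ≠ i0}, zel i0 f α β j ^ e j =
      ∑ m ∈ Finset.range (e j + 1),
        (algebraMap R (SepQuot f) (α ^ m * (-β j) ^ (e j - m) * ((e j).choose m : R)) *
          (u f j.1 ^ m * u f i0 ^ (e j - m))) := by
    intro j
    have : zel i0 f α β j = algebraMap R (SepQuot f) α * u f j.1 +
        (- (algebraMap R (SepQuot f) (β j) * u f i0)) := by
      unfold zel; ring
    rw [this, add_pow]
    refine Finset.sum_congr rfl fun m _ => ?_
    simp only [map_mul, map_pow, map_neg, map_natCast]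
    ring
  rw [Finset.prod_congr rfl (fun j _ => h1 j), Finset.prod_univ_sum]
  refine Finset.sum_congr rfl fun m _ => ?_
  rw [Finset.prod_mul_distrib, Finset.prod_mul_distrib, Finset.prod_pow_eq_pow_sum, sc, map_prod]
  ring

variable [Nontrivial R]

/-- triangularity of the products of minor elements w.r.t. the monomial basis. -/
theorem cf_zprod (e es : {j : Fin n // j ≠ i0} → ℕ)
    (he : ∀ j : {j : Fin n // j ≠ i0}, e j < (f j.1).natDegree) :
    cf f hf (ext i0 es 0) (∏ j, zel i0 f α β j ^ e j) =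
      if (∀ j, es j ≤ e j) then
        sc i0 α β e es * ((X ^ (∑ j, (e j - es j)) : R[X]) %ₘ f i0).coeff 0
      else 0 := by
  classical
  rw [zprod_expand, map_sum]
  have hterm : ∀ m ∈ Fintype.piFinset (fun j : {j : Fin n // j ≠ i0} => Finset.range (e j + 1)),
      cf f hf (ext i0 es 0) (algebraMap R (SepQuot f) (sc i0 α β e m) *
          (u f i0 ^ (∑ j, (e j - m j)) * ∏ j : {j : Fin n // j ≠ i0}, u f j.1 ^ m j)) =
      if m = es then sc i0 α β e es * ((X ^ (∑ j, (e j - es j)) : R[X]) %ₘ f i0).coeff 0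
      else 0 := by
    intro m hm
    rw [Fintype.mem_piFinset] at hm
    rw [← Algebra.smul_def, map_smul, ← prod_ext i0 f m, cf_prod_pow,
      Fintype.prod_eq_mul_prod_subtype_ne _ i0, ext_self, ext_self]
    have h2 : ∏ j : {j : Fin n // j ≠ i0},
        ((X ^ ext i0 m (∑ j, (e j - m j)) j.1 : R[X]) %ₘ f j.1).coeff (ext i0 es 0 j.1) =
        if m = es then 1 else 0 := by
      have h3 : ∀ j : {j : Fin n // j ≠ i0},
          ((X ^ ext i0 m (∑ j, (e j - m j)) j.1 : R[X]) %ₘ f j.1).coeff (ext i0 es 0 j.1) =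
          if m j = es j then 1 else 0 := by
        intro j
        rw [ext_ne, ext_ne]
        apply coeff_X_pow_modByMonic (hf j.1)
        have := Finset.mem_range.1 (hm j)
        have := he j
        omega
      rw [Finset.prod_congr rfl (fun j _ => h3 j), Finset.prod_ite_zero]
      simp only [Finset.prod_const_one, Finset.mem_univ, forall_const]
      by_cases hmes : m = es
      · rw [if_pos hmes, if_pos (fun j => congrFun hmes j)]
      · rw [if_neg hmes, if_neg (fun h => hmes (funext h))]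
    rw [h2]
    by_cases hmes : m = es
    · subst hmes
      simp [smul_eq_mul]
    · simp [hmes]
  rw [Finset.sum_congr rfl hterm, Finset.sum_ite_eq']
  congr 1
  rw [Fintype.mem_piFinset]
  apply propext
  constructor
  · intro h j
    have := Finset.mem_range.1 (h j); omega
  · intro h j
    exact Finset.mem_range.2 (Nat.lt_succ_of_le (h j))

end Groth.Agent.H10.Minor
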