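import Mathlib
import Groth.Agent.H10.Minor2

set_option autoImplicit false

namespace Groth.Agent.H10.Minor

open Polynomial
open Groth.Agent.H78.ASFam Groth.Agent.H10.Frob

variable {R : Type*} [CommRing R] [IsDomain R] {n : ℕ} (i0 : Fin n)
variable (f : Fin n → R[X]) (hf : ∀ i, (f i).Monic)
variable (α : R) (β : {j : Fin n // j ≠ i0} → R)
variable (f' : {j : Fin n // j ≠ i0} → R[X]) (hf' : ∀ j, (f' j).Monic)

section
variable (hz : ∀ j, aeval (zel i0 f α β j) (f' j) = 0)

omit [IsDomain R] in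
include hz in
theorem sepIdeal_le_ker :
    ∀ a ∈ sepIdeal f', (MvPolynomial.aeval (zel i0 f α β) :
      MvPolynomial {j : Fin n // j ≠ i0} R →ₐ[R] SepQuot f) a = 0 := by
  intro a ha
  have hle : sepIdeal f' ≤ RingHom.ker (MvPolynomial.aeval (zel i0 f α β) :
      MvPolynomial {j : Fin n // j ≠ i0} R →ₐ[R] SepQuot f) := by
    refine Ideal.span_le.2 ?_
    rintro _ ⟨j, rfl⟩
    rw [SetLike.mem_coe, RingHom.mem_ker]
    change (MvPolynomial.aeval (zel i0 f α β))
      (Polynomial.aeval (MvPolynomial.X j) (f' j)) = 0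
    rw [← Polynomial.aeval_algHom_apply, MvPolynomial.aeval_X]
    exact hz j
  exact (RingHom.mem_ker).1 (hle ha)

/-- the induced map `B → A`. -/
noncomputable def psi : SepQuot f' →ₐ[R] SepQuot f :=
  Ideal.Quotient.liftₐ (sepIdeal f') (MvPolynomial.aeval (zel i0 f α β))
    (sepIdeal_le_ker i0 f α β f' hz)

theorem psi_u (j : {j : Fin n // j ≠ i0}) :
    psi i0 f α β f' hz (u f' j) = zel i0 f α β j := by
  have h : psi i0 f α β f' hz (u f' j) =
      (MvPolynomial.aeval (zel i0 f α β) :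
        MvPolynomial {j : Fin n // j ≠ i0} R →ₐ[R] SepQuot f) (MvPolynomial.X j) := rfl
  rw [h, MvPolynomial.aeval_X]

theorem psi_mk (P : MvPolynomial {j : Fin n // j ≠ i0} R) :
    psi i0 f α β f' hz (Ideal.Quotient.mk (sepIdeal f') P) =
      MvPolynomial.aeval (zel i0 f α β) P := rfl

theorem psi_basis (e : Π j, Fin (AdjoinRoot.powerBasis' (hf' j)).dim) :
    psi i0 f α β f' hz (basis f' hf' e) = ∏ j, zel i0 f α β j ^ (e j : ℕ) := by
  rw [basis_apply, map_prod]
  refine Finset.prod_congr rfl fun j _ => ?_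
  rw [map_pow, psi_u]

variable (hdeg : ∀ j : {j : Fin n // j ≠ i0}, (f' j).natDegree ≤ (f j.1).natDegree)
  (h0 : 0 < (f i0).natDegree) (hα : α ≠ 0)

include hf hf' hdeg h0 hα in
theorem psi_injective : Function.Injective (psi i0 f α β f' hz) := by
  classical
  rw [injective_iff_map_eq_zero]
  intro b hb
  by_contra hb0
  set bs := basis f' hf' with hbs
  have hex : ∃ e, bs.repr b e ≠ 0 := by
    by_contra hne
    push Not at hne
    apply hb0
    apply bs.repr.injective
    ext e
    rw [hne e]; simp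
  let S : Finset (Π j, Fin (AdjoinRoot.powerBasis' (hf' j)).dim) :=
    Finset.univ.filter (fun e => bs.repr b e ≠ 0)
  have hS : S.Nonempty := by
    obtain ⟨e, he⟩ := hex
    exact ⟨e, Finset.mem_filter.2 ⟨Finset.mem_univ _, he⟩⟩
  obtain ⟨es, hesS, hmax⟩ := Finset.exists_max_image S (fun e => ∑ j, (e j : ℕ)) hS
  have hes : bs.repr b es ≠ 0 := (Finset.mem_filter.1 hesS).2
  have hlt : ∀ (e : Π j, Fin (AdjoinRoot.powerBasis' (hf' j)).dim)
      (j : {j : Fin n // j ≠ i0}), (e j : ℕ) < (f j.1).natDegree := by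
    intro e j
    exact lt_of_lt_of_le (lt_of_lt_of_eq (e j).2 (AdjoinRoot.powerBasis'_dim (hf' j))) (hdeg j)
  -- expand `b`
  have hsum : psi i0 f α β f' hz b =
      ∑ e, bs.repr b e • ∏ j, zel i0 f α β j ^ (e j : ℕ) := by
    conv_lhs => rw [← bs.sum_repr b]
    rw [map_sum]
    refine Finset.sum_congr rfl fun e _ => ?_
    rw [map_smul, hbs, psi_basis]
  have hcf := congrArg (cf f hf (ext i0 (fun j => (es j : ℕ)) 0)) hsum
  rw [hb, map_zero, map_sum] at hcf
  rw [Finset.sum_eq_single es] at hcf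
  · rw [map_smul, cf_zprod i0 f hf α β _ _ (hlt es), if_pos (fun j => le_refl _)] at hcf
    have hsc : sc i0 α β (fun j => (es j : ℕ)) (fun j => (es j : ℕ)) = α ^ (∑ j, (es j : ℕ)) := by
      unfold sc
      rw [← Finset.prod_pow_eq_pow_sum]
      refine Finset.prod_congr rfl fun j _ => ?_
      simp
    have hc0 : ((X ^ (∑ j : {j : Fin n // j ≠ i0}, ((es j : ℕ) - (es j : ℕ))) : R[X]) %ₘ
        f i0).coeff 0 = 1 := by
      have : (∑ j : {j : Fin n // j ≠ i0}, ((es j : ℕ) - (es j : ℕ))) = 0 := by simp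
      rw [this, coeff_X_pow_modByMonic (hf i0) 0 0 h0, if_pos rfl]
    rw [hsc, hc0, mul_one, smul_eq_mul] at hcf
    rcases mul_eq_zero.1 hcf.symm with h | h
    · exact hes h
    · exact hα (eq_zero_of_pow_eq_zero h)
  · intro e _ hne
    rw [map_smul, cf_zprod i0 f hf α β _ _ (hlt e)]
    by_cases hre : bs.repr b e = 0
    · rw [hre, zero_smul]
    · have heS : e ∈ S := Finset.mem_filter.2 ⟨Finset.mem_univ _, hre⟩
      have hle := hmax e heS
      rw [if_neg, smul_zero]
      intro hall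
      apply hne
      have heq : ∀ j ∈ (Finset.univ : Finset {j : Fin n // j ≠ i0}), (es j : ℕ) = (e j : ℕ) :=
        (Finset.sum_eq_sum_iff_of_le (fun j _ => hall j)).1 (le_antisymm
          (Finset.sum_le_sum fun j _ => hall j) hle)
      funext j
      exact Fin.ext (heq j (Finset.mem_univ j)).symm
  · intro h; exact absurd (Finset.mem_univ es) h

end

end Groth.Agent.H10.Minor
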