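import Mathlib
import Groth.Agent.H10.Minor3
import Groth.Agent.H78.ASFam.Main

set_option autoImplicit false

namespace Groth.Agent.H10.Minor

open Polynomial
open Groth.Agent.H78.ASFam Groth.Agent.H10.Frob

universe u

section General

variable {R : Type*} [CommRing R] [IsDomain R] {n : ℕ} (i0 : Fin n)
variable (f : Fin n → R[X]) (hf : ∀ i, (f i).Monic)
variable (α : R) (β : {j : Fin n // j ≠ i0} → R)
variable (f' : {j : Fin n // j ≠ i0} → R[X]) (hf' : ∀ j, (f' j).Monic)
variable (hz : ∀ j, aeval (zel i0 f α β j) (f' j) = 0)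
variable (hdeg : ∀ j : {j : Fin n // j ≠ i0}, (f' j).natDegree ≤ (f j.1).natDegree)
  (h0 : 0 < (f i0).natDegree) (hα : α ≠ 0)

include hf hf' hz hdeg h0 hα in
theorem ker_aeval_zel :
    RingHom.ker (MvPolynomial.aeval (zel i0 f α β) :
      MvPolynomial {j : Fin n // j ≠ i0} R →ₐ[R] SepQuot f) = sepIdeal f' := by
  apply le_antisymm
  · intro P hP
    rw [RingHom.mem_ker] at hP
    have h1 : psi i0 f α β f' hz (Ideal.Quotient.mk (sepIdeal f') P) = 0 := hP
    have h2 := psi_injective i0 f hf α β f' hf' hz hdeg h0 hα (h1.trans (map_zero _).symm)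
    exact Ideal.Quotient.eq_zero_iff_mem.1 h2
  · intro P hP
    exact RingHom.mem_ker.2 (sepIdeal_le_ker i0 f α β f' hz P hP)

end General

section AS

variable {R : Type u} [CommRing R] [IsDomain R] (p n : ℕ) [hp : Fact p.Prime] [CharP R p]
variable (a x : Fin n → R) (μ : R) (i0 : Fin n)

/-- the polynomials of the minor complete intersection. -/
noncomputable def minorPoly (j : {j : Fin n // j ≠ i0}) : R[X] :=
  X ^ p - (C ((μ * a i0 * a j.1) ^ (p - 1)) * X + C (a i0 ^ p * x j.1 - a j.1 ^ p * x i0))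

theorem minorPoly_monic (j : {j : Fin n // j ≠ i0}) : (minorPoly p n a x μ i0 j).Monic := by
  apply Polynomial.monic_X_pow_sub
  refine lt_of_le_of_lt Polynomial.degree_linear_le ?_
  exact_mod_cast hp.out.one_lt

theorem minorPoly_natDegree (j : {j : Fin n // j ≠ i0}) :
    (minorPoly p n a x μ i0 j).natDegree = p := by
  have h : (C ((μ * a i0 * a j.1) ^ (p - 1)) * X +
      C (a i0 ^ p * x j.1 - a j.1 ^ p * x i0) : R[X]).degree < (p : WithBot ℕ) := by
    refine lt_of_le_of_lt Polynomial.degree_linear_le ?_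
    exact_mod_cast hp.out.one_lt
  have h2 : (minorPoly p n a x μ i0 j).degree = (p : WithBot ℕ) := by
    unfold minorPoly
    rw [Polynomial.degree_sub_eq_left_of_degree_lt (by rwa [Polynomial.degree_X_pow]),
      Polynomial.degree_X_pow]
  exact Polynomial.natDegree_eq_of_degree_eq_some h2

theorem minorIdeal_eq :
    Ideal.span (Set.range fun j : {j : Fin n // j ≠ i0} =>
      (MvPolynomial.X j : MvPolynomial {j : Fin n // j ≠ i0} R) ^ p
        - MvPolynomial.C ((μ * a i0 * a j.1) ^ (p - 1)) * MvPolynomial.X j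
        - MvPolynomial.C (a i0 ^ p * x j.1 - a j.1 ^ p * x i0)) =
    sepIdeal (minorPoly p n a x μ i0) := by
  unfold sepIdeal
  congr 2
  funext j
  simp [minorPoly, MvPolynomial.algebraMap_eq, sub_sub]

theorem aeval_zel_minorPoly [CharP (AS p n (fun i => (μ * a i) ^ (p - 1)) x) p]
    (j : {j : Fin n // j ≠ i0}) :
    aeval (zel i0 (asPoly p n (fun i => (μ * a i) ^ (p - 1)) x) (a i0) (fun j => a j.1) j)
      (minorPoly p n a x μ i0 j) = 0 := by
  have hu := u_pow p n (fun i => (μ * a i) ^ (p - 1)) x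
  simp only [minorPoly, map_sub, map_pow, aeval_X, map_add, map_mul, aeval_C]
  unfold zel
  rw [sub_pow_char, mul_pow, mul_pow]
  have hj := hu j.1
  have h0 := hu i0
  simp only [uu] at hj h0
  rw [hj, h0]
  simp only [map_pow, map_mul]
  generalize algebraMap R (AS p n (fun i => (μ * a i) ^ (p - 1)) x) μ = M
  generalize algebraMap R (AS p n (fun i => (μ * a i) ^ (p - 1)) x) (a i0) = A0
  generalize algebraMap R (AS p n (fun i => (μ * a i) ^ (p - 1)) x) (a j.1) = Aj
  generalize algebraMap R (AS p n (fun i => (μ * a i) ^ (p - 1)) x) (x i0) = X0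
  generalize algebraMap R (AS p n (fun i => (μ * a i) ^ (p - 1)) x) (x j.1) = Xj
  have e1 : A0 ^ p = A0 ^ (p - 1) * A0 := by
    rw [← pow_succ, Nat.sub_add_cancel hp.out.one_le]
  have e2 : Aj ^ p = Aj ^ (p - 1) * Aj := by
    rw [← pow_succ, Nat.sub_add_cancel hp.out.one_le]
  have e3 : A0 ^ p * ((M * Aj) ^ (p - 1) * u _ j.1 + Xj) -
      Aj ^ p * ((M * A0) ^ (p - 1) * u _ i0 + X0) =
      (M * A0 * Aj) ^ (p - 1) * (A0 * u _ j.1 - Aj * u _ i0) + (A0 ^ p * Xj - Aj ^ p * X0) := by
    rw [mul_add, mul_add, e1, e2, mul_pow, mul_pow, mul_pow, mul_pow]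
    ring
  rw [e3]
  ring

include hp in
theorem ker_aeval_minor (ha0 : a i0 ≠ 0) :
    RingHom.ker (MvPolynomial.aeval
        (zel i0 (asPoly p n (fun i => (μ * a i) ^ (p - 1)) x) (a i0) (fun j => a j.1)) :
      MvPolynomial {j : Fin n // j ≠ i0} R →ₐ[R] AS p n (fun i => (μ * a i) ^ (p - 1)) x) =
      sepIdeal (minorPoly p n a x μ i0) := by
  have hp2 : 2 ≤ p := hp.out.two_le
  have : CharP (AS p n (fun i => (μ * a i) ^ (p - 1)) x) p :=
    charP_of_injective_algebraMap (algebraMap_injective_AS p n _ x hp2) p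
  refine ker_aeval_zel i0 _ (asPoly_monic p n _ x hp2) (a i0) (fun j => a j.1)
    (minorPoly p n a x μ i0) (minorPoly_monic p n a x μ i0)
    (aeval_zel_minorPoly p n a x μ i0) ?_ ?_ ha0
  · intro j
    rw [minorPoly_natDegree, asPoly_natDegree p n _ x hp2]
  · rw [asPoly_natDegree p n _ x hp2]; omega

include hp in
/-- version for an ideal propositionally equal to `sepIdeal`. -/
theorem main_I (ha0 : a i0 ≠ 0) (I : Ideal (MvPolynomial (Fin n) R))
    (hI : I = sepIdeal (asPoly p n (fun i => (μ * a i) ^ (p - 1)) x)) :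
    RingHom.ker (MvPolynomial.aeval (fun j : {j : Fin n // j ≠ i0} =>
        algebraMap R (MvPolynomial (Fin n) R ⧸ I) (a i0) * Ideal.Quotient.mk I (MvPolynomial.X j.1) -
          algebraMap R (MvPolynomial (Fin n) R ⧸ I) (a j.1) *
            Ideal.Quotient.mk I (MvPolynomial.X i0)) :
      MvPolynomial {j : Fin n // j ≠ i0} R →ₐ[R] MvPolynomial (Fin n) R ⧸ I) =
    Ideal.span (Set.range fun j : {j : Fin n // j ≠ i0} =>
      (MvPolynomial.X j : MvPolynomial {j : Fin n // j ≠ i0} R) ^ p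
        - MvPolynomial.C ((μ * a i0 * a j.1) ^ (p - 1)) * MvPolynomial.X j
        - MvPolynomial.C (a i0 ^ p * x j.1 - a j.1 ^ p * x i0)) := by
  subst hI
  rw [minorIdeal_eq]
  exact ker_aeval_minor p n a x μ i0 ha0

end AS

end Groth.Agent.H10.Minor
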