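import Mathlib

/-!
# Normality of a localisation of a subring of invariants
-/

set_option autoImplicit false

namespace Groth.Agent.H10.MinorN

open Polynomial

/-- Let `A` be an integrally closed domain with an automorphism `σ`, `ψ : B → A` an injective map
with `σ`-invariant image, and `c` such that every invariant element lies in the image of `ψ` after
multiplication by a power of `c`.  Then `B[1/c]` is integrally closed. -/
theorem normal_away {R A B : Type*} [CommRing R] [CommRing A] [IsDomain A] [IsIntegrallyClosed A]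
    [Algebra R A] [CommRing B] [IsDomain B] [Algebra R B] (σ : A ≃ₐ[R] A) (ψ : B →ₐ[R] A)
    (hψ : Function.Injective ψ) (hfix : ∀ b, σ (ψ b) = ψ b) (c : R)
    (hc : algebraMap R B c ≠ 0)
    (H : ∀ t : A, σ t = t → ∃ N : ℕ, ∃ b : B, algebraMap R A c ^ N * t = ψ b) :
    IsIntegrallyClosed (Localization.Away (algebraMap R B c)) := by
  classical
  have hψc : ψ (algebraMap R B c) = algebraMap R A c := ψ.commutes c
  have hcA0 : algebraMap R A c ≠ 0 := by
    rw [← hψc]
    exact fun h => hc (hψ (h.trans (map_zero ψ).symm))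
  have hle : Submonoid.powers (algebraMap R B c) ≤ nonZeroDivisors B :=
    powers_le_nonZeroDivisors_of_noZeroDivisors hc
  haveI : IsDomain (Localization.Away (algebraMap R B c)) :=
    IsLocalization.isDomain_localization hle
  have hinjK := IsFractionRing.injective A (FractionRing A)
  -- the map to the fraction field of `A`
  have hunit : IsUnit (((algebraMap A (FractionRing A)).comp ψ.toRingHom) (algebraMap R B c)) := by
    change IsUnit (algebraMap A (FractionRing A) (ψ (algebraMap R B c)))
    rw [hψc]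
    exact IsUnit.mk0 _ ((map_ne_zero_iff _ hinjK).2 hcA0)
  let g : Localization.Away (algebraMap R B c) →+* FractionRing A :=
    IsLocalization.Away.lift (algebraMap R B c) hunit
  have hg_alg : ∀ b : B, g (algebraMap B _ b) = algebraMap A (FractionRing A) (ψ b) :=
    fun b => IsLocalization.Away.lift_eq (algebraMap R B c) hunit b
  have hg_mk : ∀ (b : B) (m : ℕ) (hm : algebraMap R B c ^ m ∈ Submonoid.powers (algebraMap R B c)),
      g (IsLocalization.mk' _ b ⟨algebraMap R B c ^ m, hm⟩) *
        algebraMap A (FractionRing A) (algebraMap R A c ^ m) =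
      algebraMap A (FractionRing A) (ψ b) := by
    intro b m hm
    have h1 : IsLocalization.mk' (Localization.Away (algebraMap R B c)) b
        ⟨algebraMap R B c ^ m, hm⟩ * algebraMap B _ (algebraMap R B c ^ m) = algebraMap B _ b :=
      IsLocalization.mk'_spec _ b ⟨algebraMap R B c ^ m, hm⟩
    have h2 := congrArg g h1
    rw [map_mul, hg_alg, hg_alg, map_pow, hψc] at h2
    exact h2
  have hg_inj : Function.Injective g := by
    rw [injective_iff_map_eq_zero]
    intro x hx
    obtain ⟨b, ⟨_, m, rfl⟩, rfl⟩ := IsLocalization.exists_mk'_eq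
      (Submonoid.powers (algebraMap R B c)) x
    have h2 := hg_mk b m ⟨m, rfl⟩
    change g (IsLocalization.mk' _ b ⟨algebraMap R B c ^ m, _⟩) = 0 at hx
    rw [hx, zero_mul] at h2
    have h3 : ψ b = 0 := hinjK (h2.symm.trans (map_zero _).symm)
    have h4 : b = 0 := hψ (h3.trans (map_zero ψ).symm)
    rw [h4, IsLocalization.mk'_zero]
  rw [isIntegrallyClosed_iff (FractionRing (Localization.Away (algebraMap R B c)))]
  intro x hx
  let g' : FractionRing (Localization.Away (algebraMap R B c)) →+* FractionRing A :=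
    IsFractionRing.lift hg_inj
  have hg'_alg : ∀ y, g' (algebraMap _ _ y) = g y := fun y => IsFractionRing.lift_algebraMap hg_inj y
  have hg'_inj : Function.Injective g' := RingHom.injective g'
  -- a multiple of `x` is integral over `B`
  obtain ⟨⟨_, e, rfl⟩, he⟩ :=
    hx.exists_multiple_integral_of_isLocalization (Submonoid.powers (algebraMap R B c)) x
  have hcomp : (algebraMap A (FractionRing A)).comp ψ.toRingHom =
      g'.comp (algebraMap B (FractionRing (Localization.Away (algebraMap R B c)))) := by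
    ext b
    rw [RingHom.comp_apply, RingHom.comp_apply,
      IsScalarTower.algebraMap_apply B (Localization.Away (algebraMap R B c))
        (FractionRing (Localization.Away (algebraMap R B c))), hg'_alg, hg_alg]
    rfl
  have hint := IsIntegral.map_of_comp_eq ψ.toRingHom g' hcomp he
  obtain ⟨t, ht⟩ := (isIntegrallyClosed_iff (FractionRing A)).1 inferInstance hint
  have hsm : g' ((⟨algebraMap R B c ^ e, ⟨e, rfl⟩⟩ : Submonoid.powers (algebraMap R B c)) • x) =
      algebraMap A (FractionRing A) (algebraMap R A c ^ e) * g' x := by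
    rw [Submonoid.smul_def, Algebra.smul_def, map_mul]
    congr 1
    have := congrFun (congrArg DFunLike.coe hcomp) (algebraMap R B c ^ e)
    rw [RingHom.comp_apply, RingHom.comp_apply] at this
    rw [← this]
    change algebraMap A (FractionRing A) (ψ (algebraMap R B c ^ e)) = _
    rw [map_pow, hψc]
  rw [hsm] at ht
  -- write `x` as a fraction
  obtain ⟨nn, dd, hdd, hxnd⟩ := IsFractionRing.div_surjective
    (A := Localization.Away (algebraMap R B c)) x
  obtain ⟨β₁, ⟨_, m₁, rfl⟩, rfl⟩ := IsLocalization.exists_mk'_eq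
    (Submonoid.powers (algebraMap R B c)) nn
  obtain ⟨β₂, ⟨_, m₂, rfl⟩, hdd2⟩ := IsLocalization.exists_mk'_eq
    (Submonoid.powers (algebraMap R B c)) dd
  have hdd0 : dd ≠ 0 := nonZeroDivisors.ne_zero hdd
  have hβ₂ : β₂ ≠ 0 := by
    intro h
    apply hdd0
    rw [← hdd2, h, IsLocalization.mk'_zero]
  have hψβ₂ : ψ β₂ ≠ 0 := fun h => hβ₂ (hψ (h.trans (map_zero ψ).symm))
  have hgd0 : g dd ≠ 0 := (map_ne_zero_iff g hg_inj).2 hdd0
  have hgx : g' x * g dd = g (IsLocalization.mk' (Localization.Away (algebraMap R B c)) β₁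
      (⟨algebraMap R B c ^ m₁, ⟨m₁, rfl⟩⟩ : Submonoid.powers (algebraMap R B c))) := by
    rw [← hxnd, map_div₀, hg'_alg, hg'_alg, div_mul_cancel₀ _ hgd0]
  have e1 := hg_mk β₁ m₁ ⟨m₁, rfl⟩
  have e2 := hg_mk β₂ m₂ ⟨m₂, rfl⟩
  rw [hdd2] at e2
  -- the identity in `A`
  have hA : t * ψ β₂ * algebraMap R A c ^ m₁ =
      algebraMap R A c ^ e * ψ β₁ * algebraMap R A c ^ m₂ := by
    apply hinjK
    rw [map_mul, map_mul, map_mul, map_mul, ht, ← e1, ← e2, ← hgx]
    ring
  have hσt : σ t = t := by
    have h1 := congrArg σ hA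
    rw [map_mul, map_mul, map_mul, map_mul, hfix, hfix, map_pow, map_pow, map_pow,
      AlgEquiv.commutes, ← hA] at h1
    have h2 : (σ t - t) * (ψ β₂ * algebraMap R A c ^ m₁) = 0 := by
      rw [sub_mul, sub_eq_zero, ← mul_assoc, ← mul_assoc]; exact h1
    rcases mul_eq_zero.1 h2 with h | h
    · exact sub_eq_zero.1 h
    · exact absurd h (mul_ne_zero hψβ₂ (pow_ne_zero _ hcA0))
  obtain ⟨N, b₀, hb₀⟩ := H t hσt
  refine ⟨IsLocalization.mk' (Localization.Away (algebraMap R B c)) b₀
    (⟨algebraMap R B c ^ (N + e), ⟨N + e, rfl⟩⟩ : Submonoid.powers (algebraMap R B c)), ?_⟩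
  apply hg'_inj
  rw [hg'_alg]
  have e3 := hg_mk b₀ (N + e) ⟨N + e, rfl⟩
  have e4 : algebraMap A (FractionRing A) (algebraMap R A c ^ (N + e)) =
      algebraMap A (FractionRing A) (algebraMap R A c ^ N) *
        algebraMap A (FractionRing A) (algebraMap R A c ^ e) := by rw [pow_add, map_mul]
  rw [← hb₀, e4, map_mul, ht] at e3
  have hne : algebraMap A (FractionRing A) (algebraMap R A c ^ N) *
      algebraMap A (FractionRing A) (algebraMap R A c ^ e) ≠ 0 :=
    mul_ne_zero ((map_ne_zero_iff _ hinjK).2 (pow_ne_zero _ hcA0))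
      ((map_ne_zero_iff _ hinjK).2 (pow_ne_zero _ hcA0))
  apply mul_right_cancel₀ hne
  rw [e3]
  ring

end Groth.Agent.H10.MinorN
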