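import Mathlib
import Groth.Agent.H10.Minor4
import Groth.Agent.H10.MinorN1
import Groth.Agent.H78.ASFam.Aut
import Groth.Agent.H99.WildB
import Groth.Agent.H14.RegularNormal

/-!
# The minor complete intersection: free, domain, normal away from `μ a_{i₀}`
-/

set_option autoImplicit false

namespace Groth.Agent.H10.MinorN

open Polynomial IsLocalRing
open Groth.Agent.H78.ASFam Groth.Agent.H10.Frob Groth.Agent.H10.Minor

universe u

section AS

variable {R : Type u} [CommRing R] [IsDomain R] (p n : ℕ) [hp : Fact p.Prime] [CharP R p]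
variable (a x : Fin n → R) (μ : R) (i0 : Fin n)

theorem minor_free : Module.Free R (SepQuot (minorPoly p n a x μ i0)) :=
  free_of_monic _ (minorPoly_monic p n a x μ i0)

theorem minor_finrank : Module.finrank R (SepQuot (minorPoly p n a x μ i0)) = p ^ (n - 1) := by
  rw [finrank_of_monic _ (minorPoly_monic p n a x μ i0)]
  simp only [minorPoly_natDegree, Finset.prod_const, Finset.card_univ]
  congr 1
  rw [Fintype.card_subtype_compl, Fintype.card_fin, Fintype.card_unique]

/-- the map `B → A`. -/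
noncomputable def psiM [CharP (AS p n (fun i => (μ * a i) ^ (p - 1)) x) p] :
    SepQuot (minorPoly p n a x μ i0) →ₐ[R] AS p n (fun i => (μ * a i) ^ (p - 1)) x :=
  psi i0 (asPoly p n (fun i => (μ * a i) ^ (p - 1)) x) (a i0) (fun j => a j.1)
    (minorPoly p n a x μ i0) (aeval_zel_minorPoly p n a x μ i0)

theorem psiM_injective [CharP (AS p n (fun i => (μ * a i) ^ (p - 1)) x) p] (ha0 : a i0 ≠ 0) :
    Function.Injective (psiM p n a x μ i0) := by
  have hp2 : 2 ≤ p := hp.out.two_le
  refine psi_injective i0 _ (asPoly_monic p n _ x hp2) (a i0) (fun j => a j.1)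
    (minorPoly p n a x μ i0) (minorPoly_monic p n a x μ i0)
    (aeval_zel_minorPoly p n a x μ i0) ?_ ?_ ha0
  · intro j
    rw [minorPoly_natDegree, asPoly_natDegree p n _ x hp2]
  · rw [asPoly_natDegree p n _ x hp2]; omega

/-- the automorphism `u_i ↦ u_i + μ a_i`. -/
noncomputable def sig [CharP (AS p n (fun i => (μ * a i) ^ (p - 1)) x) p] :
    AS p n (fun i => (μ * a i) ^ (p - 1)) x ≃ₐ[R] AS p n (fun i => (μ * a i) ^ (p - 1)) x :=
  sigmaEquiv p n (fun i => μ * a i) x (fun _ => 1)

theorem sig_uu [CharP (AS p n (fun i => (μ * a i) ^ (p - 1)) x) p] (i : Fin n) :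
    sig p n a x μ (uu p n (fun i => (μ * a i) ^ (p - 1)) x i) =
      uu p n (fun i => (μ * a i) ^ (p - 1)) x i +
        algebraMap R (AS p n (fun i => (μ * a i) ^ (p - 1)) x) (μ * a i) := by
  have h := sigma_uu p n (fun i => μ * a i) x (fun _ => 1) i
  unfold shiftVal cst at h
  rw [map_one, one_mul] at h
  exact h

theorem sig_zel [CharP (AS p n (fun i => (μ * a i) ^ (p - 1)) x) p]
    (j : {j : Fin n // j ≠ i0}) :
    sig p n a x μ (zel i0 (asPoly p n (fun i => (μ * a i) ^ (p - 1)) x) (a i0) (fun j => a j.1) j) =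
      zel i0 (asPoly p n (fun i => (μ * a i) ^ (p - 1)) x) (a i0) (fun j => a j.1) j := by
  unfold zel
  have h1 := sig_uu p n a x μ j.1
  have h2 := sig_uu p n a x μ i0
  simp only [uu] at h1 h2
  rw [map_sub, map_mul, map_mul, h1, h2, AlgEquiv.commutes, AlgEquiv.commutes]
  simp only [map_mul]
  ring

theorem sig_psiM [CharP (AS p n (fun i => (μ * a i) ^ (p - 1)) x) p]
    (b : SepQuot (minorPoly p n a x μ i0)) :
    sig p n a x μ (psiM p n a x μ i0 b) = psiM p n a x μ i0 b := by
  have h : ((sig p n a x μ : AS p n (fun i => (μ * a i) ^ (p - 1)) x →ₐ[R] _).comp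
      (psiM p n a x μ i0)) = psiM p n a x μ i0 := by
    apply Ideal.Quotient.algHom_ext
    apply MvPolynomial.algHom_ext
    intro j
    change sig p n a x μ (psiM p n a x μ i0 (u (minorPoly p n a x μ i0) j)) =
      psiM p n a x μ i0 (u (minorPoly p n a x μ i0) j)
    unfold psiM
    rw [psi_u, sig_zel]
  exact congrFun (congrArg DFunLike.coe h) b

theorem mk_eq_aeval_uu (c : Fin n → R) (P : MvPolynomial (Fin n) R) :
    (Ideal.Quotient.mk (sepIdeal (asPoly p n c x)) P : AS p n c x) =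
      MvPolynomial.aeval (uu p n c x) P := by
  have h : (Ideal.Quotient.mkₐ R (sepIdeal (asPoly p n c x))) =
      (MvPolynomial.aeval (uu p n c x) : MvPolynomial (Fin n) R →ₐ[R] AS p n c x) := by
    apply MvPolynomial.algHom_ext
    intro i
    rw [MvPolynomial.aeval_X]
    rfl
  exact congrFun (congrArg DFunLike.coe h) P

theorem minor_main [IsLocalRing R] [IsNoetherianRing R]
    (hc : ∀ i, μ * a i ∈ maximalIdeal R)
    (hxm : maximalIdeal R = Ideal.span (Set.range x)) (hdim : ringKrullDim R = n)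
    (ha0 : a i0 ≠ 0) (hμ : μ ≠ 0) :
    IsDomain (SepQuot (minorPoly p n a x μ i0)) ∧
    IsIntegrallyClosed (Localization.Away
      (algebraMap R (SepQuot (minorPoly p n a x μ i0)) (μ * a i0))) := by
  have hp2 : 2 ≤ p := hp.out.two_le
  have hc' : ∀ i, (μ * a i) ^ (p - 1) ∈ maximalIdeal R :=
    fun i => Ideal.pow_mem_of_mem _ (hc i) _ (by omega)
  haveI : IsRegularLocalRing (AS p n (fun i => (μ * a i) ^ (p - 1)) x) :=
    isRegularLocalRing_AS p n _ x hp2 hc' hxm hdim
  haveI : IsDomain (AS p n (fun i => (μ * a i) ^ (p - 1)) x) :=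
    isDomain_AS p n _ x hp2 hc' hxm hdim
  haveI : IsIntegrallyClosed (AS p n (fun i => (μ * a i) ^ (p - 1)) x) :=
    Groth.Agent.H14.isIntegrallyClosed_of_isRegularLocalRing _
  have hinj := algebraMap_injective_AS p n (fun i => (μ * a i) ^ (p - 1)) x hp2
  haveI : CharP (AS p n (fun i => (μ * a i) ^ (p - 1)) x) p :=
    charP_of_injective_algebraMap hinj p
  have hψ := psiM_injective p n a x μ i0 ha0
  haveI : IsDomain (SepQuot (minorPoly p n a x μ i0)) :=
    Function.Injective.isDomain (psiM p n a x μ i0).toRingHom hψ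
  refine ⟨inferInstance, ?_⟩
  apply normal_away (sig p n a x μ) (psiM p n a x μ i0) hψ (sig_psiM p n a x μ i0) (μ * a i0)
  · intro h
    have h1 := congrArg (psiM p n a x μ i0) h
    rw [AlgHom.commutes, map_zero] at h1
    exact mul_ne_zero hμ ha0 (hinj (h1.trans (map_zero _).symm))
  · intro t ht
    obtain ⟨P, rfl⟩ := Ideal.Quotient.mk_surjective t
    rw [mk_eq_aeval_uu] at ht ⊢
    obtain ⟨hP0, hP1⟩ := Groth.Agent.H99.WildB.power_sums_of_ringHom p (ZMod p)
      (ZMod.castHom (dvd_refl p) (AS p n (fun i => (μ * a i) ^ (p - 1)) x))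
    obtain ⟨N, hN⟩ := Groth.Agent.H99.WildB.main_general p (sig p n a x μ)
      (uu p n (fun i => (μ * a i) ^ (p - 1)) x) i0 a μ (x i0) hP0 hP1
      (u_pow p n (fun i => (μ * a i) ^ (p - 1)) x i0) (sig_uu p n a x μ) P ht
    rw [Algebra.adjoin_range_eq_range_aeval] at hN
    obtain ⟨Q, hQ⟩ := hN
    exact ⟨N, Ideal.Quotient.mk _ Q, hQ.symm⟩

/-- version for an ideal propositionally equal to `sepIdeal`. -/
theorem main_J [IsLocalRing R] [IsNoetherianRing R]
    (hc : ∀ i, μ * a i ∈ maximalIdeal R)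
    (hxm : maximalIdeal R = Ideal.span (Set.range x)) (hdim : ringKrullDim R = n)
    (ha0 : a i0 ≠ 0) (hμ : μ ≠ 0)
    (J : Ideal (MvPolynomial {j : Fin n // j ≠ i0} R))
    (hJ : J = sepIdeal (minorPoly p n a x μ i0)) :
    Module.Free R (MvPolynomial {j : Fin n // j ≠ i0} R ⧸ J) ∧
    Module.finrank R (MvPolynomial {j : Fin n // j ≠ i0} R ⧸ J) = p ^ (n - 1) ∧
    IsDomain (MvPolynomial {j : Fin n // j ≠ i0} R ⧸ J) ∧
    IsIntegrallyClosed (Localization.Away
      (algebraMap R (MvPolynomial {j : Fin n // j ≠ i0} R ⧸ J) (μ * a i0))) := by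
  subst hJ
  have h := minor_main p n a x μ i0 hc hxm hdim ha0 hμ
  exact ⟨minor_free p n a x μ i0, minor_finrank p n a x μ i0, h.1, h.2⟩

end AS

end Groth.Agent.H10.MinorN
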