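import Mathlib
import Groth.Prelude.Def_Found
import Groth.Agent.H38.NagataIC
import Groth.Agent.H38.N2FracExt
import Groth.Agent.H47.N2Equiv
import Groth.Agent.H13.PerfectReduced

set_option autoImplicit false
set_option linter.style.haveILetI false
set_option linter.unusedSectionVars false
set_option linter.unusedVariables false
universe u

open IsLocalRing TensorProduct

namespace Groth.Agent.H10.NagataDesc

variable (A B K L : Type u) [CommRing A] [IsDomain A] [IsDiscreteValuationRing A]
  [CommRing B] [IsDomain B] [IsDiscreteValuationRing B] [Algebra A B] [IsLocalHom (algebraMap A B)]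
  [Field K] [Field L] [Algebra A K] [IsFractionRing A K] [Algebra B L] [IsFractionRing B L]
  [Algebra K L] [Algebra A L] [IsScalarTower A K L] [IsScalarTower A B L] [Algebra.IsSeparable K L]

/-- The integral closure of `B` in `L ⊗[K] K'` is finite. -/
theorem finite_integralClosure_tensor (hB : CAlg.IsN2 B)
    (K' : Type u) [Field K'] [Algebra K K'] [FiniteDimensional K K'] :
    Module.Finite B (integralClosure B (L ⊗[K] K')) := by
  haveI hgr : Algebra.IsGeometricallyReduced K L :=
    Groth.Agent.H13.isGeometricallyReduced_of_isSeparable K L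
  haveI : Algebra.IsAlgebraic K K' := Algebra.IsAlgebraic.of_finite K K'
  haveI hred' : IsReduced (K' ⊗[K] L) := inferInstance
  haveI hred : IsReduced (L ⊗[K] K') :=
    isReduced_of_injective (Algebra.TensorProduct.comm K L K').toRingEquiv.toRingHom
      (Algebra.TensorProduct.comm K L K').injective
  haveI : Module.Finite L (L ⊗[K] K') := inferInstance
  haveI : IsArtinianRing (L ⊗[K] K') := IsArtinianRing.of_finite L _
  haveI : IsNoetherianRing (L ⊗[K] K') := inferInstance
  apply Groth.Agent.H38.NagataIC.finite_integralClosure_of_minimalPrimes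
    (minimalPrimes.finite_of_isNoetherianRing _)
  intro q hq
  haveI hqp : q.IsPrime := hq.1.1
  haveI hqm : q.IsMaximal := IsArtinianRing.isMaximal_of_isPrime q
  letI : Field ((L ⊗[K] K') ⧸ q) := Ideal.Quotient.field q
  refine ⟨(L ⊗[K] K') ⧸ q, inferInstance, Ideal.Quotient.mk q, le_of_eq Ideal.mk_ker, ?_⟩
  haveI : FiniteDimensional L ((L ⊗[K] K') ⧸ q) :=
    Module.Finite.of_surjective (Ideal.Quotient.mkₐ L q).toLinearMap
      (Ideal.Quotient.mkₐ_surjective L q)
  have key : Module.Finite B (integralClosure B ((L ⊗[K] K') ⧸ q)) :=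
    Groth.Agent.H38.finite_integralClosure_of_isN2_of_finite B L _ hB
  have heq : (Ideal.instAlgebraQuotient B q : Algebra B ((L ⊗[K] K') ⧸ q)) =
      RingHom.toAlgebra ((Ideal.Quotient.mk q).comp (algebraMap B (L ⊗[K] K'))) :=
    Algebra.algebra_ext _ _ (fun r => rfl)
  show @Module.Finite B (@integralClosure B ((L ⊗[K] K') ⧸ q) _ _
    (RingHom.toAlgebra ((Ideal.Quotient.mk q).comp (algebraMap B (L ⊗[K] K'))))) _ _ _
  rw [← heq]
  exact key

include L in
/-- Core lemma: descent of finiteness of integral closure. -/
theorem finite_integralClosure_of_desc (hinj : Function.Injective (algebraMap A B))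
    (hB : CAlg.IsN2 B)
    (K' : Type u) [Field K'] [Algebra K K'] [FiniteDimensional K K'] [Algebra A K']
    [IsScalarTower A K K'] :
    Module.Finite A (integralClosure A K') := by
  haveI : FaithfulSMul A B := (faithfulSMul_iff_algebraMap_injective A B).mpr hinj
  haveI : FaithfulSMul A K' := by
    rw [faithfulSMul_iff_algebraMap_injective, IsScalarTower.algebraMap_eq A K K']
    exact (algebraMap K K').injective.comp (IsFractionRing.injective A K)
  haveI : Module.Flat A B := inferInstance
  haveI : Module.Flat A K' := inferInstance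
  haveI : Module.FaithfullyFlat A B := Module.FaithfullyFlat.of_flat_of_isLocalHom
  haveI hfinR := finite_integralClosure_tensor B K L hB K'
  haveI : IsNoetherianRing B := inferInstance
  haveI : IsNoetherian B (integralClosure B (L ⊗[K] K')) := isNoetherian_of_isNoetherianRing_of_finite B _
  -- the map
  let g0 : K' →ₐ[A] L ⊗[K] K' :=
    (Algebra.TensorProduct.includeRight (R := K) (A := L) (B := K')).restrictScalars A
  let g : integralClosure A K' →ₐ[A] L ⊗[K] K' := g0.comp (integralClosure A K').val
  let φ₀ : B ⊗[A] integralClosure A K' →ₐ[B] L ⊗[K] K' :=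
    Algebra.TensorProduct.productLeftAlgHom (Algebra.ofId B (L ⊗[K] K')) g
  have hφ₀' : ∀ (b : B) (a : integralClosure A K'),
      φ₀ (b ⊗ₜ a) = algebraMap B (L ⊗[K] K') b * g0 (a : K') := by
    intro b a
    exact Algebra.TensorProduct.lift_tmul _ _ _ b a
  have hφ₀ : ∀ (b : B) (a : integralClosure A K'),
      φ₀ (b ⊗ₜ a) = (algebraMap B L b) ⊗ₜ[K] (a : K') := by
    intro b a
    rw [hφ₀']
    show algebraMap B (L ⊗[K] K') b * ((1 : L) ⊗ₜ[K] (a : K')) = _
    rw [IsScalarTower.algebraMap_apply B L (L ⊗[K] K'), Algebra.TensorProduct.algebraMap_apply,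
      Algebra.TensorProduct.tmul_mul_tmul, mul_one, one_mul]
    rfl
  have hint : ∀ x, φ₀ x ∈ integralClosure B (L ⊗[K] K') := by
    intro x
    induction x using TensorProduct.induction_on with
    | zero => simp
    | tmul b a =>
      have h1 : IsIntegral A (g0 (a : K')) := a.2.map g0
      have h2 : IsIntegral B (g0 (a : K')) := h1.tower_top
      rw [hφ₀']
      exact Subalgebra.mul_mem _ (Subalgebra.algebraMap_mem _ b) h2
    | add x y hx hy => rw [map_add]; exact Subalgebra.add_mem _ hx hy
  have hφinj : Function.Injective φ₀ := by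
    haveI : TensorProduct.CompatibleSMul A K L K' :=
      IsLocalization.tensorProduct_compatibleSMul (nonZeroDivisors A) K L K'
    let f1 : B ⊗[A] integralClosure A K' →ₗ[A] B ⊗[A] K' :=
      LinearMap.lTensor B (integralClosure A K').val.toLinearMap
    let f2 : B ⊗[A] K' →ₗ[A] L ⊗[A] K' :=
      LinearMap.rTensor K' (IsScalarTower.toAlgHom A B L).toLinearMap
    let e : L ⊗[A] K' ≃ₗ[A] L ⊗[K] K' := TensorProduct.equivOfCompatibleSMul K A A L K'
    have hf1 : Function.Injective f1 :=
      Module.Flat.lTensor_preserves_injective_linearMap _ Subtype.val_injective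
    have hf2 : Function.Injective f2 :=
      Module.Flat.rTensor_preserves_injective_linearMap _ (IsFractionRing.injective B L)
    have hcomp : ∀ x, φ₀ x = e (f2 (f1 x)) := by
      intro x
      induction x using TensorProduct.induction_on with
      | zero => simp
      | tmul b a =>
        rw [hφ₀]
        simp [f1, f2, e, TensorProduct.equivOfCompatibleSMul]
      | add x y hx hy => simp only [map_add, hx, hy]
    intro x y hxy
    rw [hcomp, hcomp] at hxy
    exact hf1 (hf2 (e.injective hxy))
  let ψ : B ⊗[A] integralClosure A K' →ₗ[B] integralClosure B (L ⊗[K] K') :=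
    φ₀.toLinearMap.codRestrict (Subalgebra.toSubmodule (integralClosure B (L ⊗[K] K'))) hint
  have hψinj : Function.Injective ψ := by
    intro x y hxy
    apply hφinj
    exact congrArg Subtype.val hxy
  haveI : Module.Finite B (B ⊗[A] integralClosure A K') := Module.Finite.of_injective ψ hψinj
  exact Module.Finite.of_finite_tensorProduct_of_faithfullyFlat B

/-- A domain that is a field is N-2. -/
theorem isN2_of_isField (k : Type u) [CommRing k] [IsDomain k] (h : IsField k) : CAlg.IsN2 k := by
  intro L' _ _ _ _ hfd
  have hsurj : Function.Surjective (algebraMap k (FractionRing k)) :=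
    (IsFractionRing.surjective_iff_isField (R := k) (K := FractionRing k)).mpr h
  haveI : Module.Finite k (FractionRing k) :=
    Module.Finite.of_surjective (Algebra.linearMap k (FractionRing k)) hsurj
  haveI : Module.Finite k L' := Module.Finite.trans (FractionRing k) L'
  haveI : IsPrincipalIdealRing k := h.isPrincipalIdealRing
  haveI : IsNoetherianRing k := inferInstance
  haveI : IsNoetherian k L' := inferInstance
  exact Module.Finite.iff_fg.mpr (IsNoetherian.noetherian (integralClosure k L').toSubmodule)

include K L in
/-- `A` is N-2 when `B` is. -/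
theorem isN2_of_desc (hinj : Function.Injective (algebraMap A B)) (hB : CAlg.IsN2 B) :
    CAlg.IsN2 A := by
  intro L' _ _ _ _ hfd
  let e : K ≃ₐ[A] FractionRing A := IsLocalization.algEquiv (nonZeroDivisors A) K (FractionRing A)
  letI : Algebra K (FractionRing A) := e.toAlgHom.toRingHom.toAlgebra
  letI : Algebra K L' :=
    ((algebraMap (FractionRing A) L').comp (algebraMap K (FractionRing A))).toAlgebra
  haveI : IsScalarTower K (FractionRing A) L' := IsScalarTower.of_algebraMap_eq (fun _ => rfl)
  haveI : Module.Finite K (FractionRing A) :=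
    Module.Finite.of_surjective (Algebra.linearMap K (FractionRing A)) e.surjective
  haveI : Module.Finite K L' := Module.Finite.trans (FractionRing A) L'
  haveI : IsScalarTower A K L' := by
    refine IsScalarTower.of_algebraMap_eq (R := A) (S := K) (A := L') (fun a => ?_)
    show algebraMap A L' a = algebraMap (FractionRing A) L' (e (algebraMap A K a))
    rw [e.commutes, ← IsScalarTower.algebraMap_apply]
  exact finite_integralClosure_of_desc A B K L hinj hB L'

include K L in
/-- Main theorem: `A` is Nagata when `B` is. -/
theorem isNagata_of_desc (hinj : Function.Injective (algebraMap A B)) (hB : CAlg.IsNagata B) :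
    CAlg.IsNagata A := by
  refine ⟨inferInstance, ?_⟩
  intro p hp
  by_cases hp0 : p = ⊥
  · subst hp0
    have hB' : CAlg.IsN2 B :=
      Groth.Agent.H47.isN2_of_ringEquiv (RingEquiv.quotientBot B) (hB.2 ⊥)
    have hA : CAlg.IsN2 A := isN2_of_desc A B K L hinj hB'
    exact Groth.Agent.H47.isN2_of_ringEquiv (RingEquiv.quotientBot A).symm hA
  · have hmax : p.IsMaximal := hp.isMaximal hp0
    exact isN2_of_isField _ ((Ideal.Quotient.maximal_ideal_iff_isField_quotient p).mp hmax)

end Groth.Agent.H10.NagataDesc
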