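import Mathlib

set_option autoImplicit false
set_option linter.style.haveILetI false

/-!
# Rings all of whose ideals are flat (weak dimension ≤ 1)
-/

namespace Groth.Agent.H10

universe u

section LocalFree

variable (B : Type*) [CommRing B] [IsLocalRing B]

/-- a free ideal has a basis with at most one element. -/
theorem subsingleton_index_of_basis_ideal {ι : Type*} (J : Ideal B) (b : Module.Basis ι B J) :
    Subsingleton ι := by
  refine ⟨fun i j => ?_⟩
  by_contra hij
  have hrel : ((b j : J) : B) • b i - ((b i : J) : B) • b j = 0 := by
    apply Subtype.ext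
    simp only [Submodule.coe_sub, Submodule.coe_smul, smul_eq_mul, Submodule.coe_zero]
    ring
  have h1 := congrArg (fun v => b.repr v i) hrel
  simp only [map_sub, map_smul, Module.Basis.repr_self, Finsupp.coe_sub, Finsupp.coe_smul,
    Pi.sub_apply, Pi.smul_apply, Finsupp.single_eq_same, smul_eq_mul, mul_one, map_zero,
    Finsupp.coe_zero, Pi.zero_apply] at h1
  rw [Finsupp.single_eq_of_ne hij, mul_zero, sub_zero] at h1
  exact b.ne_zero j (Subtype.ext h1)

variable {B}

theorem isDomain_and_isBezout_of_fg_flat (h : ∀ J : Ideal B, J.FG → Module.Flat B J) :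
    IsDomain B ∧ IsBezout B := by
  have hfree : ∀ J : Ideal B, J.FG → Module.Free B J := by
    intro J hJ
    haveI := h J hJ
    haveI : Module.Finite B J := Module.Finite.iff_fg.2 hJ
    exact Module.free_of_flat_of_isLocalRing
  constructor
  · haveI : NoZeroDivisors B := by
      refine ⟨fun {y x} hyx => ?_⟩
      by_cases hx : x = 0
      · exact Or.inr hx
      left
      have hJ : (Ideal.span {x}).FG := ⟨{x}, by simp⟩
      haveI := hfree _ hJ
      let b := Module.Free.chooseBasis B (Ideal.span {x})
      have hne : Nonempty (Module.Free.ChooseBasisIndex B (Ideal.span {x})) := by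
        by_contra hemp
        rw [not_nonempty_iff] at hemp
        have hsub : Subsingleton (Ideal.span {x}) := b.repr.toEquiv.subsingleton
        have : (⟨x, Ideal.mem_span_singleton_self x⟩ : Ideal.span {x}) = 0 := Subsingleton.elim _ _
        exact hx (congrArg Subtype.val this)
      obtain ⟨i⟩ := hne
      obtain ⟨r, hr⟩ := Ideal.mem_span_singleton'.1 (b i).2
      have h0 : y • b i = 0 := by
        apply Subtype.ext
        simp only [Submodule.coe_smul, smul_eq_mul, Submodule.coe_zero]
        rw [← hr]
        calc y * (r * x) = r * (y * x) := by ring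
          _ = 0 := by rw [hyx, mul_zero]
      have h1 := congrArg (fun v => b.repr v i) h0
      simpa using h1
    exact NoZeroDivisors.to_isDomain B
  · refine ⟨fun J hJ => ?_⟩
    haveI := hfree J hJ
    let b := Module.Free.chooseBasis B J
    haveI := subsingleton_index_of_basis_ideal B J b
    rcases isEmpty_or_nonempty (Module.Free.ChooseBasisIndex B J) with hemp | ⟨⟨i⟩⟩
    · have hsub : Subsingleton J := b.repr.toEquiv.subsingleton
      have : J = ⊥ := by
        rw [eq_bot_iff]
        intro x hx
        have : (⟨x, hx⟩ : J) = 0 := Subsingleton.elim _ _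
        exact congrArg Subtype.val this
      rw [this]
      exact bot_isPrincipal
    · refine ⟨⟨(b i : B), ?_⟩⟩
      apply le_antisymm
      · intro x hx
        have hx' := b.linearCombination_repr ⟨x, hx⟩
        have hsingle : b.repr ⟨x, hx⟩ = Finsupp.single i (b.repr ⟨x, hx⟩ i) := by
          ext j
          rw [Subsingleton.elim j i, Finsupp.single_eq_same]
        rw [hsingle, Finsupp.linearCombination_single] at hx'
        have := congrArg Subtype.val hx'
        simp only [Submodule.coe_smul, smul_eq_mul] at this
        rw [← this]
        exact Ideal.mul_mem_left _ _ (Ideal.mem_span_singleton_self _)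
      · rw [Ideal.submodule_span_eq, Ideal.span_singleton_le_iff_mem]
        exact (b i).2

end LocalFree

section Localize

variable (A : Type u) [CommRing A]

/-- finitely generated ideals of a localization are localizations of finitely generated ideals. -/
theorem flat_fg_ideal_localization (h2 : ∀ I : Ideal A, I.FG → Module.Flat A I)
    (p : Ideal A) [p.IsPrime] (J : Ideal (Localization.AtPrime p)) (hJ : J.FG) :
    Module.Flat (Localization.AtPrime p) J := by
  classical
  let S := p.primeCompl
  let Ap := Localization.AtPrime p
  obtain ⟨s, hs⟩ := hJ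
  have hnum : ∀ x : Ap, ∃ (a : A) (d : S), x * algebraMap A Ap d = algebraMap A Ap a := by
    intro x
    obtain ⟨a, d, had⟩ := IsLocalization.exists_mk'_eq S x
    exact ⟨a, d, by rw [← had, IsLocalization.mk'_spec]⟩
  choose a d had using hnum
  let I : Ideal A := Ideal.span ((s.image a : Finset A) : Set A)
  have hI : I.FG := ⟨s.image a, rfl⟩
  have hJI : (J : Submodule Ap Ap) = I.localized' Ap S (Algebra.linearMap A Ap) := by
    have h1 : (I : Submodule A A) = Submodule.span A ((s.image a : Finset A) : Set A) := rfl
    rw [h1, Submodule.localized'_span, ← hs]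
    apply le_antisymm
    · rw [Submodule.span_le]
      intro x hx
      have hu : IsUnit (algebraMap A Ap (d x)) := IsLocalization.map_units Ap (d x)
      obtain ⟨u, hu'⟩ := hu
      have : x = (↑u⁻¹ : Ap) • algebraMap A Ap (a x) := by
        rw [← had x, ← hu', smul_eq_mul, mul_comm, mul_assoc, Units.mul_inv, mul_one]
      rw [this]
      refine Submodule.smul_mem _ _ (Submodule.subset_span ⟨a x, ?_, rfl⟩)
      exact Finset.mem_coe.2 (Finset.mem_image_of_mem a (Finset.mem_coe.1 hx))
    · rw [Submodule.span_le]
      rintro _ ⟨y, hy, rfl⟩
      obtain ⟨x, hx, rfl⟩ := Finset.mem_image.1 (Finset.mem_coe.1 hy)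
      change algebraMap A Ap (a x) ∈ _
      rw [← had x, mul_comm]
      exact Submodule.smul_mem _ _ (Submodule.subset_span (Finset.mem_coe.2 hx))
  haveI : Module.Flat A I := h2 I hI
  have hflat : Module.Flat Ap (I.localized' Ap S (Algebra.linearMap A Ap)) :=
    Module.Flat.of_isLocalizedModule Ap S (I.toLocalized' Ap S (Algebra.linearMap A Ap))
  have e : (I.localized' Ap S (Algebra.linearMap A Ap)) ≃ₗ[Ap] J :=
    LinearEquiv.ofEq _ _ hJI.symm
  exact Module.Flat.of_linearEquiv e.symm

end Localize

section Sub

variable (A : Type u) [CommRing A]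

theorem flat_submodule_of_valuation_localizations
    (h4 : ∀ (p : Ideal A) [p.IsPrime], ∃ _ : IsDomain (Localization.AtPrime p),
      ValuationRing (Localization.AtPrime p))
    (M : Type u) [AddCommGroup M] [Module A M] [Module.Flat A M] (N : Submodule A M) :
    Module.Flat A N := by
  apply Module.flat_of_localized_maximal
  intro P hP
  obtain ⟨hdom, hval⟩ := h4 P
  have hinj : Function.Injective (LocalizedModule.map P.primeCompl N.subtype) :=
    LocalizedModule.map_injective _ _ N.injective_subtype
  have htorM : Submodule.torsion (Localization.AtPrime P) (LocalizedModule P.primeCompl M) = ⊥ :=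
    Module.Flat.torsion_eq_bot
  have htorN : Submodule.torsion (Localization.AtPrime P) (LocalizedModule P.primeCompl N) = ⊥ := by
    rw [eq_bot_iff]
    intro x hx
    rw [Submodule.mem_torsion_iff] at hx
    obtain ⟨a, ha⟩ := hx
    have hmem : LocalizedModule.map P.primeCompl N.subtype x ∈
        Submodule.torsion (Localization.AtPrime P) (LocalizedModule P.primeCompl M) := by
      rw [Submodule.mem_torsion_iff]
      refine ⟨a, ?_⟩
      have ha' : (a : Localization.AtPrime P) • x = 0 := ha
      change (a : Localization.AtPrime P) • LocalizedModule.map P.primeCompl N.subtype x = 0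
      rw [← map_smul, ha', map_zero]
    rw [htorM] at hmem
    exact hinj (by rw [(Submodule.mem_bot _).1 hmem, map_zero])
  haveI : Module.Flat (Localization.AtPrime P) (LocalizedModule P.primeCompl N) :=
    Module.Flat.flat_iff_torsion_eq_bot_of_isBezout.2 htorN
  exact Module.Flat.trans A (Localization.AtPrime P) _

theorem weakDimOne_tfae :
    List.TFAE [∀ I : Ideal A, Module.Flat A I,
      ∀ I : Ideal A, I.FG → Module.Flat A I,
      ∀ (M : Type u) [AddCommGroup M] [Module A M], Module.Flat A M →
        ∀ N : Submodule A M, Module.Flat A N,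
      ∀ (p : Ideal A) [p.IsPrime], ∃ _ : IsDomain (Localization.AtPrime p),
        ValuationRing (Localization.AtPrime p)] := by
  tfae_have 1 → 2 := fun h I _ => h I
  tfae_have 2 → 4 := by
    intro h2 p hp
    obtain ⟨hdom, hbez⟩ := isDomain_and_isBezout_of_fg_flat
      (B := Localization.AtPrime p) (flat_fg_ideal_localization A h2 p)
    exact ⟨hdom, inferInstance⟩
  tfae_have 4 → 3 := by
    intro h4 M _ _ hM N
    exact flat_submodule_of_valuation_localizations A h4 M N
  tfae_have 3 → 1 := by
    intro h3 I
    exact h3 A inferInstance I
  tfae_finish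

end Sub

end Groth.Agent.H10
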