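import Mathlib
import Groth.Agent.H10.WeakDimOne

set_option autoImplicit false
set_option linter.style.haveILetI false

/-!
# Products of valuation rings: weak dimension ≤ 1 and total ring of fractions
-/
universe u
namespace Groth.Agent.H10

theorem flat_span_singleton_of_idempotent_ker {P : Type*} [CommRing P] (g e : P)
    (he : IsIdempotentElem e) (hker : ∀ x : P, x * g = 0 ↔ x ∈ Ideal.span {e}) :
    Module.Flat P (Ideal.span {g} : Ideal P) := by
  let f : P →ₗ[P] P := LinearMap.toSpanSingleton P P g
  have hr : LinearMap.range f = (Ideal.span {g} : Ideal P) := by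
    rw [LinearMap.range_toSpanSingleton]
  have hk : LinearMap.ker f = (Ideal.span {e} : Ideal P) := by
    ext x
    rw [LinearMap.mem_ker]
    change x • g = 0 ↔ _
    rw [smul_eq_mul]
    exact hker x
  have hpure : (Ideal.span {e} : Ideal P).Pure := by
    apply Ideal.Pure.of_isIdempotentElem ⟨{e}, by simp⟩
    change Ideal.span {e} * Ideal.span {e} = Ideal.span {e}
    rw [Ideal.span_singleton_mul_span_singleton, he.eq]
  have hflat : Module.Flat P (P ⧸ (Ideal.span {e} : Ideal P)) := hpure
  have e1 : (P ⧸ LinearMap.ker f) ≃ₗ[P] LinearMap.range f := f.quotKerEquivRange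
  have e2 : (P ⧸ LinearMap.ker f) ≃ₗ[P] (P ⧸ (Ideal.span {e} : Ideal P)) :=
    Submodule.quotEquivOfEq _ _ hk
  have e3 : LinearMap.range f ≃ₗ[P] (Ideal.span {g} : Ideal P) := LinearEquiv.ofEq _ _ hr
  exact Module.Flat.of_linearEquiv ((e3.symm.trans e1.symm).trans e2)

section Pi

variable {J : Type*} (A : J → Type*) [∀ j, CommRing (A j)] [∀ j, IsDomain (A j)]

/-- principal ideals of a product of domains are flat. -/
theorem flat_span_singleton_pi_domain (g : ∀ j, A j) :
    Module.Flat (∀ j, A j) (Ideal.span {g} : Ideal (∀ j, A j)) := by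
  classical
  let e : ∀ j, A j := fun j => if g j = 0 then 1 else 0
  have he : IsIdempotentElem e := by
    funext j
    change e j * e j = e j
    by_cases h : g j = 0 <;> simp [e, h]
  refine flat_span_singleton_of_idempotent_ker g e he fun x => ?_
  rw [Ideal.mem_span_singleton']
  constructor
  · intro hx
    refine ⟨x, ?_⟩
    funext j
    have hj : x j * g j = 0 := congrFun hx j
    change x j * e j = x j
    by_cases h : g j = 0
    · simp [e, h]
    · have : x j = 0 := (mul_eq_zero.1 hj).resolve_right h
      simp [e, h, this]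
  · rintro ⟨a, rfl⟩
    funext j
    change a j * e j * g j = 0
    by_cases h : g j = 0
    · simp [h]
    · simp [e, h]

variable [∀ j, ValuationRing (A j)]

theorem isBezout_pi_valuationRing : IsBezout (∀ j, A j) := by
  classical
  rw [IsBezout.iff_span_pair_isPrincipal]
  intro x y
  have hc : ∀ j, ∃ c : A j, ¬ x j ∣ y j → x j = c * y j := by
    intro j
    by_cases h : x j ∣ y j
    · exact ⟨0, fun h' => absurd h h'⟩
    · obtain ⟨c, hc⟩ := (ValuationRing.dvd_total (x j) (y j)).resolve_left h
      exact ⟨c, fun _ => by rw [hc, mul_comm]⟩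
  have hd : ∀ j, ∃ d : A j, x j ∣ y j → y j = d * x j := by
    intro j
    by_cases h : x j ∣ y j
    · obtain ⟨d, hd⟩ := h
      exact ⟨d, fun _ => by rw [hd, mul_comm]⟩
    · exact ⟨0, fun h' => absurd h' h⟩
  choose c hc using hc
  choose d hd using hd
  let g : ∀ j, A j := fun j => if x j ∣ y j then x j else y j
  refine ⟨⟨g, ?_⟩⟩
  change Ideal.span {x, y} = Ideal.span {g}
  apply le_antisymm
  · rw [Ideal.span_le]
    intro z hz
    rcases hz with rfl | hz
    · refine Ideal.mem_span_singleton'.2 ⟨fun j => if z j ∣ y j then 1 else c j, ?_⟩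
      funext j
      change (if z j ∣ y j then 1 else c j) * g j = z j
      by_cases h : z j ∣ y j
      · simp [g, h]
      · simp only [g, h, if_false]
        exact (hc j h).symm
    · have hz' : z = y := hz
      subst hz'
      refine Ideal.mem_span_singleton'.2 ⟨fun j => if x j ∣ z j then d j else 1, ?_⟩
      funext j
      change (if x j ∣ z j then d j else 1) * g j = z j
      by_cases h : x j ∣ z j
      · simp only [g, h, if_true]
        exact (hd j h).symm
      · simp [g, h]
  · rw [Ideal.span_le]
    intro z hz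
    have hz' : z = g := hz
    subst hz'
    have : g = (fun j => if x j ∣ y j then (1 : A j) else 0) * x
        + (fun j => if x j ∣ y j then (0 : A j) else 1) * y := by
      funext j
      change g j = (if x j ∣ y j then (1 : A j) else 0) * x j
        + (if x j ∣ y j then (0 : A j) else 1) * y j
      by_cases h : x j ∣ y j <;> simp [g, h]
    rw [this]
    exact Ideal.add_mem _ (Ideal.mul_mem_left _ _ (Ideal.subset_span (by simp)))
      (Ideal.mul_mem_left _ _ (Ideal.subset_span (by simp)))

end Pi

theorem flat_ideal_pi_valuationRing {J : Type u} (A : J → Type u) [∀ j, CommRing (A j)]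
    [∀ j, IsDomain (A j)] [∀ j, ValuationRing (A j)] (I : Ideal (∀ j, A j)) :
    Module.Flat (∀ j, A j) I := by
  have h2 : ∀ I : Ideal (∀ j, A j), I.FG → Module.Flat (∀ j, A j) I := by
    intro I hI
    haveI := isBezout_pi_valuationRing A
    obtain ⟨⟨g, hg⟩⟩ := IsBezout.isPrincipal_of_FG I hI
    have hg' : I = Ideal.span {g} := hg
    rw [hg']
    exact flat_span_singleton_pi_domain A g
  have h := (weakDimOne_tfae (∀ j, A j)).out 1 0
  exact h.1 h2 I

theorem isLocalization_pi_fractionRing {J : Type*} (A : J → Type*) [∀ j, CommRing (A j)]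
    [∀ j, IsDomain (A j)] (K : J → Type*) [∀ j, Field (K j)] [∀ j, Algebra (A j) (K j)]
    [∀ j, IsFractionRing (A j) (K j)] :
    IsLocalization (nonZeroDivisors (∀ j, A j)) (∀ j, K j) := by
  classical
  have hnz : ∀ s : ∀ j, A j, s ∈ nonZeroDivisors (∀ j, A j) ↔ ∀ j, s j ≠ 0 := by
    intro s
    constructor
    · intro hs j hj
      have h1 : (Pi.single j (1 : A j) : ∀ j, A j) * s = 0 := by
        funext i
        by_cases hij : i = j
        · subst hij
          simp [hj]
        · simp [Pi.single_eq_of_ne hij]
      have h2 := (mem_nonZeroDivisors_iff.1 hs).2 _ h1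
      have := congrFun h2 j
      simp at this
    · intro hs
      rw [mem_nonZeroDivisors_iff]
      constructor
      · intro x hx
        funext j
        have := congrFun hx j
        exact (mul_eq_zero.1 this).resolve_left (hs j)
      · intro x hx
        funext j
        have := congrFun hx j
        exact (mul_eq_zero.1 this).resolve_right (hs j)
  have halg : ∀ (x : ∀ j, A j) (j : J), algebraMap (∀ j, A j) (∀ j, K j) x j
      = algebraMap (A j) (K j) (x j) := fun x j => rfl
  rw [isLocalization_iff]
  refine ⟨?_, ?_, ?_⟩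
  · intro s
    rw [Pi.isUnit_iff]
    intro j
    rw [halg]
    have := (hnz _).1 s.2 j
    exact IsUnit.mk0 _ (by
      rwa [Ne, IsFractionRing.to_map_eq_zero_iff])
  · intro z
    have : ∀ j, ∃ x : A j × A j, x.2 ≠ 0 ∧ z j * algebraMap (A j) (K j) x.2
        = algebraMap (A j) (K j) x.1 := by
      intro j
      obtain ⟨⟨a, s⟩, h⟩ := IsLocalization.surj (nonZeroDivisors (A j)) (z j)
      exact ⟨⟨a, s⟩, nonZeroDivisors.ne_zero s.2, h⟩
    choose x hx0 hx using this
    refine ⟨⟨fun j => (x j).1, ⟨fun j => (x j).2, (hnz _).2 hx0⟩⟩, ?_⟩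
    funext j
    exact hx j
  · intro x y hxy
    refine ⟨1, ?_⟩
    have : x = y := by
      funext j
      have := congrFun hxy j
      rw [halg, halg] at this
      exact IsFractionRing.injective (A j) (K j) this
    rw [this]

end Groth.Agent.H10
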