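import Mathlib
import Groth.Agent.H10.PiValuation

set_option autoImplicit false
set_option linter.style.haveILetI false
universe u
open CategoryTheory

namespace Groth.Agent.H10

theorem range_isIntegrallyClosedIn (A K : Type*) [CommRing A] [IsDomain A] [Field K] [Algebra A K]
    [IsFractionRing A K] [IsIntegrallyClosed A] :
    IsIntegrallyClosedIn (algebraMap A K).range K := by
  rw [Subring.isIntegrallyClosedIn_iff]
  intro x hx
  letI : Algebra A (algebraMap A K).range := (algebraMap A K).rangeRestrict.toAlgebra
  haveI : IsScalarTower A (algebraMap A K).range K := IsScalarTower.of_algebraMap_eq (fun a => rfl)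
  haveI : Algebra.IsIntegral A (algebraMap A K).range :=
    Algebra.isIntegral_of_surjective (algebraMap A K).rangeRestrict_surjective
  have h1 : IsIntegral A x := isIntegral_trans x hx
  obtain ⟨y, hy⟩ := (isIntegrallyClosed_iff K).1 inferInstance h1
  exact ⟨y, hy⟩

/-- A normal domain is the fibre product of a product of valuation rings with its fraction
field over a product of copies of the fraction field. -/
theorem exists_cartesian (A K : Type u) [CommRing A] [IsDomain A] [Field K] [Algebra A K]
    [IsFractionRing A K] [IsIntegrallyClosed A] :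
    ∃ (V L : Type u) (_ : CommRing V) (_ : CommRing L) (f : A →+* V) (g : V →+* L) (h : K →+* L),
      g.comp f = h.comp (algebraMap A K) ∧
      (∀ I : Ideal V, Module.Flat V I) ∧ g.Flat ∧ Function.Injective g ∧ Epi (CommRingCat.ofHom g) ∧
      ∀ (v : V) (k : K), g v = h k → ∃! a : A, f a = v ∧ algebraMap A K a = k := by
  classical
  set R₀ : Subring K := (algebraMap A K).range with hR₀
  haveI : IsIntegrallyClosedIn R₀ K := range_isIntegrallyClosedIn A K
  let J : Type u := {V : ValuationSubring K // R₀ ≤ V.toSubring}
  let f : A →+* (∀ j : J, ↥j.1) := RingHom.pi (fun j =>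
    (algebraMap A K).codRestrict j.1.toSubring (fun a => j.2 ⟨a, rfl⟩))
  let g : (∀ j : J, ↥j.1) →+* (J → K) := algebraMap (∀ j : J, ↥j.1) (J → K)
  let h : K →+* (J → K) := RingHom.pi (fun _ => RingHom.id K)
  haveI hloc : IsLocalization (nonZeroDivisors (∀ j : J, ↥j.1)) (J → K) :=
    isLocalization_pi_fractionRing (fun j : J => ↥j.1) (fun _ => K)
  refine ⟨(∀ j : J, ↥j.1), (J → K), inferInstance, inferInstance, f, g, h, ?_, ?_, ?_, ?_, ?_, ?_⟩
  · ext a
    rfl
  · intro I
    exact flat_ideal_pi_valuationRing (fun j : J => ↥j.1) I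
  · rw [RingHom.flat_algebraMap_iff]
    exact IsLocalization.flat _ (nonZeroDivisors (∀ j : J, ↥j.1))
  · exact IsLocalization.injective _ (le_refl _)
  · exact IsLocalization.epi (nonZeroDivisors (∀ j : J, ↥j.1)) (J → K)
  · intro v k hvk
    have hk : ∀ j : J, k ∈ j.1.toSubring := by
      intro j
      have := congrFun hvk j
      have h2 : ((v j : ↥j.1) : K) = k := this
      rw [← h2]
      exact (v j).2
    have hkR : k ∈ R₀ := by
      rw [Subring.eq_iInf_of_isIntegrallyClosedIn (R := R₀)]
      rw [Subring.mem_iInf]
      exact hk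
    obtain ⟨a, ha⟩ := hkR
    refine ⟨a, ⟨?_, ha⟩, ?_⟩
    · funext j
      apply Subtype.ext
      have := congrFun hvk j
      have h2 : ((v j : ↥j.1) : K) = k := this
      rw [h2, ← ha]
      rfl
    · rintro b ⟨_, hb⟩
      exact IsFractionRing.injective A K (hb.trans ha.symm)

end Groth.Agent.H10
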