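import Mathlib
import Groth.Agent.H10.Len1
import Groth.Agent.H44.AdicLemmas
import Groth.Agent.H54.Dim
import Groth.Agent.H61.PSDim
import Groth.Agent.H61.PSComplete
import Groth.Agent.H76.WildCoprod
import Groth.Agent.H96.CohenFinite

/-!
# A complete regular local ring is finite free over the power series ring on a system of parameters
-/

set_option autoImplicit false

namespace Groth.Agent.H10.PSFree

open IsLocalRing TensorProduct

universe u v

section Free

variable {R : Type u} [CommRing R] {M : Type v} [AddCommGroup M] [Module R M]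

/-- length of `M / J M` for a finite free module `M` (universe polymorphic). -/
theorem length_quot_smul_top [Module.Free R M] [Module.Finite R M] [Nontrivial R] (J : Ideal R) :
    Module.length R (M ⧸ (J • ⊤ : Submodule R M)) =
      (Module.finrank R M : ℕ∞) * Module.length R (R ⧸ J) := by
  classical
  let bs := Module.Free.chooseBasis R M
  let e : (M ⧸ (J • ⊤ : Submodule R M)) ≃ₗ[R] (Module.Free.ChooseBasisIndex R M → R ⧸ J) :=
    (quotTensorEquivQuotSMul M J).symm ≪≫ₗ
      (TensorProduct.congr (LinearEquiv.refl R (R ⧸ J)) bs.equivFun) ≪≫ₗ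
      TensorProduct.piScalarRight R R (R ⧸ J) (Module.Free.ChooseBasisIndex R M)
  rw [e.length_eq, Module.length_pi, ENat.card_eq_coe_fintype_card,
    Module.finrank_eq_card_chooseBasisIndex]

theorem length_quot_maximalIdeal [IsLocalRing R] :
    Module.length R (R ⧸ maximalIdeal R) = 1 := by
  rw [Module.length_eq_of_surjective (S := R) (R := R ⧸ maximalIdeal R)
    (M := R ⧸ maximalIdeal R) Ideal.Quotient.mk_surjective]
  letI : Field (R ⧸ maximalIdeal R) := Ideal.Quotient.field _
  rw [Module.length_eq_finrank, Module.finrank_self]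
  rfl

end Free

section Injective

variable {P : Type v} {A : Type u} [CommRing P] [IsDomain P] [CommRing A] [Algebra P A]
  [Module.Finite P A]

theorem injective_of_dim (d : ℕ) (hP : ringKrullDim P ≤ d)
    (hA : (d : WithBot ℕ∞) ≤ ringKrullDim A) : Function.Injective (algebraMap P A) := by
  rw [injective_iff_map_eq_zero]
  intro x hx
  by_contra hx0
  have hxnzd : x ∈ nonZeroDivisors P := mem_nonZeroDivisors_of_ne_zero hx0
  have h1 : ringKrullDim (P ⧸ Ideal.span {x}) + 1 ≤ ringKrullDim P :=
    ringKrullDim_quotient_succ_le_of_nonZeroDivisor hxnzd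
  let ψ' : P ⧸ Ideal.span {x} →+* A := Ideal.Quotient.lift _ (algebraMap P A) (by
    intro a ha
    obtain ⟨c, rfl⟩ := Ideal.mem_span_singleton'.1 ha
    rw [map_mul, hx, mul_zero])
  letI : Algebra (P ⧸ Ideal.span {x}) A := ψ'.toAlgebra
  haveI : IsScalarTower P (P ⧸ Ideal.span {x}) A := IsScalarTower.of_algebraMap_eq (fun a => by
    change algebraMap P A a = ψ' (Ideal.Quotient.mk _ a)
    rw [Ideal.Quotient.lift_mk])
  haveI : Module.Finite (P ⧸ Ideal.span {x}) A :=
    Module.Finite.of_restrictScalars_finite P _ _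
  have h2 : ringKrullDim A ≤ ringKrullDim (P ⧸ Ideal.span {x}) :=
    Groth.Agent.H54.ringKrullDim_le_of_isIntegral
  have h3 : (d : WithBot ℕ∞) + 1 ≤ d :=
    (add_le_add_left (hA.trans h2) 1).trans (h1.trans hP)
  have h4 : ((d + 1 : ℕ) : WithBot ℕ∞) ≤ ((d : ℕ) : WithBot ℕ∞) := by
    push_cast
    exact h3
  have h5 : d + 1 ≤ d := by exact_mod_cast h4
  omega

end Injective

end Groth.Agent.H10.PSFree
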