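import Mathlib
import Groth.Agent.H10.PSFree1

set_option autoImplicit false

namespace Groth.Agent.H10.PSFree

open IsLocalRing MvPowerSeries

universe u v

theorem main (A : Type u) [CommRing A] [IsRegularLocalRing A]
    [IsAdicComplete (maximalIdeal A) A] (n : ℕ) (hn : ringKrullDim A = n)
    (k : Type v) [Field k] [Algebra k A]
    (hk : Function.Surjective (residue A ∘ algebraMap k A))
    (x : Fin n → A) (hx : (Ideal.span (Set.range x)).radical = maximalIdeal A)
    (φ : MvPowerSeries (Fin n) k →ₐ[k] A) (hφ : ∀ i, φ (MvPowerSeries.X i) = x i) :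
    ∃ (d : ℕ) (b : Fin d → A), (d : ℕ∞) = Module.length A (A ⧸ Ideal.span (Set.range x)) ∧
      Function.Bijective (fun r : Fin d → MvPowerSeries (Fin n) k => ∑ i, φ (r i) * b i) := by
  classical
  let P := MvPowerSeries (Fin n) k
  let J : Ideal A := Ideal.span (Set.range x)
  have hJm : J ≤ maximalIdeal A := hx ▸ Ideal.le_radical
  obtain ⟨N, hN⟩ := Ideal.exists_radical_pow_le_of_fg J (IsNoetherian.noetherian _)
  rw [hx] at hN
  -- residue condition over `k`
  have hresk : ∀ a : A, ∃ c : k, a - algebraMap k A c ∈ maximalIdeal A := by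
    intro a
    obtain ⟨c, hc⟩ := hk (residue A a)
    refine ⟨c, ?_⟩
    rw [← Ideal.Quotient.eq_zero_iff_mem]
    have : residue A (algebraMap k A c) = residue A a := hc
    change residue A (a - algebraMap k A c) = 0
    rw [map_sub, this, sub_self]
  -- `A/J` is finite over `k`
  have hfinJ : Module.Finite k (A ⧸ J) := by
    haveI := Groth.Agent.H96.CohenFinite.isArtinianRing_quotient J hN
    have h1 : Module.length A (A ⧸ J) ≠ ⊤ := by
      rw [Module.length_eq_of_surjective (S := A) (R := A ⧸ J) (M := A ⧸ J)
        Ideal.Quotient.mk_surjective]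
      exact Module.length_ne_top
    rw [Groth.Agent.H10.Len.length_eq_of_local hresk (A ⧸ J)] at h1
    rw [Module.length_ne_top_iff, isFiniteLength_iff_isNoetherian_isArtinian] at h1
    haveI := h1.1
    infer_instance
  -- algebra structure
  letI : Algebra P A := φ.toRingHom.toAlgebra
  have halg : ∀ g : P, algebraMap P A g = φ g := fun g => rfl
  haveI : IsScalarTower k P A := IsScalarTower.of_algebraMap_eq (fun c => by
    rw [halg]; exact (φ.commutes c).symm)
  have hmP : maximalIdeal P = Ideal.span (Set.range (X : Fin n → P)) :=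
    Groth.Agent.H61.maximalIdeal_ps_eq_span_X k n
  have hmap : (maximalIdeal P).map (algebraMap P A) = J := by
    rw [hmP, Ideal.map_span, ← Set.range_comp]
    congr 2
    funext i
    exact hφ i
  have hsmul : ∀ j : ℕ, ((maximalIdeal P) ^ j • ⊤ : Submodule P A) =
      (J ^ j).restrictScalars P := fun j => by
    rw [Ideal.smul_top_eq_map, Ideal.map_pow, hmap]
  haveI : IsHausdorff (maximalIdeal P) A := by
    refine ⟨fun y hy => ?_⟩
    apply IsHausdorff.haus (I := maximalIdeal A) inferInstance
    intro j
    have := hy j
    rw [SModEq.zero, hsmul j] at this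
    rw [SModEq.zero, smul_eq_mul, Ideal.mul_top]
    exact Ideal.pow_right_mono hJm j this
  haveI : IsAdicComplete (maximalIdeal k) k := by
    rw [IsLocalRing.maximalIdeal_eq_bot]
    infer_instance
  haveI : IsAdicComplete (maximalIdeal P) P := Groth.Agent.H61.ps_isAdicComplete n
  have h1J : (maximalIdeal P • ⊤ : Submodule P A) = J.restrictScalars P := by
    have := hsmul 1
    rwa [pow_one, pow_one] at this
  have hfinq : Module.Finite P (A ⧸ (maximalIdeal P • ⊤ : Submodule P A)) := by
    haveI : Module.Finite P (A ⧸ J) := Module.Finite.of_restrictScalars_finite k P (A ⧸ J)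
    haveI : Module.Finite P (A ⧸ J.restrictScalars P) :=
      Module.Finite.equiv (Submodule.Quotient.restrictScalarsEquiv P J).symm
    exact Module.Finite.equiv (Submodule.quotEquivOfEq _ _ h1J.symm)
  haveI hfin : Module.Finite P A :=
    Groth.Agent.H44.finite_of_finite_quotient (maximalIdeal P) A hfinq
  haveI : IsDomain P := NoZeroDivisors.to_isDomain _
  have hinj : Function.Injective (algebraMap P A) :=
    injective_of_dim n (Groth.Agent.H61.ringKrullDim_ps k n).le hn.ge
  haveI : Module.Free P A := Groth.Agent.H76.WildCoprod.free_of_regular_finite P A hinj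
  -- the basis
  let bs := Module.finBasis P A
  refine ⟨Module.finrank P A, bs, ?_, ?_⟩
  · -- length
    have hresP : ∀ a : A, ∃ r : P, a - algebraMap P A r ∈ maximalIdeal A := by
      intro a
      obtain ⟨c, hc⟩ := hresk a
      refine ⟨MvPowerSeries.C c, ?_⟩
      have : algebraMap P A (MvPowerSeries.C c) = algebraMap k A c := by
        rw [halg]
        exact φ.commutes c
      rw [this]; exact hc
    rw [Groth.Agent.H10.Len.length_eq_of_local hresP (A ⧸ J),
      ← (Submodule.Quotient.restrictScalarsEquiv P J).length_eq, ← h1J,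
      length_quot_smul_top, length_quot_maximalIdeal, mul_one]
  · have : (fun r : Fin (Module.finrank P A) → P => ∑ i, φ (r i) * bs i) =
        fun r => bs.equivFun.symm r := by
      funext r
      rw [Module.Basis.equivFun_symm_apply]
      refine Finset.sum_congr rfl fun i _ => ?_
      rw [Algebra.smul_def, halg]
    rw [this]
    exact bs.equivFun.symm.bijective

end Groth.Agent.H10.PSFree
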