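import Mathlib

namespace Groth.Agent.H10.PSInter

open MvPowerSeries

variable {k : Type*} [Field k] {σ : Type*}

/-- power series with all coefficients in the subfield `E` -/
def coeffSet (σ : Type*) (E : Subfield k) : Set (MvPowerSeries σ k) := {f | ∀ n, coeff n f ∈ E}

/-- the subring of power series with coefficients in `E` -/
noncomputable def coeffSubring (σ : Type*) (E : Subfield k) : Subring (MvPowerSeries σ k) :=
  (MvPowerSeries.map (σ := σ) E.subtype).range

theorem mem_coeffSubring (E : Subfield k) (f : MvPowerSeries σ k) :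
    f ∈ coeffSubring σ E ↔ ∀ n, coeff n f ∈ E := by
  constructor
  · rintro ⟨g, rfl⟩ n
    rw [coeff_map]
    exact (coeff n g).2
  · intro h
    refine ⟨fun n => ⟨coeff n f, h n⟩, ?_⟩
    ext n
    rw [coeff_map]
    rfl

theorem coe_coeffSubring (E : Subfield k) :
    (coeffSubring σ E : Set (MvPowerSeries σ k)) = {f | ∀ n, coeff n f ∈ E} := by
  ext f
  exact mem_coeffSubring E f

theorem mem_closure_image_iff (E : Subfield k) (x : FractionRing (MvPowerSeries σ k)) :
    x ∈ Subfield.closure (algebraMap (MvPowerSeries σ k) (FractionRing (MvPowerSeries σ k)) ''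
        {f | ∀ n, coeff n f ∈ E}) ↔
      ∃ a b : MvPowerSeries σ k, (∀ n, coeff n a ∈ E) ∧ (∀ n, coeff n b ∈ E) ∧
        algebraMap (MvPowerSeries σ k) (FractionRing (MvPowerSeries σ k)) a /
          algebraMap (MvPowerSeries σ k) (FractionRing (MvPowerSeries σ k)) b = x := by
  rw [Subfield.mem_closure_iff, ← coe_coeffSubring]
  have h1 : Subring.closure (algebraMap (MvPowerSeries σ k) (FractionRing (MvPowerSeries σ k)) ''
      (coeffSubring σ E : Set (MvPowerSeries σ k))) =
      (coeffSubring σ E).map (algebraMap (MvPowerSeries σ k) (FractionRing (MvPowerSeries σ k))) := by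
    rw [← Subring.coe_map, Subring.closure_eq]
  rw [h1]
  constructor
  · rintro ⟨y, ⟨a, ha, rfl⟩, z, ⟨b, hb, rfl⟩, rfl⟩
    exact ⟨a, b, (mem_coeffSubring E a).mp ha, (mem_coeffSubring E b).mp hb, rfl⟩
  · rintro ⟨a, b, ha, hb, rfl⟩
    exact ⟨_, ⟨a, (mem_coeffSubring E a).mpr ha, rfl⟩, _, ⟨b, (mem_coeffSubring E b).mpr hb, rfl⟩, rfl⟩

theorem pow_mem_coeff (p e : ℕ) [ExpChar k p] (E : Subfield k) (hq : ∀ x : k, x ^ p ^ e ∈ E)
    (g : MvPowerSeries σ k) (n : σ →₀ ℕ) : coeff n (g ^ p ^ e) ∈ E := by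
  rw [← map_iterateFrobenius_expand p (expChar_ne_zero k p) g e, coeff_map, iterateFrobenius_def]
  exact hq _

theorem coeff_mem_of_mul_eq (E : Subfield k) (a b h : MvPowerSeries σ k)
    (ha : ∀ n, coeff n a ∈ E) (hb : ∀ n, coeff n b ∈ E) (hb0 : b ≠ 0) (hmul : b * h = a) :
    ∀ n, coeff n h ∈ E := by
  classical
  by_contra hcon
  push Not at hcon
  obtain ⟨n, hn⟩ := hcon
  set c := coeff n h with hc
  have hcW : c ∉ (1 : Submodule E k) := by
    rw [Submodule.mem_one]
    rintro ⟨y, hy⟩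
    apply hn
    rw [← hy]
    exact y.2
  obtain ⟨ℓ, hℓc, hℓW⟩ := Submodule.exists_dual_map_eq_bot_of_notMem hcW inferInstance
  have hℓE : ∀ y : k, y ∈ E → ℓ y = 0 := by
    intro y hy
    have : ℓ y ∈ (1 : Submodule E k).map ℓ := by
      refine ⟨y, ?_, rfl⟩
      rw [SetLike.mem_coe, Submodule.mem_one]
      exact ⟨⟨y, hy⟩, rfl⟩
    rw [hℓW] at this
    simpa using this
  let Lh : MvPowerSeries σ k := fun m => ((ℓ (coeff m h) : E) : k)
  have hLh : ∀ m, coeff m Lh = ((ℓ (coeff m h) : E) : k) := fun m => rfl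
  have hz : b * Lh = 0 := by
    ext m
    rw [coeff_mul, map_zero]
    have h1 : ((ℓ (coeff m a) : E) : k) = 0 := by rw [hℓE _ (ha m)]; rfl
    rw [← hmul, coeff_mul, map_sum] at h1
    rw [← h1]
    push_cast
    apply Finset.sum_congr rfl
    intro uv _
    rw [hLh]
    have : coeff uv.1 b * coeff uv.2 h = (⟨coeff uv.1 b, hb uv.1⟩ : E) • coeff uv.2 h := rfl
    rw [this, map_smul]
    rfl
  rcases mul_eq_zero.mp hz with h0 | h0
  · exact hb0 h0
  · apply hℓc
    have := congrArg (coeff n) h0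
    rw [hLh, map_zero] at this
    exact_mod_cast this

end Groth.Agent.H10.PSInter
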