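import Mathlib
import Groth.Agent.H10.PSInter1

namespace Groth.Agent.H10.PSInter

open MvPowerSeries

theorem main {k : Type*} [Field k] {ι : Type*} [Nonempty ι] (F : ι → Subfield k)
    (e : ℕ) (hq : ∀ x : k, x ^ ringExpChar k ^ e ∈ ⨅ i, F i) (r : ℕ) :
    (⨅ i, Subfield.closure (algebraMap (MvPowerSeries (Fin r) k) (FractionRing (MvPowerSeries (Fin r) k)) ''
        {f | ∀ n, MvPowerSeries.coeff n f ∈ F i})) =
      Subfield.closure (algebraMap (MvPowerSeries (Fin r) k) (FractionRing (MvPowerSeries (Fin r) k)) ''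
        {f | ∀ n, MvPowerSeries.coeff n f ∈ ⨅ i, F i}) := by
  set R := MvPowerSeries (Fin r) k with hR
  set Q := FractionRing R with hQ
  have hinj : Function.Injective (algebraMap R Q) := IsFractionRing.injective R Q
  apply le_antisymm
  · intro x hx
    rw [Subfield.mem_iInf] at hx
    obtain ⟨i₀⟩ := ‹Nonempty ι›
    obtain ⟨a₀, b₀, ha₀, hb₀, hx₀⟩ := (mem_closure_image_iff (F i₀) x).mp (hx i₀)
    rw [mem_closure_image_iff]
    by_cases hb₀0 : b₀ = 0
    · refine ⟨0, 1, fun n => by simp, fun n => ?_, ?_⟩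
      · rw [MvPowerSeries.coeff_one]; split_ifs
        · exact one_mem _
        · exact zero_mem _
      · rw [← hx₀, hb₀0]; simp
    set q := ringExpChar k ^ e with hqdef
    have hq1 : 1 ≤ q := Nat.one_le_pow _ _ (Nat.pos_of_ne_zero (expChar_ne_zero k (ringExpChar k)))
    obtain ⟨w, hw⟩ : ∃ w, w = b₀ ^ q := ⟨_, rfl⟩
    obtain ⟨h, hh⟩ : ∃ h, h = a₀ * b₀ ^ (q - 1) := ⟨_, rfl⟩
    have hw0 : w ≠ 0 := by rw [hw]; exact pow_ne_zero _ hb₀0
    have hwk : ∀ n, coeff n w ∈ ⨅ i, F i := by
      intro n; rw [hw]; exact pow_mem_coeff (ringExpChar k) e _ hq b₀ n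
    have hxw : algebraMap R Q h / algebraMap R Q w = x := by
      rw [← hx₀, hh, hw, map_mul, map_pow, map_pow]
      have hb' : algebraMap R Q b₀ ≠ 0 := fun h0 => hb₀0 (hinj (h0.trans (map_zero _).symm))
      rw [div_eq_div_iff (pow_ne_zero _ hb') hb', mul_assoc, ← pow_succ]
      congr 2
      omega
    refine ⟨h, w, ?_, hwk, hxw⟩
    intro n
    rw [Subfield.mem_iInf]
    intro i
    obtain ⟨a, b, ha, hb, hxi⟩ := (mem_closure_image_iff (F i) x).mp (hx i)
    have hwi : ∀ n, coeff n w ∈ F i := fun n => (Subfield.mem_iInf.mp (hwk n)) i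
    by_cases hb0 : b = 0
    · -- x = 0, so h = 0
      have hx0 : x = 0 := by rw [← hxi, hb0]; simp
      have hw' : algebraMap R Q w ≠ 0 := fun h0 => hw0 (hinj (h0.trans (map_zero _).symm))
      have : algebraMap R Q h = 0 := by
        rw [hx0, div_eq_zero_iff] at hxw
        rcases hxw with h1 | h1
        · exact h1
        · exact absurd h1 hw'
      have hh0 : h = 0 := hinj (this.trans (map_zero _).symm)
      rw [hh0]; simp
    · have hb' : algebraMap R Q b ≠ 0 := fun h0 => hb0 (hinj (h0.trans (map_zero _).symm))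
      have hw' : algebraMap R Q w ≠ 0 := fun h0 => hw0 (hinj (h0.trans (map_zero _).symm))
      have hcross : b * h = a * w := by
        have := hxw.trans hxi.symm
        rw [div_eq_div_iff hw' hb', ← map_mul, ← map_mul] at this
        have h2 := hinj this
        rw [mul_comm]; exact h2
      have haw : ∀ n, coeff n (a * w) ∈ F i := by
        have h1 : a * w ∈ coeffSubring (Fin r) (F i) :=
          mul_mem ((mem_coeffSubring _ _).mpr ha) ((mem_coeffSubring _ _).mpr hwi)
        exact (mem_coeffSubring _ _).mp h1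
      exact coeff_mem_of_mul_eq (F i) (a * w) b h haw hb hb0 hcross n
  · apply le_iInf
    intro i
    apply Subfield.closure_mono
    apply Set.image_mono
    intro f hf n
    exact (Subfield.mem_iInf.mp (hf n)) i

end Groth.Agent.H10.PSInter
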