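import Groth.Agent.H3.Gabber
import Groth.Prelude.Def_Hens2
import Mathlib

set_option autoImplicit false
set_option linter.unusedSectionVars false

/-!
# Henselization of a pair and the Chinese remainder theorem
-/

namespace Groth.Agent.H10

open Polynomial

universe u

section Basics

/-- a product of henselian pairs is henselian (any index type). -/
theorem henselianRing_pi_of_forall {ι : Type*} (A : ι → Type*) [∀ i, CommRing (A i)]
    (I : ∀ i, Ideal (A i)) (h : ∀ i, HenselianRing (A i) (I i)) :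
    HenselianRing (∀ i, A i) (⨅ i, Ideal.comap (Pi.evalRingHom A i) (I i)) := by
  classical
  have hmem : ∀ x : (∀ j, A j), x ∈ (⨅ j, Ideal.comap (Pi.evalRingHom A j) (I j)) ↔
      ∀ j, x j ∈ I j := by
    intro x; simp
  have hev : ∀ (G : (∀ k, A k)[X]) (x : ∀ k, A k) (k : ι),
      (G.eval x) k = (G.map (Pi.evalRingHom A k)).eval (x k) := by
    intro G x k
    rw [eval_map]
    exact (eval₂_hom (Pi.evalRingHom A k) x).symm
  rw [H3.henselianRing_iff_unit]
  refine ⟨?_, ?_⟩
  · intro x hx
    rw [Ideal.mem_jacobson_bot]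
    intro y
    rw [Pi.isUnit_iff]
    intro j
    exact Ideal.mem_jacobson_bot.mp ((h j).jac ((hmem x).mp hx j)) (y j)
  · intro F hF a₀ h₁ h₂
    have hj : ∀ j, ∃ a : A j, (F.map (Pi.evalRingHom A j)).IsRoot a ∧ a - a₀ j ∈ I j := by
      intro j
      have hh := (H3.henselianRing_iff_unit (I j)).mp (h j)
      refine hh.2 (F.map (Pi.evalRingHom A j)) (hF.map _) (a₀ j) ?_ ?_
      · rw [← hev]
        exact (hmem _).mp h₁ j
      · rw [derivative_map, ← hev]
        exact (Pi.isUnit_iff.mp h₂) j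
    choose a ha ha' using hj
    refine ⟨a, ?_, (hmem _).mpr ha'⟩
    rw [IsRoot.def]
    funext j
    rw [hev]
    exact ha j

/-- idempotents lift along henselian pairs. -/
theorem exists_idempotent_of_henselianRing {C : Type*} [CommRing C] {J : Ideal C}
    (h : HenselianRing C J) (c : C) (hc : c * c - c ∈ J) :
    ∃ e : C, IsIdempotentElem e ∧ e - c ∈ J := by
  rcases subsingleton_or_nontrivial C with hs | hn
  · exact ⟨0, IsIdempotentElem.zero, by rw [Subsingleton.elim (0 - c) 0]; exact J.zero_mem⟩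
  have hh := (H3.henselianRing_iff_unit J).mp h
  have hu : IsUnit ((X ^ 2 - X : C[X]).derivative.eval c) := by
    have h1 : (X ^ 2 - X : C[X]).derivative.eval c = 2 * c - 1 := by
      simp
      ring
    rw [h1]
    have h2 : (2 * c - 1) * (2 * c - 1) = 1 + 4 * (c * c - c) := by ring
    have h3 : IsUnit ((2 * c - 1) * (2 * c - 1)) := by
      rw [h2]
      exact H3.isUnit_add_of_mem_jacobson isUnit_one (hh.1 (J.mul_mem_left _ hc))
    exact isUnit_of_mul_isUnit_left h3
  have hm : (X ^ 2 - X : C[X]).Monic := by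
    apply monic_X_pow_sub
    rw [degree_X]
    norm_num
  obtain ⟨e, he, heJ⟩ := hh.2 (X ^ 2 - X) hm c (by simpa [pow_two] using hc) hu
  refine ⟨e, ?_, heJ⟩
  have : e ^ 2 - e = 0 := by simpa using he
  rw [IsIdempotentElem, ← sub_eq_zero, ← this]
  ring

/-- an idempotent in the Jacobson radical vanishes. -/
theorem idempotent_eq_zero_of_mem_jacobson {C : Type*} [CommRing C] {e : C}
    (he : IsIdempotentElem e) (h : e ∈ Ideal.jacobson (⊥ : Ideal C)) : e = 0 := by
  have h1 := Ideal.mem_jacobson_bot.mp h (-1)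
  have h2 : (e * -1 + 1) * e = 0 := by
    have := he.eq
    linear_combination -this
  exact (h1.mul_right_eq_zero).mp h2

end Basics

section Unique

/-- two henselizations of the same pair are isomorphic. -/
theorem nonempty_algEquiv_of_isPairHenselization {A : Type u} [CommRing A] (I₀ : Ideal A)
    (B P : Type u) [CommRing B] [CommRing P] [Algebra A B] [Algebra A P]
    (hB : Hens2.IsPairHenselization A I₀ B) (hP : Hens2.IsPairHenselization A I₀ P) :
    Nonempty (B ≃ₐ[A] P) := by
  obtain ⟨g, hg, -⟩ := hB.2 P (I₀.map (algebraMap A P)) (algebraMap A P) hP.1 le_rfl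
  obtain ⟨g', hg', -⟩ := hP.2 B (I₀.map (algebraMap A B)) (algebraMap A B) hB.1 le_rfl
  have h1 : g'.comp g = RingHom.id B := by
    obtain ⟨k, -, hk⟩ := hB.2 B (I₀.map (algebraMap A B)) (algebraMap A B) hB.1 le_rfl
    rw [hk (g'.comp g) (by show (g'.comp g).comp _ = _; rw [RingHom.comp_assoc, hg, hg']),
      hk (RingHom.id B) (RingHom.id_comp _)]
  have h2 : g.comp g' = RingHom.id P := by
    obtain ⟨k, -, hk⟩ := hP.2 P (I₀.map (algebraMap A P)) (algebraMap A P) hP.1 le_rfl
    rw [hk (g.comp g') (by show (g.comp g').comp _ = _; rw [RingHom.comp_assoc, hg', hg]),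
      hk (RingHom.id P) (RingHom.id_comp _)]
  exact ⟨AlgEquiv.ofRingEquiv (f := RingEquiv.ofRingHom g g' h2 h1)
    (fun a => congrArg (fun φ : A →+* P => φ a) hg)⟩

end Unique

section CRT

variable {A : Type u} [CommRing A] {ι : Type} [Fintype ι] [DecidableEq ι] (I : ι → Ideal A)

theorem exists_crt_elem (hI : Pairwise fun i j => I i ⊔ I j = ⊤) (i : ι) :
    ∃ a : A, a - 1 ∈ I i ∧ ∀ j, j ≠ i → a ∈ I j := by
  have hI' : Pairwise (Function.onFun IsCoprime I) := fun j k hjk => Ideal.isCoprime_iff_sup_eq.2 (hI hjk)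
  obtain ⟨r, hr⟩ := Ideal.exists_forall_sub_mem_ideal hI' (Pi.single i (1 : A))
  refine ⟨r, by simpa using hr i, fun j hj => ?_⟩
  have := hr j
  rwa [Pi.single_eq_of_ne hj, sub_zero] at this

variable (a : ι → A) (ha1 : ∀ i, a i - 1 ∈ I i) (ha0 : ∀ i j, j ≠ i → a i ∈ I j)

include ha1 ha0 in
theorem crt_F1 (i : ι) : a i * a i - a i ∈ ⨅ k, I k := by
  rw [Ideal.mem_iInf]; intro k
  by_cases hk : k = i
  · subst hk
    have : a k * a k - a k = a k * (a k - 1) := by ring
    rw [this]; exact (I k).mul_mem_left _ (ha1 k)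
  · have : a i * a i - a i = (a i - 1) * a i := by ring
    rw [this]; exact (I k).mul_mem_left _ (ha0 i k hk)

include ha0 in
theorem crt_F2 (i j : ι) (hij : i ≠ j) : a i * a j ∈ ⨅ k, I k := by
  rw [Ideal.mem_iInf]; intro k
  by_cases hk : k = i
  · subst hk; exact (I k).mul_mem_left _ (ha0 j k hij)
  · exact (I k).mul_mem_right _ (ha0 i k hk)

include ha1 ha0 in
theorem crt_F3 : 1 - ∑ i, a i ∈ ⨅ k, I k := by
  rw [Ideal.mem_iInf]; intro k
  have : 1 - ∑ i, a i = -(a k - 1) - ∑ i ∈ Finset.univ.erase k, a i := by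
    rw [← Finset.add_sum_erase _ _ (Finset.mem_univ k)]; ring
  rw [this]
  exact (I k).sub_mem ((I k).neg_mem (ha1 k))
    ((I k).sum_mem fun i hi => ha0 i k (Finset.ne_of_mem_erase hi).symm)

include ha0 in
theorem crt_F4 (i : ι) (x : A) (hx : x ∈ I i) : x * a i ∈ ⨅ k, I k := by
  rw [Ideal.mem_iInf]; intro k
  by_cases hk : k = i
  · subst hk; exact (I k).mul_mem_right _ hx
  · exact (I k).mul_mem_left _ (ha0 i k hk)

end CRT

section Main

variable {A : Type u} [CommRing A] {ι : Type} [Fintype ι] [DecidableEq ι] (I : ι → Ideal A)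
  (hI : Pairwise fun i j => I i ⊔ I j = ⊤)
  (Bi : ι → Type u) [∀ i, CommRing (Bi i)] [∀ i, Algebra A (Bi i)]
  (hBi : ∀ i, Hens2.IsPairHenselization A (I i) (Bi i))

include hBi in
theorem pi_henselian :
    HenselianRing (∀ i, Bi i) ((⨅ i, I i).map (algebraMap A (∀ i, Bi i))) := by
  have h1 := henselianRing_pi_of_forall Bi (fun i => (I i).map (algebraMap A (Bi i)))
    (fun i => (hBi i).1)
  refine H3.henselianRing_of_le ?_ h1
  rw [Ideal.map_le_iff_le_comap]
  intro x hx
  rw [Ideal.mem_comap, Ideal.mem_iInf]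
  intro i
  rw [Ideal.mem_comap]
  exact Ideal.mem_map_of_mem _ ((Ideal.mem_iInf.1 hx) i)

include hI hBi in
theorem pi_isPairHenselization :
    Hens2.IsPairHenselization A (⨅ i, I i) (∀ i, Bi i) := by
  refine ⟨pi_henselian I Bi hBi, ?_⟩
  intro C _ J f hCJ hfJ
  choose a ha1 ha0 using exists_crt_elem I hI
  have hfJ' : ∀ x ∈ ⨅ k, I k, f x ∈ J := fun x hx => hfJ (Ideal.mem_map_of_mem f hx)
  have hex : ∀ i, ∃ e : C, IsIdempotentElem e ∧ e - f (a i) ∈ J := fun i =>
    exists_idempotent_of_henselianRing hCJ (f (a i)) (by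
      rw [← map_mul, ← map_sub]; exact hfJ' _ (crt_F1 I a ha1 ha0 i))
  choose e he heJ using hex
  have hortho : ∀ i j, i ≠ j → e i * e j = 0 := by
    intro i j hij
    apply idempotent_eq_zero_of_mem_jacobson ((he i).mul (he j))
    apply hCJ.jac
    have : e i * e j = e i * (e j - f (a j)) + f (a j) * (e i - f (a i)) + f (a i * a j) := by
      rw [map_mul]; ring
    rw [this]
    exact J.add_mem (J.add_mem (J.mul_mem_left _ (heJ j)) (J.mul_mem_left _ (heJ i)))
      (hfJ' _ (crt_F2 I a ha0 i j hij))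
  have hOI : OrthogonalIdempotents e := ⟨he, fun i j hij => hortho i j hij⟩
  have hcomplete : ∑ i, e i = 1 := by
    have hid : IsIdempotentElem (1 - ∑ i, e i) :=
      (hOI.isIdempotentElem_sum (s := Finset.univ)).one_sub
    have hmem : 1 - ∑ i, e i ∈ J := by
      have : 1 - ∑ i, e i = f (1 - ∑ i, a i) - ∑ i, (e i - f (a i)) := by
        rw [map_sub, map_one, map_sum, Finset.sum_sub_distrib]; ring
      rw [this]
      exact J.sub_mem (hfJ' _ (crt_F3 I a ha1 ha0)) (J.sum_mem fun i _ => heJ i)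
    have := idempotent_eq_zero_of_mem_jacobson hid (hCJ.jac hmem)
    exact (sub_eq_zero.mp this).symm
  have hCOI : CompleteOrthogonalIdempotents e := ⟨hOI, hcomplete⟩
  have hJ_fe : ∀ i x, x ∈ I i → f x * e i ∈ J := by
    intro i x hx
    have : f x * e i = f x * (e i - f (a i)) + f (x * a i) := by rw [map_mul]; ring
    rw [this]
    exact J.add_mem (J.mul_mem_left _ (heJ i)) (hfJ' _ (crt_F4 I a ha0 i x hx))
  have hmk_e : ∀ i, Ideal.Quotient.mk (Ideal.span {1 - e i}) (e i) = 1 := by
    intro i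
    have : Ideal.Quotient.mk (Ideal.span {1 - e i}) (1 - e i) = 0 :=
      Ideal.Quotient.eq_zero_iff_mem.2 (Ideal.mem_span_singleton_self _)
    rw [map_sub, map_one, sub_eq_zero] at this
    exact this.symm
  have hCi : ∀ i, HenselianRing (C ⧸ Ideal.span {1 - e i})
      (J.map (Ideal.Quotient.mk (Ideal.span {1 - e i}))) :=
    fun i => H3.henselianRing_quotient_general _ hCJ
  have hfi : ∀ i, (I i).map ((Ideal.Quotient.mk (Ideal.span {1 - e i})).comp f) ≤
      J.map (Ideal.Quotient.mk (Ideal.span {1 - e i})) := by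
    intro i
    rw [Ideal.map_le_iff_le_comap]
    intro x hx
    rw [Ideal.mem_comap, RingHom.comp_apply]
    have h1 : Ideal.Quotient.mk (Ideal.span {1 - e i}) (f x) =
        Ideal.Quotient.mk (Ideal.span {1 - e i}) (f x * e i) := by
      rw [map_mul, hmk_e, mul_one]
    rw [h1]
    exact Ideal.mem_map_of_mem _ (hJ_fe i x hx)
  have hg : ∀ i, ∃! g : Bi i →+* C ⧸ Ideal.span {1 - e i},
      g.comp (algebraMap A (Bi i)) = (Ideal.Quotient.mk (Ideal.span {1 - e i})).comp f :=
    fun i => (hBi i).2 (C ⧸ Ideal.span {1 - e i}) (J.map (Ideal.Quotient.mk _))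
      ((Ideal.Quotient.mk _).comp f) (hCi i) (hfi i)
  choose g hg1 hg2 using hg
  let Φ : C ≃+* (∀ i, C ⧸ Ideal.span {1 - e i}) := RingEquiv.ofBijective _ hCOI.bijective_pi
  have hΦ : ∀ (c : C) (i : ι), Φ c i = Ideal.Quotient.mk (Ideal.span {1 - e i}) c := fun c i => rfl
  let G : (∀ i, Bi i) →+* (∀ i, C ⧸ Ideal.span {1 - e i}) :=
    RingHom.pi fun i => (g i).comp (Pi.evalRingHom Bi i)
  have hG : ∀ (y : ∀ i, Bi i) (i : ι), G y i = g i (y i) := fun y i => rfl
  refine ⟨Φ.symm.toRingHom.comp G, ?_, ?_⟩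
  · ext x
    simp only [RingHom.comp_apply]
    apply Φ.injective
    change Φ (Φ.symm (G (algebraMap A (∀ i, Bi i) x))) = Φ (f x)
    rw [RingEquiv.apply_symm_apply]
    funext i
    rw [hG, hΦ]
    exact congrArg (fun φ : A →+* _ => φ x) (hg1 i)
  · intro g' hg'
    have hg'f : ∀ x, g' (algebraMap A (∀ i, Bi i) x) = f x :=
      fun x => congrArg (fun φ : A →+* C => φ x) hg'
    have hunit : ∀ i k, k ≠ i → ∃ (x : A) (v : Bi k), x ∈ I i ∧ algebraMap A (Bi k) x * v = 1 := by
      intro i k hki
      have hsup := hI hki.symm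
      obtain ⟨x, hx, y, hy, hxy⟩ := Submodule.mem_sup.1 ((Ideal.eq_top_iff_one _).1 hsup)
      have hyjac : algebraMap A (Bi k) y ∈ Ideal.jacobson ⊥ :=
        (hBi k).1.jac (Ideal.mem_map_of_mem _ hy)
      have hu : IsUnit (algebraMap A (Bi k) x) := by
        have : algebraMap A (Bi k) x = 1 + -(algebraMap A (Bi k) y) := by
          rw [← map_one (algebraMap A (Bi k)), ← hxy, map_add]; ring
        rw [this]
        exact H3.isUnit_add_of_mem_jacobson isUnit_one (neg_mem hyjac)
      obtain ⟨u, hu⟩ := hu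
      exact ⟨x, ↑u⁻¹, hx, by rw [← hu]; exact u.mul_inv⟩
    have hsingle_mul : ∀ (y : ∀ i, Bi i) (i : ι), y * Pi.single i 1 = Pi.single i (y i) := by
      intro y i
      funext j
      by_cases hj : j = i
      · subst hj; simp
      · simp [Pi.single_eq_of_ne hj]
    have hεe : ∀ i k, k ≠ i → g' (Pi.single k 1) * e i = 0 := by
      intro i k hki
      obtain ⟨x, v, hx, hxv⟩ := hunit i k hki
      have hs : (Pi.single k 1 : ∀ i, Bi i) = algebraMap A (∀ i, Bi i) x * Pi.single k v := by
        funext j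
        by_cases hj : j = k
        · subst hj; simp [Pi.algebraMap_apply, hxv]
        · simp [Pi.single_eq_of_ne hj]
      have hidε : IsIdempotentElem (g' (Pi.single k 1)) := by
        have : IsIdempotentElem (Pi.single k 1 : ∀ i, Bi i) := by
          rw [IsIdempotentElem, ← Pi.single_mul, mul_one]
        exact this.map g'
      apply idempotent_eq_zero_of_mem_jacobson (hidε.mul (he i))
      apply hCJ.jac
      rw [hs, map_mul, hg'f]
      have : f x * g' (Pi.single k v) * e i = g' (Pi.single k v) * (f x * e i) := by ring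
      rw [this]
      exact J.mul_mem_left _ (hJ_fe i x hx)
    have hεsum : ∑ k, g' (Pi.single k (1 : Bi k)) = 1 := by
      rw [← map_sum]
      have : ∑ k, (Pi.single k (1 : Bi k) : ∀ i, Bi i) = 1 := Finset.univ_sum_single (1 : ∀ i, Bi i)
      rw [this, map_one]
    have hε : ∀ i, g' (Pi.single i 1) = e i := by
      intro i
      have h1 : e i = g' (Pi.single i 1) * e i := by
        calc e i = (∑ k, g' (Pi.single k 1)) * e i := by rw [hεsum, one_mul]
          _ = g' (Pi.single i 1) * e i := by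
            rw [Finset.sum_mul, Finset.sum_eq_single i (fun k _ hk => hεe i k hk) (by simp)]
      have h2 : g' (Pi.single i 1) = g' (Pi.single i 1) * e i := by
        calc g' (Pi.single i 1) = g' (Pi.single i 1) * ∑ k, e k := by rw [hcomplete, mul_one]
          _ = g' (Pi.single i 1) * e i := by
            rw [Finset.mul_sum, Finset.sum_eq_single i (fun k _ hk => hεe k i hk.symm) (by simp)]
      exact h2.trans h1.symm
    -- the restricted homs
    let hres : ∀ i, Bi i →+* C ⧸ Ideal.span {1 - e i} := fun i =>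
      { toFun := fun b => Ideal.Quotient.mk (Ideal.span {1 - e i}) (g' (Pi.single i b))
        map_one' := by rw [hε, hmk_e]
        map_mul' := fun b c => by rw [← map_mul, ← map_mul, ← Pi.single_mul]
        map_zero' := by rw [Pi.single_zero, map_zero, map_zero]
        map_add' := fun b c => by rw [← map_add, ← map_add, ← Pi.single_add] }
    have hres_eq : ∀ i, hres i = g i := by
      intro i
      apply hg2
      ext x
      change Ideal.Quotient.mk (Ideal.span {1 - e i}) (g' (Pi.single i (algebraMap A (Bi i) x))) =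
        Ideal.Quotient.mk (Ideal.span {1 - e i}) (f x)
      have : (Pi.single i (algebraMap A (Bi i) x) : ∀ i, Bi i) =
          algebraMap A (∀ i, Bi i) x * Pi.single i 1 := by
        rw [hsingle_mul, Pi.algebraMap_apply]
      rw [this, map_mul, hg'f, hε, map_mul, hmk_e, mul_one]
    refine RingHom.ext fun y => ?_
    apply Φ.injective
    change Φ (g' y) = Φ (Φ.symm (G y))
    rw [RingEquiv.apply_symm_apply]
    funext i
    rw [hG, hΦ, ← hres_eq i]
    change _ = Ideal.Quotient.mk (Ideal.span {1 - e i}) (g' (Pi.single i (y i)))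
    rw [← hsingle_mul, map_mul, hε, map_mul, hmk_e, mul_one]

end Main

end Groth.Agent.H10
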