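import Mathlib
import Groth.Prelude.Def_EtRam
import Groth.Agent.H10.KummerTame

/-! Finite étale covers of a proper scheme over a field are unramified (hence tame) at every
DVR of a residue field over the base field (S18596): valuative criterion + `unram_of_etale`. -/

set_option autoImplicit false
set_option linter.style.haveILetI false
universe u
open AlgebraicGeometry CategoryTheory CategoryTheory.Limits

namespace Groth.Agent.H10.ProperTame

theorem exists_lift (k : Type u) [Field k] {X : Scheme.{u}} (s : X ⟶ Spec (CommRingCat.of k))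
    [IsProper s] (x : X) (A : ValuationSubring (X.residueField x))
    (a : Spec (CommRingCat.of A) ⟶ Spec (CommRingCat.of k))
    (ha : Spec.map (CommRingCat.ofHom A.subtype) ≫ a = X.fromSpecResidueField x ≫ s) :
    ∃ ℓ : Spec (CommRingCat.of A) ⟶ X,
      Spec.map (CommRingCat.ofHom A.subtype) ≫ ℓ = X.fromSpecResidueField x := by
  have hex : ValuativeCriterion.Existence s := by
    have h : UniversallyClosed s := inferInstance
    rw [UniversallyClosed.eq_valuativeCriterion] at h
    exact h.1
  let S : ValuativeCommSq s :=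
    { R := A, K := X.residueField x, i₁ := X.fromSpecResidueField x, i₂ := a,
      commSq := ⟨ha.symm⟩ }
  obtain ⟨⟨l⟩⟩ := hex S
  exact ⟨l.l, l.fac_left⟩

theorem ring_data {X Y : Scheme.{u}} (f : Y ⟶ X) [IsFinite f] [Etale f] (y : Y)
    (R : CommRingCat.{u}) (θ : R ⟶ X.residueField (f.base y))
    (ℓ : Spec R ⟶ X)
    (hℓ : Spec.map θ ≫ ℓ = X.fromSpecResidueField (f.base y)) :
    ∃ (C : CommRingCat.{u}) (ψ : R ⟶ C) (φ : C ⟶ Y.residueField y),
      ψ ≫ φ = θ ≫ f.residueFieldMap y ∧
      ψ.hom.Etale ∧ ψ.hom.Finite ∧ φ.hom.SurjectiveOnStalks := by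
  haveI : IsFinite (pullback.snd f ℓ) := inferInstance
  haveI : Etale (pullback.snd f ℓ) := inferInstance
  haveI : IsAffine (pullback f ℓ) := isAffine_of_isAffineHom (pullback.snd f ℓ)
  let C : CommRingCat := Γ(pullback f ℓ, ⊤)
  let e : pullback f ℓ ≅ Spec C := (pullback f ℓ).isoSpec
  let ψ : R ⟶ C := Spec.preimage (e.inv ≫ pullback.snd f ℓ)
  have hψ : Spec.map ψ = e.inv ≫ pullback.snd f ℓ := Spec.map_preimage _
  have w : Y.fromSpecResidueField y ≫ f = (Spec.map (f.residueFieldMap y) ≫ Spec.map θ) ≫ ℓ := by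
    rw [Category.assoc, hℓ, Scheme.Hom.SpecMap_residueFieldMap_fromSpecResidueField]
  let ιy : Spec (Y.residueField y) ⟶ pullback f ℓ :=
    pullback.lift (Y.fromSpecResidueField y) (Spec.map (f.residueFieldMap y) ≫ Spec.map θ) w
  have hι1 : ιy ≫ pullback.fst f ℓ = Y.fromSpecResidueField y := pullback.lift_fst _ _ _
  have hι2 : ιy ≫ pullback.snd f ℓ = Spec.map (f.residueFieldMap y) ≫ Spec.map θ :=
    pullback.lift_snd _ _ _
  let φ : C ⟶ Y.residueField y := Spec.preimage (ιy ≫ e.hom)
  have hφ : Spec.map φ = ιy ≫ e.hom := Spec.map_preimage _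
  refine ⟨C, ψ, φ, ?_, ?_, ?_, ?_⟩
  · apply Spec.map_injective
    rw [Spec.map_comp, Spec.map_comp, hφ, hψ, Category.assoc, Iso.hom_inv_id_assoc, hι2]
  · have : Etale (Spec.map ψ) := by rw [hψ]; infer_instance
    exact (HasRingHomProperty.Spec_iff (P := @Etale)).1 this
  · have : IsFinite (Spec.map ψ) := by rw [hψ]; infer_instance
    exact (IsFinite.SpecMap_iff ψ).1 this
  · have h1 : SurjectiveOnStalks (Spec.map φ ≫ (e.inv ≫ pullback.fst f ℓ)) := by
      have : Spec.map φ ≫ (e.inv ≫ pullback.fst f ℓ) = Y.fromSpecResidueField y := by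
        rw [hφ, Category.assoc, Iso.hom_inv_id_assoc, hι1]
      rw [this]; infer_instance
    have := SurjectiveOnStalks.of_comp (f := Spec.map φ) (g := e.inv ≫ pullback.fst f ℓ)
    exact SurjectiveOnStalks.Spec_iff.1 this

theorem main (k : Type u) [Field k] {X Y : Scheme.{u}} (s : X ⟶ Spec (CommRingCat.of k))
    [IsProper s] (f : Y ⟶ X) [IsFinite f] [Etale f] (y : Y)
    (A : ValuationSubring (X.residueField (f.base y))) [IsDiscreteValuationRing A]
    (a : Spec (CommRingCat.of A) ⟶ Spec (CommRingCat.of k))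
    (ha : Spec.map (CommRingCat.ofHom A.subtype) ≫ a = X.fromSpecResidueField (f.base y) ≫ s) :
    EtRam.IsTamelyRamified A ((f.residueFieldMap y).hom.comp A.subtype) := by
  obtain ⟨ℓ, hℓ⟩ := exists_lift k s (f.base y) A a ha
  obtain ⟨C, ψ, φ, hcomp, hEt, hFin, hSurj⟩ :=
    ring_data f y (CommRingCat.of A) (CommRingCat.ofHom A.subtype) ℓ hℓ
  have hg : Function.Injective ((f.residueFieldMap y).hom.comp A.subtype) := by
    rw [RingHom.coe_comp]
    exact (RingHom.injective (f.residueFieldMap y).hom).comp Subtype.val_injective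
  apply KummerTame.tame_of_unram A _ hg
  letI : Algebra A C := ψ.hom.toAlgebra
  haveI : Algebra.Etale A C := hEt
  haveI : Module.Finite A C := hFin
  haveI : Algebra.IsIntegral A C := Algebra.IsIntegral.of_finite A C
  apply EtRamEtale.unram_of_etale A C (Y.residueField y) _ φ.hom hg
  · ext x
    have := congrArg (fun h => h.hom x) hcomp
    simp only [CommRingCat.hom_comp, RingHom.comp_apply] at this
    exact this
  · intro x
    have h := (RingHom.surjective_localRingHom_iff (f := φ.hom) ⊥).1 (hSurj ⊥ Ideal.isPrime_bot) x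
    obtain ⟨c, r, t, ht, hr, e⟩ := h
    have ht0 : t ≠ 0 := by simpa using ht
    refine ⟨c, r, by simpa using hr, ?_⟩
    apply mul_left_cancel₀ ht0
    rw [← e]; ring

end Groth.Agent.H10.ProperTame
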