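import Groth.Agent.H10.HenselSquareZero
import Mathlib

set_option autoImplicit false

/-!
# The pullback `C ×_{C/J} S` for a square-zero ideal `J`
-/

namespace Groth.Agent.H10

universe u

section
variable {R S : Type u} [CommRing R] [CommRing S] [Algebra R S]
variable {C : Type u} [CommRing C] [Algebra R C] (J : Ideal C)

/-- the pullback algebra `C ×_{C/J} S` -/
def pb (φ : S →ₐ[R] C ⧸ J) : Subalgebra R (C × S) :=
  AlgHom.equalizer ((Ideal.Quotient.mkₐ R J).comp (AlgHom.fst R C S)) (φ.comp (AlgHom.snd R C S))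

theorem mem_pb (φ : S →ₐ[R] C ⧸ J) (x : C × S) :
    x ∈ pb J φ ↔ Ideal.Quotient.mk J x.1 = φ x.2 := by
  rw [pb, AlgHom.mem_equalizer]
  rfl

/-- second projection of the pullback -/
def pr₂ (φ : S →ₐ[R] C ⧸ J) : pb J φ →ₐ[R] S := (AlgHom.snd R C S).comp (pb J φ).val

/-- first projection of the pullback -/
def pr₁ (φ : S →ₐ[R] C ⧸ J) : pb J φ →ₐ[R] C := (AlgHom.fst R C S).comp (pb J φ).val

theorem mk_pr₁ (φ : S →ₐ[R] C ⧸ J) (x : pb J φ) :
    Ideal.Quotient.mk J (pr₁ J φ x) = φ (pr₂ J φ x) := (mem_pb J φ _).1 x.2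

theorem pr₂_surjective (φ : S →ₐ[R] C ⧸ J) : Function.Surjective (pr₂ J φ) := by
  intro s
  obtain ⟨c, hc⟩ := Ideal.Quotient.mk_surjective (φ s)
  exact ⟨⟨(c, s), (mem_pb J φ _).2 hc⟩, rfl⟩

theorem pr₂_sq_zero (hJ : J ^ 2 = ⊥) (φ : S →ₐ[R] C ⧸ J) (x y : pb J φ)
    (hx : pr₂ J φ x = 0) (hy : pr₂ J φ y = 0) : x * y = 0 := by
  have hx2 : (x : C × S).2 = 0 := hx
  have hy2 : (y : C × S).2 = 0 := hy
  have hx1 : (x : C × S).1 ∈ J := by
    have := (mem_pb J φ _).1 x.2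
    rw [hx2, map_zero, Ideal.Quotient.eq_zero_iff_mem] at this
    exact this
  have hy1 : (y : C × S).1 ∈ J := by
    have := (mem_pb J φ _).1 y.2
    rw [hy2, map_zero, Ideal.Quotient.eq_zero_iff_mem] at this
    exact this
  have h1 : (x : C × S).1 * (y : C × S).1 = 0 := by
    have : (x : C × S).1 * (y : C × S).1 ∈ J ^ 2 := by
      rw [sq]; exact Ideal.mul_mem_mul hx1 hy1
    rwa [hJ, Ideal.mem_bot] at this
  apply Subtype.ext
  apply Prod.ext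
  · exact h1
  · show (x : C × S).2 * (y : C × S).2 = 0
    rw [hx2, zero_mul]

theorem henselian_pb' [HenselianLocalRing S] (hJ : J ^ 2 = ⊥) (φ : S →ₐ[R] C ⧸ J) :
    HenselianLocalRing (pb J φ) :=
  henselianLocalRing_of_surjective_of_sq_zero (pr₂ J φ).toRingHom (pr₂_surjective J φ)
    (pr₂_sq_zero J hJ φ)

theorem isLocalHom_pr₂ (hJ : J ^ 2 = ⊥) (φ : S →ₐ[R] C ⧸ J) :
    IsLocalHom (pr₂ J φ).toRingHom :=
  isLocalHom_of_surjective_of_sq_zero (pr₂ J φ).toRingHom (pr₂_surjective J φ)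
    (pr₂_sq_zero J hJ φ)

theorem isLocalHom_algebraMap_pb [IsLocalHom (algebraMap R S)] (φ : S →ₐ[R] C ⧸ J) :
    IsLocalHom (algebraMap R (pb J φ)) := by
  refine ⟨fun r hr => ?_⟩
  have h1 : IsUnit (pr₂ J φ (algebraMap R (pb J φ) r)) := hr.map (pr₂ J φ)
  rw [AlgHom.commutes] at h1
  exact isUnit_of_map_unit (algebraMap R S) r h1

/-- the map into the pullback given by a lift. -/
def toPb (φ : S →ₐ[R] C ⧸ J) (ψ : S →ₐ[R] C) (h : (Ideal.Quotient.mkₐ R J).comp ψ = φ) :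
    S →ₐ[R] pb J φ :=
  AlgHom.codRestrict (ψ.prod (AlgHom.id R S)) (pb J φ) (by
    intro s
    rw [mem_pb]
    exact AlgHom.congr_fun h s)

theorem pr₁_toPb (φ : S →ₐ[R] C ⧸ J) (ψ : S →ₐ[R] C) (h : (Ideal.Quotient.mkₐ R J).comp ψ = φ)
    (s : S) : pr₁ J φ (toPb J φ ψ h s) = ψ s := rfl

theorem pr₂_toPb (φ : S →ₐ[R] C ⧸ J) (ψ : S →ₐ[R] C) (h : (Ideal.Quotient.mkₐ R J).comp ψ = φ)
    (s : S) : pr₂ J φ (toPb J φ ψ h s) = s := rfl

end

end Groth.Agent.H10
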