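import Groth.Agent.H10.DT3
import Mathlib.CategoryTheory.Adjunction.Basic

/-!
# Abstract form of `RHom(A, K) ≅ K ⊗ RHom(A, R)` for `A` dualizable over the base

`C` a monoidal category (the base, `D(R)`), `D` a category (`D(A)`), `res : D ⥤ C` with a left
adjoint `L` and a right adjoint `H`.  Suppose `res ∘ L ≅ - ⊗ P` with `P` right dualizable, and
`T : C ⥤ D` is a functor with `res ∘ T ≅ - ⊗ res N` compatibly with the "action of `P`", where
`N ≅ H 𝟙`.  Then the canonical map `T ⟶ H` becomes an isomorphism after applying `res`.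
-/

set_option autoImplicit false
universe v v' u u'
open CategoryTheory MonoidalCategory

namespace Groth.Agent.H10.RH.Abs

variable {C : Type u} [Category.{v} C] [MonoidalCategory C] {D : Type u'} [Category.{v'} D]
  {res : D ⥤ C} {L : C ⥤ D} {H : C ⥤ D} (adjL : L ⊣ res) (adjH : res ⊣ H)
  {P : C} (γ : tensorRight P ≅ L ⋙ res)

/-- The action of `P` on restricted objects. -/
def act (M : D) : res.obj M ⊗ P ⟶ res.obj M :=
  γ.hom.app (res.obj M) ≫ res.map (adjL.counit.app M)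

@[reassoc]
lemma act_naturality {M M' : D} (f : M ⟶ M') :
    (res.map f ▷ P) ≫ act adjL γ M' = act adjL γ M ≫ res.map f := by
  have h1 := γ.hom.naturality (res.map f)
  have h2 := adjL.counit.naturality f
  dsimp at h1 h2
  dsimp only [act]
  rw [reassoc_of% h1, Category.assoc, ← Functor.map_comp, ← Functor.map_comp, h2]

/-- `- ⊗ P ⊣ res ∘ H`. -/
def adjS : tensorRight P ⊣ H ⋙ res := (adjL.comp adjH).ofNatIsoLeft γ.symm

lemma adjS_counit (K : C) :
    (adjS adjL adjH γ).counit.app K = act adjL γ (H.obj K) ≫ adjH.counit.app K := by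
  dsimp [adjS, act]
  simp

variable {T : C ⥤ D} {N : D} (ρ' : T ⋙ res ≅ tensorRight (res.obj N)) (ι : N ≅ H.obj (𝟙_ C))

/-- The map `res (T K) ⟶ K`. -/
def θ (K : C) : res.obj (T.obj K) ⟶ K :=
  ρ'.hom.app K ≫ (K ◁ (res.map ι.hom ≫ adjH.counit.app (𝟙_ C))) ≫ (ρ_ K).hom

/-- The canonical comparison `T ⟶ H`. -/
def τ : T ⟶ H where
  app K := adjH.homEquiv _ _ (θ adjH ρ' ι K)
  naturality K K' f := by
    rw [← Adjunction.homEquiv_naturality_right, ← Adjunction.homEquiv_naturality_left]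
    refine congrArg _ ?_
    have h1 := ρ'.hom.naturality f
    dsimp at h1
    dsimp only [θ]
    rw [reassoc_of% h1, Category.assoc, Category.assoc, ← rightUnitor_naturality,
      ← whisker_exchange_assoc]
    rfl

lemma res_τ_counit (K : C) :
    res.map ((τ adjH ρ' ι).app K) ≫ adjH.counit.app K = θ adjH ρ' ι K := by
  have := (adjH.homEquiv _ _).symm_apply_apply (θ adjH ρ' ι K)
  rw [Adjunction.homEquiv_counit] at this
  exact this

variable (hstar : ∀ K : C, (ρ'.inv.app K ▷ P) ≫ act adjL γ (T.obj K) ≫ ρ'.hom.app K =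
  (α_ K (res.obj N) P).hom ≫ (K ◁ act adjL γ N))

include hstar in
lemma sigma_eq (K : C) :
    ρ'.inv.app K ≫ res.map ((τ adjH ρ' ι).app K) =
      (K ◁ res.map ι.hom) ≫ DT.Gen.evT K P (adjS adjL adjH γ) (𝟙_ C) ≫
        (H ⋙ res).map (ρ_ K).hom := by
  apply ((adjS adjL adjH γ).homEquiv _ _).symm.injective
  rw [Adjunction.homEquiv_counit, Adjunction.homEquiv_counit]
  change (ρ'.inv.app K ≫ res.map ((τ adjH ρ' ι).app K)) ▷ P ≫ _ =
    ((K ◁ res.map ι.hom) ≫ DT.Gen.evT K P (adjS adjL adjH γ) (𝟙_ C) ≫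
        (H ⋙ res).map (ρ_ K).hom) ▷ P ≫ _
  -- left hand side
  have hL : (ρ'.inv.app K ≫ res.map ((τ adjH ρ' ι).app K)) ▷ P ≫
      (adjS adjL adjH γ).counit.app K =
      (α_ K (res.obj N) P).hom ≫ (K ◁ act adjL γ N) ≫
        (K ◁ (res.map ι.hom ≫ adjH.counit.app (𝟙_ C))) ≫ (ρ_ K).hom := by
    rw [adjS_counit, comp_whiskerRight, Category.assoc, act_naturality_assoc, res_τ_counit]
    dsimp only [θ]
    rw [← Category.assoc, ← Category.assoc, ← Category.assoc]
    rw [Category.assoc (ρ'.inv.app K ▷ P), hstar K]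
    simp only [Category.assoc]
  -- right hand side
  have hR : ((K ◁ res.map ι.hom) ≫ DT.Gen.evT K P (adjS adjL adjH γ) (𝟙_ C) ≫
        (H ⋙ res).map (ρ_ K).hom) ▷ P ≫ (adjS adjL adjH γ).counit.app K =
      (α_ K (res.obj N) P).hom ≫ (K ◁ act adjL γ N) ≫
        (K ◁ (res.map ι.hom ≫ adjH.counit.app (𝟙_ C))) ≫ (ρ_ K).hom := by
    have h1 : res.map (H.map (ρ_ K).hom) ▷ P ≫ (adjS adjL adjH γ).counit.app K =
        (adjS adjL adjH γ).counit.app (K ⊗ 𝟙_ C) ≫ (ρ_ K).hom :=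
      (adjS adjL adjH γ).counit.naturality (ρ_ K).hom
    have h2 : DT.Gen.evT K P (adjS adjL adjH γ) (𝟙_ C) ▷ P ≫
        (adjS adjL adjH γ).counit.app (K ⊗ 𝟙_ C) =
        (α_ K ((H ⋙ res).obj (𝟙_ C)) P).hom ≫ K ◁ (adjS adjL adjH γ).counit.app (𝟙_ C) := by
      have := ((adjS adjL adjH γ).homEquiv _ _).symm_apply_apply
        ((α_ K ((H ⋙ res).obj (𝟙_ C)) P).hom ≫ K ◁ (adjS adjL adjH γ).counit.app (𝟙_ C))
      rw [Adjunction.homEquiv_counit] at this
      exact this
    rw [comp_whiskerRight, comp_whiskerRight, Category.assoc, Category.assoc]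
    dsimp only [Functor.comp_obj, Functor.comp_map]
    rw [h1, reassoc_of% h2, adjS_counit]
    have h3 := act_naturality adjL γ ι.hom
    rw [associator_naturality_middle_assoc, ← whiskerLeft_comp_assoc, reassoc_of% h3]
    simp only [whiskerLeft_comp, Category.assoc]
  rw [hL, hR]

include hstar in
theorem isIso_res_τ (P' : C) [ExactPairing P P'] (K : C) :
    IsIso (res.map ((τ adjH ρ' ι).app K)) := by
  have h := sigma_eq adjL adjH γ ρ' ι hstar K
  have h1 : IsIso (DT.Gen.evT K P (adjS adjL adjH γ) (𝟙_ C)) :=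
    DT.Gen.isIso_evT_right K P P' (adjS adjL adjH γ) (𝟙_ C)
  have h2 : IsIso ((K ◁ res.map ι.hom) ≫ DT.Gen.evT K P (adjS adjL adjH γ) (𝟙_ C) ≫
        (H ⋙ res).map (ρ_ K).hom) := inferInstance
  rw [← h] at h2
  have h3 : res.map ((τ adjH ρ' ι).app K) =
      ρ'.hom.app K ≫ (ρ'.inv.app K ≫ res.map ((τ adjH ρ' ι).app K)) := by
    rw [Iso.hom_inv_id_app_assoc]
  rw [h3]
  infer_instance

include adjL adjH γ ρ' ι hstar in
/-- If moreover `res` reflects isomorphisms, then `T ≅ H`. -/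
theorem nonempty_iso [res.ReflectsIsomorphisms] (P' : C) [ExactPairing P P'] :
    Nonempty (H ≅ T) := by
  have : ∀ K, IsIso ((τ adjH ρ' ι).app K) := fun K => by
    have := isIso_res_τ adjL adjH γ ρ' ι hstar P' K
    exact isIso_of_reflects_iso _ res
  have : IsIso (τ adjH ρ' ι) := NatIso.isIso_of_isIso_app _
  exact ⟨(asIso (τ adjH ρ' ι)).symm⟩

end Groth.Agent.H10.RH.Abs
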