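import Groth.Agent.H10.RH2

/-!
# Detecting single-degree objects after restriction of scalars along a surjection
-/

set_option autoImplicit false
universe u
open CategoryTheory CategoryTheory.Limits
attribute [local instance] HasDerivedCategory.standard

namespace Groth.Agent.H10.RH.Single

variable {R A : Type u} [CommRing R] [CommRing A] (φ : R →+* A)

/-- An `R`-linear isomorphism of `A`-modules is `A`-linear when `R → A` is surjective. -/
noncomputable def isoOfRestrictIso (hφ : Function.Surjective φ) {M₁ M₂ : ModuleCat.{u} A}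
    (k : (ModuleCat.restrictScalars φ).obj M₁ ≅ (ModuleCat.restrictScalars φ).obj M₂) :
    M₁ ≅ M₂ :=
  LinearEquiv.toModuleIso
    { toFun := fun x => k.hom.hom x
      invFun := fun y => k.inv.hom y
      map_add' := fun x y => map_add k.hom.hom x y
      map_smul' := fun a x => by
        obtain ⟨r, rfl⟩ := hφ a
        exact k.hom.hom.map_smul r (show ↑((ModuleCat.restrictScalars φ).obj M₁) from x)
      left_inv := fun x => by
        have := congrArg (fun f => f.hom x) k.hom_inv_id
        exact this
      right_inv := fun y => by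
        have := congrArg (fun f => f.hom y) k.inv_hom_id
        exact this }

lemma isZero_of_isZero_restrict (M : ModuleCat.{u} A)
    (h : IsZero ((ModuleCat.restrictScalars φ).obj M)) : IsZero M := by
  rw [ModuleCat.isZero_iff_subsingleton] at h ⊢
  exact h

open DerivedCategory in
theorem nonempty_iso_single_of_res (hφ : Function.Surjective φ) (ω : Dual.D A)
    (M : ModuleCat.{u} A) (n : ℤ)
    (i : (DRing.restrictD φ).obj ω ≅
      (singleFunctor (ModuleCat.{u} R) n).obj ((ModuleCat.restrictScalars φ).obj M)) :
    Nonempty (ω ≅ (singleFunctor (ModuleCat.{u} A) n).obj M) := by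
  have hz : ∀ m : ℤ, m ≠ n → IsZero ((homologyFunctor (ModuleCat.{u} A) m).obj ω) := by
    intro m hm
    apply isZero_of_isZero_restrict φ
    refine IsZero.of_iso ?_
      ((Groth.Agent.H16.ExactDer.homologyNatIso (ModuleCat.restrictScalars φ) m).app ω).symm
    refine IsZero.of_iso ?_ ((homologyFunctor (ModuleCat.{u} R) m).mapIso i)
    rcases lt_or_gt_of_ne hm with h | h
    · exact isZero_of_isGE _ n m h
    · exact isZero_of_isLE _ n m h
  have h1 : ω.IsGE n := (isGE_iff ω n).2 (fun m hm => hz m (by omega))
  have h2 : ω.IsLE n := (isLE_iff ω n).2 (fun m hm => hz m (by omega))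
  obtain ⟨M₁, ⟨j⟩⟩ := exists_iso_singleFunctor_obj_of_isGE_of_isLE ω n
  let k₀ : (singleFunctor (ModuleCat.{u} R) n).obj ((ModuleCat.restrictScalars φ).obj M₁) ≅
      (singleFunctor (ModuleCat.{u} R) n).obj ((ModuleCat.restrictScalars φ).obj M) :=
    (Groth.Agent.H16.ExactDer.singleIso (ModuleCat.restrictScalars φ) M₁ n).symm ≪≫
      (DRing.restrictD φ).mapIso j.symm ≪≫ i
  let k : (ModuleCat.restrictScalars φ).obj M₁ ≅ (ModuleCat.restrictScalars φ).obj M :=
    (singleFunctor (ModuleCat.{u} R) n).preimageIso k₀
  exact ⟨j ≪≫ (singleFunctor (ModuleCat.{u} A) n).mapIso (isoOfRestrictIso φ hφ k)⟩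

end Groth.Agent.H10.RH.Single
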