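import Groth.Agent.H10.RH4
import Groth.Agent.H10.RH1
import Groth.Agent.H10.RH2
import Groth.Agent.H10.DT5

/-!
# Compatibility of the projection formula with the action of `res A`
-/

set_option autoImplicit false
universe u
open CategoryTheory CategoryTheory.Limits MonoidalCategory
attribute [local instance] HasDerivedCategory.standard

namespace Groth.Agent.H10.RH

open DTen Groth.Agent.H10.DT Groth.Agent.H45.MultiDer Groth.Agent.H45.MultiDer.DTenC

variable {R A : Type u} [CommRing R] [CommRing A] (φ : R →+* A)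
  [DTen.HasLTen R] [DTen.HasLTen₃ R] [DTen.IsSymMonoidal R]

attribute [local instance] DT.monoidal

omit [DTen.HasLTen R] [DTen.HasLTen₃ R] [DTen.IsSymMonoidal R] in
lemma adjD_counit_app (M : DRing.Cx A) :
    (Lext φ).map ((bIso φ M).inv) ≫ (adjD φ).counit.app (DerivedCategory.Q.obj M) =
      (αext φ).app ((resCx φ).obj M) ≫ DerivedCategory.Q.map ((counitCx φ).app M) :=
  (adjCx φ).derivedε_fac_app (DTen.qis A) (αext φ) (βres φ) M

/-- The action at the level of `Q`. -/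
noncomputable def actQ (M : DRing.Cx A) :
    q ((resCx φ).obj M) ⊗ q ((resCx φ).obj (𝟙_ (DRing.Cx A))) ⟶ q ((resCx φ).obj M) :=
  ee ((resCx φ).obj M) ((resCx φ).obj (𝟙_ (DRing.Cx A))) ≫ qm (actCx φ M)

lemma act_Q (M : DRing.Cx A) :
    Abs.act (adjD φ) (γIso φ) (DerivedCategory.Q.obj M) =
      ((bIso φ M).hom ⊗ₘ (bIso φ (𝟙_ (DRing.Cx A))).hom) ≫ actQ φ M ≫ (bIso φ M).inv := by
  have h1 := (γIso φ).hom.naturality (bIso φ M).inv
  have h2 := adjD_counit_app φ M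
  have h3 := γIso_fac φ ((resCx φ).obj M)
  have h4 : qm ((resCx φ).map ((counitCx φ).app M)) ≫ (bIso φ M).inv =
      (bIso φ ((extCx φ).obj ((resCx φ).obj M))).inv ≫
        (DRing.restrictD φ).map (DerivedCategory.Q.map ((counitCx φ).app M)) :=
    bIso_inv_naturality φ ((counitCx φ).app M)
  have h5 := cInv_counit φ M
  dsimp only [Functor.comp_obj, Functor.comp_map] at h1
  change ((bIso φ M).inv ▷ PA φ) ≫ _ = _ at h1
  have h1' : (γIso φ).hom.app ((DRing.restrictD φ).obj (DerivedCategory.Q.obj M)) =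
      ((bIso φ M).hom ▷ PA φ) ≫ (γIso φ).hom.app (q ((resCx φ).obj M)) ≫
        (DRing.restrictD φ).map ((Lext φ).map (bIso φ M).inv) := by
    rw [← h1, ← comp_whiskerRight_assoc, Iso.hom_inv_id, MonoidalCategory.id_whiskerRight,
      Category.id_comp]
  have h3' : (γIso φ).hom.app (q ((resCx φ).obj M)) ≫
      (DRing.restrictD φ).map ((αext φ).app ((resCx φ).obj M)) =
      (q ((resCx φ).obj M) ◁ (bIso φ (𝟙_ (DRing.Cx A))).hom) ≫
        ee ((resCx φ).obj M) ((resCx φ).obj (𝟙_ (DRing.Cx A))) ≫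
        qm (cInv φ ((resCx φ).obj M)) ≫ (bIso φ ((extCx φ).obj ((resCx φ).obj M))).inv := by
    have e1 : qm (inv (cInv φ ((resCx φ).obj M))) ≫ qm (cInv φ ((resCx φ).obj M)) = 𝟙 _ := by
      rw [← Functor.map_comp, IsIso.inv_hom_id, CategoryTheory.Functor.map_id]
    have := congrArg (fun t => t ≫ qm (cInv φ ((resCx φ).obj M)) ≫
      (bIso φ ((extCx φ).obj ((resCx φ).obj M))).inv) h3
    simp only [Category.assoc] at this
    rw [reassoc_of% e1, Iso.hom_inv_id, Category.comp_id] at this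
    exact this
  dsimp only [Abs.act, actQ]
  rw [h1', Category.assoc, Category.assoc, ← Functor.map_comp, h2, Functor.map_comp,
    reassoc_of% h3', ← h4, ← Functor.map_comp_assoc, h5, MonoidalCategory.tensorHom_def]
  simp only [Category.assoc]

/-- The projection isomorphism at the level of `Q`, for `X` K-flat. -/
noncomputable def ρQ (X : DRing.Cx R) (N : DRing.Cx A) (hX : DRing.IsKFlat R X) :
    q ((resCx φ).obj ((extCx φ).obj X ⊗ N)) ⟶ q X ⊗ q ((resCx φ).obj N) :=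
  haveI := isIso_ee X ((resCx φ).obj N) (Or.inl hX)
  qm (inv (sCx φ X N)) ≫ inv (ee X ((resCx φ).obj N))

lemma ρQ_ee (X : DRing.Cx R) (N : DRing.Cx A) (hX : DRing.IsKFlat R X) :
    ρQ φ X N hX ≫ ee X ((resCx φ).obj N) = qm (inv (sCx φ X N)) := by
  have := isIso_ee X ((resCx φ).obj N) (Or.inl hX)
  dsimp only [ρQ]
  rw [Category.assoc, IsIso.inv_hom_id, Category.comp_id]

instance isIso_ρQ (X : DRing.Cx R) (N : DRing.Cx A) (hX : DRing.IsKFlat R X) :
    IsIso (ρQ φ X N hX) := by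
  have := isIso_ee X ((resCx φ).obj N) (Or.inl hX)
  dsimp only [ρQ]
  infer_instance

/-- The projection isomorphism is compatible with the actions, at the level of `Q`. -/
lemma actQ_ρQ (X : DRing.Cx R) (N : DRing.Cx A) (hX : DRing.IsKFlat R X) :
    actQ φ ((extCx φ).obj X ⊗ N) ≫ ρQ φ X N hX =
      (ρQ φ X N hX ▷ q ((resCx φ).obj (𝟙_ (DRing.Cx A)))) ≫
        (α_ (q X) (q ((resCx φ).obj N)) (q ((resCx φ).obj (𝟙_ (DRing.Cx A))))).hom ≫
          (q X ◁ actQ φ N) := by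
  have := isIso_ee X ((resCx φ).obj N) (Or.inl hX)
  rw [← cancel_mono (ee X ((resCx φ).obj N))]
  have h1 := ε_naturality_right X (actCx φ N)
  have h2 := associator_transfer X ((resCx φ).obj N) ((resCx φ).obj (𝟙_ (DRing.Cx A)))
  have h3 := ε_naturality_left (inv (sCx φ X N)) ((resCx φ).obj (𝟙_ (DRing.Cx A)))
  have h4 := sCx_actCx φ X N
  have h4' : actCx φ ((extCx φ).obj X ⊗ N) ≫ inv (sCx φ X N) =
      (inv (sCx φ X N) ▷ (resCx φ).obj (𝟙_ (DRing.Cx A))) ≫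
        (α_ X ((resCx φ).obj N) ((resCx φ).obj (𝟙_ (DRing.Cx A)))).hom ≫ (X ◁ actCx φ N) := by
    rw [IsIso.comp_inv_eq, Category.assoc, Category.assoc, ← h4, ← comp_whiskerRight_assoc,
      IsIso.inv_hom_id, MonoidalCategory.id_whiskerRight, Category.id_comp]
  have h1' : (q X ◁ qm (actCx φ N)) ≫ ee X ((resCx φ).obj N) =
      ee X ((resCx φ).obj N ⊗ (resCx φ).obj (𝟙_ (DRing.Cx A))) ≫ qm (X ◁ actCx φ N) := h1
  have h2' : (α_ (q X) (q ((resCx φ).obj N)) (q ((resCx φ).obj (𝟙_ (DRing.Cx A))))).hom ≫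
      (q X ◁ ee ((resCx φ).obj N) ((resCx φ).obj (𝟙_ (DRing.Cx A)))) ≫
        ee X ((resCx φ).obj N ⊗ (resCx φ).obj (𝟙_ (DRing.Cx A))) =
      (ee X ((resCx φ).obj N) ▷ q ((resCx φ).obj (𝟙_ (DRing.Cx A)))) ≫
        ee (X ⊗ (resCx φ).obj N) ((resCx φ).obj (𝟙_ (DRing.Cx A))) ≫
          qm (α_ X ((resCx φ).obj N) ((resCx φ).obj (𝟙_ (DRing.Cx A)))).hom := h2
  have h3' : (qm (inv (sCx φ X N)) ▷ q ((resCx φ).obj (𝟙_ (DRing.Cx A)))) ≫
      ee (X ⊗ (resCx φ).obj N) ((resCx φ).obj (𝟙_ (DRing.Cx A))) =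
      ee ((resCx φ).obj ((extCx φ).obj X ⊗ N)) ((resCx φ).obj (𝟙_ (DRing.Cx A))) ≫
        qm (inv (sCx φ X N) ▷ (resCx φ).obj (𝟙_ (DRing.Cx A))) := h3
  simp only [Category.assoc]
  rw [ρQ_ee]
  dsimp only [actQ]
  rw [whiskerLeft_comp]
  simp only [Category.assoc]
  rw [h1', reassoc_of% h2', ← comp_whiskerRight_assoc, ρQ_ee,
    reassoc_of% h3', ← Functor.map_comp, ← Functor.map_comp, ← Functor.map_comp, h4']

section Mix

variable [DTen.HasLTenMix φ]

/-- `ρIso` in terms of `ρQ`, for `X` K-flat. -/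
lemma ρIso_hom_app_q (X : DRing.Cx R) (N : DRing.Cx A) (hX : DRing.IsKFlat R X) :
    (ρIso φ N).hom.app (q X) ≫ (q X ◁ (bIso φ N).hom) =
      (DRing.restrictD φ).map ((εMix φ).app (X, N)) ≫ (bIso φ ((extCx φ).obj X ⊗ N)).hom ≫
        ρQ φ X N hX := by
  have := isIso_ee X ((resCx φ).obj N) (Or.inl hX)
  rw [← cancel_mono (ee X ((resCx φ).obj N))]
  simp only [Category.assoc]
  rw [ρQ_ee]
  exact ρIso_fac φ N X

/-- The key compatibility, in the `hom` form, for `K = Q X` with `X` K-flat. -/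
lemma hstar_q (X : DRing.Cx R) (N : DRing.Cx A) (hX : DRing.IsKFlat R X) :
    Abs.act (adjD φ) (γIso φ) ((TN φ N).obj (q X)) ≫ (ρIso φ N).hom.app (q X) =
      ((ρIso φ N).hom.app (q X) ▷ PA φ) ≫
        (α_ (q X) ((DRing.restrictD φ).obj (DerivedCategory.Q.obj N)) (PA φ)).hom ≫
          (q X ◁ Abs.act (adjD φ) (γIso φ) (DerivedCategory.Q.obj N)) := by
  have hb : IsIso (q X ◁ (bIso φ N).hom) := inferInstance
  rw [← cancel_mono (q X ◁ (bIso φ N).hom)]
  have h1 : ((DRing.restrictD φ).map ((εMix φ).app (X, N)) ▷ PA φ) ≫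
      Abs.act (adjD φ) (γIso φ) (DerivedCategory.Q.obj ((extCx φ).obj X ⊗ N)) =
      Abs.act (adjD φ) (γIso φ) ((TN φ N).obj (q X)) ≫
        (DRing.restrictD φ).map ((εMix φ).app (X, N)) :=
    Abs.act_naturality (adjD φ) (γIso φ) ((εMix φ).app (X, N))
  have h2 := ρIso_hom_app_q φ X N hX
  have h3 := actQ_ρQ φ X N hX
  have h4 := act_Q φ ((extCx φ).obj X ⊗ N)
  have h5 := act_Q φ N
  simp only [Category.assoc]
  -- left hand side
  rw [h2, ← reassoc_of% h1, h4]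
  simp only [Category.assoc]
  rw [Iso.inv_hom_id_assoc, h3]
  -- right hand side
  rw [h5]
  have e1 : (q X ◁ (((bIso φ N).hom ⊗ₘ (bIso φ (𝟙_ (DRing.Cx A))).hom) ≫ actQ φ N ≫
      (bIso φ N).inv)) ≫ (q X ◁ (bIso φ N).hom) =
      (q X ◁ ((bIso φ N).hom ⊗ₘ (bIso φ (𝟙_ (DRing.Cx A))).hom)) ≫ (q X ◁ actQ φ N) := by
    rw [← whiskerLeft_comp, ← whiskerLeft_comp]
    simp only [Category.assoc, Iso.inv_hom_id, Category.comp_id]
  rw [e1]
  have e2 : (α_ (q X) ((DRing.restrictD φ).obj (DerivedCategory.Q.obj N)) (PA φ)).hom ≫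
      (q X ◁ ((bIso φ N).hom ⊗ₘ (bIso φ (𝟙_ (DRing.Cx A))).hom)) =
      (((q X ◁ (bIso φ N).hom)) ⊗ₘ (bIso φ (𝟙_ (DRing.Cx A))).hom) ≫
        (α_ (q X) (q ((resCx φ).obj N)) (q ((resCx φ).obj (𝟙_ (DRing.Cx A))))).hom := by
    have := MonoidalCategory.associator_naturality (𝟙 (q X)) (bIso φ N).hom
      (bIso φ (𝟙_ (DRing.Cx A))).hom
    rw [MonoidalCategory.id_tensorHom, MonoidalCategory.id_tensorHom] at this
    exact this.symm
  rw [reassoc_of% e2]
  -- combine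
  rw [← Category.assoc ((DRing.restrictD φ).map ((εMix φ).app (X, N)) ▷ PA φ),
    ← Category.assoc (_ ≫ _) (ρQ φ X N hX ▷ _),
    ← Category.assoc ((ρIso φ N).hom.app (q X) ▷ PA φ)]
  congr 1
  rw [MonoidalCategory.tensorHom_def, MonoidalCategory.tensorHom_def]
  simp only [Category.assoc]
  rw [whisker_exchange]
  rw [← comp_whiskerRight_assoc, ← comp_whiskerRight_assoc, ← comp_whiskerRight_assoc,
    Category.assoc, h2]

/-- The key compatibility, in the `hom` form. -/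
lemma hstar_hom (N : DRing.Cx A) (K : Dual.D R) :
    Abs.act (adjD φ) (γIso φ) ((TN φ N).obj K) ≫ (ρIso φ N).hom.app K =
      ((ρIso φ N).hom.app K ▷ PA φ) ≫
        (α_ K ((DRing.restrictD φ).obj (DerivedCategory.Q.obj N)) (PA φ)).hom ≫
          (K ◁ Abs.act (adjD φ) (γIso φ) (DerivedCategory.Q.obj N)) := by
  obtain ⟨X, hX, ⟨κ⟩⟩ := exists_kflat_rep K
  have n1 : (DRing.restrictD φ).map ((TN φ N).map κ.hom) ≫ (ρIso φ N).hom.app K =
      (ρIso φ N).hom.app (q X) ≫ (κ.hom ▷ (DRing.restrictD φ).obj (DerivedCategory.Q.obj N)) :=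
    (ρIso φ N).hom.naturality κ.hom
  have n2 := Abs.act_naturality (adjD φ) (γIso φ) ((TN φ N).map κ.hom)
  have n3 := hstar_q φ X N hX
  rw [← cancel_epi ((DRing.restrictD φ).map ((TN φ N).map κ.hom) ▷ PA φ)]
  rw [reassoc_of% n2, n1, reassoc_of% n3, ← comp_whiskerRight_assoc, n1, comp_whiskerRight_assoc,
    associator_naturality_left_assoc, whisker_exchange]

/-- The key compatibility. -/
lemma hstar (N : DRing.Cx A) (K : Dual.D R) :
    ((ρIso φ N).inv.app K ▷ PA φ) ≫ Abs.act (adjD φ) (γIso φ) ((TN φ N).obj K) ≫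
        (ρIso φ N).hom.app K =
      (α_ K ((DRing.restrictD φ).obj (DerivedCategory.Q.obj N)) (PA φ)).hom ≫
        (K ◁ Abs.act (adjD φ) (γIso φ) (DerivedCategory.Q.obj N)) := by
  rw [hstar_hom, ← comp_whiskerRight_assoc, Iso.inv_hom_id_app]
  erw [MonoidalCategory.id_whiskerRight, Category.id_comp]

/-- If `A` is perfect over `R`, then `RHom(A, -) ≅ - ⊗^L_R RHom(A, R)`. -/
theorem nonempty_RHomRel_iso [DTen.HasRHomRel φ] (hA : DRing.IsPerfect R (PA φ)) :
    Nonempty (RHomRel φ ≅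
      (Functor.curry.obj (LTenMix φ)).flip.obj ((RHomRel φ).obj (DTen.unit R))) := by
  obtain ⟨P', -, ⟨pair⟩, -⟩ := exists_exactPairing_of_isPerfect (PA φ) hA
  let W : DRing.Cx A := DerivedCategory.Q.objPreimage ((RHomRel φ).obj (DTen.unit R))
  let ι : DerivedCategory.Q.obj W ≅ (RHomRel φ).obj (𝟙_ (Dual.D R)) :=
    DerivedCategory.Q.objObjPreimageIso ((RHomRel φ).obj (DTen.unit R))
  obtain ⟨e⟩ := Abs.nonempty_iso (adjD φ) (relAdj φ) (γIso φ) (ρIso φ W) ι (hstar φ W) P'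
  exact ⟨e ≪≫ (Functor.curry.obj (LTenMix φ)).flip.mapIso ι⟩

end Mix

end Groth.Agent.H10.RH
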