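import Groth.Agent.H10.RH9
import Groth.Agent.H10.RH10
import Groth.Agent.H10.RH5

/-!
# `RHom(A, -)` for `A = R / I` with `I` invertible
-/

set_option autoImplicit false
universe u
open CategoryTheory CategoryTheory.Limits MonoidalCategory
attribute [local instance] HasDerivedCategory.standard
open scoped TensorProduct

namespace Groth.Agent.H10.RH.Inv

open DTen Groth.Agent.H10.DT Groth.Agent.H10.RH.Ker Groth.Agent.H10.RH.Two
  Groth.Agent.H45.MultiDer Groth.Agent.H45.MultiDer.DTenC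

variable {R A : Type u} [CommRing R] [CommRing A] [Algebra R A]
  (hφ : Function.Surjective (algebraMap R A))

/-- `Q E ≅ res (unit A)` -/
noncomputable def eE : DRing.toD (E R A) ≅ (DRing.restrictD (algebraMap R A)).obj (DTen.unit A) :=
  haveI : IsIso (DerivedCategory.Q.map
      (toSingle (E R A) (-1) 0 rfl (π₀ R A) (E_d_π₀ R A))) :=
    (DerivedCategory.isIso_Q_map_iff_quasiIso _ _).2 (quasiIso_E hφ)
  asIso (DerivedCategory.Q.map (toSingle (E R A) (-1) 0 rfl (π₀ R A) (E_d_π₀ R A))) ≪≫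
    DerivedCategory.Q.mapIso ((HomologicalComplex.singleMapHomologicalComplex
      (ModuleCat.restrictScalars (algebraMap R A)) (ComplexShape.up ℤ) 0).app
        (𝟙_ (ModuleCat.{u} A))).symm ≪≫
    ((resFactors (algebraMap R A)).app (𝟙_ (DRing.Cx A))).symm

variable [Module.Invertible R (kI R A)]

include hφ in
lemma isPerfect_PA :
    DRing.IsPerfect R ((DRing.restrictD (algebraMap R A)).obj (DTen.unit A)) :=
  ⟨E R A, -1, 0, E_vanishes R A, E_fp R A, ⟨eE hφ⟩⟩

attribute [local instance] hasRightDual_E_X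

variable {N : Type u} [AddCommGroup N] [Module A N]
  (e : (A ⊗[R] (kI R A)) ⊗[A] N ≃ₗ[A] A)

/-- `Q E' ≅ N[-1]` -/
noncomputable def eE' : DerivedCategory.Q.obj (E' R A) ≅
    (DerivedCategory.singleFunctor (ModuleCat.{u} R) 1).obj (NR R A N) :=
  haveI : IsIso (DerivedCategory.Q.map
      (toSingle (E' R A) 0 1 rfl (π₁ e) (E'_d_π₁ e))) :=
    (DerivedCategory.isIso_Q_map_iff_quasiIso _ _).2 (quasiIso_E' e hφ)
  asIso (DerivedCategory.Q.map (toSingle (E' R A) 0 1 rfl (π₁ e) (E'_d_π₁ e))) ≪≫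
    ((DerivedCategory.singleFunctorIsoCompQ (ModuleCat.{u} R) 1).app (NR R A N)).symm

variable [DTen.HasLTen R] [DTen.HasLTen₃ R] [DTen.IsSymMonoidal R]

attribute [local instance] DT.monoidal

/-- The exact pairing of `res A` with `Q E'`. -/
@[instance_reducible]
noncomputable def pairingPA : ExactPairing (PA (algebraMap R A)) (q (E' R A)) :=
  letI P1 : ExactPairing (E R A) (E' R A) :=
    (Cx.rdPData (E R A) (-1) 2 (fun p hp => isZero_two_X _ p (by omega) (by omega))).exactPairing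
  letI Q1 : ExactPairing (q (E R A)) (q (E' R A)) :=
    exactPairingQ (E R A) (E' R A)
      (isKFlat_of_bounded_flat (E R A) 0 (fun i hi => isZero_two_X _ i (by omega) (by omega))
        (fun n => inferInstance))
  exactPairingCongrLeft (eE hφ).symm

include hφ e in
theorem nonempty_RHomRel_iso_shift [DTen.HasRHomRel (algebraMap R A)]
    [DTen.HasLTenMix (algebraMap R A)] :
    Nonempty (RHomRel (algebraMap R A) ≅
      (Functor.curry.obj (LTenMix (algebraMap R A))).flip.obj
        ((Dual.inD A N)⟦(-1 : ℤ)⟧)) := by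
  obtain ⟨i0⟩ := nonempty_RHomRel_iso (algebraMap R A) (isPerfect_PA hφ)
  let _ := pairingPA hφ
  let ω : Dual.D A := (RHomRel (algebraMap R A)).obj (DTen.unit R)
  let i1 : (DRing.restrictD (algebraMap R A)).obj ω ≅ 𝟙_ (Dual.D R) ⊗ q (E' R A) :=
    (DT.Gen.psiR (PA (algebraMap R A)) (q (E' R A))
      (Abs.adjS (adjD (algebraMap R A)) (relAdj (algebraMap R A))
        (γIso (algebraMap R A)))).app (𝟙_ (Dual.D R))
  let i2 : (DRing.restrictD (algebraMap R A)).obj ω ≅
      (DerivedCategory.singleFunctor (ModuleCat.{u} R) 1).obj (NR R A N) :=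
    i1 ≪≫ λ_ _ ≪≫ eE' hφ e
  obtain ⟨i3⟩ := Single.nonempty_iso_single_of_res (algebraMap R A) hφ ω (ModuleCat.of A N) 1 i2
  let i4 : (Dual.inD A N)⟦(-1 : ℤ)⟧ ≅
      (DerivedCategory.singleFunctor (ModuleCat.{u} A) 1).obj (ModuleCat.of A N) :=
    ((DerivedCategory.singleFunctors (ModuleCat.{u} A)).shiftIso (-1) 1 0 (by simp)).app
      (ModuleCat.of A N)
  exact ⟨i0 ≪≫ (Functor.curry.obj (LTenMix (algebraMap R A))).flip.mapIso (i3 ≪≫ i4.symm)⟩

end Groth.Agent.H10.RH.Inv
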