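import Groth.Prelude.Def_DTen5
import Groth.Agent.H10.DT4a
import Groth.Agent.H45.MultiDer.BaseCmp

/-!
# The projection formula at the level of complexes

For `φ : R →+* A`, a complex `X` of `R`-modules and a complex `N` of `A`-modules, the canonical map
`X ⊗_R res N ⟶ res ((X ⊗_R A) ⊗_A N)` is an isomorphism of complexes of `R`-modules.
-/

set_option autoImplicit false
universe u
open CategoryTheory CategoryTheory.Limits MonoidalCategory

namespace Groth.Agent.H10.RH

open DTen HomologicalComplex Groth.Agent.H10.DT.Cx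

variable {R A : Type u} [CommRing R] [CommRing A] (φ : R →+* A)

/-! ### Module level -/

section ModuleLevel

open TensorProduct

/-- extension of scalars on modules (abbreviation) -/
noncomputable abbrev extM : ModuleCat.{u} R ⥤ ModuleCat.{u} A := ModuleCat.extendScalars.{u, u, u} φ

/-- The module level projection map `M ⊗_R res N ⟶ res ((A ⊗_R M) ⊗_A N)`. -/
noncomputable def s₀ (M : ModuleCat.{u} R) (N : ModuleCat.{u} A) :
    MonoidalCategory.tensorObj M ((resM φ).obj N) ⟶
      (resM φ).obj (MonoidalCategory.tensorObj ((extM φ).obj M) N) :=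
  ((ModuleCat.extendRestrictScalarsAdj.{u, u, u} φ).unit.app M ▷ (resM φ).obj N) ≫
    resTen₀app φ ((extM φ).obj M) N

set_option backward.isDefEq.respectTransparency false in
lemma s₀_tmul (M : ModuleCat.{u} R) (N : ModuleCat.{u} A) (m : M) (n : N) :
    letI := φ.toAlgebra
    (s₀ φ M N).hom (m ⊗ₜ[R] n) = (((1 : A) ⊗ₜ[R] m) ⊗ₜ[A] n : (A ⊗[R] M) ⊗[A] N) := rfl

set_option backward.isDefEq.respectTransparency false in
/-- The inverse of `s₀`. -/
noncomputable def t₀ (M : ModuleCat.{u} R) (N : ModuleCat.{u} A) :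
    (resM φ).obj (MonoidalCategory.tensorObj ((extM φ).obj M) N) ⟶
      MonoidalCategory.tensorObj M ((resM φ).obj N) :=
  letI := φ.toAlgebra
  letI : Module R N := Module.compHom N φ
  haveI : IsScalarTower R A N := ⟨fun r a n => by
    change (φ r * a) • n = φ r • (a • n)
    rw [mul_smul]⟩
  ModuleCat.ofHom (X := (resM φ).obj (MonoidalCategory.tensorObj ((extM φ).obj M) N))
    (Y := (MonoidalCategory.tensorObj M ((resM φ).obj N) : ModuleCat.{u} R))
    { toFun := fun x => (TensorProduct.comm R N M)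
        ((AlgebraTensorModule.cancelBaseChange R A A N M)
          ((TensorProduct.comm A (A ⊗[R] M) N) x))
      map_add' := fun x y => by simp
      map_smul' := fun r x => by
        change (TensorProduct.comm R N M)
          ((AlgebraTensorModule.cancelBaseChange R A A N M)
            ((TensorProduct.comm A (A ⊗[R] M) N) (φ r • x))) = _
        rw [map_smul, map_smul]
        change (TensorProduct.comm R N M) (r • _) = _
        rw [map_smul]
        rfl }

set_option backward.isDefEq.respectTransparency false in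
lemma t₀_tmul (M : ModuleCat.{u} R) (N : ModuleCat.{u} A) (a : A) (m : M) (n : N) :
    letI := φ.toAlgebra
    (t₀ φ M N).hom (((a ⊗ₜ[R] m) ⊗ₜ[A] n : (A ⊗[R] M) ⊗[A] N)) =
      (m ⊗ₜ[R] (a • n : N) : M ⊗[R] ((resM φ).obj N)) := rfl

set_option backward.isDefEq.respectTransparency false in
@[reassoc (attr := simp)]
lemma s₀_t₀ (M : ModuleCat.{u} R) (N : ModuleCat.{u} A) : s₀ φ M N ≫ t₀ φ M N = 𝟙 _ := by
  refine ModuleCat.hom_ext (TensorProduct.ext' (fun m n => ?_))
  change (t₀ φ M N).hom ((s₀ φ M N).hom (m ⊗ₜ[R] n)) = m ⊗ₜ[R] n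
  rw [s₀_tmul]
  erw [t₀_tmul]
  rw [one_smul]

set_option backward.isDefEq.respectTransparency false in
@[reassoc (attr := simp)]
lemma t₀_s₀ (M : ModuleCat.{u} R) (N : ModuleCat.{u} A) : t₀ φ M N ≫ s₀ φ M N = 𝟙 _ := by
  let _ := φ.toAlgebra
  ext (x : (A ⊗[R] M) ⊗[A] N)
  change (s₀ φ M N).hom ((t₀ φ M N).hom x) = x
  induction x using TensorProduct.induction_on with
  | zero => simp
  | add x y hx hy => rw [map_add, map_add, hx, hy]
  | tmul y n =>
    induction y using TensorProduct.induction_on with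
    | zero => simp
    | add x y hx hy => rw [TensorProduct.add_tmul, map_add, map_add, hx, hy]
    | tmul a m =>
      have h1 := t₀_tmul φ M N a m n
      have h2 := s₀_tmul φ M N m (a • n : N)
      refine (congrArg (s₀ φ M N).hom h1).trans (h2.trans ?_)
      rw [← TensorProduct.smul_tmul]
      congr 1
      change (a * 1) ⊗ₜ[R] m = _
      rw [mul_one]

end ModuleLevel

/-! ### Complex level -/

/-- The projection map `X ⊗_R res N ⟶ res ((X ⊗_R A) ⊗_A N)` for complexes. -/
noncomputable def sCx (X : DRing.Cx R) (N : DRing.Cx A) :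
    X ⊗ (resCx φ).obj N ⟶ (resCx φ).obj ((extCx φ).obj X ⊗ N) :=
  ((unitCx φ).app X ▷ (resCx φ).obj N) ≫ resTenCx φ ((extCx φ).obj X) N

@[reassoc]
lemma ι_sCx (X : DRing.Cx R) (N : DRing.Cx A) (p q n : ℤ) (h : p + q = n) :
    ιTensorObj X ((resCx φ).obj N) p q n h ≫ (sCx φ X N).f n =
      s₀ φ (X.X p) (N.X q) ≫ (resM φ).map (ιTensorObj ((extCx φ).obj X) N p q n h) := by
  dsimp only [sCx]
  rw [HomologicalComplex.comp_f, ι_whiskerRight_assoc]
  erw [ι_resTenCx φ ((extCx φ).obj X) N p q n h]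
  rfl

@[reassoc]
lemma sCx_naturality {X X' : DRing.Cx R} {N N' : DRing.Cx A} (f : X ⟶ X') (g : N ⟶ N') :
    (f ⊗ₘ (resCx φ).map g) ≫ sCx φ X' N' =
      sCx φ X N ≫ (resCx φ).map ((extCx φ).map f ⊗ₘ g) := by
  dsimp only [sCx]
  have h1 := (unitCx φ).naturality f
  dsimp only [Functor.id_obj, Functor.id_map, Functor.comp_obj, Functor.comp_map] at h1
  rw [Category.assoc, ← resTenCx_naturality φ ((extCx φ).map f) g, ← Category.assoc,
    ← Category.assoc]
  congr 1
  rw [MonoidalCategory.tensorHom_def, MonoidalCategory.tensorHom_def, Category.assoc,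
    whisker_exchange, ← Category.assoc, ← comp_whiskerRight, h1, comp_whiskerRight, Category.assoc]
  rfl

set_option backward.isDefEq.respectTransparency false in
/-- The inverse of `sCx` in degree `n`, out of the total complex of the restricted bicomplex. -/
noncomputable def tX (X : DRing.Cx R) (N : DRing.Cx A) (n : ℤ) :
    (((TotMap.map₂ (resM φ) (ComplexShape.up ℤ) (ComplexShape.up ℤ)).obj
      (tenBicx ((extCx φ).obj X) N)).total (ComplexShape.up ℤ)).X n ⟶
      (X ⊗ (resCx φ).obj N).X n :=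
  HomologicalComplex₂.totalDesc _ (fun p q h =>
    t₀ φ (X.X p) (N.X q) ≫ ιTensorObj X ((resCx φ).obj N) p q n h)

set_option backward.isDefEq.respectTransparency false in
lemma sCx_f_tX (X : DRing.Cx R) (N : DRing.Cx A) (n : ℤ) :
    (sCx φ X N).f n ≫
      (TotMap.mapTotalXIso (resM φ) (tenBicx ((extCx φ).obj X) N) (ComplexShape.up ℤ) n).hom ≫
        tX φ X N n = 𝟙 _ := by
  apply HomologicalComplex.mapBifunctor.hom_ext
  intro p q h
  erw [ι_sCx_assoc φ X N p q n h]
  rw [Category.assoc]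
  erw [TotMap.map_ιTotal_mapTotalXIso_hom_assoc (resM φ) (tenBicx ((extCx φ).obj X) N)
    (ComplexShape.up ℤ) p q n h]
  dsimp only [tX]
  erw [HomologicalComplex₂.ι_totalDesc]
  rw [s₀_t₀_assoc]
  exact (Category.comp_id _).symm

set_option backward.isDefEq.respectTransparency false in
lemma tX_sCx_f (X : DRing.Cx R) (N : DRing.Cx A) (n : ℤ) :
    tX φ X N n ≫ (sCx φ X N).f n =
      (TotMap.mapTotalXIso (resM φ) (tenBicx ((extCx φ).obj X) N) (ComplexShape.up ℤ) n).inv := by
  apply TotMap.mapTotalXIso_inv_unique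
  intro p q h
  dsimp only [tX]
  erw [HomologicalComplex₂.ι_totalDesc_assoc]
  rw [Category.assoc]
  erw [ι_sCx φ X N p q n h]
  rw [t₀_s₀_assoc]

instance isIso_sCx (X : DRing.Cx R) (N : DRing.Cx A) : IsIso (sCx φ X N) := by
  have : ∀ n, IsIso ((sCx φ X N).f n) := fun n => by
    refine ⟨(TotMap.mapTotalXIso (resM φ) (tenBicx ((extCx φ).obj X) N)
      (ComplexShape.up ℤ) n).hom ≫ tX φ X N n, sCx_f_tX φ X N n, ?_⟩
    rw [Category.assoc, tX_sCx_f, Iso.hom_inv_id]
  exact HomologicalComplex.Hom.isIso_of_components _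

/-! ### Restriction of scalars is lax monoidal on complexes: associativity -/

lemma resTen₀app_assoc (M N P : ModuleCat.{u} A) :
    (resTen₀app φ M N ▷ (resM φ).obj P) ≫ resTen₀app φ (M ⊗ N) P ≫ (resM φ).map (α_ M N P).hom =
      (α_ ((resM φ).obj M) ((resM φ).obj N) ((resM φ).obj P)).hom ≫
        ((resM φ).obj M ◁ resTen₀app φ N P) ≫ resTen₀app φ M (N ⊗ P) := by
  rw [resTen₀app_eq_μ, resTen₀app_eq_μ, resTen₀app_eq_μ, resTen₀app_eq_μ]
  exact Functor.LaxMonoidal.associativity (ModuleCat.restrictScalars.{u} φ) M N P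

@[reassoc]
lemma resTen₀app_natural_left {M M' : ModuleCat.{u} A} (a : M ⟶ M') (N : ModuleCat.{u} A) :
    ((resM φ).map a ▷ (resM φ).obj N) ≫ resTen₀app φ M' N =
      resTen₀app φ M N ≫ (resM φ).map (a ▷ N) :=
  ModuleCat.hom_ext (TensorProduct.ext' (fun _ _ => rfl))

@[reassoc]
lemma resTen₀app_natural_right (M : ModuleCat.{u} A) {N N' : ModuleCat.{u} A} (b : N ⟶ N') :
    ((resM φ).obj M ◁ (resM φ).map b) ≫ resTen₀app φ M N' =
      resTen₀app φ M N ≫ (resM φ).map (M ◁ b) :=
  ModuleCat.hom_ext (TensorProduct.ext' (fun _ _ => rfl))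

set_option backward.isDefEq.respectTransparency false in
lemma resTenCx_assoc (a b c : DRing.Cx A) :
    (resTenCx φ a b ▷ (resCx φ).obj c) ≫ resTenCx φ (a ⊗ b) c ≫ (resCx φ).map (α_ a b c).hom =
      (α_ ((resCx φ).obj a) ((resCx φ).obj b) ((resCx φ).obj c)).hom ≫
        ((resCx φ).obj a ◁ resTenCx φ b c) ≫ resTenCx φ a (b ⊗ c) := by
  ext n : 1
  apply GradedObject.Monoidal.tensorObj₃'_ext
  intro p q r h
  rw [GradedObject.Monoidal.ιTensorObj₃'_eq _ _ _ p q r n h (p + q) rfl]
  have hqr : p + (q + r) = n := by omega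
  -- left hand side
  have hL : (ιTensorObj ((resCx φ).obj a) ((resCx φ).obj b) p q (p + q) rfl ▷
        ((resCx φ).obj c).X r) ≫
      ιTensorObj (((resCx φ).obj a) ⊗ ((resCx φ).obj b)) ((resCx φ).obj c) (p + q) r n h ≫
      ((resTenCx φ a b ▷ (resCx φ).obj c) ≫ resTenCx φ (a ⊗ b) c ≫
        (resCx φ).map (α_ a b c).hom).f n =
      (resTen₀app φ (a.X p) (b.X q) ▷ (resM φ).obj (c.X r)) ≫
        resTen₀app φ (a.X p ⊗ b.X q) (c.X r) ≫
        (resM φ).map ((α_ (a.X p) (b.X q) (c.X r)).hom ≫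
          (a.X p ◁ ιTensorObj b c q r (q + r) rfl) ≫ ιTensorObj a (b ⊗ c) p (q + r) n hqr) := by
    rw [HomologicalComplex.comp_f, HomologicalComplex.comp_f, ι_whiskerRight_assoc,
      ← comp_whiskerRight_assoc]
    erw [ι_resTenCx φ a b p q (p + q) rfl]
    erw [ι_resTenCx_assoc φ (a ⊗ b) c (p + q) r n h]
    rw [comp_whiskerRight, Category.assoc]
    erw [resTen₀app_natural_left_assoc φ (ιTensorObj a b p q (p + q) rfl) (c.X r)]
    rw [← ι₃_associator_hom a b c p q r (p + q) (q + r) n rfl rfl h hqr]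
    simp only [Functor.map_comp]
    rfl
  have hR : (ιTensorObj ((resCx φ).obj a) ((resCx φ).obj b) p q (p + q) rfl ▷
        ((resCx φ).obj c).X r) ≫
      ιTensorObj (((resCx φ).obj a) ⊗ ((resCx φ).obj b)) ((resCx φ).obj c) (p + q) r n h ≫
      ((α_ ((resCx φ).obj a) ((resCx φ).obj b) ((resCx φ).obj c)).hom ≫
        ((resCx φ).obj a ◁ resTenCx φ b c) ≫ resTenCx φ a (b ⊗ c)).f n =
      (α_ ((resM φ).obj (a.X p)) ((resM φ).obj (b.X q)) ((resM φ).obj (c.X r))).hom ≫
        ((resM φ).obj (a.X p) ◁ resTen₀app φ (b.X q) (c.X r)) ≫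
        resTen₀app φ (a.X p) (b.X q ⊗ c.X r) ≫
        (resM φ).map ((a.X p ◁ ιTensorObj b c q r (q + r) rfl) ≫
          ιTensorObj a (b ⊗ c) p (q + r) n hqr) := by
    rw [HomologicalComplex.comp_f, HomologicalComplex.comp_f]
    erw [ι₃_associator_hom_assoc ((resCx φ).obj a) ((resCx φ).obj b) ((resCx φ).obj c) p q r
      (p + q) (q + r) n rfl rfl h hqr]
    rw [ι_whiskerLeft_assoc, ← whiskerLeft_comp_assoc]
    erw [ι_resTenCx φ b c q r (q + r) rfl]
    erw [ι_resTenCx φ a (b ⊗ c) p (q + r) n hqr]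
    rw [whiskerLeft_comp, Category.assoc]
    erw [resTen₀app_natural_right_assoc φ (a.X p) (ιTensorObj b c q r (q + r) rfl)]
    simp only [Functor.map_comp]
    rfl
  erw [hL, hR]
  rw [Functor.map_comp, ← Category.assoc, ← Category.assoc, ← Category.assoc,
    Category.assoc (resTen₀app φ (a.X p) (b.X q) ▷ _), resTen₀app_assoc]
  simp only [Category.assoc]


/-! ### The action of `res A` on restricted complexes -/

/-- `res M ⊗_R res A ⟶ res M`. -/
noncomputable def actCx (M : DRing.Cx A) :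
    (resCx φ).obj M ⊗ (resCx φ).obj (𝟙_ (DRing.Cx A)) ⟶ (resCx φ).obj M :=
  resTenCx φ M (𝟙_ (DRing.Cx A)) ≫ (resCx φ).map (ρ_ M).hom

/-- The projection isomorphism is compatible with the actions. -/
lemma sCx_actCx (X : DRing.Cx R) (N : DRing.Cx A) :
    (sCx φ X N ▷ (resCx φ).obj (𝟙_ (DRing.Cx A))) ≫ actCx φ ((extCx φ).obj X ⊗ N) =
      (α_ X ((resCx φ).obj N) ((resCx φ).obj (𝟙_ (DRing.Cx A)))).hom ≫
        (X ◁ actCx φ N) ≫ sCx φ X N := by
  dsimp only [actCx, sCx]
  obtain ⟨u, hu⟩ : ∃ u : X ⟶ (resCx φ).obj ((extCx φ).obj X), u = (unitCx φ).app X := ⟨_, rfl⟩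
  rw [← hu, MonoidalCategory.rightUnitor_tensor_hom, Functor.map_comp, comp_whiskerRight, Category.assoc,
    ← Category.assoc (resTenCx φ ((extCx φ).obj X) N ▷ _),
    ← Category.assoc (resTenCx φ ((extCx φ).obj X) N ▷ _ ≫ _),
    Category.assoc (resTenCx φ ((extCx φ).obj X) N ▷ _), resTenCx_assoc]
  have h1 := resTenCx_naturality φ (𝟙 ((extCx φ).obj X)) (ρ_ N).hom
  rw [CategoryTheory.Functor.map_id, MonoidalCategory.id_tensorHom,
    MonoidalCategory.id_tensorHom] at h1
  simp only [Category.assoc]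
  have h3 := associator_naturality_left u ((resCx φ).obj N) ((resCx φ).obj (𝟙_ (DRing.Cx A)))
  rw [← h1, reassoc_of% h3, ← whiskerLeft_comp_assoc, ← whisker_exchange_assoc]

/-- The isomorphism `Y ⊗_R res A ≅ res (Y ⊗_R A)` (inverse direction as a map). -/
noncomputable def cInv (Y : DRing.Cx R) :
    Y ⊗ (resCx φ).obj (𝟙_ (DRing.Cx A)) ⟶ (resCx φ).obj ((extCx φ).obj Y) :=
  sCx φ Y (𝟙_ (DRing.Cx A)) ≫ (resCx φ).map (ρ_ ((extCx φ).obj Y)).hom

instance isIso_cInv (Y : DRing.Cx R) : IsIso (cInv φ Y) := by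
  dsimp only [cInv]
  infer_instance

@[reassoc]
lemma cInv_naturality {Y Y' : DRing.Cx R} (f : Y ⟶ Y') :
    (f ▷ (resCx φ).obj (𝟙_ (DRing.Cx A))) ≫ cInv φ Y' =
      cInv φ Y ≫ (resCx φ).map ((extCx φ).map f) := by
  dsimp only [cInv]
  have h1 := sCx_naturality φ f (𝟙 (𝟙_ (DRing.Cx A)))
  rw [CategoryTheory.Functor.map_id, MonoidalCategory.tensorHom_id,
    MonoidalCategory.tensorHom_id] at h1
  rw [reassoc_of% h1, Category.assoc, ← Functor.map_comp, ← Functor.map_comp,
    MonoidalCategory.rightUnitor_naturality]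

/-- The action is the counit of the adjunction, transported along `cInv`. -/
lemma cInv_counit (M : DRing.Cx A) :
    cInv φ ((resCx φ).obj M) ≫
      (resCx φ).map ((Groth.Agent.H45.MultiDer.DTenC.counitCx φ).app M) = actCx φ M := by
  dsimp only [cInv, sCx, actCx]
  have h1 := resTenCx_naturality φ ((Groth.Agent.H45.MultiDer.DTenC.counitCx φ).app M)
    (𝟙 (𝟙_ (DRing.Cx A)))
  rw [CategoryTheory.Functor.map_id, MonoidalCategory.tensorHom_id,
    MonoidalCategory.tensorHom_id] at h1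
  dsimp only [Functor.id_obj, Functor.comp_obj] at h1
  have h2 : (unitCx φ).app ((resCx φ).obj M) ≫
      (resCx φ).map ((Groth.Agent.H45.MultiDer.DTenC.counitCx φ).app M) = 𝟙 _ :=
    (Groth.Agent.H45.MultiDer.DTenC.adjCx φ).right_triangle_components M
  simp only [Category.assoc]
  rw [← Functor.map_comp, ← MonoidalCategory.rightUnitor_naturality, Functor.map_comp,
    ← reassoc_of% h1, ← comp_whiskerRight_assoc, h2, MonoidalCategory.id_whiskerRight,
    Category.id_comp]
  rfl

end Groth.Agent.H10.RH
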