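import Groth.Agent.H10.RH3
import Groth.Agent.H10.DT1
import Groth.Agent.H45.MultiDer.DTenSplit

/-!
# The projection formula on derived categories

`res (K ⊗^L_R N) ≅ K ⊗^L_R res N` for `K ∈ D(R)`, `N ∈ D(A)` (mixed derived tensor product), and
`res (K ⊗^L_R A) ≅ K ⊗^L_R res A`, as natural isomorphisms in `K`, characterised on complexes.
-/

set_option autoImplicit false
universe u
open CategoryTheory CategoryTheory.Limits MonoidalCategory
attribute [local instance] HasDerivedCategory.standard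

namespace Groth.Agent.H10.RH

open DTen Groth.Agent.H10.DT Groth.Agent.H45.MultiDer Groth.Agent.H45.MultiDer.DTenC

variable {R A : Type u} [CommRing R] [CommRing A] (φ : R →+* A)
  [DTen.HasLTen R] [DTen.HasLTen₃ R] [DTen.IsSymMonoidal R]

attribute [local instance] DT.monoidal

/-- `res (Q M) ≅ Q (res M)`. -/
noncomputable abbrev bIso (M : DRing.Cx A) :
    (DRing.restrictD φ).obj (DerivedCategory.Q.obj M) ≅ q ((resCx φ).obj M) :=
  (resFactors φ).app M

omit [DTen.HasLTen R] [DTen.HasLTen₃ R] [DTen.IsSymMonoidal R] in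
@[reassoc]
lemma bIso_hom_naturality {M M' : DRing.Cx A} (f : M ⟶ M') :
    (DRing.restrictD φ).map (DerivedCategory.Q.map f) ≫ (bIso φ M').hom =
      (bIso φ M).hom ≫ qm ((resCx φ).map f) :=
  (resFactors φ).hom.naturality f

omit [DTen.HasLTen R] [DTen.HasLTen₃ R] [DTen.IsSymMonoidal R] in
@[reassoc]
lemma bIso_inv_naturality {M M' : DRing.Cx A} (f : M ⟶ M') :
    qm ((resCx φ).map f) ≫ (bIso φ M').inv =
      (bIso φ M).inv ≫ (DRing.restrictD φ).map (DerivedCategory.Q.map f) :=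
  (resFactors φ).inv.naturality f

/-- `X ↦ Q (X ⊗ Y)` on complexes. -/
noncomputable abbrev tenQ (Y : DRing.Cx R) : DRing.Cx R ⥤ Dual.D R :=
  tensorRight Y ⋙ DerivedCategory.Q

omit [DTen.HasLTen R] [DTen.HasLTen₃ R] [DTen.IsSymMonoidal R] in
lemma tenQ_inverts_he (Y : DRing.Cx R) :
    (HomologicalComplex.homotopyEquivalences (ModuleCat.{u} R) (ComplexShape.up ℤ)).IsInvertedBy
      (tenQ Y) :=
  isInvertedBy₁ _ (fun P P' f g h => by
    have h1 := DerivedCategory.Q_map_eq_of_homotopy _ (tensorHomotopy h (Homotopy.refl (𝟙 Y)))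
    rw [MonoidalCategory.whiskerLeft_id, Category.comp_id, Category.comp_id] at h1
    exact h1)

omit [DTen.HasLTen R] [DTen.HasLTen₃ R] [DTen.IsSymMonoidal R] in
lemma tenQ_inverts (Y : DRing.Cx R) ⦃P P' : DRing.Cx R⦄ (f : P ⟶ P') (hP : kfl R P)
    (hP' : kfl R P') (hf : QuasiIso f) : IsIso ((tenQ Y).map f) := by
  have h1 : QuasiIso (f ▷ Y ≫ P' ◁ 𝟙 Y) := quasiIso_tensor_of_kflat_left f (𝟙 Y) hP hP'
  rw [MonoidalCategory.whiskerLeft_id, Category.comp_id] at h1
  exact (DerivedCategory.isIso_Q_map_iff_quasiIso _ _).2 h1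

/-- The counit exhibiting `- ⊗^L Z` (with `Z ≅ Q Y`) as the left derived functor of
`X ↦ Q (X ⊗ Y)`. -/
noncomputable def αT (Y : DRing.Cx R) {Z : Dual.D R} (e : Z ≅ q Y) :
    DerivedCategory.Q ⋙ tensorRight Z ⟶ tenQ Y where
  app X := (q X ◁ e.hom) ≫ ee X Y
  naturality X X' f := by
    have h1 := ε_naturality_left f Y
    dsimp only [Functor.comp_obj, Functor.comp_map]
    change (qm f ▷ Z) ≫ (q X' ◁ e.hom) ≫ ee X' Y = ((q X ◁ e.hom) ≫ ee X Y) ≫ qm (f ▷ Y)
    rw [Category.assoc, ← h1, ← whisker_exchange_assoc]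
    rfl

lemma isIso_αT_app (Y : DRing.Cx R) {Z : Dual.D R} (e : Z ≅ q Y) (X : DRing.Cx R)
    (hX : DRing.IsKFlat R X) : IsIso ((αT Y e).app X) := by
  have := isIso_ee X Y (Or.inl hX)
  dsimp only [αT]
  infer_instance

instance isLeftDerivedFunctor_tensorRight (Y : DRing.Cx R) {Z : Dual.D R} (e : Z ≅ q Y) :
    (tensorRight Z).IsLeftDerivedFunctor (αT Y e) (DTen.qis R) :=
  isLeftDerivedFunctor_of_isIso₁ (hyp R) (tenQ Y) (tenQ_inverts_he Y) (tenQ_inverts Y) _ _
    (fun X hX => isIso_αT_app Y e X hX)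

section Mix

variable [DTen.HasLTenMix φ]

/-- `K ↦ K ⊗^L_R Q N`. -/
noncomputable abbrev TN (N : DRing.Cx A) : Dual.D R ⥤ Dual.D A :=
  (Functor.curry.obj (LTenMix φ)).flip.obj (DerivedCategory.Q.obj N)

omit [DTen.HasLTen R] [DTen.HasLTen₃ R] [DTen.IsSymMonoidal R] in
lemma TN_map (N : DRing.Cx A) {K K' : Dual.D R} (f : K ⟶ K') :
    (TN φ N).map f = (LTenMix φ).map (Prod.mkHom f (𝟙 (DerivedCategory.Q.obj N))) := rfl

omit [DTen.HasLTen R] [DTen.HasLTen₃ R] [DTen.IsSymMonoidal R] in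
@[reassoc]
lemma εMix_naturality_left {X X' : DRing.Cx R} (f : X ⟶ X') (N : DRing.Cx A) :
    (TN φ N).map (qm f) ≫ (εMix φ).app (X', N) =
      (εMix φ).app (X, N) ≫ DerivedCategory.Q.map ((extCx φ).map f ▷ N) := by
  have h := (εMix φ).naturality (Prod.mkHom f (𝟙 N) : (X, N) ⟶ (X', N))
  dsimp only [Functor.comp_obj, Functor.comp_map] at h
  have h' : (tensorT A).map (((extCx φ).prod (𝟭 (DRing.Cx A))).map
      (Prod.mkHom f (𝟙 N) : (X, N) ⟶ (X', N))) = (extCx φ).map f ▷ N := by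
    change (extCx φ).map f ▷ N ≫ (extCx φ).obj X' ◁ 𝟙 N = _
    rw [MonoidalCategory.whiskerLeft_id, Category.comp_id]
  rw [h'] at h
  rw [← h, TN_map]
  congr 2
  exact Prod.ext rfl (CategoryTheory.Functor.map_id _ _).symm

/-- The counit exhibiting `K ↦ res (K ⊗^L_R Q N)` as the left derived functor of
`X ↦ Q (X ⊗_R res N)`. -/
noncomputable def αM (N : DRing.Cx A) :
    DerivedCategory.Q ⋙ (TN φ N ⋙ DRing.restrictD φ) ⟶ tenQ ((resCx φ).obj N) where
  app X := (DRing.restrictD φ).map ((εMix φ).app (X, N)) ≫ (bIso φ ((extCx φ).obj X ⊗ N)).hom ≫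
    qm (inv (sCx φ X N))
  naturality X X' f := by
    have h1 := εMix_naturality_left φ f N
    have h2 := bIso_hom_naturality φ ((extCx φ).map f ▷ N)
    have h3 := sCx_naturality φ f (𝟙 N)
    rw [CategoryTheory.Functor.map_id, MonoidalCategory.tensorHom_id,
      MonoidalCategory.tensorHom_id] at h3
    have h4 : inv (sCx φ X N) ≫ f ▷ (resCx φ).obj N =
        (resCx φ).map ((extCx φ).map f ▷ N) ≫ inv (sCx φ X' N) := by
      rw [IsIso.eq_comp_inv, Category.assoc, h3, IsIso.inv_hom_id_assoc]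
    dsimp only [Functor.comp_obj, Functor.comp_map]
    change (DRing.restrictD φ).map ((TN φ N).map (qm f)) ≫ _ = _ ≫ qm (f ▷ (resCx φ).obj N)
    rw [← Functor.map_comp_assoc, h1, Functor.map_comp_assoc, reassoc_of% h2]
    simp only [Category.assoc]
    rw [← Functor.map_comp, ← Functor.map_comp, h4]

instance isLeftDerivedFunctor_TN_res (N : DRing.Cx A) :
    (TN φ N ⋙ DRing.restrictD φ).IsLeftDerivedFunctor (αM φ N) (DTen.qis R) :=
  isLeftDerivedFunctor_of_isIso₁ (hyp R) (tenQ ((resCx φ).obj N))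
    (tenQ_inverts_he _) (tenQ_inverts _) _ _
    (fun X hX => by
      have := isIso_εMix φ X N hX
      dsimp only [αM]
      infer_instance)

/-- The projection formula `res (K ⊗^L_R Q N) ≅ K ⊗^L_R res (Q N)`, natural in `K`. -/
noncomputable def ρIso (N : DRing.Cx A) :
    TN φ N ⋙ DRing.restrictD φ ≅ tensorRight ((DRing.restrictD φ).obj (DerivedCategory.Q.obj N)) :=
  Functor.leftDerivedUnique _ _ (αM φ N) (αT ((resCx φ).obj N) (bIso φ N)) (DTen.qis R)

@[reassoc]
lemma ρIso_fac (N : DRing.Cx A) (X : DRing.Cx R) :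
    (ρIso φ N).hom.app (q X) ≫ (q X ◁ (bIso φ N).hom) ≫ ee X ((resCx φ).obj N) =
      (DRing.restrictD φ).map ((εMix φ).app (X, N)) ≫ (bIso φ ((extCx φ).obj X ⊗ N)).hom ≫
        qm (inv (sCx φ X N)) := by
  have := Functor.leftDerivedNatTrans_app (TN φ N ⋙ DRing.restrictD φ)
    (tensorRight ((DRing.restrictD φ).obj (DerivedCategory.Q.obj N))) (αM φ N)
    (αT ((resCx φ).obj N) (bIso φ N)) (DTen.qis R) (𝟙 _) X
  rw [NatTrans.id_app, Category.comp_id] at this
  exact this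

end Mix

section Base

/-- The counit exhibiting `K ↦ res (K ⊗^L_R A)` as the left derived functor of
`X ↦ Q (X ⊗_R res A)`. -/
noncomputable def αL :
    DerivedCategory.Q ⋙ (Lext φ ⋙ DRing.restrictD φ) ⟶
      tenQ ((resCx φ).obj (𝟙_ (DRing.Cx A))) where
  app X := (DRing.restrictD φ).map ((αext φ).app X) ≫ (bIso φ ((extCx φ).obj X)).hom ≫
    qm (inv (cInv φ X))
  naturality X X' f := by
    have h1 := (αext φ).naturality f
    have h2 := bIso_hom_naturality φ ((extCx φ).map f)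
    have h3 := cInv_naturality φ f
    have h4 : inv (cInv φ X) ≫ f ▷ (resCx φ).obj (𝟙_ (DRing.Cx A)) =
        (resCx φ).map ((extCx φ).map f) ≫ inv (cInv φ X') := by
      rw [IsIso.eq_comp_inv, Category.assoc, h3, IsIso.inv_hom_id_assoc]
    dsimp only [Functor.comp_obj, Functor.comp_map] at h1 ⊢
    change (DRing.restrictD φ).map ((Lext φ).map (qm f)) ≫ _ = _ ≫ qm (f ▷ _)
    rw [← Functor.map_comp_assoc, h1, Functor.map_comp_assoc, reassoc_of% h2]
    simp only [Category.assoc]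
    rw [← Functor.map_comp, ← Functor.map_comp, h4]

instance isLeftDerivedFunctor_Lext_res :
    (Lext φ ⋙ DRing.restrictD φ).IsLeftDerivedFunctor (αL φ) (DTen.qis R) :=
  isLeftDerivedFunctor_of_isIso₁ (hyp R) (tenQ ((resCx φ).obj (𝟙_ (DRing.Cx A))))
    (tenQ_inverts_he _) (tenQ_inverts _) _ _
    (fun X hX => by
      have := isIso_αext_app φ X hX
      dsimp only [αL]
      infer_instance)

/-- `res A` as an object of `D(R)`. -/
noncomputable abbrev PA : Dual.D R := (DRing.restrictD φ).obj (DTen.unit A)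

/-- `K ⊗^L_R res A ≅ res (K ⊗^L_R A)`, natural in `K`. -/
noncomputable def γIso : tensorRight (PA φ) ≅ Lext φ ⋙ DRing.restrictD φ :=
  Functor.leftDerivedUnique _ _
    (αT ((resCx φ).obj (𝟙_ (DRing.Cx A))) (bIso φ (𝟙_ (DRing.Cx A)))) (αL φ) (DTen.qis R)

@[reassoc]
lemma γIso_fac (X : DRing.Cx R) :
    (γIso φ).hom.app (q X) ≫ (DRing.restrictD φ).map ((αext φ).app X) ≫
        (bIso φ ((extCx φ).obj X)).hom ≫ qm (inv (cInv φ X)) =
      (q X ◁ (bIso φ (𝟙_ (DRing.Cx A))).hom) ≫ ee X ((resCx φ).obj (𝟙_ (DRing.Cx A))) := by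
  have := Functor.leftDerivedNatTrans_app (tensorRight (PA φ)) (Lext φ ⋙ DRing.restrictD φ)
    (αT ((resCx φ).obj (𝟙_ (DRing.Cx A))) (bIso φ (𝟙_ (DRing.Cx A)))) (αL φ) (DTen.qis R) (𝟙 _) X
  rw [NatTrans.id_app, Category.comp_id] at this
  exact this

end Base

end Groth.Agent.H10.RH
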