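import Mathlib

/-!
# Two-term complexes and a quasi-isomorphism criterion
-/

set_option autoImplicit false
universe v u
open CategoryTheory CategoryTheory.Limits ZeroObject

namespace Groth.Agent.H10.RH.Two

variable {C : Type u} [Category.{v} C]

section Def

variable [HasZeroMorphisms C] [HasZeroObject C]

/-- objects of the two-term complex with `X₀` in degree `-1` and `X₁` in degree `0` -/
noncomputable def twoX (X₀ X₁ : C) : ℤ → C
  | Int.negSucc 0 => X₀
  | Int.ofNat 0 => X₁
  | _ => 0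

/-- differential -/
noncomputable def twoD {X₀ X₁ : C} (f : X₀ ⟶ X₁) : ∀ i j : ℤ, twoX X₀ X₁ i ⟶ twoX X₀ X₁ j
  | Int.negSucc 0, Int.ofNat 0 => f
  | _, _ => 0

lemma twoD_eq_zero_of_ne {X₀ X₁ : C} (f : X₀ ⟶ X₁) (i j : ℤ) (h : ¬ (i = -1 ∧ j = 0)) :
    twoD f i j = 0 := by
  unfold twoD
  split
  · exact absurd ⟨rfl, rfl⟩ h
  · rfl

/-- The complex `X₀ ⟶ X₁` in degrees `-1`, `0`. -/
noncomputable def two {X₀ X₁ : C} (f : X₀ ⟶ X₁) : CochainComplex C ℤ where
  X := twoX X₀ X₁
  d := twoD f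
  shape i j h := twoD_eq_zero_of_ne f i j (fun ⟨h1, h2⟩ => h (by subst h1 h2; rfl))
  d_comp_d' i j k hij hjk := by
    by_cases h : j = 0
    · rw [twoD_eq_zero_of_ne f j k (fun ⟨h1, _⟩ => by omega), comp_zero]
    · rw [twoD_eq_zero_of_ne f i j (fun ⟨_, h2⟩ => h h2), zero_comp]

lemma isZero_two_X {X₀ X₁ : C} (f : X₀ ⟶ X₁) (n : ℤ) (h1 : n ≠ -1) (h2 : n ≠ 0) :
    IsZero ((two f).X n) := by
  change IsZero (twoX X₀ X₁ n)
  unfold twoX
  split
  · exact absurd rfl h1
  · exact absurd rfl h2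
  · exact isZero_zero C

lemma two_X_neg_one {X₀ X₁ : C} (f : X₀ ⟶ X₁) : (two f).X (-1) = X₀ := rfl
lemma two_X_zero {X₀ X₁ : C} (f : X₀ ⟶ X₁) : (two f).X 0 = X₁ := rfl
lemma two_d {X₀ X₁ : C} (f : X₀ ⟶ X₁) : (two f).d (-1) 0 = f := rfl

end Def

section Criterion

variable [Abelian C]

omit [Abelian C] in
lemma hφ_aux [HasZeroMorphisms C] (K : CochainComplex C ℤ) (i j : ℤ) (hij : i + 1 = j) {M : C}
    (π : K.X j ⟶ M) (hπ : K.d i j ≫ π = 0) :
    ∀ i' : ℤ, (ComplexShape.up ℤ).Rel i' j → K.d i' j ≫ π = 0 := by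
  intro i' hi'
  obtain rfl : i' = i := by
    simp only [ComplexShape.up_Rel] at hi'
    omega
  exact hπ

/-- The map from a complex to the single complex. -/
noncomputable def toSingle (K : CochainComplex C ℤ) (i j : ℤ) (hij : i + 1 = j) {M : C}
    (π : K.X j ⟶ M) (hπ : K.d i j ≫ π = 0) :
    K ⟶ (HomologicalComplex.single C (ComplexShape.up ℤ) j).obj M :=
  HomologicalComplex.mkHomToSingle π (hφ_aux K i j hij π hπ)

/-- A complex concentrated in degrees `i`, `i + 1` with injective differential is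
quasi-isomorphic to the cokernel of its differential placed in degree `i + 1`. -/
theorem quasiIso_toSingle (K : CochainComplex C ℤ) (i j : ℤ) (hij : i + 1 = j)
    (hK : ∀ n : ℤ, n ≠ i → n ≠ j → IsZero (K.X n)) {M : C} (π : K.X j ⟶ M)
    (hπ : K.d i j ≫ π = 0) (hmono : Mono (K.d i j))
    (hex : (ShortComplex.mk (K.d i j) π hπ).Exact) (hepi : Epi π) :
    QuasiIso (toSingle K i j hij π hπ) := by
  subst hij
  dsimp only [toSingle]
  rw [quasiIso_iff]
  intro n
  by_cases hn1 : n = i + 1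
  · subst hn1
    rw [quasiIsoAt_iff' _ i (i + 1) (i + 1 + 1) (by simp) (by simp),
      ShortComplex.quasiIso_iff_of_zeros']
    · change (ShortComplex.mk (K.d i (i + 1)) ((HomologicalComplex.mkHomToSingle π
        (hφ_aux K i (i + 1) rfl π hπ)).f (i + 1)) _).Exact ∧
        Epi ((HomologicalComplex.mkHomToSingle π (hφ_aux K i (i + 1) rfl π hπ)).f (i + 1))
      simp only [HomologicalComplex.mkHomToSingle_f]
      refine ⟨?_, inferInstance⟩
      refine ShortComplex.exact_of_iso ?_ hex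
      exact ShortComplex.isoMk (Iso.refl _) (Iso.refl _)
        (HomologicalComplex.singleObjXSelf (ComplexShape.up ℤ) (i + 1) M).symm
        (by simp) (by simp)
    · exact (hK (i + 1 + 1) (by omega) (by omega)).eq_of_tgt _ _
    · exact HomologicalComplex.single_obj_d (ComplexShape.up ℤ) _ _ _ _
    · exact HomologicalComplex.single_obj_d (ComplexShape.up ℤ) _ _ _ _
  · have h2 : ((HomologicalComplex.single C (ComplexShape.up ℤ) (i + 1)).obj M).ExactAt n :=
      HomologicalComplex.ExactAt.of_isZero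
        (HomologicalComplex.isZero_single_obj_X (ComplexShape.up ℤ) _ _ _ hn1)
    rw [quasiIsoAt_iff_exactAt' _ _ h2]
    by_cases hn0 : n = i
    · subst hn0
      rw [HomologicalComplex.exactAt_iff' K (n - 1) n (n + 1) (by simp) (by simp)]
      have hf : (K.sc' (n - 1) n (n + 1)).f = 0 :=
        (hK (n - 1) (by omega) (by omega)).eq_of_src _ _
      rw [ShortComplex.exact_iff_mono _ hf]
      exact hmono
    · exact HomologicalComplex.ExactAt.of_isZero (hK n hn0 hn1)

end Criterion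

end Groth.Agent.H10.RH.Two
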