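import Mathlib

/-!
# The dual of an invertible ideal

`I = ker (R → A)` an invertible ideal with `R → A` surjective, `N` an inverse of `A ⊗ I`.
Then `0 → Hom(R, R) → Hom((kI R A), R) → N → 0` is exact.
-/

set_option autoImplicit false
universe u
open scoped TensorProduct

namespace Groth.Agent.H10.RH.Ker

variable {R A : Type u} [CommRing R] [CommRing A] [Algebra R A]

variable (R A) in
/-- the kernel -/
abbrev kI : Ideal R := RingHom.ker (algebraMap R A)


variable {N : Type u} [AddCommGroup N] [Module A N] [Module R N] [IsScalarTower R A N]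
  (e : (A ⊗[R] (kI R A)) ⊗[A] N ≃ₗ[A] A)

/-- `N ≃ Hom_A (A ⊗ (kI R A), A)`. -/
noncomputable def Φ : N ≃ₗ[A] Module.Dual A (A ⊗[R] (kI R A)) :=
  Module.Invertible.linearEquivDual (TensorProduct.comm A N (A ⊗[R] (kI R A)) ≪≫ₗ e)

/-- The map `Hom_R ((kI R A), R) → N`. -/
noncomputable def piLin : Module.Dual R (kI R A) →ₗ[R] N :=
  ((Φ e).symm.toLinearMap.restrictScalars R) ∘ₗ
    ((LinearMap.liftBaseChangeEquiv (R := R) (M := (kI R A)) (N := A) A).toLinearMap.restrictScalars R) ∘ₗ
      (LinearMap.compRight R (Algebra.linearMap R A))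

lemma piLin_apply (f : Module.Dual R (kI R A)) :
    piLin e f = (Φ e).symm (LinearMap.liftBaseChangeEquiv A ((Algebra.linearMap R A) ∘ₗ f)) := rfl

lemma piLin_eq_zero_iff (f : Module.Dual R (kI R A)) : piLin e f = 0 ↔ ∀ i : (kI R A), f i ∈ (kI R A) := by
  rw [piLin_apply, LinearEquiv.map_eq_zero_iff, LinearEquiv.map_eq_zero_iff]
  constructor
  · intro h i
    have := LinearMap.congr_fun h i
    simpa [RingHom.mem_ker] using this
  · intro h
    ext i
    simpa [RingHom.mem_ker] using h i

/-- restriction `Hom(R, R) → Hom((kI R A), R)` -/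
noncomputable abbrev tr : Module.Dual R R →ₗ[R] Module.Dual R (kI R A) :=
  Module.Dual.transpose (R := R) (Submodule.subtype (kI R A))

lemma tr_apply (g : Module.Dual R R) (i : (kI R A)) : tr (A := A) g i = g (i : R) := rfl

variable [Module.Invertible R (kI R A)]

lemma tr_injective : Function.Injective (tr (R := R) (A := A)) := by
  rw [← LinearMap.ker_eq_bot, LinearMap.ker_eq_bot']
  intro g hg
  have h1 : ∀ i : (kI R A), g (1 : R) • i = (0 : R) • i := by
    intro i
    rw [zero_smul]
    apply Subtype.ext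
    have := LinearMap.congr_fun hg i
    rw [tr_apply] at this
    change g 1 • (i : R) = 0
    rw [smul_eq_mul, mul_comm, ← smul_eq_mul, ← map_smul, smul_eq_mul, mul_one]
    exact this
  have h2 : g 1 = 0 := FaithfulSMul.eq_of_smul_eq_smul (α := (kI R A)) h1
  ext
  simpa using h2

lemma ker_piLin : LinearMap.ker (piLin e) = LinearMap.range (tr (R := R) (A := A)) := by
  ext f
  rw [LinearMap.mem_ker, piLin_eq_zero_iff, LinearMap.mem_range]
  constructor
  · intro h
    let f' : (kI R A) →ₗ[R] (kI R A) := f.codRestrict (kI R A) h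
    obtain ⟨r, hr⟩ := (Module.Invertible.toModuleEnd_bijective R (kI R A)).surjective f'
    refine ⟨r • LinearMap.id, ?_⟩
    ext i
    rw [tr_apply]
    have := LinearMap.congr_fun hr i
    have h3 : (f' i : R) = f i := rfl
    rw [← h3, ← this]
    simp
  · rintro ⟨g, rfl⟩ i
    rw [tr_apply]
    have : g (i : R) = (i : R) • g 1 := by
      rw [← map_smul, smul_eq_mul, mul_one]
    rw [this]
    exact Ideal.mul_mem_right _ _ i.2

include e in
lemma piLin_surjective (hφ : Function.Surjective (algebraMap R A)) :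
    Function.Surjective (piLin e) := by
  intro n
  let h : (kI R A) →ₗ[R] A := (LinearMap.liftBaseChangeEquiv (R := R) (M := (kI R A)) (N := A) A).symm (Φ e n)
  obtain ⟨f, hf⟩ := Module.projective_lifting_property (Algebra.linearMap R A) h hφ
  refine ⟨f, ?_⟩
  rw [piLin_apply, hf]
  simp [h]

end Groth.Agent.H10.RH.Ker
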