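import Groth.Agent.H10.DT4d

/-!
# Right adjoint mates of maps of finite projective modules are transposes
-/

set_option autoImplicit false
universe u
open CategoryTheory CategoryTheory.Limits MonoidalCategory

namespace Groth.Agent.H10.RH.Mate

open Groth.Agent.H10.DT

variable {A : Type u} [CommRing A] {P Q : ModuleCat.{u} A}
  [Module.Finite A P] [Module.Projective A P] [Module.Finite A Q] [Module.Projective A Q]

attribute [local instance] Mod.hasRightDual

lemma rightAdjointMate_eq (f : P ⟶ Q) :
    fᘁ = (ModuleCat.ofHom (Module.Dual.transpose (R := A) f.hom) : Mod.dualObj Q ⟶ Mod.dualObj P) := by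
  have h := rightAdjointMate_comp_evaluation f
  ext g
  refine LinearMap.ext (fun x => ?_)
  have h2 := congrArg (fun k => k.hom (g ⊗ₜ[A] x)) h
  exact h2

end Groth.Agent.H10.RH.Mate
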