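import Groth.Agent.H10.RH6
import Groth.Agent.H10.RH7
import Groth.Agent.H10.RH8
import Groth.Agent.H10.DT5

/-!
# The two-term resolution of `A = R / I` and its dual
-/

set_option autoImplicit false
universe u
open CategoryTheory CategoryTheory.Limits MonoidalCategory
open scoped TensorProduct

namespace Groth.Agent.H10.RH.Inv

open Groth.Agent.H10.DT Groth.Agent.H10.RH.Ker Groth.Agent.H10.RH.Two

variable (R A : Type u) [CommRing R] [CommRing A] [Algebra R A]

/-- The complex `I → R` in degrees `-1`, `0`. -/
noncomputable def E : DRing.Cx R :=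
  two (ModuleCat.ofHom (Submodule.subtype (kI R A)))

lemma E_vanishes : DRing.VanishesOutside (E R A) (-1) 0 := by
  intro i hi
  exact isZero_two_X _ i (by omega) (by omega)

variable [Module.Invertible R (kI R A)]

lemma finite_E_X (p : ℤ) : Module.Finite R ((E R A).X p) := by
  by_cases h1 : p = -1
  · subst h1
    change Module.Finite R (kI R A)
    infer_instance
  · by_cases h0 : p = 0
    · subst h0
      change Module.Finite R R
      infer_instance
    · have := ModuleCat.subsingleton_of_isZero (isZero_two_X
        (ModuleCat.ofHom (Submodule.subtype (kI R A))) p h1 h0)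
      change Subsingleton ((E R A).X p) at this
      infer_instance

lemma projective_E_X (p : ℤ) : Module.Projective R ((E R A).X p) := by
  by_cases h1 : p = -1
  · subst h1
    change Module.Projective R (kI R A)
    infer_instance
  · by_cases h0 : p = 0
    · subst h0
      change Module.Projective R R
      infer_instance
    · have := ModuleCat.subsingleton_of_isZero (isZero_two_X
        (ModuleCat.ofHom (Submodule.subtype (kI R A))) p h1 h0)
      change Subsingleton ((E R A).X p) at this
      infer_instance

lemma E_fp : DRing.TermwiseFiniteProjective (E R A) :=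
  fun p => ⟨finite_E_X R A p, projective_E_X R A p⟩

instance (p : ℤ) : Module.Finite R ((E R A).X p) := finite_E_X R A p
instance (p : ℤ) : Module.Projective R ((E R A).X p) := projective_E_X R A p

/-- right duals of the terms -/
@[instance_reducible]
noncomputable def hasRightDual_E_X (p : ℤ) : HasRightDual ((E R A).X p) :=
  Mod.hasRightDual ((E R A).X p)

attribute [local instance] hasRightDual_E_X

/-- The dual complex `Hom(R, R) → Hom(I, R)` in degrees `0`, `1`. -/
noncomputable abbrev E' : DRing.Cx R := Cx.rd (E R A)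

lemma isZero_E'_X (n : ℤ) (h0 : n ≠ 0) (h1 : n ≠ 1) : IsZero ((E' R A).X n) := by
  apply Cx.isZero_rightDual
  exact isZero_two_X _ (-n) (by omega) (by omega)

lemma E'_d : (E' R A).d 0 1 =
    (ModuleCat.ofHom (-(tr (R := R) (A := A))) :
      ModuleCat.of R (Module.Dual R R) ⟶ ModuleCat.of R (Module.Dual R (kI R A))) := by
  have h1 : (E' R A).d 0 1 = (1 : ℤ).negOnePow • ((E R A).d (-1) 0)ᘁ :=
    Cx.rd_d (E R A) 0
  rw [h1, Int.negOnePow_one, Mate.rightAdjointMate_eq, Units.neg_smul, one_smul]
  rfl

/-! ### `E` resolves `A` -/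

section E1

omit [Module.Invertible R (kI R A)]

/-- `A` as an `R`-module. -/
noncomputable abbrev AR : ModuleCat.{u} R :=
  (ModuleCat.restrictScalars (algebraMap R A)).obj (𝟙_ (ModuleCat.{u} A))

/-- `R → A` -/
noncomputable def π₀ : (E R A).X 0 ⟶ AR R A :=
  ModuleCat.ofHom (X := R) (Y := AR R A)
    { toFun := fun r => (algebraMap R A r : A)
      map_add' := fun x y => map_add (algebraMap R A) x y
      map_smul' := fun r x => by
        change algebraMap R A (r * x) = algebraMap R A r * algebraMap R A x
        rw [map_mul] }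

lemma π₀_apply (r : R) : (π₀ R A).hom r = (algebraMap R A r : A) := rfl

lemma E_d_apply (i : kI R A) : ((E R A).d (-1) 0).hom i = (i : R) := rfl

lemma E_d_π₀ : (E R A).d (-1) 0 ≫ π₀ R A = 0 := by
  ext (i : kI R A)
  change algebraMap R A (i : R) = 0
  exact i.2

variable {R A} in
lemma quasiIso_E (hφ : Function.Surjective (algebraMap R A)) :
    QuasiIso (toSingle (E R A) (-1) 0 (by simp) (π₀ R A) (E_d_π₀ R A)) := by
  apply quasiIso_toSingle
  · intro n h1 h0
    exact isZero_two_X _ n h1 h0
  · rw [ModuleCat.mono_iff_injective]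
    intro x y h
    exact Subtype.ext h
  · rw [ShortComplex.moduleCat_exact_iff]
    intro x hx
    exact ⟨⟨x, hx⟩, rfl⟩
  · rw [ModuleCat.epi_iff_surjective]
    exact hφ

end E1

/-! ### `E'` resolves `N[-1]` -/

section E2

variable {R A}
variable {N : Type u} [AddCommGroup N] [Module A N]
  (e : (A ⊗[R] (kI R A)) ⊗[A] N ≃ₗ[A] A)

variable (R A N) in
/-- `N` as an `R`-module. -/
noncomputable abbrev NR : ModuleCat.{u} R :=
  (ModuleCat.restrictScalars (algebraMap R A)).obj (ModuleCat.of A N)

/-- `Hom(I, R) → N` as a linear map to the restriction of scalars. -/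
noncomputable def π₁lin : Module.Dual R (kI R A) →ₗ[R] NR R A N :=
  letI : Module R N := Module.compHom N (algebraMap R A)
  haveI : IsScalarTower R A N := IsScalarTower.of_algebraMap_smul (fun _ _ => rfl)
  (show Module.Dual R (kI R A) →ₗ[R] N from piLin e)

lemma π₁lin_surjective (hφ : Function.Surjective (algebraMap R A)) :
    Function.Surjective (π₁lin e) :=
  letI : Module R N := Module.compHom N (algebraMap R A)
  haveI : IsScalarTower R A N := IsScalarTower.of_algebraMap_smul (fun _ _ => rfl)
  piLin_surjective e hφ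

lemma ker_π₁lin : LinearMap.ker (π₁lin e) = LinearMap.range (tr (R := R) (A := A)) :=
  letI : Module R N := Module.compHom N (algebraMap R A)
  haveI : IsScalarTower R A N := IsScalarTower.of_algebraMap_smul (fun _ _ => rfl)
  ker_piLin e

/-- `Hom(I, R) → N` -/
noncomputable def π₁ : (E' R A).X 1 ⟶ NR R A N :=
  ModuleCat.ofHom (X := Module.Dual R (kI R A)) (Y := NR R A N) (π₁lin e)

lemma π₁_apply (f : Module.Dual R (kI R A)) : (π₁ e).hom f = π₁lin e f := rfl

lemma E'_d_apply (g : Module.Dual R R) : ((E' R A).d 0 1).hom g = -(tr (R := R) (A := A) g) := by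
  rw [E'_d]
  rfl

lemma E'_d_π₁ : (E' R A).d 0 1 ≫ π₁ e = 0 := by
  ext (g : Module.Dual R R)
  change (π₁ e).hom (((E' R A).d 0 1).hom g) = 0
  rw [E'_d_apply, π₁_apply, map_neg, neg_eq_zero, ← LinearMap.mem_ker, ker_π₁lin]
  exact LinearMap.mem_range_self _ g

lemma quasiIso_E' (hφ : Function.Surjective (algebraMap R A)) :
    QuasiIso (toSingle (E' R A) 0 1 (by simp) (π₁ e) (E'_d_π₁ e)) := by
  apply quasiIso_toSingle
  · intro n h0 h1
    exact isZero_E'_X R A n h0 h1
  · rw [ModuleCat.mono_iff_injective]
    intro (x : Module.Dual R R) (y : Module.Dual R R) h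
    rw [E'_d_apply, E'_d_apply] at h
    have h' : -(tr (R := R) (A := A) x) = -(tr (R := R) (A := A) y) := h
    exact tr_injective (neg_inj.1 h')
  · rw [ShortComplex.moduleCat_exact_iff]
    intro (x : Module.Dual R (kI R A)) hx
    change π₁lin e x = 0 at hx
    rw [← LinearMap.mem_ker, ker_π₁lin] at hx
    obtain ⟨g, hg⟩ := hx
    refine ⟨(-g : Module.Dual R R), ?_⟩
    change ((E' R A).d 0 1).hom (-g) = x
    rw [E'_d_apply, map_neg, neg_neg, hg]
  · rw [ModuleCat.epi_iff_surjective]
    exact π₁lin_surjective e hφ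

end E2

end Groth.Agent.H10.RH.Inv
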