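import Groth.Agent.H10.RH4
import Groth.Agent.H10.DT5

/-!
# Restriction of scalars `D(R') ⥤ D(R)` is lax monoidal (associativity)
-/

set_option autoImplicit false
universe u
open CategoryTheory CategoryTheory.Limits MonoidalCategory
attribute [local instance] HasDerivedCategory.standard

namespace Groth.Agent.H10.RHM

open DTen Groth.Agent.H10.DT Groth.Agent.H10.RH Groth.Agent.H45.MultiDer
  Groth.Agent.H45.MultiDer.DTenC

variable {R R' : Type u} [CommRing R] [CommRing R'] (φ : R →+* R')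
  [DTen.HasLTen R] [DTen.HasLTen₃ R] [DTen.IsSymMonoidal R]
  [DTen.HasLTen R'] [DTen.HasLTen₃ R'] [DTen.IsSymMonoidal R']
  [DTen.HasResTen φ] [DTen.ResLegIso φ]

/-- restriction on derived categories -/
noncomputable abbrev res : Dual.D R' ⥤ Dual.D R := DRing.restrictD φ

/-- The lax structure map `res Y ⊗ res Y' ⟶ res (Y ⊗ Y')`. -/
noncomputable abbrev m (Y Y' : Dual.D R') :
    tn ((res φ).obj Y) ((res φ).obj Y') ⟶ (res φ).obj (tn Y Y') :=
  (resPF φ).app (Y, Y')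

omit [DTen.HasLTen₃ R] [DTen.IsSymMonoidal R] [DTen.HasLTen₃ R'] [DTen.IsSymMonoidal R'] in
@[reassoc]
lemma m_naturality {Y₁ Y₂ Y₁' Y₂' : Dual.D R'} (f : Y₁ ⟶ Y₂) (g : Y₁' ⟶ Y₂') :
    tm ((res φ).map f) ((res φ).map g) ≫ m φ Y₂ Y₂' = m φ Y₁ Y₁' ≫ (res φ).map (tm f g) :=
  (resPF φ).naturality (Prod.mkHom f g : (Y₁, Y₁') ⟶ (Y₂, Y₂'))

omit [DTen.HasLTen₃ R] [DTen.IsSymMonoidal R] [DTen.HasLTen₃ R'] [DTen.IsSymMonoidal R'] in
/-- The characterisation of `m` on complexes. -/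
@[reassoc]
lemma m_fac (Y Y' : DRing.Cx R') :
    m φ (q Y) (q Y') ≫ (res φ).map (ee Y Y') ≫ (bIso φ (Y ⊗ Y')).hom =
      tm (bIso φ Y).hom (bIso φ Y').hom ≫ ee ((resCx φ).obj Y) ((resCx φ).obj Y') ≫
        qm (resTenCx φ Y Y') :=
  resPF_fac φ (Y, Y')

/-- notation: restricted complex -/
noncomputable abbrev rc (Y : DRing.Cx R') : DRing.Cx R := (resCx φ).obj Y

omit [DTen.HasLTen₃ R] [DTen.IsSymMonoidal R] in
/-- Left side of the associativity, computed on complexes. -/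
lemma assoc_lhs (a b c : DRing.Cx R') :
    tm (m φ (q a) (q b)) (𝟙 ((res φ).obj (q c))) ≫ m φ (tn (q a) (q b)) (q c) ≫
        (res φ).map (associator (q a) (q b) (q c)).hom ≫
        (res φ).map (tm (𝟙 (q a)) (ee b c)) ≫ (res φ).map (ee a (b ⊗ c)) ≫
        (bIso φ (a ⊗ (b ⊗ c))).hom =
      tm (tm (bIso φ a).hom (bIso φ b).hom) (bIso φ c).hom ≫
        tm (ee (rc φ a) (rc φ b)) (𝟙 (q (rc φ c))) ≫ ee (rc φ a ⊗ rc φ b) (rc φ c) ≫
        qm ((resTenCx φ a b ▷ rc φ c) ≫ resTenCx φ (a ⊗ b) c ≫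
          (resCx φ).map (α_ a b c).hom) := by
  have h1 : (res φ).map (associator (q a) (q b) (q c)).hom ≫
      (res φ).map (tm (𝟙 (q a)) (ee b c)) ≫ (res φ).map (ee a (b ⊗ c)) =
      (res φ).map (tm (ee a b) (𝟙 (q c))) ≫ (res φ).map (ee (a ⊗ b) c) ≫
        (res φ).map (qm (α_ a b c).hom) := by
    rw [← Functor.map_comp, ← Functor.map_comp, ← Functor.map_comp, ← Functor.map_comp,
      associator_transfer]
  have h2 : m φ (tn (q a) (q b)) (q c) ≫ (res φ).map (tm (ee a b) (𝟙 (q c))) =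
      tm ((res φ).map (ee a b)) ((res φ).map (𝟙 (q c))) ≫ m φ (q (a ⊗ b)) (q c) :=
    (m_naturality φ (ee a b) (𝟙 (q c))).symm
  have h3 : (res φ).map (qm (α_ a b c).hom) ≫ (bIso φ (a ⊗ (b ⊗ c))).hom =
      (bIso φ ((a ⊗ b) ⊗ c)).hom ≫ qm ((resCx φ).map (α_ a b c).hom) :=
    bIso_hom_naturality φ (α_ a b c).hom
  have h4 := m_fac φ (a ⊗ b) c
  have h5 := m_fac φ a b
  have h6 : tm (qm (resTenCx φ a b)) (𝟙 (q (rc φ c))) ≫ ee (rc φ (a ⊗ b)) (rc φ c) =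
      ee (rc φ a ⊗ rc φ b) (rc φ c) ≫ qm (resTenCx φ a b ▷ rc φ c) :=
    ε_naturality_left (resTenCx φ a b) (rc φ c)
  calc _ = tm (m φ (q a) (q b)) (𝟙 ((res φ).obj (q c))) ≫
        (m φ (tn (q a) (q b)) (q c) ≫ (res φ).map (tm (ee a b) (𝟙 (q c)))) ≫
        (res φ).map (ee (a ⊗ b) c) ≫ (res φ).map (qm (α_ a b c).hom) ≫
        (bIso φ (a ⊗ (b ⊗ c))).hom := by
        rw [reassoc_of% h1]
        simp only [Category.assoc]
    _ = tm (m φ (q a) (q b)) (𝟙 ((res φ).obj (q c))) ≫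
        tm ((res φ).map (ee a b)) ((res φ).map (𝟙 (q c))) ≫
        (m φ (q (a ⊗ b)) (q c) ≫ (res φ).map (ee (a ⊗ b) c) ≫ (bIso φ ((a ⊗ b) ⊗ c)).hom) ≫
        qm ((resCx φ).map (α_ a b c).hom) := by
        rw [h2, h3]
        simp only [Category.assoc]
    _ = (tm (m φ (q a) (q b)) (𝟙 ((res φ).obj (q c))) ≫
        tm ((res φ).map (ee a b)) ((res φ).map (𝟙 (q c))) ≫
        tm (bIso φ (a ⊗ b)).hom (bIso φ c).hom) ≫ ee (rc φ (a ⊗ b)) (rc φ c) ≫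
        qm (resTenCx φ (a ⊗ b) c) ≫ qm ((resCx φ).map (α_ a b c).hom) := by
        rw [h4]
        simp only [Category.assoc]
    _ = (tm (tm (bIso φ a).hom (bIso φ b).hom) (bIso φ c).hom ≫
        tm (ee (rc φ a) (rc φ b)) (𝟙 (q (rc φ c))) ≫
        tm (qm (resTenCx φ a b)) (𝟙 (q (rc φ c)))) ≫ ee (rc φ (a ⊗ b)) (rc φ c) ≫
        qm (resTenCx φ (a ⊗ b) c) ≫ qm ((resCx φ).map (α_ a b c).hom) := by
        congr 1
        rw [← tm_comp, ← tm_comp, ← tm_comp, ← tm_comp, h5]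
        simp only [CategoryTheory.Functor.map_id, Category.id_comp, Category.comp_id]
    _ = _ := by
        simp only [Category.assoc]
        rw [reassoc_of% h6, ← Functor.map_comp, ← Functor.map_comp]

omit [DTen.HasLTen₃ R'] [DTen.IsSymMonoidal R'] in
/-- Right side of the associativity, computed on complexes. -/
lemma assoc_rhs (a b c : DRing.Cx R') :
    (associator ((res φ).obj (q a)) ((res φ).obj (q b)) ((res φ).obj (q c))).hom ≫
        tm (𝟙 ((res φ).obj (q a))) (m φ (q b) (q c)) ≫ m φ (q a) (tn (q b) (q c)) ≫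
        (res φ).map (tm (𝟙 (q a)) (ee b c)) ≫ (res φ).map (ee a (b ⊗ c)) ≫
        (bIso φ (a ⊗ (b ⊗ c))).hom =
      tm (tm (bIso φ a).hom (bIso φ b).hom) (bIso φ c).hom ≫
        tm (ee (rc φ a) (rc φ b)) (𝟙 (q (rc φ c))) ≫ ee (rc φ a ⊗ rc φ b) (rc φ c) ≫
        qm ((α_ (rc φ a) (rc φ b) (rc φ c)).hom ≫ (rc φ a ◁ resTenCx φ b c) ≫
          resTenCx φ a (b ⊗ c)) := by
  have g1 : m φ (q a) (tn (q b) (q c)) ≫ (res φ).map (tm (𝟙 (q a)) (ee b c)) =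
      tm ((res φ).map (𝟙 (q a))) ((res φ).map (ee b c)) ≫ m φ (q a) (q (b ⊗ c)) :=
    (m_naturality φ (𝟙 (q a)) (ee b c)).symm
  have g2 := m_fac φ a (b ⊗ c)
  have g3 := m_fac φ b c
  have g4 : tm (𝟙 (q (rc φ a))) (qm (resTenCx φ b c)) ≫ ee (rc φ a) (rc φ (b ⊗ c)) =
      ee (rc φ a) (rc φ b ⊗ rc φ c) ≫ qm (rc φ a ◁ resTenCx φ b c) :=
    ε_naturality_right (rc φ a) (resTenCx φ b c)
  have g5 := associator_naturality (bIso φ a).hom (bIso φ b).hom (bIso φ c).hom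
  have g6 := associator_transfer (rc φ a) (rc φ b) (rc φ c)
  calc _ = (associator ((res φ).obj (q a)) ((res φ).obj (q b)) ((res φ).obj (q c))).hom ≫
        tm (𝟙 ((res φ).obj (q a))) (m φ (q b) (q c)) ≫
        tm ((res φ).map (𝟙 (q a))) ((res φ).map (ee b c)) ≫
        (m φ (q a) (q (b ⊗ c)) ≫ (res φ).map (ee a (b ⊗ c)) ≫
        (bIso φ (a ⊗ (b ⊗ c))).hom) := by
        rw [reassoc_of% g1]
    _ = (associator ((res φ).obj (q a)) ((res φ).obj (q b)) ((res φ).obj (q c))).hom ≫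
        (tm (𝟙 ((res φ).obj (q a))) (m φ (q b) (q c)) ≫
        tm ((res φ).map (𝟙 (q a))) ((res φ).map (ee b c)) ≫
        tm (bIso φ a).hom (bIso φ (b ⊗ c)).hom) ≫ ee (rc φ a) (rc φ (b ⊗ c)) ≫
        qm (resTenCx φ a (b ⊗ c)) := by
        rw [g2]
        simp only [Category.assoc]
    _ = (associator ((res φ).obj (q a)) ((res φ).obj (q b)) ((res φ).obj (q c))).hom ≫
        (tm (bIso φ a).hom (tm (bIso φ b).hom (bIso φ c).hom) ≫
        tm (𝟙 (q (rc φ a))) (ee (rc φ b) (rc φ c)) ≫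
        tm (𝟙 (q (rc φ a))) (qm (resTenCx φ b c))) ≫ ee (rc φ a) (rc φ (b ⊗ c)) ≫
        qm (resTenCx φ a (b ⊗ c)) := by
        congr 2
        rw [← tm_comp, ← tm_comp, ← tm_comp, ← tm_comp, g3]
        simp only [CategoryTheory.Functor.map_id, Category.id_comp, Category.comp_id]
    _ = tm (tm (bIso φ a).hom (bIso φ b).hom) (bIso φ c).hom ≫
        ((associator (q (rc φ a)) (q (rc φ b)) (q (rc φ c))).hom ≫
        tm (𝟙 (q (rc φ a))) (ee (rc φ b) (rc φ c)) ≫ ee (rc φ a) (rc φ b ⊗ rc φ c)) ≫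
        qm (rc φ a ◁ resTenCx φ b c) ≫ qm (resTenCx φ a (b ⊗ c)) := by
        simp only [Category.assoc]
        rw [reassoc_of% g4, ← reassoc_of% g5]
    _ = _ := by
        rw [g6]
        simp only [Category.assoc, Functor.map_comp]

/-- The associativity of `m` on K-flat complexes. -/
theorem assoc_q (a b c : DRing.Cx R') (ha : DRing.IsKFlat R' a) (hb : DRing.IsKFlat R' b) :
    tm (m φ (q a) (q b)) (𝟙 ((res φ).obj (q c))) ≫ m φ (tn (q a) (q b)) (q c) ≫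
        (res φ).map (associator (q a) (q b) (q c)).hom =
      (associator ((res φ).obj (q a)) ((res φ).obj (q b)) ((res φ).obj (q c))).hom ≫
        tm (𝟙 ((res φ).obj (q a))) (m φ (q b) (q c)) ≫ m φ (q a) (tn (q b) (q c)) := by
  have : IsIso (ee b c) := isIso_ee b c (Or.inl hb)
  have : IsIso (ee a (b ⊗ c)) := isIso_ee a (b ⊗ c) (Or.inl ha)
  rw [← cancel_mono ((res φ).map (tm (𝟙 (q a)) (ee b c)) ≫ (res φ).map (ee a (b ⊗ c)) ≫
    (bIso φ (a ⊗ (b ⊗ c))).hom)]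
  simp only [Category.assoc]
  rw [assoc_lhs, assoc_rhs, resTenCx_assoc]

omit [DTen.HasLTen₃ R] [DTen.IsSymMonoidal R] in
lemma assoc_lhs_naturality {X₁ X₂ Y₁ Y₂ Z₁ Z₂ : Dual.D R'} (f : X₁ ⟶ X₂) (g : Y₁ ⟶ Y₂)
    (h : Z₁ ⟶ Z₂) :
    tm (tm ((res φ).map f) ((res φ).map g)) ((res φ).map h) ≫
        tm (m φ X₂ Y₂) (𝟙 ((res φ).obj Z₂)) ≫ m φ (tn X₂ Y₂) Z₂ ≫
        (res φ).map (associator X₂ Y₂ Z₂).hom =
      (tm (m φ X₁ Y₁) (𝟙 ((res φ).obj Z₁)) ≫ m φ (tn X₁ Y₁) Z₁ ≫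
        (res φ).map (associator X₁ Y₁ Z₁).hom) ≫ (res φ).map (tm f (tm g h)) := by
  have h1 := m_naturality φ f g
  have h2 := m_naturality φ (tm f g) h
  have h3 := associator_naturality f g h
  calc _ = tm (tm ((res φ).map f) ((res φ).map g) ≫ m φ X₂ Y₂) ((res φ).map h ≫ 𝟙 _) ≫
        m φ (tn X₂ Y₂) Z₂ ≫ (res φ).map (associator X₂ Y₂ Z₂).hom := by
        rw [tm_comp, Category.assoc]
    _ = tm (m φ X₁ Y₁ ≫ (res φ).map (tm f g)) (𝟙 _ ≫ (res φ).map h) ≫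
        m φ (tn X₂ Y₂) Z₂ ≫ (res φ).map (associator X₂ Y₂ Z₂).hom := by
        rw [h1, Category.comp_id, Category.id_comp]
    _ = tm (m φ X₁ Y₁) (𝟙 _) ≫ (tm ((res φ).map (tm f g)) ((res φ).map h) ≫
        m φ (tn X₂ Y₂) Z₂) ≫ (res φ).map (associator X₂ Y₂ Z₂).hom := by
        rw [tm_comp]
        simp only [Category.assoc]
    _ = _ := by
        rw [h2]
        simp only [Category.assoc]
        rw [← Functor.map_comp, h3, Functor.map_comp]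

omit [DTen.HasLTen₃ R'] [DTen.IsSymMonoidal R'] in
lemma assoc_rhs_naturality {X₁ X₂ Y₁ Y₂ Z₁ Z₂ : Dual.D R'} (f : X₁ ⟶ X₂) (g : Y₁ ⟶ Y₂)
    (h : Z₁ ⟶ Z₂) :
    tm (tm ((res φ).map f) ((res φ).map g)) ((res φ).map h) ≫
        (associator ((res φ).obj X₂) ((res φ).obj Y₂) ((res φ).obj Z₂)).hom ≫
        tm (𝟙 ((res φ).obj X₂)) (m φ Y₂ Z₂) ≫ m φ X₂ (tn Y₂ Z₂) =
      ((associator ((res φ).obj X₁) ((res φ).obj Y₁) ((res φ).obj Z₁)).hom ≫
        tm (𝟙 ((res φ).obj X₁)) (m φ Y₁ Z₁) ≫ m φ X₁ (tn Y₁ Z₁)) ≫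
        (res φ).map (tm f (tm g h)) := by
  have h1 := m_naturality φ g h
  have h2 := m_naturality φ f (tm g h)
  have h3 := associator_naturality ((res φ).map f) ((res φ).map g) ((res φ).map h)
  calc _ = (associator ((res φ).obj X₁) ((res φ).obj Y₁) ((res φ).obj Z₁)).hom ≫
        tm ((res φ).map f ≫ 𝟙 _) (tm ((res φ).map g) ((res φ).map h) ≫ m φ Y₂ Z₂) ≫
        m φ X₂ (tn Y₂ Z₂) := by
        rw [reassoc_of% h3, tm_comp, Category.assoc]
    _ = (associator ((res φ).obj X₁) ((res φ).obj Y₁) ((res φ).obj Z₁)).hom ≫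
        tm (𝟙 _ ≫ (res φ).map f) (m φ Y₁ Z₁ ≫ (res φ).map (tm g h)) ≫
        m φ X₂ (tn Y₂ Z₂) := by
        rw [h1, Category.comp_id, Category.id_comp]
    _ = _ := by
        rw [tm_comp]
        simp only [Category.assoc]
        rw [h2]

/-- The associativity of the lax structure of restriction. -/
theorem assoc (X Y Z : Dual.D R') :
    tm (m φ X Y) (𝟙 ((res φ).obj Z)) ≫ m φ (tn X Y) Z ≫
        (res φ).map (associator X Y Z).hom =
      (associator ((res φ).obj X) ((res φ).obj Y) ((res φ).obj Z)).hom ≫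
        tm (𝟙 ((res φ).obj X)) (m φ Y Z) ≫ m φ X (tn Y Z) := by
  obtain ⟨a, ha, ⟨eX⟩⟩ := exists_kflat_rep X
  obtain ⟨b, hb, ⟨eY⟩⟩ := exists_kflat_rep Y
  obtain ⟨c, -, ⟨eZ⟩⟩ := exists_kflat_rep Z
  have h1 := assoc_lhs_naturality φ eX.hom eY.hom eZ.hom
  have h2 := assoc_rhs_naturality φ eX.hom eY.hom eZ.hom
  rw [assoc_q φ a b c ha hb, ← h2] at h1
  exact (cancel_epi _).1 h1

end Groth.Agent.H10.RHM
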