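import Groth.Agent.H10.RH3
import Mathlib.Algebra.Category.ModuleCat.Monoidal.Symmetric

/-!
# The left-handed projection formula at the level of complexes

`res N ⊗_R X ⟶ res (N ⊗_A (X ⊗_R A))` is an isomorphism of complexes of `R`-modules.
-/

set_option autoImplicit false
universe u
open CategoryTheory CategoryTheory.Limits MonoidalCategory

namespace Groth.Agent.H10.RHM

open DTen HomologicalComplex Groth.Agent.H10.DT.Cx Groth.Agent.H10.RH

variable {R A : Type u} [CommRing R] [CommRing A] (φ : R →+* A)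

section ModuleLevel

open TensorProduct

/-- The module level projection map `res N ⊗_R M ⟶ res (N ⊗_A (A ⊗_R M))`. -/
noncomputable def sL₀ (M : ModuleCat.{u} R) (N : ModuleCat.{u} A) :
    MonoidalCategory.tensorObj ((resM φ).obj N) M ⟶
      (resM φ).obj (MonoidalCategory.tensorObj N ((RH.extM φ).obj M)) :=
  ((resM φ).obj N ◁ (ModuleCat.extendRestrictScalarsAdj.{u, u, u} φ).unit.app M) ≫
    resTen₀app φ N ((RH.extM φ).obj M)

set_option backward.isDefEq.respectTransparency false in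
lemma sL₀_eq (M : ModuleCat.{u} R) (N : ModuleCat.{u} A) :
    sL₀ φ M N = (β_ ((resM φ).obj N) M).hom ≫ s₀ φ M N ≫
      (resM φ).map (β_ ((RH.extM φ).obj M) N).hom :=
  ModuleCat.hom_ext (TensorProduct.ext' (fun _ _ => rfl))

instance isIso_sL₀ (M : ModuleCat.{u} R) (N : ModuleCat.{u} A) : IsIso (sL₀ φ M N) := by
  rw [sL₀_eq]
  have : IsIso (s₀ φ M N) := ⟨t₀ φ M N, s₀_t₀ φ M N, t₀_s₀ φ M N⟩
  infer_instance

end ModuleLevel

/-! ### Complex level -/

/-- The left projection map `res N ⊗_R X ⟶ res (N ⊗_A (X ⊗_R A))` for complexes. -/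
noncomputable def sCxL (X : DRing.Cx R) (N : DRing.Cx A) :
    (resCx φ).obj N ⊗ X ⟶ (resCx φ).obj (N ⊗ (extCx φ).obj X) :=
  ((resCx φ).obj N ◁ (unitCx φ).app X) ≫ resTenCx φ N ((extCx φ).obj X)

@[reassoc]
lemma ι_sCxL (X : DRing.Cx R) (N : DRing.Cx A) (p q n : ℤ) (h : p + q = n) :
    ιTensorObj ((resCx φ).obj N) X p q n h ≫ (sCxL φ X N).f n =
      sL₀ φ (X.X q) (N.X p) ≫ (resM φ).map (ιTensorObj N ((extCx φ).obj X) p q n h) := by
  dsimp only [sCxL]
  rw [HomologicalComplex.comp_f, ι_whiskerLeft_assoc]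
  erw [ι_resTenCx φ N ((extCx φ).obj X) p q n h]
  rfl

set_option backward.isDefEq.respectTransparency false in
/-- The inverse of `sCxL` in degree `n`, out of the total complex of the restricted bicomplex. -/
noncomputable def tXL (X : DRing.Cx R) (N : DRing.Cx A) (n : ℤ) :
    (((TotMap.map₂ (resM φ) (ComplexShape.up ℤ) (ComplexShape.up ℤ)).obj
      (tenBicx N ((extCx φ).obj X))).total (ComplexShape.up ℤ)).X n ⟶
      ((resCx φ).obj N ⊗ X).X n :=
  HomologicalComplex₂.totalDesc _ (fun p q h =>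
    inv (sL₀ φ (X.X q) (N.X p)) ≫ ιTensorObj ((resCx φ).obj N) X p q n h)

set_option backward.isDefEq.respectTransparency false in
lemma sCxL_f_tXL (X : DRing.Cx R) (N : DRing.Cx A) (n : ℤ) :
    (sCxL φ X N).f n ≫
      (TotMap.mapTotalXIso (resM φ) (tenBicx N ((extCx φ).obj X)) (ComplexShape.up ℤ) n).hom ≫
        tXL φ X N n = 𝟙 _ := by
  apply HomologicalComplex.mapBifunctor.hom_ext
  intro p q h
  erw [ι_sCxL_assoc φ X N p q n h]
  rw [Category.assoc]
  erw [TotMap.map_ιTotal_mapTotalXIso_hom_assoc (resM φ) (tenBicx N ((extCx φ).obj X))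
    (ComplexShape.up ℤ) p q n h]
  dsimp only [tXL]
  erw [HomologicalComplex₂.ι_totalDesc]
  rw [IsIso.hom_inv_id_assoc]
  exact (Category.comp_id _).symm

set_option backward.isDefEq.respectTransparency false in
lemma tXL_sCxL_f (X : DRing.Cx R) (N : DRing.Cx A) (n : ℤ) :
    tXL φ X N n ≫ (sCxL φ X N).f n =
      (TotMap.mapTotalXIso (resM φ) (tenBicx N ((extCx φ).obj X)) (ComplexShape.up ℤ) n).inv := by
  apply TotMap.mapTotalXIso_inv_unique
  intro p q h
  dsimp only [tXL]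
  erw [HomologicalComplex₂.ι_totalDesc_assoc]
  rw [Category.assoc]
  erw [ι_sCxL φ X N p q n h]
  rw [IsIso.inv_hom_id_assoc]

instance isIso_sCxL (X : DRing.Cx R) (N : DRing.Cx A) : IsIso (sCxL φ X N) := by
  have : ∀ n, IsIso ((sCxL φ X N).f n) := fun n => by
    refine ⟨(TotMap.mapTotalXIso (resM φ) (tenBicx N ((extCx φ).obj X))
      (ComplexShape.up ℤ) n).hom ≫ tXL φ X N n, sCxL_f_tXL φ X N n, ?_⟩
    rw [Category.assoc, tXL_sCxL_f, Iso.hom_inv_id]
  exact HomologicalComplex.Hom.isIso_of_components _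

/-- `res 𝟙 ⊗ Y ≅ res (ext Y)` on complexes. -/
noncomputable def cInvL (Y : DRing.Cx R) :
    (resCx φ).obj (𝟙_ (DRing.Cx A)) ⊗ Y ⟶ (resCx φ).obj ((extCx φ).obj Y) :=
  sCxL φ Y (𝟙_ (DRing.Cx A)) ≫ (resCx φ).map (λ_ ((extCx φ).obj Y)).hom

instance isIso_cInvL (Y : DRing.Cx R) : IsIso (cInvL φ Y) := by
  dsimp only [cInvL]
  infer_instance

end Groth.Agent.H10.RHM
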