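import Groth.Agent.H10.DT3
import Mathlib.CategoryTheory.Monoidal.Functor

/-!
# Formal lemmas: the projection map `G 𝟙 ⊗ Y ⟶ G (L Y)` of a monoidal adjunction and base change
for internal homs when `G 𝟙` is dualizable
-/

set_option autoImplicit false
universe v₁ v₂ u₁ u₂
open CategoryTheory MonoidalCategory

namespace Groth.Agent.H10.RHM.Gen

open Functor.LaxMonoidal Functor.OplaxMonoidal

variable {C : Type u₁} [Category.{v₁} C] [MonoidalCategory C]
  {D : Type u₂} [Category.{v₂} D] [MonoidalCategory D]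
  {L : C ⥤ D} {G : D ⥤ C} [L.OplaxMonoidal] [G.LaxMonoidal] (adj : L ⊣ G) [adj.IsMonoidal]

/-- The projection map `G 𝟙 ⊗ Y ⟶ G (L Y)`. -/
def γl (Y : C) : G.obj (𝟙_ D) ⊗ Y ⟶ G.obj (L.obj Y) :=
  (G.obj (𝟙_ D) ◁ adj.unit.app Y) ≫ μ G (𝟙_ D) (L.obj Y) ≫ G.map (λ_ (L.obj Y)).hom

omit [L.OplaxMonoidal] [adj.IsMonoidal] in
@[reassoc]
lemma γl_naturality {Y Y' : C} (f : Y ⟶ Y') :
    (G.obj (𝟙_ D) ◁ f) ≫ γl adj Y' = γl adj Y ≫ G.map (L.map f) := by
  dsimp only [γl]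
  have h1 := adj.unit.naturality f
  dsimp at h1
  have h2 := μ_natural_right G (𝟙_ D) (L.map f)
  have h3 := leftUnitor_naturality (L.map f)
  calc _ = (G.obj (𝟙_ D) ◁ (f ≫ adj.unit.app Y')) ≫ μ G (𝟙_ D) (L.obj Y') ≫
        G.map (λ_ (L.obj Y')).hom := by
        rw [MonoidalCategory.whiskerLeft_comp, Category.assoc]
    _ = (G.obj (𝟙_ D) ◁ adj.unit.app Y) ≫ (G.obj (𝟙_ D) ◁ G.map (L.map f) ≫
        μ G (𝟙_ D) (L.obj Y')) ≫ G.map (λ_ (L.obj Y')).hom := by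
        rw [h1, MonoidalCategory.whiskerLeft_comp]
        simp only [Category.assoc]
    _ = _ := by
        rw [h2]
        simp only [Category.assoc]
        rw [← G.map_comp, h3, G.map_comp]

/-- Compatibility of `γl` with tensor products. -/
lemma γl_tensor (Y K : C) :
    (γl adj Y ▷ K) ≫ (G.obj (L.obj Y) ◁ adj.unit.app K) ≫ μ G (L.obj Y) (L.obj K) =
      (α_ (G.obj (𝟙_ D)) Y K).hom ≫ γl adj (Y ⊗ K) ≫ G.map (δ L Y K) := by
  have e1 : (λ_ (L.obj (Y ⊗ K))).hom ≫ δ L Y K =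
      (𝟙_ D ◁ δ L Y K) ≫ (λ_ (L.obj Y ⊗ L.obj K)).hom := (leftUnitor_naturality _).symm
  have e2 := μ_natural_right G (𝟙_ D) (δ L Y K)
  have e3 := adj.unit_app_tensor_comp_map_δ Y K
  have e4 := associativity G (𝟙_ D) (L.obj Y) (L.obj K)
  have e5 : (λ_ (L.obj Y ⊗ L.obj K)).hom =
      (α_ (𝟙_ D) (L.obj Y) (L.obj K)).inv ≫ (λ_ (L.obj Y)).hom ▷ L.obj K :=
    leftUnitor_tensor_hom _ _
  have e6 := μ_natural_left G (λ_ (L.obj Y)).hom (L.obj K)
  -- the right hand side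
  have hR : (α_ (G.obj (𝟙_ D)) Y K).hom ≫ γl adj (Y ⊗ K) ≫ G.map (δ L Y K) =
      (α_ (G.obj (𝟙_ D)) Y K).hom ≫
        (G.obj (𝟙_ D) ◁ ((adj.unit.app Y ⊗ₘ adj.unit.app K) ≫ μ G (L.obj Y) (L.obj K))) ≫
        μ G (𝟙_ D) (L.obj Y ⊗ L.obj K) ≫ G.map (λ_ (L.obj Y ⊗ L.obj K)).hom := by
    dsimp only [γl]
    simp only [Category.assoc]
    rw [← G.map_comp, e1, G.map_comp, ← reassoc_of% e2, ← e3,
      MonoidalCategory.whiskerLeft_comp]
    simp only [Category.assoc]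
  have e7 := associativity_inv G (𝟙_ D) (L.obj Y) (L.obj K)
  have hm : (((G.obj (𝟙_ D) ◁ adj.unit.app Y) ≫ μ G (𝟙_ D) (L.obj Y) ≫
        G.map (λ_ (L.obj Y)).hom) ▷ K) ≫ (G.obj (L.obj Y) ◁ adj.unit.app K) =
      (α_ (G.obj (𝟙_ D)) Y K).hom ≫ (G.obj (𝟙_ D) ◁ (adj.unit.app Y ⊗ₘ adj.unit.app K)) ≫
        (α_ (G.obj (𝟙_ D)) (G.obj (L.obj Y)) (G.obj (L.obj K))).inv ≫
        (μ G (𝟙_ D) (L.obj Y) ▷ G.obj (L.obj K)) ≫
        (G.map (λ_ (L.obj Y)).hom ▷ G.obj (L.obj K)) := by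
    rw [comp_whiskerRight, Category.assoc, ← whisker_exchange, tensorHom_def,
      MonoidalCategory.whiskerLeft_comp, comp_whiskerRight]
    simp only [Category.assoc, Functor.id_obj, Functor.comp_obj]
    monoidal
  rw [hR, e5, G.map_comp]
  calc _ = ((((G.obj (𝟙_ D) ◁ adj.unit.app Y) ≫ μ G (𝟙_ D) (L.obj Y) ≫
        G.map (λ_ (L.obj Y)).hom) ▷ K) ≫ (G.obj (L.obj Y) ◁ adj.unit.app K)) ≫
        μ G (L.obj Y) (L.obj K) := by
        dsimp only [γl]
        rw [Category.assoc]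
    _ = _ := by
        rw [hm, MonoidalCategory.whiskerLeft_comp]
        simp only [Category.assoc]
        rw [reassoc_of% e7, e6]

section InternalHom

open Groth.Agent.H10.DT.Gen

variable (K : C) {H : C ⥤ C} (adjK : tensorRight K ⊣ H) {H' : D ⥤ D}
  (adjK' : tensorRight (L.obj K) ⊣ H') (M : C)
  (β : L.obj (H.obj M) ⟶ H'.obj (L.obj M))
  (hβ : δ L (H.obj M) K ≫ (β ▷ L.obj K) ≫ adjK'.counit.app (L.obj M) =
    L.map (adjK.counit.app M))
  (ρ : G.obj (H'.obj (L.obj M)) ⟶ H.obj (G.obj (L.obj M)))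
  (hρ : (ρ ▷ K) ≫ adjK.counit.app (G.obj (L.obj M)) =
    (G.obj (H'.obj (L.obj M)) ◁ adj.unit.app K) ≫ μ G (H'.obj (L.obj M)) (L.obj K) ≫
      G.map (adjK'.counit.app (L.obj M)))

include hβ hρ in
/-- The key identity: through the projection maps `γl`, restriction of the base change map `β`
for internal homs followed by the comparison `ρ` is the evaluation map `evT`. -/
theorem γl_comp_map_comp :
    γl adj (H.obj M) ≫ G.map β ≫ ρ =
      evT (G.obj (𝟙_ D)) K adjK M ≫ H.map (γl adj M) := by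
  apply (adjK.homEquiv _ _).symm.injective
  rw [Adjunction.homEquiv_counit, Adjunction.homEquiv_counit]
  change ((γl adj (H.obj M) ≫ G.map β ≫ ρ) ▷ K) ≫ adjK.counit.app (G.obj (L.obj M)) =
    ((evT (G.obj (𝟙_ D)) K adjK M ≫ H.map (γl adj M)) ▷ K) ≫ adjK.counit.app (G.obj (L.obj M))
  -- right hand side
  have r1 : (H.map (γl adj M) ▷ K) ≫ adjK.counit.app (G.obj (L.obj M)) =
      adjK.counit.app (G.obj (𝟙_ D) ⊗ M) ≫ γl adj M :=
    adjK.counit.naturality (γl adj M)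
  have r2 : (evT (G.obj (𝟙_ D)) K adjK M ▷ K) ≫ adjK.counit.app (G.obj (𝟙_ D) ⊗ M) =
      (α_ (G.obj (𝟙_ D)) (H.obj M) K).hom ≫ G.obj (𝟙_ D) ◁ adjK.counit.app M := by
    have := (adjK.homEquiv _ _).symm_apply_apply
      ((α_ (G.obj (𝟙_ D)) (H.obj M) K).hom ≫ G.obj (𝟙_ D) ◁ adjK.counit.app M)
    rw [Adjunction.homEquiv_counit] at this
    exact this
  -- left hand side
  have l1 := μ_natural_left G β (L.obj K)
  have l2 := γl_tensor adj (H.obj M) K
  have l3 := γl_naturality adj (adjK.counit.app M)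
  calc _ = (γl adj (H.obj M) ▷ K) ≫ (G.map β ▷ K) ≫ (ρ ▷ K) ≫
        adjK.counit.app (G.obj (L.obj M)) := by
        rw [comp_whiskerRight, comp_whiskerRight]
        simp only [Category.assoc]
    _ = (γl adj (H.obj M) ▷ K) ≫ ((G.map β ▷ K) ≫
        (G.obj (H'.obj (L.obj M)) ◁ adj.unit.app K)) ≫ μ G (H'.obj (L.obj M)) (L.obj K) ≫
        G.map (adjK'.counit.app (L.obj M)) := by
        rw [hρ]
        simp only [Category.assoc]
    _ = (γl adj (H.obj M) ▷ K) ≫ (G.obj (L.obj (H.obj M)) ◁ adj.unit.app K) ≫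
        ((G.map β ▷ G.obj (L.obj K)) ≫ μ G (H'.obj (L.obj M)) (L.obj K)) ≫
        G.map (adjK'.counit.app (L.obj M)) := by
        rw [← whisker_exchange]
        simp only [Category.assoc]
        rfl
    _ = ((γl adj (H.obj M) ▷ K) ≫ (G.obj (L.obj (H.obj M)) ◁ adj.unit.app K) ≫
        μ G (L.obj (H.obj M)) (L.obj K)) ≫ G.map ((β ▷ L.obj K) ≫
        adjK'.counit.app (L.obj M)) := by
        rw [l1, G.map_comp]
        simp only [Category.assoc]
    _ = (α_ (G.obj (𝟙_ D)) (H.obj M) K).hom ≫ γl adj (H.obj M ⊗ K) ≫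
        G.map (L.map (adjK.counit.app M)) := by
        rw [l2, ← hβ]
        simp only [Category.assoc, Functor.map_comp]
    _ = _ := by
        rw [comp_whiskerRight, Category.assoc, r1, reassoc_of% r2]
        erw [← l3]
        rfl

include hβ hρ in
/-- If `G 𝟙` is dualizable, the projection maps and `ρ` are isomorphisms and `G` reflects
isomorphisms, then the base change map for internal homs is an isomorphism. -/
theorem isIso_of_exactPairing_unit (P' : C) [ExactPairing (G.obj (𝟙_ D)) P']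
    [G.ReflectsIsomorphisms] [IsIso ρ] [IsIso (γl adj (H.obj M))] [IsIso (γl adj M)] :
    IsIso β := by
  have h := γl_comp_map_comp adj K adjK adjK' M β hβ ρ hρ
  have : IsIso (evT (G.obj (𝟙_ D)) K adjK M) := isIso_evT_left (G.obj (𝟙_ D)) P' K adjK M
  have h1 : IsIso (γl adj (H.obj M) ≫ G.map β ≫ ρ) := by
    rw [h]
    infer_instance
  have h2 : IsIso (G.map β ≫ ρ) := IsIso.of_isIso_comp_left (γl adj (H.obj M)) _
  have h3 : IsIso (G.map β) := IsIso.of_isIso_comp_right _ ρ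
  exact isIso_of_reflects_iso β G

end InternalHom

end Groth.Agent.H10.RHM.Gen
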