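import Groth.Agent.H10.RHM7
import Groth.Agent.H10.RHM8
import Groth.Agent.H10.RHM9

/-!
# The projection map `res 𝟙 ⊗^L Y ⟶ res (Y ⊗^L_R R')` is an isomorphism
-/

set_option autoImplicit false
universe u
open CategoryTheory CategoryTheory.Limits MonoidalCategory
attribute [local instance] HasDerivedCategory.standard

namespace Groth.Agent.H10.RHM

open DTen Groth.Agent.H10.DT Groth.Agent.H10.RH Groth.Agent.H45.MultiDer
  Groth.Agent.H45.MultiDer.DTenC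

variable {R R' : Type u} [CommRing R] [CommRing R'] (φ : R →+* R')
  [DTen.HasLTen R] [DTen.HasLTen₃ R] [DTen.IsSymMonoidal R]
  [DTen.HasLTen R'] [DTen.HasLTen₃ R'] [DTen.IsSymMonoidal R']
  [DTen.HasResTen φ] [DTen.ResLegIso φ] [DTen.HasLBase φ]

attribute [local instance] DT.monoidal laxMonoidal oplaxMonoidal

/-- The projection map `res 𝟙 ⊗^L Y ⟶ res (Y ⊗^L_R R')`. -/
noncomputable abbrev gl (Y : Dual.D R) :
    tn ((res φ).obj (DTen.unit R')) Y ⟶ (res φ).obj ((LBase φ).obj Y) :=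
  Gen.γl (baseAdj φ) Y

/-- The projection map computed on complexes. -/
lemma gl_q (Y₀ : DRing.Cx R) :
    gl φ (q Y₀) ≫ (res φ).map ((baseCmp φ).app Y₀) ≫ (bIso φ ((extCx φ).obj Y₀)).hom =
      tm (bIso φ (𝟙_ (DRing.Cx R'))).hom (𝟙 (q Y₀)) ≫ ee (rc φ (𝟙_ (DRing.Cx R'))) Y₀ ≫
        qm (cInvL φ Y₀) := by
  have h1 : gl φ (q Y₀) = tm (𝟙 ((res φ).obj (DTen.unit R'))) ((baseAdj φ).unit.app (q Y₀)) ≫
      m φ (DTen.unit R') ((LBase φ).obj (q Y₀)) ≫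
      (res φ).map (DTen.leftUnitor ((LBase φ).obj (q Y₀))).hom := rfl
  have h2 := DT.leftUnitor_naturality ((baseCmp φ).app Y₀)
  have h3 : tm ((res φ).map (𝟙 (DTen.unit R'))) ((res φ).map ((baseCmp φ).app Y₀)) ≫
      m φ (DTen.unit R') (q ((extCx φ).obj Y₀)) =
      m φ (DTen.unit R') ((LBase φ).obj (q Y₀)) ≫
        (res φ).map (tm (𝟙 (DTen.unit R')) ((baseCmp φ).app Y₀)) :=
    m_naturality φ (𝟙 (DTen.unit R')) ((baseCmp φ).app Y₀)
  have h4 := baseCmp_fac φ Y₀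
  have h5 : (baseγ φ).app Y₀ = qm ((unitCx φ).app Y₀) ≫ (bIso φ ((extCx φ).obj Y₀)).inv := rfl
  have h6 : (DTen.leftUnitor (q ((extCx φ).obj Y₀))).hom =
      ee (𝟙_ (DRing.Cx R')) ((extCx φ).obj Y₀) ≫ qm (λ_ ((extCx φ).obj Y₀)).hom :=
    unitL_app R' _
  have h7 := m_fac φ (𝟙_ (DRing.Cx R')) ((extCx φ).obj Y₀)
  have h8 := bIso_hom_naturality φ (λ_ ((extCx φ).obj Y₀)).hom
  have h9 : tm (𝟙 (q (rc φ (𝟙_ (DRing.Cx R'))))) (qm ((unitCx φ).app Y₀)) ≫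
      ee (rc φ (𝟙_ (DRing.Cx R'))) (rc φ ((extCx φ).obj Y₀)) =
      ee (rc φ (𝟙_ (DRing.Cx R'))) Y₀ ≫ qm (rc φ (𝟙_ (DRing.Cx R')) ◁ (unitCx φ).app Y₀) :=
    ε_naturality_right (rc φ (𝟙_ (DRing.Cx R'))) ((unitCx φ).app Y₀)
  have h2' : (res φ).map (DTen.leftUnitor ((LBase φ).obj (q Y₀))).hom ≫
      (res φ).map ((baseCmp φ).app Y₀) =
      (res φ).map (tm (𝟙 (DTen.unit R')) ((baseCmp φ).app Y₀)) ≫
        (res φ).map (DTen.leftUnitor (q ((extCx φ).obj Y₀))).hom := by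
    rw [← Functor.map_comp, ← Functor.map_comp]
    exact congrArg _ h2.symm
  calc _ = tm (𝟙 ((res φ).obj (DTen.unit R'))) ((baseAdj φ).unit.app (q Y₀)) ≫
        (m φ (DTen.unit R') ((LBase φ).obj (q Y₀)) ≫
        (res φ).map (tm (𝟙 (DTen.unit R')) ((baseCmp φ).app Y₀))) ≫
        (res φ).map (DTen.leftUnitor (q ((extCx φ).obj Y₀))).hom ≫
        (bIso φ ((extCx φ).obj Y₀)).hom := by
        rw [h1]
        simp only [Category.assoc]
        rw [reassoc_of% h2']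
    _ = (tm (𝟙 ((res φ).obj (DTen.unit R'))) ((baseAdj φ).unit.app (q Y₀)) ≫
        tm ((res φ).map (𝟙 (DTen.unit R'))) ((res φ).map ((baseCmp φ).app Y₀))) ≫
        m φ (DTen.unit R') (q ((extCx φ).obj Y₀)) ≫
        (res φ).map (ee (𝟙_ (DRing.Cx R')) ((extCx φ).obj Y₀)) ≫
        (res φ).map (qm (λ_ ((extCx φ).obj Y₀)).hom) ≫
        (bIso φ ((extCx φ).obj Y₀)).hom := by
        rw [← h3, h6, Functor.map_comp]
        simp only [Category.assoc]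
    _ = tm (𝟙 ((res φ).obj (DTen.unit R')))
          (qm ((unitCx φ).app Y₀) ≫ (bIso φ ((extCx φ).obj Y₀)).inv) ≫
        (m φ (q (𝟙_ (DRing.Cx R'))) (q ((extCx φ).obj Y₀)) ≫
        (res φ).map (ee (𝟙_ (DRing.Cx R')) ((extCx φ).obj Y₀)) ≫
        (bIso φ (𝟙_ (DRing.Cx R') ⊗ (extCx φ).obj Y₀)).hom) ≫
        qm ((resCx φ).map (λ_ ((extCx φ).obj Y₀)).hom) := by
        rw [← tm_comp, CategoryTheory.Functor.map_id, Category.comp_id]
        erw [h4]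
        rw [h5, h8]
        simp only [Category.assoc]
    _ = (tm (𝟙 ((res φ).obj (DTen.unit R')))
          (qm ((unitCx φ).app Y₀) ≫ (bIso φ ((extCx φ).obj Y₀)).inv) ≫
        tm (bIso φ (𝟙_ (DRing.Cx R'))).hom (bIso φ ((extCx φ).obj Y₀)).hom) ≫
        ee (rc φ (𝟙_ (DRing.Cx R'))) (rc φ ((extCx φ).obj Y₀)) ≫
        qm (resTenCx φ (𝟙_ (DRing.Cx R')) ((extCx φ).obj Y₀)) ≫
        qm ((resCx φ).map (λ_ ((extCx φ).obj Y₀)).hom) := by
        rw [h7]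
        simp only [Category.assoc]
    _ = tm (bIso φ (𝟙_ (DRing.Cx R'))).hom (𝟙 (q Y₀)) ≫
        (tm (𝟙 (q (rc φ (𝟙_ (DRing.Cx R'))))) (qm ((unitCx φ).app Y₀)) ≫
        ee (rc φ (𝟙_ (DRing.Cx R'))) (rc φ ((extCx φ).obj Y₀))) ≫
        qm (resTenCx φ (𝟙_ (DRing.Cx R')) ((extCx φ).obj Y₀)) ≫
        qm ((resCx φ).map (λ_ ((extCx φ).obj Y₀)).hom) := by
        rw [← tm_comp]
        simp only [Category.assoc, Iso.inv_hom_id, Category.id_comp, Category.comp_id]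
        rw [← tm_comp_assoc, Category.id_comp, Category.comp_id]
    _ = _ := by
        rw [h9]
        simp only [Category.assoc]
        rw [← Functor.map_comp, ← Functor.map_comp]
        rfl

/-- The projection map is an isomorphism on K-flat complexes. -/
lemma isIso_gl_q (Y₀ : DRing.Cx R) (hY₀ : DRing.IsKFlat R Y₀) : IsIso (gl φ (q Y₀)) := by
  have h := gl_q φ Y₀
  have i1 : IsIso ((baseCmp φ).app Y₀) := isIso_baseCmp_app φ Y₀ hY₀
  have i2 : IsIso (ee (rc φ (𝟙_ (DRing.Cx R'))) Y₀) := isIso_ee _ _ (Or.inr hY₀)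
  have i3 : IsIso (gl φ (q Y₀) ≫ (res φ).map ((baseCmp φ).app Y₀) ≫
      (bIso φ ((extCx φ).obj Y₀)).hom) := by
    rw [h]
    infer_instance
  exact IsIso.of_isIso_comp_right _ ((res φ).map ((baseCmp φ).app Y₀) ≫
      (bIso φ ((extCx φ).obj Y₀)).hom)

/-- The projection map `res 𝟙 ⊗^L Y ⟶ res (Y ⊗^L_R R')` is an isomorphism. -/
instance isIso_gl (Y : Dual.D R) : IsIso (gl φ Y) := by
  obtain ⟨Y₀, hY₀, ⟨e⟩⟩ := exists_kflat_rep Y
  have h := Gen.γl_naturality (baseAdj φ) e.hom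
  have i1 : IsIso (gl φ (q Y₀)) := isIso_gl_q φ Y₀ hY₀
  have i2 : IsIso (((res φ).obj (DTen.unit R') ◁ e.hom) ≫ gl φ Y) := by
    erw [h]
    infer_instance
  exact IsIso.of_isIso_comp_left ((res φ).obj (DTen.unit R') ◁ e.hom) _

end Groth.Agent.H10.RHM
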