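import Groth.Agent.H10.RHM10
import Groth.Agent.H10.RH2

/-!
# Base change for `RHom` when `R'` is a perfect `R`-module
-/

set_option autoImplicit false
universe u
open CategoryTheory CategoryTheory.Limits MonoidalCategory
attribute [local instance] HasDerivedCategory.standard

namespace Groth.Agent.H10.RHM

open DTen Groth.Agent.H10.DT Groth.Agent.H10.RH Groth.Agent.H45.MultiDer
  Groth.Agent.H45.MultiDer.DTenC

section General

variable {R R' : Type u} [CommRing R] [CommRing R'] (φ : R →+* R')
  [DTen.HasLTen R] [DTen.HasLTen₃ R] [DTen.IsSymMonoidal R]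
  [DTen.HasLTen R'] [DTen.HasLTen₃ R'] [DTen.IsSymMonoidal R']
  [DTen.HasResTen φ] [DTen.ResLegIso φ] [DTen.HasLBase φ]
  [DTen.HasRHom R] [DTen.HasRHom R']

attribute [local instance] DT.monoidal laxMonoidal oplaxMonoidal

/-- If `res R'` is dualizable in `D(R)`, the base change map for `RHom` is an isomorphism. -/
theorem isIso_bcRHom_of_exactPairing_unit (P' : Dual.D R)
    [ExactPairing ((res φ).obj (DTen.unit R')) P'] (K M : Dual.D R)
    [IsIso (rhomBC φ K ((LBase φ).obj M))] : IsIso (bcRHom φ K M) := by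
  have hβ := lbaseμ_bcRHom φ K M
  rw [← δ_eq] at hβ
  have hρ := rhomBC_fac φ K ((LBase φ).obj M)
  exact Gen.isIso_of_exactPairing_unit (baseAdj φ) K (rAdj K) (rAdj ((LBase φ).obj K)) M
    (bcRHom φ K M) hβ (rhomBC φ K ((LBase φ).obj M)) hρ P'

end General

section Algebra

variable (R R' : Type u) [CommRing R] [CommRing R'] [Algebra R R']

/-- The restriction of the unit `R'`-module is `R'` with its algebra module structure. -/
noncomputable def resUnitLinearEquiv :
    ((ModuleCat.restrictScalars.{u} (algebraMap R R')).obj (𝟙_ (ModuleCat.{u} R'))) ≃ₗ[R] R' where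
  toFun := fun x => x
  invFun := fun x => x
  map_add' := fun _ _ => rfl
  map_smul' := fun r x => (Algebra.smul_def r (show R' from x)).symm
  left_inv := fun _ => rfl
  right_inv := fun _ => rfl

/-- The restriction of the unit `R'`-module is `R'` with its algebra module structure. -/
noncomputable def resUnitIso :
    (ModuleCat.restrictScalars.{u} (algebraMap R R')).obj (𝟙_ (ModuleCat.{u} R')) ≅
      ModuleCat.of R R' :=
  (resUnitLinearEquiv R R').toModuleIso

/-- `res R' ≅ R'[0]` in `D(R)`. -/
noncomputable def resUnitIsoInD :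
    (DRing.restrictD (algebraMap R R')).obj (DTen.unit R') ≅ Dual.inD R R' :=
  bIso (algebraMap R R') (𝟙_ (DRing.Cx R')) ≪≫
    DerivedCategory.Q.mapIso
      ((HomologicalComplex.singleMapHomologicalComplex
        (ModuleCat.restrictScalars.{u} (algebraMap R R')) (ComplexShape.up ℤ) 0).app
          (𝟙_ (ModuleCat.{u} R')) ≪≫
        (HomologicalComplex.single (ModuleCat.{u} R) (ComplexShape.up ℤ) 0).mapIso
          (resUnitIso R R')) ≪≫
    ((DerivedCategory.singleFunctorIsoCompQ (ModuleCat.{u} R) 0).app (ModuleCat.of R R')).symm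

variable {R R'}

lemma isPerfect_res_unit (hR' : DRing.IsPerfectModule R R') :
    DRing.IsPerfect R ((DRing.restrictD (algebraMap R R')).obj (DTen.unit R')) := by
  obtain ⟨E, a, b, hv, hfp, ⟨e⟩⟩ := hR'
  exact ⟨E, a, b, hv, hfp, ⟨e ≪≫ (resUnitIsoInD R R').symm⟩⟩

variable [DTen.HasLTen R] [DTen.HasLTen₃ R] [DTen.IsSymMonoidal R]
  [DTen.HasLTen R'] [DTen.HasLTen₃ R'] [DTen.IsSymMonoidal R']
  [DTen.HasResTen (algebraMap R R')] [DTen.ResLegIso (algebraMap R R')]
  [DTen.HasLBase (algebraMap R R')] [DTen.HasRHom R] [DTen.HasRHom R']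

/-- Base change for `RHom` is an isomorphism when `R'` is perfect as an `R`-module. -/
theorem isIso_bcRHom_of_isPerfectModule (K M : Dual.D R)
    [IsIso (rhomBC (algebraMap R R') K ((LBase (algebraMap R R')).obj M))]
    (hR' : DRing.IsPerfectModule R R') : IsIso (bcRHom (algebraMap R R') K M) := by
  obtain ⟨P', -, ⟨hP⟩, -⟩ := exists_exactPairing_of_isPerfect _ (isPerfect_res_unit hR')
  exact isIso_bcRHom_of_exactPairing_unit (algebraMap R R') P' K M

end Algebra

end Groth.Agent.H10.RHM
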