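import Groth.Agent.H10.RH3

/-!
# The unit of the lax monoidal structure of restriction of scalars, on complexes
-/

set_option autoImplicit false
universe u
open CategoryTheory CategoryTheory.Limits MonoidalCategory

namespace Groth.Agent.H10.RHM

open DTen HomologicalComplex Groth.Agent.H10.DT.Cx Groth.Agent.H10.RH

variable {R R' : Type u} [CommRing R] [CommRing R'] (φ : R →+* R')

/-- The unit `𝟙 ⟶ res 𝟙` on modules. -/
noncomputable abbrev u₀ : 𝟙_ (ModuleCat.{u} R) ⟶ (resM φ).obj (𝟙_ (ModuleCat.{u} R')) :=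
  Functor.LaxMonoidal.ε (ModuleCat.restrictScalars.{u} φ)

/-- the identification of the degree `0` term of the unit complex -/
noncomputable abbrev SS (A : Type u) [CommRing A] :
    (𝟙_ (DRing.Cx A)).X 0 ≅ 𝟙_ (ModuleCat.{u} A) :=
  singleObjXSelf (ComplexShape.up ℤ) 0 (𝟙_ (ModuleCat.{u} A))

/-- The unit `𝟙 ⟶ res 𝟙` on complexes. -/
noncomputable def uCx : 𝟙_ (DRing.Cx R) ⟶ (resCx φ).obj (𝟙_ (DRing.Cx R')) :=
  HomologicalComplex.mkHomFromSingle (u₀ φ ≫ (resM φ).map (SS R').inv) (fun k _ => by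
    change _ ≫ (resM φ).map ((𝟙_ (DRing.Cx R')).d 0 k) = 0
    rw [show (𝟙_ (DRing.Cx R')).d 0 k = 0 from HomologicalComplex.single_obj_d _ _ _ _ _,
      Functor.map_zero, comp_zero])

lemma uCx_f : (uCx φ).f 0 = (SS R).hom ≫ u₀ φ ≫ (resM φ).map (SS R').inv :=
  HomologicalComplex.mkHomFromSingle_f _ _

lemma right_unit_mod (M : ModuleCat.{u} R') :
    ((resM φ).obj M ◁ u₀ φ) ≫ resTen₀app φ M (𝟙_ (ModuleCat.{u} R')) ≫
      (resM φ).map (ρ_ M).hom = (ρ_ ((resM φ).obj M)).hom := by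
  rw [resTen₀app_eq_μ]
  exact (Functor.LaxMonoidal.right_unitality (ModuleCat.restrictScalars.{u} φ) M).symm

lemma left_unit_mod (M : ModuleCat.{u} R') :
    (u₀ φ ▷ (resM φ).obj M) ≫ resTen₀app φ (𝟙_ (ModuleCat.{u} R')) M ≫
      (resM φ).map (λ_ M).hom = (λ_ ((resM φ).obj M)).hom := by
  rw [resTen₀app_eq_μ]
  exact (Functor.LaxMonoidal.left_unitality (ModuleCat.restrictScalars.{u} φ) M).symm

lemma ι_rightUnitor_hom {A : Type u} [CommRing A] (a : DRing.Cx A) (n : ℤ) :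
    (a.X n ◁ (SS A).inv) ≫ ιTensorObj a (𝟙_ (DRing.Cx A)) n 0 n (add_zero n) ≫
      (ρ_ a).hom.f n = (ρ_ (a.X n)).hom := by
  have h := rightUnitor_inv_f a n
  have h2 : (ρ_ a).inv.f n ≫ (ρ_ a).hom.f n = 𝟙 _ := by
    rw [← HomologicalComplex.comp_f, Iso.inv_hom_id, HomologicalComplex.id_f]
  rw [h, Category.assoc, Category.assoc, Iso.inv_comp_eq, Category.comp_id] at h2
  exact h2

lemma ι_leftUnitor_hom {A : Type u} [CommRing A] (a : DRing.Cx A) (n : ℤ) :
    ((SS A).inv ▷ a.X n) ≫ ιTensorObj (𝟙_ (DRing.Cx A)) a 0 n n (zero_add n) ≫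
      (λ_ a).hom.f n = (λ_ (a.X n)).hom := by
  have h := leftUnitor_inv_f a n
  have h2 : (λ_ a).inv.f n ≫ (λ_ a).hom.f n = 𝟙 _ := by
    rw [← HomologicalComplex.comp_f, Iso.inv_hom_id, HomologicalComplex.id_f]
  rw [h, Category.assoc, Category.assoc, Iso.inv_comp_eq, Category.comp_id] at h2
  exact h2

set_option backward.isDefEq.respectTransparency false in
/-- Right unitality on complexes. -/
theorem right_unit_cx (a : DRing.Cx R') :
    ((resCx φ).obj a ◁ uCx φ) ≫ resTenCx φ a (𝟙_ (DRing.Cx R')) ≫ (resCx φ).map (ρ_ a).hom =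
      (ρ_ ((resCx φ).obj a)).hom := by
  rw [← cancel_epi (ρ_ ((resCx φ).obj a)).inv, Iso.inv_hom_id]
  ext n : 1
  rw [HomologicalComplex.comp_f, HomologicalComplex.comp_f, HomologicalComplex.comp_f,
    HomologicalComplex.id_f, rightUnitor_inv_f]
  simp only [Category.assoc]
  rw [ι_whiskerLeft_assoc, uCx_f]
  erw [ι_resTenCx_assoc φ a (𝟙_ (DRing.Cx R')) n 0 n (add_zero n)]
  have h1 : ((resCx φ).map (ρ_ a).hom).f n = (resM φ).map ((ρ_ a).hom.f n) := rfl
  have key : (((resCx φ).obj a).X n ◁ (SS R).inv) ≫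
      (((resCx φ).obj a).X n ◁ ((SS R).hom ≫ u₀ φ ≫ (resM φ).map (SS R').inv)) =
      (((resCx φ).obj a).X n ◁ u₀ φ) ≫ (((resCx φ).obj a).X n ◁ (resM φ).map (SS R').inv) := by
    rw [← MonoidalCategory.whiskerLeft_comp, Iso.inv_hom_id_assoc,
      MonoidalCategory.whiskerLeft_comp]
  rw [h1, ← Functor.map_comp]
  erw [reassoc_of% key]
  erw [resTen₀app_natural_right_assoc φ (a.X n) (SS R').inv]
  rw [← Functor.map_comp, ι_rightUnitor_hom]
  erw [right_unit_mod φ (a.X n)]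
  exact Iso.inv_hom_id _

set_option backward.isDefEq.respectTransparency false in
/-- Left unitality on complexes. -/
theorem left_unit_cx (a : DRing.Cx R') :
    (uCx φ ▷ (resCx φ).obj a) ≫ resTenCx φ (𝟙_ (DRing.Cx R')) a ≫ (resCx φ).map (λ_ a).hom =
      (λ_ ((resCx φ).obj a)).hom := by
  rw [← cancel_epi (λ_ ((resCx φ).obj a)).inv, Iso.inv_hom_id]
  ext n : 1
  rw [HomologicalComplex.comp_f, HomologicalComplex.comp_f, HomologicalComplex.comp_f,
    HomologicalComplex.id_f, leftUnitor_inv_f]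
  simp only [Category.assoc]
  rw [ι_whiskerRight_assoc, uCx_f]
  erw [ι_resTenCx_assoc φ (𝟙_ (DRing.Cx R')) a 0 n n (zero_add n)]
  have h1 : ((resCx φ).map (λ_ a).hom).f n = (resM φ).map ((λ_ a).hom.f n) := rfl
  have key : ((SS R).inv ▷ ((resCx φ).obj a).X n) ≫
      (((SS R).hom ≫ u₀ φ ≫ (resM φ).map (SS R').inv) ▷ ((resCx φ).obj a).X n) =
      (u₀ φ ▷ ((resCx φ).obj a).X n) ≫ ((resM φ).map (SS R').inv ▷ ((resCx φ).obj a).X n) := by
    rw [← MonoidalCategory.comp_whiskerRight, Iso.inv_hom_id_assoc,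
      MonoidalCategory.comp_whiskerRight]
  rw [h1, ← Functor.map_comp]
  erw [reassoc_of% key]
  erw [resTen₀app_natural_left_assoc φ (SS R').inv (a.X n)]
  rw [← Functor.map_comp, ι_leftUnitor_hom]
  erw [left_unit_mod φ (a.X n)]
  exact Iso.inv_hom_id _

end Groth.Agent.H10.RHM
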