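import Groth.Agent.H10.RHM1
import Groth.Agent.H10.RHM2

/-!
# Restriction of scalars `D(R') ⥤ D(R)` is lax monoidal (units, and the structure)
-/

set_option autoImplicit false
universe u
open CategoryTheory CategoryTheory.Limits MonoidalCategory
attribute [local instance] HasDerivedCategory.standard

namespace Groth.Agent.H10.RHM

open DTen Groth.Agent.H10.DT Groth.Agent.H10.RH Groth.Agent.H45.MultiDer
  Groth.Agent.H45.MultiDer.DTenC

variable {R R' : Type u} [CommRing R] [CommRing R'] (φ : R →+* R')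
  [DTen.HasLTen R] [DTen.HasLTen₃ R] [DTen.IsSymMonoidal R]
  [DTen.HasLTen R'] [DTen.HasLTen₃ R'] [DTen.IsSymMonoidal R']
  [DTen.HasResTen φ] [DTen.ResLegIso φ]

omit [DTen.HasLTen R] [DTen.HasLTen₃ R] [DTen.IsSymMonoidal R]
  [DTen.HasLTen R'] [DTen.HasLTen₃ R'] [DTen.IsSymMonoidal R']
  [DTen.HasResTen φ] [DTen.ResLegIso φ] in
/-- The unit `𝟙 ⟶ res 𝟙` in `D(R)`. -/
noncomputable def e₀ : DTen.unit R ⟶ (res φ).obj (DTen.unit R') :=
  qm (uCx φ) ≫ (bIso φ (𝟙_ (DRing.Cx R'))).inv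

/-- Right unitality on complexes. -/
lemma right_unit_q (a : DRing.Cx R') :
    tm (𝟙 ((res φ).obj (q a))) (e₀ φ) ≫ m φ (q a) (DTen.unit R') ≫
        (res φ).map (rightUnitor (q a)).hom =
      (rightUnitor ((res φ).obj (q a))).hom := by
  rw [← cancel_mono (bIso φ a).hom]
  have h1 : (rightUnitor (q a)).hom = ee a (𝟙_ (DRing.Cx R')) ≫ qm (ρ_ a).hom := unitR_app R' a
  have h2 : (rightUnitor (q (rc φ a))).hom = ee (rc φ a) (𝟙_ (DRing.Cx R)) ≫ qm (ρ_ (rc φ a)).hom :=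
    unitR_app R (rc φ a)
  have h3 := m_fac φ a (𝟙_ (DRing.Cx R'))
  have h4 : (res φ).map (qm (ρ_ a).hom) ≫ (bIso φ a).hom =
      (bIso φ (a ⊗ 𝟙_ (DRing.Cx R'))).hom ≫ qm ((resCx φ).map (ρ_ a).hom) :=
    bIso_hom_naturality φ (ρ_ a).hom
  have h5 : tm (𝟙 (q (rc φ a))) (qm (uCx φ)) ≫ ee (rc φ a) (rc φ (𝟙_ (DRing.Cx R'))) =
      ee (rc φ a) (𝟙_ (DRing.Cx R)) ≫ qm (rc φ a ◁ uCx φ) :=
    ε_naturality_right (rc φ a) (uCx φ)
  have h6 := rightUnitor_naturality (bIso φ a).hom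
  calc _ = tm (𝟙 ((res φ).obj (q a))) (e₀ φ) ≫
        (m φ (q a) (q (𝟙_ (DRing.Cx R'))) ≫ (res φ).map (ee a (𝟙_ (DRing.Cx R'))) ≫
          (bIso φ (a ⊗ 𝟙_ (DRing.Cx R'))).hom) ≫ qm ((resCx φ).map (ρ_ a).hom) := by
        rw [h1, Functor.map_comp]
        simp only [Category.assoc]
        rw [h4]
    _ = (tm (𝟙 ((res φ).obj (q a))) (e₀ φ) ≫
        tm (bIso φ a).hom (bIso φ (𝟙_ (DRing.Cx R'))).hom) ≫
        ee (rc φ a) (rc φ (𝟙_ (DRing.Cx R'))) ≫ qm (resTenCx φ a (𝟙_ (DRing.Cx R'))) ≫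
        qm ((resCx φ).map (ρ_ a).hom) := by
        rw [h3]
        simp only [Category.assoc]
    _ = (tm (bIso φ a).hom (𝟙 _) ≫ tm (𝟙 (q (rc φ a))) (qm (uCx φ))) ≫
        ee (rc φ a) (rc φ (𝟙_ (DRing.Cx R'))) ≫ qm (resTenCx φ a (𝟙_ (DRing.Cx R'))) ≫
        qm ((resCx φ).map (ρ_ a).hom) := by
        congr 1
        rw [← tm_comp, ← tm_comp]
        dsimp only [e₀]
        simp only [Category.assoc, Iso.inv_hom_id, Category.id_comp, Category.comp_id]
    _ = tm (bIso φ a).hom (𝟙 _) ≫ ee (rc φ a) (𝟙_ (DRing.Cx R)) ≫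
        qm ((rc φ a ◁ uCx φ) ≫ resTenCx φ a (𝟙_ (DRing.Cx R')) ≫
          (resCx φ).map (ρ_ a).hom) := by
        simp only [Category.assoc]
        rw [reassoc_of% h5, ← Functor.map_comp, ← Functor.map_comp]
    _ = _ := by
        rw [right_unit_cx, ← h2, h6]

/-- Left unitality on complexes. -/
lemma left_unit_q (a : DRing.Cx R') :
    tm (e₀ φ) (𝟙 ((res φ).obj (q a))) ≫ m φ (DTen.unit R') (q a) ≫
        (res φ).map (leftUnitor (q a)).hom =
      (leftUnitor ((res φ).obj (q a))).hom := by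
  rw [← cancel_mono (bIso φ a).hom]
  have h1 : (leftUnitor (q a)).hom = ee (𝟙_ (DRing.Cx R')) a ≫ qm (λ_ a).hom := unitL_app R' a
  have h2 : (leftUnitor (q (rc φ a))).hom = ee (𝟙_ (DRing.Cx R)) (rc φ a) ≫ qm (λ_ (rc φ a)).hom :=
    unitL_app R (rc φ a)
  have h3 := m_fac φ (𝟙_ (DRing.Cx R')) a
  have h4 : (res φ).map (qm (λ_ a).hom) ≫ (bIso φ a).hom =
      (bIso φ (𝟙_ (DRing.Cx R') ⊗ a)).hom ≫ qm ((resCx φ).map (λ_ a).hom) :=
    bIso_hom_naturality φ (λ_ a).hom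
  have h5 : tm (qm (uCx φ)) (𝟙 (q (rc φ a))) ≫ ee (rc φ (𝟙_ (DRing.Cx R'))) (rc φ a) =
      ee (𝟙_ (DRing.Cx R)) (rc φ a) ≫ qm (uCx φ ▷ rc φ a) :=
    ε_naturality_left (uCx φ) (rc φ a)
  have h6 := leftUnitor_naturality (bIso φ a).hom
  calc _ = tm (e₀ φ) (𝟙 ((res φ).obj (q a))) ≫
        (m φ (q (𝟙_ (DRing.Cx R'))) (q a) ≫ (res φ).map (ee (𝟙_ (DRing.Cx R')) a) ≫
          (bIso φ (𝟙_ (DRing.Cx R') ⊗ a)).hom) ≫ qm ((resCx φ).map (λ_ a).hom) := by
        rw [h1, Functor.map_comp]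
        simp only [Category.assoc]
        rw [h4]
    _ = (tm (e₀ φ) (𝟙 ((res φ).obj (q a))) ≫
        tm (bIso φ (𝟙_ (DRing.Cx R'))).hom (bIso φ a).hom) ≫
        ee (rc φ (𝟙_ (DRing.Cx R'))) (rc φ a) ≫ qm (resTenCx φ (𝟙_ (DRing.Cx R')) a) ≫
        qm ((resCx φ).map (λ_ a).hom) := by
        rw [h3]
        simp only [Category.assoc]
    _ = (tm (𝟙 _) (bIso φ a).hom ≫ tm (qm (uCx φ)) (𝟙 (q (rc φ a)))) ≫
        ee (rc φ (𝟙_ (DRing.Cx R'))) (rc φ a) ≫ qm (resTenCx φ (𝟙_ (DRing.Cx R')) a) ≫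
        qm ((resCx φ).map (λ_ a).hom) := by
        congr 1
        rw [← tm_comp, ← tm_comp]
        dsimp only [e₀]
        simp only [Category.assoc, Iso.inv_hom_id, Category.id_comp, Category.comp_id]
    _ = tm (𝟙 _) (bIso φ a).hom ≫ ee (𝟙_ (DRing.Cx R)) (rc φ a) ≫
        qm ((uCx φ ▷ rc φ a) ≫ resTenCx φ (𝟙_ (DRing.Cx R')) a ≫
          (resCx φ).map (λ_ a).hom) := by
        simp only [Category.assoc]
        rw [reassoc_of% h5, ← Functor.map_comp, ← Functor.map_comp]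
    _ = _ := by
        rw [left_unit_cx, ← h2, h6]

omit [DTen.HasLTen₃ R] [DTen.IsSymMonoidal R] in
lemma right_unit_lhs_naturality {X₁ X₂ : Dual.D R'} (f : X₁ ⟶ X₂) :
    tm ((res φ).map f) (𝟙 (DTen.unit R)) ≫ tm (𝟙 ((res φ).obj X₂)) (e₀ φ) ≫
        m φ X₂ (DTen.unit R') ≫ (res φ).map (rightUnitor X₂).hom =
      (tm (𝟙 ((res φ).obj X₁)) (e₀ φ) ≫ m φ X₁ (DTen.unit R') ≫
        (res φ).map (rightUnitor X₁).hom) ≫ (res φ).map f := by
  have h1 := m_naturality φ f (𝟙 (DTen.unit R'))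
  have h2 := rightUnitor_naturality f
  calc _ = tm (𝟙 ((res φ).obj X₁)) (e₀ φ) ≫
        (tm ((res φ).map f) ((res φ).map (𝟙 (DTen.unit R'))) ≫ m φ X₂ (DTen.unit R')) ≫
        (res φ).map (rightUnitor X₂).hom := by
        rw [CategoryTheory.Functor.map_id]
        simp only [← Category.assoc]
        rw [tm_exchange]
    _ = _ := by
        rw [h1]
        simp only [Category.assoc]
        rw [← Functor.map_comp, h2, Functor.map_comp]

omit [DTen.HasLTen₃ R] [DTen.IsSymMonoidal R] in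
lemma left_unit_lhs_naturality {X₁ X₂ : Dual.D R'} (f : X₁ ⟶ X₂) :
    tm (𝟙 (DTen.unit R)) ((res φ).map f) ≫ tm (e₀ φ) (𝟙 ((res φ).obj X₂)) ≫
        m φ (DTen.unit R') X₂ ≫ (res φ).map (leftUnitor X₂).hom =
      (tm (e₀ φ) (𝟙 ((res φ).obj X₁)) ≫ m φ (DTen.unit R') X₁ ≫
        (res φ).map (leftUnitor X₁).hom) ≫ (res φ).map f := by
  have h1 := m_naturality φ (𝟙 (DTen.unit R')) f
  have h2 := leftUnitor_naturality f
  calc _ = tm (e₀ φ) (𝟙 ((res φ).obj X₁)) ≫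
        (tm ((res φ).map (𝟙 (DTen.unit R'))) ((res φ).map f) ≫ m φ (DTen.unit R') X₂) ≫
        (res φ).map (leftUnitor X₂).hom := by
        rw [CategoryTheory.Functor.map_id]
        simp only [← Category.assoc]
        rw [← tm_exchange]
    _ = _ := by
        rw [h1]
        simp only [Category.assoc]
        rw [← Functor.map_comp, h2, Functor.map_comp]

/-- Right unitality. -/
theorem right_unit (X : Dual.D R') :
    tm (𝟙 ((res φ).obj X)) (e₀ φ) ≫ m φ X (DTen.unit R') ≫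
        (res φ).map (rightUnitor X).hom =
      (rightUnitor ((res φ).obj X)).hom := by
  obtain ⟨a, -, ⟨eX⟩⟩ := exists_kflat_rep X
  have h1 := right_unit_lhs_naturality φ eX.hom
  have h2 := rightUnitor_naturality ((res φ).map eX.hom)
  rw [right_unit_q φ a, ← h2] at h1
  exact (cancel_epi _).1 h1

/-- Left unitality. -/
theorem left_unit (X : Dual.D R') :
    tm (e₀ φ) (𝟙 ((res φ).obj X)) ≫ m φ (DTen.unit R') X ≫
        (res φ).map (leftUnitor X).hom =
      (leftUnitor ((res φ).obj X)).hom := by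
  obtain ⟨a, -, ⟨eX⟩⟩ := exists_kflat_rep X
  have h1 := left_unit_lhs_naturality φ eX.hom
  have h2 := leftUnitor_naturality ((res φ).map eX.hom)
  rw [left_unit_q φ a, ← h2] at h1
  exact (cancel_epi _).1 h1

attribute [local instance] DT.monoidal

/-- Restriction of scalars on derived categories is lax monoidal. -/
@[instance_reducible]
noncomputable def laxMonoidal : (res φ).LaxMonoidal where
  ε := e₀ φ
  μ X Y := m φ X Y
  μ_natural_left f X' := by
    have := m_naturality φ f (𝟙 X')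
    rw [CategoryTheory.Functor.map_id] at this
    exact this
  μ_natural_right X' f := by
    have := m_naturality φ (𝟙 X') f
    rw [CategoryTheory.Functor.map_id] at this
    exact this
  associativity X Y Z := assoc φ X Y Z
  left_unitality X := (left_unit φ X).symm
  right_unitality X := (right_unit φ X).symm

end Groth.Agent.H10.RHM
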