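import Groth.Agent.H10.RHM3
import Groth.Agent.H45.MultiDer.LBaseMonoidal

/-!
# Derived base change is oplax monoidal, with invertible tensorator; the base change map for `RHom`
-/

set_option autoImplicit false
universe u
open CategoryTheory CategoryTheory.Limits MonoidalCategory
attribute [local instance] HasDerivedCategory.standard

namespace Groth.Agent.H10.RHM

open DTen Groth.Agent.H10.DT Groth.Agent.H10.RH Groth.Agent.H45.MultiDer
  Groth.Agent.H45.MultiDer.DTenC

variable {R R' : Type u} [CommRing R] [CommRing R'] (φ : R →+* R')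
  [DTen.HasLTen R] [DTen.HasLTen₃ R] [DTen.IsSymMonoidal R]
  [DTen.HasLTen R'] [DTen.HasLTen₃ R'] [DTen.IsSymMonoidal R']
  [DTen.HasResTen φ] [DTen.ResLegIso φ] [DTen.HasLBase φ]

attribute [local instance] DT.monoidal laxMonoidal

/-- Derived base change is oplax monoidal. -/
@[instance_reducible]
noncomputable def oplaxMonoidal : (LBase φ).OplaxMonoidal :=
  (baseAdj φ).leftAdjointOplaxMonoidal

attribute [local instance] oplaxMonoidal

instance : (baseAdj φ).IsMonoidal :=
  inferInstanceAs (letI := (baseAdj φ).leftAdjointOplaxMonoidal; (baseAdj φ).IsMonoidal)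

open Functor.OplaxMonoidal Functor.LaxMonoidal

lemma δ_eq (X K : Dual.D R) : δ (LBase φ) X K = (lbaseμ φ).app (X, K) := by
  apply ((baseAdj φ).homEquiv _ _).injective
  rw [Adjunction.homEquiv_unit, Adjunction.homEquiv_unit]
  have h1 := (baseAdj φ).unit_app_tensor_comp_map_δ X K
  have h2 := lbaseμ_fac φ (X, K)
  exact h1.trans h2.symm

instance isIso_δ (X K : Dual.D R) : IsIso (δ (LBase φ) X K) := by
  rw [δ_eq]
  exact isIso_lbaseμ_app φ X K

section RHomBC

variable [DTen.HasRHom R] [DTen.HasRHom R']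

omit [DTen.HasLTen₃ R] [DTen.IsSymMonoidal R] [DTen.HasLTen₃ R'] [DTen.IsSymMonoidal R'] in
/-- The characterisation of the base change map for `RHom` through the tensorator of derived
base change. -/
theorem lbaseμ_bcRHom (K M : Dual.D R) [IsIso (rhomBC φ K ((LBase φ).obj M))] :
    (lbaseμ φ).app ((RHomR R K).obj M, K) ≫
        tm (bcRHom φ K M) (𝟙 ((LBase φ).obj K)) ≫ ev ((LBase φ).obj K) ((LBase φ).obj M) =
      (LBase φ).map (ev K M) := by
  set g : (RHomR R K).obj M ⟶
      (DRing.restrictD φ).obj ((RHomR R' ((LBase φ).obj K)).obj ((LBase φ).obj M)) :=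
    (RHomR R K).map ((baseAdj φ).unit.app M) ≫ inv (rhomBC φ K ((LBase φ).obj M)) with hg
  have h1 : g ≫ rhomBC φ K ((LBase φ).obj M) = (RHomR R K).map ((baseAdj φ).unit.app M) := by
    rw [hg, Category.assoc, IsIso.inv_hom_id, Category.comp_id]
  have h2 := comp_rhomBC φ K ((LBase φ).obj M) g
  rw [h1] at h2
  have hβ : ((baseAdj φ).homEquiv _ _).symm g = bcRHom φ K M := rfl
  dsimp only [rhomBCEquiv, Equiv.trans_apply] at h2
  rw [hβ] at h2
  have h3 := congrArg (rhomHomEquiv ((RHomR R K).obj M) K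
    ((DRing.restrictD φ).obj ((LBase φ).obj M))).symm h2
  rw [Equiv.symm_apply_apply] at h3
  apply ((baseAdj φ).homEquiv _ _).injective
  have h4 : (rhomHomEquiv ((RHomR R K).obj M) K
      ((DRing.restrictD φ).obj ((LBase φ).obj M))).symm
        ((RHomR R K).map ((baseAdj φ).unit.app M)) = ev K M ≫ (baseAdj φ).unit.app M := by
    dsimp only [rhomHomEquiv]
    rw [Adjunction.homEquiv_counit]
    exact (rhomAdj R K).counit.naturality ((baseAdj φ).unit.app M)
  have h5 : (baseAdj φ).homEquiv _ _ ((LBase φ).map (ev K M)) =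
      ev K M ≫ (baseAdj φ).unit.app M := by
    rw [Adjunction.homEquiv_unit]
    exact ((baseAdj φ).unit.naturality (ev K M)).symm
  rw [h5, ← h4, h3]
  refine congrArg _ ?_
  dsimp only [Iso.homFromEquiv, Equiv.coe_fn_mk, Iso.symm_inv, asIso_hom, rhomHomEquiv]
  rw [Adjunction.homEquiv_counit]
  rfl

end RHomBC

end Groth.Agent.H10.RHM
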