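import Groth.Agent.H10.RHM4

/-!
# Derived base change preserves the unit; it is a monoidal functor
-/

set_option autoImplicit false
universe u
open CategoryTheory CategoryTheory.Limits MonoidalCategory
attribute [local instance] HasDerivedCategory.standard

namespace Groth.Agent.H10.RHM

open DTen HomologicalComplex Groth.Agent.H10.DT Groth.Agent.H10.RH Groth.Agent.H45.MultiDer
  Groth.Agent.H45.MultiDer.DTenC

section Cx

variable {R R' : Type u} [CommRing R] [CommRing R'] (φ : R →+* R')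

/-- `ext 𝟙 ⟶ 𝟙` on complexes. -/
noncomputable def c₀ : (extCx φ).obj (𝟙_ (DRing.Cx R)) ⟶ 𝟙_ (DRing.Cx R') :=
  ((adjCx φ).homEquiv _ _).symm (uCx φ)

lemma unitCx_c₀ : (unitCx φ).app (𝟙_ (DRing.Cx R)) ≫ (resCx φ).map (c₀ φ) = uCx φ := by
  have := ((adjCx φ).homEquiv _ _).apply_symm_apply (uCx φ)
  rw [Adjunction.homEquiv_unit] at this
  exact this

set_option backward.isDefEq.respectTransparency false in
lemma c₀_f (n : ℤ) : (c₀ φ).f n = (DTen.extM φ).map ((uCx φ).f n) ≫
    (ModuleCat.extendRestrictScalarsAdj.{u, u, u} φ).counit.app ((𝟙_ (DRing.Cx R')).X n) := by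
  dsimp only [c₀]
  rw [Adjunction.homEquiv_counit]
  rfl

set_option backward.isDefEq.respectTransparency false in
lemma c₀_f_zero : (c₀ φ).f 0 = (DTen.extM φ).map (SS R).hom ≫
    Functor.OplaxMonoidal.η (ModuleCat.extendScalars.{u, u, u} φ) ≫ (SS R').inv := by
  rw [c₀_f, uCx_f, Functor.map_comp, Functor.map_comp, Category.assoc, Category.assoc]
  have h1 := (ModuleCat.extendRestrictScalarsAdj.{u, u, u} φ).counit.naturality (SS R').inv
  have h2 := (ModuleCat.extendRestrictScalarsAdj.{u, u, u} φ).map_ε_comp_counit_app_unit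
  dsimp at h1
  erw [h1, reassoc_of% h2]

set_option backward.isDefEq.respectTransparency false in
instance isIso_c₀ : IsIso (c₀ φ) := by
  have : ∀ n, IsIso ((c₀ φ).f n) := fun n => by
    by_cases hn : n = 0
    · subst hn
      rw [c₀_f_zero]
      infer_instance
    · have h1 : IsZero (((extCx φ).obj (𝟙_ (DRing.Cx R))).X n) :=
        Functor.map_isZero (DTen.extM φ)
          (isZero_single_obj_X (ComplexShape.up ℤ) 0 (𝟙_ (ModuleCat.{u} R)) n hn)
      have h2 : IsZero ((𝟙_ (DRing.Cx R')).X n) :=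
        isZero_single_obj_X (ComplexShape.up ℤ) 0 (𝟙_ (ModuleCat.{u} R')) n hn
      exact ⟨⟨0, h1.eq_of_src _ _, h2.eq_of_tgt _ _⟩⟩
  exact HomologicalComplex.Hom.isIso_of_components _

lemma isKFlat_unit (A : Type u) [CommRing A] : DRing.IsKFlat A (𝟙_ (DRing.Cx A)) := by
  refine isKFlat_of_bounded_flat (𝟙_ (DRing.Cx A)) 0 (fun i hi => ?_) (fun n => ?_)
  · exact isZero_single_obj_X (ComplexShape.up ℤ) 0 (𝟙_ (ModuleCat.{u} A)) i (by omega)
  · by_cases hn : n = 0
    · subst hn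
      exact Module.Flat.of_linearEquiv (SS A).toLinearEquiv
    · have := ModuleCat.subsingleton_of_isZero
        (isZero_single_obj_X (ComplexShape.up ℤ) 0 (𝟙_ (ModuleCat.{u} A)) n hn)
      infer_instance

end Cx

variable {R R' : Type u} [CommRing R] [CommRing R'] (φ : R →+* R')
  [DTen.HasLTen R] [DTen.HasLTen₃ R] [DTen.IsSymMonoidal R]
  [DTen.HasLTen R'] [DTen.HasLTen₃ R'] [DTen.IsSymMonoidal R']
  [DTen.HasResTen φ] [DTen.ResLegIso φ] [DTen.HasLBase φ]

attribute [local instance] DT.monoidal laxMonoidal oplaxMonoidal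

open Functor.OplaxMonoidal Functor.LaxMonoidal

lemma η_eq : η (LBase φ) = (baseCmp φ).app (𝟙_ (DRing.Cx R)) ≫ qm (c₀ φ) := by
  apply ((baseAdj φ).homEquiv _ _).injective
  have h1 : (baseAdj φ).homEquiv _ _ (η (LBase φ)) = e₀ φ :=
    ((baseAdj φ).homEquiv _ _).apply_symm_apply (e₀ φ)
  rw [h1, Adjunction.homEquiv_unit, Functor.map_comp, ← Category.assoc]
  erw [baseCmp_fac φ (𝟙_ (DRing.Cx R))]
  have h2 : (baseγ φ).app (𝟙_ (DRing.Cx R)) = qm ((unitCx φ).app (𝟙_ (DRing.Cx R))) ≫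
      (bIso φ ((extCx φ).obj (𝟙_ (DRing.Cx R)))).inv := rfl
  have h3 := bIso_inv_naturality φ (c₀ φ)
  rw [h2, Category.assoc]
  erw [← h3]
  rw [← Category.assoc, ← Functor.map_comp, unitCx_c₀]
  rfl

instance isIso_η : IsIso (η (LBase φ)) := by
  rw [η_eq]
  have := isIso_baseCmp_app φ (𝟙_ (DRing.Cx R))
    (isKFlat_unit R)
  infer_instance

end Groth.Agent.H10.RHM
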