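import Groth.Agent.H10.RHM9
import Mathlib.CategoryTheory.Adjunction.Unique

/-!
# Formal lemmas for base change of trivial duality

Abstract form of the comparison of the base change map `R Hom(A, K) ⊗^L_A A' ⟶ R Hom(A', K ⊗^L_R R')`
with the evaluation map `R' ⊗^L RHom_R(A, K) ⟶ RHom_R(A, R' ⊗^L K)`.
-/

set_option autoImplicit false
universe v₁ v₂ v₃ v₄ u₁ u₂ u₃ u₄
open CategoryTheory MonoidalCategory

namespace Groth.Agent.H10.TB.Gen

open Functor.LaxMonoidal Functor.OplaxMonoidal Groth.Agent.H10.DT.Gen Groth.Agent.H10.RHM.Gen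

section Rho

variable {C : Type u₁} [Category.{v₁} C] [MonoidalCategory C]
  {D : Type u₂} [Category.{v₂} D] [MonoidalCategory D]
  {L : C ⥤ D} {G : D ⥤ C} [L.OplaxMonoidal] [G.LaxMonoidal] (adj : L ⊣ G) [adj.IsMonoidal]
  (K : C) {H : C ⥤ C} (adjK : tensorRight K ⊣ H) {H' : D ⥤ D}
  (adjK' : tensorRight (L.obj K) ⊣ H') (N : D)

/-- The comparison `G (H' N) ⟶ H (G N)` of internal homs along a monoidal adjunction. -/
def rho : G.obj (H'.obj N) ⟶ H.obj (G.obj N) :=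
  adjK.homEquiv _ _ ((G.obj (H'.obj N) ◁ adj.unit.app K) ≫ μ G (H'.obj N) (L.obj K) ≫
    G.map (adjK'.counit.app N))

omit [L.OplaxMonoidal] [adj.IsMonoidal] in
lemma rho_fac :
    (rho adj K adjK adjK' N ▷ K) ≫ adjK.counit.app (G.obj N) =
      (G.obj (H'.obj N) ◁ adj.unit.app K) ≫ μ G (H'.obj N) (L.obj K) ≫
        G.map (adjK'.counit.app N) := by
  have := (adjK.homEquiv _ _).symm_apply_apply
    ((G.obj (H'.obj N) ◁ adj.unit.app K) ≫ μ G (H'.obj N) (L.obj K) ≫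
      G.map (adjK'.counit.app N))
  rw [Adjunction.homEquiv_counit] at this
  exact this

/-- The chain of bijections underlying `rho`. -/
noncomputable def rhoEquiv (T : C) [IsIso (δ L T K)] : (T ⟶ G.obj (H'.obj N)) ≃ (T ⟶ H.obj (G.obj N)) :=
  (adj.homEquiv T (H'.obj N)).symm.trans
    ((adjK'.homEquiv (L.obj T) N).symm.trans
      ((asIso (δ L T K)).symm.homFromEquiv.trans
        ((adj.homEquiv (T ⊗ K) N).trans (adjK.homEquiv T (G.obj N)))))

lemma comp_rho (T : C) [IsIso (δ L T K)] (x : T ⟶ G.obj (H'.obj N)) :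
    x ≫ rho adj K adjK adjK' N = rhoEquiv adj K adjK adjK' N T x := by
  apply (adjK.homEquiv _ _).symm.injective
  dsimp only [rhoEquiv, Equiv.trans_apply]
  rw [Equiv.symm_apply_apply, Adjunction.homEquiv_counit]
  change ((x ≫ rho adj K adjK adjK' N) ▷ K) ≫ adjK.counit.app (G.obj N) = _
  rw [comp_whiskerRight, Category.assoc, rho_fac]
  dsimp only [Iso.homFromEquiv, Iso.symm_inv, asIso_hom, Equiv.coe_fn_mk]
  rw [Adjunction.homEquiv_unit, Functor.map_comp,
    reassoc_of% (adj.unit_app_tensor_comp_map_δ T K), Adjunction.homEquiv_counit,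
    Adjunction.homEquiv_counit]
  change _ = (adj.unit.app T ⊗ₘ adj.unit.app K) ≫ μ G (L.obj T) (L.obj K) ≫
    G.map (((L.map x ≫ adj.counit.app (H'.obj N)) ▷ L.obj K) ≫ adjK'.counit.app N)
  have h1 := μ_natural_left G (L.map x ≫ adj.counit.app (H'.obj N)) (L.obj K)
  have h2 : adj.unit.app T ≫ G.map (L.map x ≫ adj.counit.app (H'.obj N)) = x := by
    have := (adj.homEquiv _ _).apply_symm_apply x
    rw [Adjunction.homEquiv_counit, Adjunction.homEquiv_unit] at this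
    exact this
  rw [G.map_comp, ← reassoc_of% h1, tensorHom_def, Category.assoc]
  dsimp only [Functor.comp_obj, Functor.id_obj]
  rw [whisker_exchange_assoc, ← comp_whiskerRight_assoc, h2]

theorem isIso_rho [∀ T : C, IsIso (δ L T K)] : IsIso (rho adj K adjK adjK' N) := by
  apply isIso_of_yoneda_map_bijective
  intro T
  have : (fun (x : T ⟶ G.obj (H'.obj N)) => x ≫ rho adj K adjK adjK' N) =
      rhoEquiv adj K adjK adjK' N T := by
    funext x
    exact comp_rho adj K adjK adjK' N T x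
  rw [this]
  exact (rhoEquiv adj K adjK adjK' N T).bijective

end Rho

section Transport

variable {C : Type u₁} [Category.{v₁} C] [MonoidalCategory C]
  {D : Type u₂} [Category.{v₂} D] [MonoidalCategory D]
  {L₁ L₂ : C ⥤ D} {G : D ⥤ C} [G.LaxMonoidal] [L₁.OplaxMonoidal] [L₂.OplaxMonoidal]
  (adj₁ : L₁ ⊣ G) (adj₂ : L₂ ⊣ G) [adj₁.IsMonoidal] [adj₂.IsMonoidal]

omit [L₁.OplaxMonoidal] [L₂.OplaxMonoidal] [adj₁.IsMonoidal] [adj₂.IsMonoidal] in
lemma γl_leftAdjointUniq (Y : C) :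
    γl adj₁ Y ≫ G.map ((adj₁.leftAdjointUniq adj₂).hom.app Y) = γl adj₂ Y := by
  dsimp only [γl]
  have h1 := μ_natural_right G (𝟙_ D) ((adj₁.leftAdjointUniq adj₂).hom.app Y)
  have h2 := leftUnitor_naturality ((adj₁.leftAdjointUniq adj₂).hom.app Y)
  have h3 := adj₁.unit_leftAdjointUniq_hom_app adj₂ Y
  simp only [Category.assoc]
  rw [← G.map_comp, ← h2, G.map_comp, ← reassoc_of% h1, ← whiskerLeft_comp_assoc, h3]

omit [L₁.OplaxMonoidal] [L₂.OplaxMonoidal] [adj₁.IsMonoidal] [adj₂.IsMonoidal] in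
lemma isIso_γl_of_leftAdjointUniq (Y : C) [IsIso (γl adj₂ Y)] : IsIso (γl adj₁ Y) := by
  have h := γl_leftAdjointUniq adj₁ adj₂ Y
  have : IsIso (γl adj₁ Y ≫ G.map ((adj₁.leftAdjointUniq adj₂).hom.app Y)) := by
    rw [h]; infer_instance
  exact IsIso.of_isIso_comp_right _ (G.map ((adj₁.leftAdjointUniq adj₂).hom.app Y))

lemma δ_leftAdjointUniq (X Y : C) :
    δ L₁ X Y ≫ ((adj₁.leftAdjointUniq adj₂).hom.app X ⊗ₘ (adj₁.leftAdjointUniq adj₂).hom.app Y) =
      (adj₁.leftAdjointUniq adj₂).hom.app (X ⊗ Y) ≫ δ L₂ X Y := by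
  apply (adj₁.homEquiv _ _).injective
  rw [Adjunction.homEquiv_unit, Adjunction.homEquiv_unit, G.map_comp, G.map_comp,
    reassoc_of% (adj₁.unit_app_tensor_comp_map_δ X Y),
    reassoc_of% (adj₁.unit_leftAdjointUniq_hom_app adj₂ (X ⊗ Y)),
    adj₂.unit_app_tensor_comp_map_δ X Y]
  have h1 := μ_natural G ((adj₁.leftAdjointUniq adj₂).hom.app X)
    ((adj₁.leftAdjointUniq adj₂).hom.app Y)
  rw [← h1, tensorHom_comp_tensorHom_assoc, adj₁.unit_leftAdjointUniq_hom_app adj₂,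
    adj₁.unit_leftAdjointUniq_hom_app adj₂]

include adj₁ adj₂ in
lemma isIso_δ_of_leftAdjointUniq (X Y : C) [IsIso (δ L₂ X Y)] : IsIso (δ L₁ X Y) := by
  have h := δ_leftAdjointUniq adj₁ adj₂ X Y
  have : IsIso (δ L₁ X Y ≫ ((adj₁.leftAdjointUniq adj₂).hom.app X ⊗ₘ
      (adj₁.leftAdjointUniq adj₂).hom.app Y)) := by
    rw [h]; infer_instance
  exact IsIso.of_isIso_comp_right _ ((adj₁.leftAdjointUniq adj₂).hom.app X ⊗ₘ
      (adj₁.leftAdjointUniq adj₂).hom.app Y)

end Transport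

section EvT

variable {C : Type u₁} [Category.{v₁} C] [MonoidalCategory C]
  (P K : C) {H₁ H₂ : C ⥤ C} (adj₁ : tensorRight K ⊣ H₁) (adj₂ : tensorRight K ⊣ H₂)

/-- The evaluation maps `evT` for two right adjoints of `- ⊗ K` correspond. -/
lemma evT_rightAdjointUniq (M : C) :
    evT P K adj₁ M ≫ (adj₁.rightAdjointUniq adj₂).hom.app (P ⊗ M) =
      (P ◁ (adj₁.rightAdjointUniq adj₂).hom.app M) ≫ evT P K adj₂ M := by
  apply (adj₂.homEquiv _ _).symm.injective
  rw [Adjunction.homEquiv_counit, Adjunction.homEquiv_counit]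
  change ((evT P K adj₁ M ≫ (adj₁.rightAdjointUniq adj₂).hom.app (P ⊗ M)) ▷ K) ≫ _ =
    (((P ◁ (adj₁.rightAdjointUniq adj₂).hom.app M) ≫ evT P K adj₂ M) ▷ K) ≫ _
  have e1 : (evT P K adj₁ M ▷ K) ≫ adj₁.counit.app (P ⊗ M) =
      (α_ P (H₁.obj M) K).hom ≫ P ◁ adj₁.counit.app M := by
    have := (adj₁.homEquiv _ _).symm_apply_apply ((α_ P (H₁.obj M) K).hom ≫ P ◁ adj₁.counit.app M)
    rw [Adjunction.homEquiv_counit] at this
    exact this
  have e2 : (evT P K adj₂ M ▷ K) ≫ adj₂.counit.app (P ⊗ M) =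
      (α_ P (H₂.obj M) K).hom ≫ P ◁ adj₂.counit.app M := by
    have := (adj₂.homEquiv _ _).symm_apply_apply ((α_ P (H₂.obj M) K).hom ≫ P ◁ adj₂.counit.app M)
    rw [Adjunction.homEquiv_counit] at this
    exact this
  have e3 : ∀ X : C, ((adj₁.rightAdjointUniq adj₂).hom.app X ▷ K) ≫ adj₂.counit.app X =
      adj₁.counit.app X := fun X => Adjunction.rightAdjointUniq_hom_app_counit adj₁ adj₂ X
  rw [comp_whiskerRight, Category.assoc, e3, e1, comp_whiskerRight, Category.assoc, e2,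
    associator_naturality_middle_assoc, ← whiskerLeft_comp, e3]

lemma isIso_evT_iff_of_adj (M : C) :
    IsIso (evT P K adj₁ M) ↔ IsIso (evT P K adj₂ M) := by
  have h := evT_rightAdjointUniq P K adj₁ adj₂ M
  constructor
  · intro _
    have : IsIso ((P ◁ (adj₁.rightAdjointUniq adj₂).hom.app M) ≫ evT P K adj₂ M) := by
      rw [← h]; infer_instance
    exact IsIso.of_isIso_comp_left (P ◁ (adj₁.rightAdjointUniq adj₂).hom.app M) _
  · intro _
    have : IsIso (evT P K adj₁ M ≫ (adj₁.rightAdjointUniq adj₂).hom.app (P ⊗ M)) := by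
      rw [h]; infer_instance
    exact IsIso.of_isIso_comp_right _ ((adj₁.rightAdjointUniq adj₂).hom.app (P ⊗ M))

end EvT

end Groth.Agent.H10.TB.Gen
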