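import Groth.Agent.H10.TB1

/-!
# Formal lemmas for base change of trivial duality: the square

`C = D(R)`, `D = D(R')`, `CA = D(A)`, `DA = D(A')`; `G = res_ρ` with monoidal left adjoint `L`;
`resφ`, `resφ'`, `resα` the other restriction functors, with `rc : resα ⋙ resφ ≅ resφ' ⋙ G`.
-/

set_option autoImplicit false
universe v₁ v₂ v₃ v₄ u₁ u₂ u₃ u₄
open CategoryTheory MonoidalCategory

namespace Groth.Agent.H10.TB.Gen

open Functor.LaxMonoidal Functor.OplaxMonoidal Groth.Agent.H10.DT.Gen Groth.Agent.H10.RHM.Gen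

variable {C : Type u₁} [Category.{v₁} C] [MonoidalCategory C]
  {D : Type u₂} [Category.{v₂} D] [MonoidalCategory D]
  {CA : Type u₃} [Category.{v₃} CA] {DA : Type u₄} [Category.{v₄} DA]
  {L : C ⥤ D} {G : D ⥤ C} [L.OplaxMonoidal] [G.LaxMonoidal] (adjρ : L ⊣ G) [adjρ.IsMonoidal]
  {resφ : CA ⥤ C} {resφ' : DA ⥤ D} {resα : DA ⥤ CA} {Lα : CA ⥤ DA} (adjα : Lα ⊣ resα)
  (rc : resα ⋙ resφ ≅ resφ' ⋙ G)
  {Rφ : C ⥤ CA} (adj : resφ ⊣ Rφ) {Rφ' : D ⥤ DA} (adj' : resφ' ⊣ Rφ')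
  {PA : C} {PA' : D}
  (act : ∀ Z : CA, resφ.obj Z ⊗ PA ⟶ resφ.obj Z)
  (act_nat : ∀ {Z Z' : CA} (f : Z ⟶ Z'), (resφ.map f ▷ PA) ≫ act Z' = act Z ≫ resφ.map f)
  (act' : ∀ W : DA, resφ'.obj W ⊗ PA' ⟶ resφ'.obj W)
  (act'_nat : ∀ {W W' : DA} (f : W ⟶ W'), (resφ'.map f ▷ PA') ≫ act' W' = act' W ≫ resφ'.map f)
  (θb : PA ⟶ G.obj PA')
  (hact : ∀ W : DA, (rc.hom.app W ⊗ₘ θb) ≫ μ G (resφ'.obj W) PA' ≫ G.map (act' W) =
      act (resα.obj W) ≫ rc.hom.app W)

/-- The base change comparison `L (res Z) ⟶ res (Lα Z)`. -/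
def cmpG (Z : CA) : L.obj (resφ.obj Z) ⟶ resφ'.obj (Lα.obj Z) :=
  (adjρ.homEquiv _ _).symm (resφ.map (adjα.unit.app Z) ≫ rc.hom.app (Lα.obj Z))

/-- The adjunct of `θb`. -/
def θG : L.obj PA ⟶ PA' := (adjρ.homEquiv _ _).symm θb

omit [L.OplaxMonoidal] [G.LaxMonoidal] [adjρ.IsMonoidal] [MonoidalCategory C]
  [MonoidalCategory D] in
lemma unit_cmpG (Z : CA) :
    adjρ.unit.app (resφ.obj Z) ≫ G.map (cmpG adjρ adjα rc Z) =
      resφ.map (adjα.unit.app Z) ≫ rc.hom.app (Lα.obj Z) := by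
  have := (adjρ.homEquiv _ _).apply_symm_apply
    (resφ.map (adjα.unit.app Z) ≫ rc.hom.app (Lα.obj Z))
  rw [Adjunction.homEquiv_unit] at this
  exact this

omit [L.OplaxMonoidal] [G.LaxMonoidal] [adjρ.IsMonoidal] [MonoidalCategory C]
  [MonoidalCategory D] in
lemma unit_θG : adjρ.unit.app PA ≫ G.map (θG adjρ θb) = θb := by
  have := (adjρ.homEquiv _ _).apply_symm_apply θb
  rw [Adjunction.homEquiv_unit] at this
  exact this

include act_nat hact in
/-- The comparison `cmpG` is compatible with the actions. -/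
theorem star (Z : CA) :
    δ L (resφ.obj Z) PA ≫ (cmpG adjρ adjα rc Z ⊗ₘ θG adjρ θb) ≫ act' (Lα.obj Z) =
      L.map (act Z) ≫ cmpG adjρ adjα rc Z := by
  apply (adjρ.homEquiv _ _).injective
  rw [Adjunction.homEquiv_unit, Adjunction.homEquiv_unit, G.map_comp, G.map_comp, G.map_comp,
    reassoc_of% (adjρ.unit_app_tensor_comp_map_δ (resφ.obj Z) PA)]
  have h1 := μ_natural G (cmpG adjρ adjα rc Z) (θG adjρ θb)
  have h2 := adjρ.unit.naturality (act Z)
  dsimp only [Functor.id_obj, Functor.id_map, Functor.comp_obj, Functor.comp_map] at h2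
  rw [← reassoc_of% h1, tensorHom_comp_tensorHom_assoc, unit_cmpG, unit_θG,
    ← reassoc_of% h2, unit_cmpG]
  have h3 : (resφ.map (adjα.unit.app Z) ≫ rc.hom.app (Lα.obj Z)) ⊗ₘ θb =
      (resφ.map (adjα.unit.app Z) ▷ PA) ≫ (rc.hom.app (Lα.obj Z) ⊗ₘ θb) := by
    rw [tensorHom_def, tensorHom_def, comp_whiskerRight, Category.assoc]
  rw [h3, Category.assoc, hact (Lα.obj Z), reassoc_of% (act_nat (adjα.unit.app Z))]

section BC

variable (M : C) [IsIso (cmpG adjρ adjα rc (Rφ.obj M))]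

/-- The base change map of trivial duality, abstractly. -/
noncomputable def bcG : Lα.obj (Rφ.obj M) ⟶ Rφ'.obj (L.obj M) :=
  adj'.homEquiv _ _ (inv (cmpG adjρ adjα rc (Rφ.obj M)) ≫ L.map (adj.counit.app M))

omit [L.OplaxMonoidal] [G.LaxMonoidal] [adjρ.IsMonoidal] [MonoidalCategory C]
  [MonoidalCategory D] in
lemma map_bcG_counit :
    resφ'.map (bcG adjρ adjα rc adj adj' M) ≫ adj'.counit.app (L.obj M) =
      inv (cmpG adjρ adjα rc (Rφ.obj M)) ≫ L.map (adj.counit.app M) := by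
  have := (adj'.homEquiv _ _).symm_apply_apply
    (inv (cmpG adjρ adjα rc (Rφ.obj M)) ≫ L.map (adj.counit.app M))
  rw [Adjunction.homEquiv_counit] at this
  exact this

/-- The base change map for the internal homs `Rφ ⋙ resφ`, `Rφ' ⋙ resφ'`. -/
noncomputable def βG : L.obj ((Rφ ⋙ resφ).obj M) ⟶ (Rφ' ⋙ resφ').obj (L.obj M) :=
  cmpG adjρ adjα rc (Rφ.obj M) ≫ resφ'.map (bcG adjρ adjα rc adj adj' M)

variable (adjK : tensorRight PA ⊣ Rφ ⋙ resφ)
  (hK : ∀ M : C, adjK.counit.app M = act (Rφ.obj M) ≫ adj.counit.app M)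
  (adjK₀ : tensorRight PA' ⊣ Rφ' ⋙ resφ')
  (hK₀ : ∀ N : D, adjK₀.counit.app N = act' (Rφ'.obj N) ≫ adj'.counit.app N)
  [IsIso (θG adjρ θb)]

/-- The adjunction `- ⊗ L PA ⊣ Rφ' ⋙ resφ'` deduced from `adjK₀` and `θG`. -/
noncomputable def adjK' : tensorRight (L.obj PA) ⊣ Rφ' ⋙ resφ' :=
  adjK₀.ofNatIsoLeft ((tensoringRight D).mapIso (asIso (θG adjρ θb)).symm)

omit [L.OplaxMonoidal] [G.LaxMonoidal] [adjρ.IsMonoidal] [MonoidalCategory C] in
lemma adjK'_counit (N : D) :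
    (adjK' adjρ θb adjK₀).counit.app N =
      ((Rφ' ⋙ resφ').obj N ◁ θG adjρ θb) ≫ adjK₀.counit.app N := by
  dsimp [adjK']
  simp

include act_nat act'_nat hact hK hK₀ in
/-- The compatibility of `βG` with the evaluations. -/
theorem hβG :
    δ L ((Rφ ⋙ resφ).obj M) PA ≫ (βG adjρ adjα rc adj adj' M ▷ L.obj PA) ≫
        (adjK' adjρ θb adjK₀).counit.app (L.obj M) =
      L.map (adjK.counit.app M) := by
  rw [adjK'_counit, hK₀, hK, L.map_comp]
  have h1 := star adjρ adjα rc act act_nat act' θb hact (Rφ.obj M)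
  have h2 := act'_nat (bcG adjρ adjα rc adj adj' M)
  have h3 := map_bcG_counit adjρ adjα rc adj adj' M
  dsimp only [βG, Functor.comp_obj]
  calc _ = δ L (resφ.obj (Rφ.obj M)) PA ≫
        ((cmpG adjρ adjα rc (Rφ.obj M) ⊗ₘ θG adjρ θb) ≫
          (resφ'.map (bcG adjρ adjα rc adj adj' M) ▷ PA')) ≫
        act' (Rφ'.obj (L.obj M)) ≫ adj'.counit.app (L.obj M) := by
        congr 1
        simp only [← Category.assoc]
        congr 2
        rw [tensorHom_def, comp_whiskerRight, Category.assoc, Category.assoc,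
          whisker_exchange]
    _ = (δ L (resφ.obj (Rφ.obj M)) PA ≫ (cmpG adjρ adjα rc (Rφ.obj M) ⊗ₘ θG adjρ θb) ≫
        act' (Lα.obj (Rφ.obj M))) ≫ resφ'.map (bcG adjρ adjα rc adj adj' M) ≫
        adj'.counit.app (L.obj M) := by
        simp only [Category.assoc]
        rw [reassoc_of% h2]
    _ = _ := by
        rw [h1, h3, Category.assoc, IsIso.hom_inv_id_assoc]

include act_nat act'_nat hact hK hK₀ in
/-- **Abstract form**: the base change map of trivial duality is an isomorphism iff the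
evaluation map `G 𝟙 ⊗ H(M) ⟶ H(G 𝟙 ⊗ M)` is. -/
theorem isIso_bcG_iff [G.ReflectsIsomorphisms] [resφ'.ReflectsIsomorphisms]
    [IsIso (γl adjρ ((Rφ ⋙ resφ).obj M))] [IsIso (γl adjρ M)] [∀ T : C, IsIso (δ L T PA)] :
    IsIso (bcG adjρ adjα rc adj adj' M) ↔ IsIso (evT (G.obj (𝟙_ D)) PA adjK M) := by
  have hβ := hβG adjρ adjα rc adj adj' act act_nat act' act'_nat θb hact M adjK hK adjK₀ hK₀
  have hρ := rho_fac adjρ PA adjK (adjK' adjρ θb adjK₀) (L.obj M)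
  have : IsIso (rho adjρ PA adjK (adjK' adjρ θb adjK₀) (L.obj M)) :=
    isIso_rho adjρ PA adjK (adjK' adjρ θb adjK₀) (L.obj M)
  have key := γl_comp_map_comp adjρ PA adjK (adjK' adjρ θb adjK₀) M
    (βG adjρ adjα rc adj adj' M) hβ (rho adjρ PA adjK (adjK' adjρ θb adjK₀) (L.obj M)) hρ
  constructor
  · intro hbc
    have : IsIso (βG adjρ adjα rc adj adj' M) := by
      dsimp only [βG]
      infer_instance
    have h1 : IsIso (evT (G.obj (𝟙_ D)) PA adjK M ≫ (Rφ ⋙ resφ).map (γl adjρ M)) := by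
      rw [← key]
      infer_instance
    exact IsIso.of_isIso_comp_right _ ((Rφ ⋙ resφ).map (γl adjρ M))
  · intro hev
    have h1 : IsIso (γl adjρ ((Rφ ⋙ resφ).obj M) ≫ G.map (βG adjρ adjα rc adj adj' M) ≫
        rho adjρ PA adjK (adjK' adjρ θb adjK₀) (L.obj M)) := by
      rw [key]
      infer_instance
    have h2 : IsIso (G.map (βG adjρ adjα rc adj adj' M) ≫
        rho adjρ PA adjK (adjK' adjρ θb adjK₀) (L.obj M)) :=
      IsIso.of_isIso_comp_left (γl adjρ ((Rφ ⋙ resφ).obj M)) _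
    have h3 : IsIso (G.map (βG adjρ adjα rc adj adj' M)) :=
      IsIso.of_isIso_comp_right _ (rho adjρ PA adjK (adjK' adjρ θb adjK₀) (L.obj M))
    have h4 : IsIso (βG adjρ adjα rc adj adj' M) := isIso_of_reflects_iso _ G
    have h4' : IsIso (cmpG adjρ adjα rc (Rφ.obj M) ≫
        resφ'.map (bcG adjρ adjα rc adj adj' M)) := h4
    have h5 : IsIso (resφ'.map (bcG adjρ adjα rc adj adj' M)) :=
      IsIso.of_isIso_comp_left (cmpG adjρ adjα rc (Rφ.obj M)) _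
    exact isIso_of_reflects_iso _ resφ'

end BC

end Groth.Agent.H10.TB.Gen
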