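import Groth.Agent.H10.RHM2
import Groth.Agent.H35.TrivBCCmp

/-!
# Chain level: the identification of the two restrictions is compatible with the lax structures
-/

set_option autoImplicit false
universe u
open CategoryTheory CategoryTheory.Limits MonoidalCategory
attribute [local instance] HasDerivedCategory.standard

namespace Groth.Agent.H10.TB

open DTen Groth.Agent.H10.RH Groth.Agent.H10.RHM Groth.Agent.H35.TrivBCCmp

variable {R A R' A' : Type u} [CommRing R] [CommRing A] [CommRing R'] [CommRing A']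
  {φ : R →+* A} {ρ : R →+* R'} {α : A →+* A'} {φ' : R' →+* A'}
  (h : α.comp φ = φ'.comp ρ)

/-- The identification on modules. -/
noncomputable abbrev idM (N : ModuleCat.{u} A') :
    (resM φ).obj ((resM α).obj N) ⟶ (resM ρ).obj ((resM φ').obj N) :=
  (TrivBC.resCommMod h).hom.app N

lemma idCx_f (W : DRing.Cx A') (n : ℤ) : (idCx h W).f n = idM h (W.X n) := by
  simp [idCx]
  exact Category.comp_id _

@[reassoc]
lemma idCx_naturality {W W' : DRing.Cx A'} (f : W ⟶ W') :
    (resCx φ).map ((resCx α).map f) ≫ idCx h W' = idCx h W ≫ (resCx ρ).map ((resCx φ').map f) := by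
  ext n : 1
  rw [HomologicalComplex.comp_f, HomologicalComplex.comp_f, idCx_f, idCx_f]
  exact (TrivBC.resCommMod h).hom.naturality (f.f n)

lemma idM_resTen₀app (N₁ N₂ : ModuleCat.{u} A') :
    (idM h N₁ ⊗ₘ idM h N₂) ≫ resTen₀app ρ ((resM φ').obj N₁) ((resM φ').obj N₂) ≫
        (resM ρ).map (resTen₀app φ' N₁ N₂) =
      resTen₀app φ ((resM α).obj N₁) ((resM α).obj N₂) ≫ (resM φ).map (resTen₀app α N₁ N₂) ≫
        idM h (N₁ ⊗ N₂) :=
  ModuleCat.hom_ext (TensorProduct.ext' (fun _ _ => rfl))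

set_option backward.isDefEq.respectTransparency false in
/-- The identification of the two restrictions is compatible with the lax structures of the
restriction functors on complexes. -/
theorem idCx_resTenCx (W₁ W₂ : DRing.Cx A') :
    (idCx h W₁ ⊗ₘ idCx h W₂) ≫ resTenCx ρ ((resCx φ').obj W₁) ((resCx φ').obj W₂) ≫
        (resCx ρ).map (resTenCx φ' W₁ W₂) =
      resTenCx φ ((resCx α).obj W₁) ((resCx α).obj W₂) ≫ (resCx φ).map (resTenCx α W₁ W₂) ≫
        idCx h (W₁ ⊗ W₂) := by
  change HomologicalComplex.mapBifunctorMap (idCx h W₁) (idCx h W₂) _ _ ≫ _ = _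
  refine HomologicalComplex.hom_ext _ _
    (fun n => HomologicalComplex.mapBifunctor.hom_ext (fun p q hpq => ?_))
  have e1 := idM_resTen₀app h (W₁.X p) (W₂.X q)
  have e2 : (resM φ).map ((resM α).map (HomologicalComplex.ιTensorObj W₁ W₂ p q n hpq)) ≫
      idM h ((W₁ ⊗ W₂).X n) = idM h (W₁.X p ⊗ W₂.X q) ≫
        (resM ρ).map ((resM φ').map (HomologicalComplex.ιTensorObj W₁ W₂ p q n hpq)) :=
    (TrivBC.resCommMod h).hom.naturality _
  have l1 : (resM ρ).map (HomologicalComplex.ιTensorObj ((resCx φ').obj W₁) ((resCx φ').obj W₂)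
        p q n hpq) ≫ ((resCx ρ).map (resTenCx φ' W₁ W₂)).f n =
      (resM ρ).map (resTen₀app φ' (W₁.X p) (W₂.X q)) ≫
        (resM ρ).map ((resM φ').map (HomologicalComplex.ιTensorObj W₁ W₂ p q n hpq)) := by
    rw [← Functor.map_comp]
    erw [← Functor.map_comp]
    congr 1
    exact ι_resTenCx φ' W₁ W₂ p q n hpq
  have r1 : (resM φ).map (HomologicalComplex.ιTensorObj ((resCx α).obj W₁) ((resCx α).obj W₂)
        p q n hpq) ≫ ((resCx φ).map (resTenCx α W₁ W₂)).f n =
      (resM φ).map (resTen₀app α (W₁.X p) (W₂.X q)) ≫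
        (resM φ).map ((resM α).map (HomologicalComplex.ιTensorObj W₁ W₂ p q n hpq)) := by
    rw [← Functor.map_comp]
    erw [← Functor.map_comp]
    congr 1
    exact ι_resTenCx α W₁ W₂ p q n hpq
  erw [HomologicalComplex.comp_f, HomologicalComplex.comp_f, HomologicalComplex.comp_f,
    HomologicalComplex.comp_f, HomologicalComplex.ι_mapBifunctorMap_assoc,
    ι_resTenCx_assoc ρ _ _ p q n hpq, ι_resTenCx_assoc φ _ _ p q n hpq]
  rw [idCx_f, idCx_f, HomologicalComplex.comp_f, idCx_f]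
  erw [l1, reassoc_of% r1, e2]
  have l0 : ((curriedTensor (ModuleCat.{u} R)).map (idM h (W₁.X p))).app
        ((resM φ).obj ((resM α).obj (W₂.X q))) ≫
      ((curriedTensor (ModuleCat.{u} R)).obj ((resM ρ).obj ((resM φ').obj (W₁.X p)))).map
        (idM h (W₂.X q)) = idM h (W₁.X p) ⊗ₘ idM h (W₂.X q) := (MonoidalCategory.tensorHom_def _ _).symm
  erw [reassoc_of% l0, reassoc_of% e1]
  rfl

/-- The chain level unit map `res_φ 𝟙_A ⟶ res_ρ (res_φ' 𝟙_A')`. -/
noncomputable def θ₀ : (resCx φ).obj (𝟙_ (DRing.Cx A)) ⟶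
    (resCx ρ).obj ((resCx φ').obj (𝟙_ (DRing.Cx A'))) :=
  (resCx φ).map (uCx α) ≫ idCx h (𝟙_ (DRing.Cx A'))

/-- The identification of the two restrictions is compatible with the actions of `res A` and
`res A'`. -/
theorem idCx_actCx (W : DRing.Cx A') :
    (idCx h W ⊗ₘ θ₀ h) ≫ resTenCx ρ ((resCx φ').obj W) ((resCx φ').obj (𝟙_ (DRing.Cx A'))) ≫
        (resCx ρ).map (actCx φ' W) =
      actCx φ ((resCx α).obj W) ≫ idCx h W := by
  have hu := right_unit_cx α W
  have hn := resTenCx_naturality φ (𝟙 ((resCx α).obj W)) (uCx α)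
  rw [CategoryTheory.Functor.map_id, MonoidalCategory.id_tensorHom,
    MonoidalCategory.id_tensorHom] at hn
  have hM := idCx_resTenCx h W (𝟙_ (DRing.Cx A'))
  have hnat := idCx_naturality h (ρ_ W).hom
  have ht : idCx h W ⊗ₘ θ₀ h =
      ((resCx φ).obj ((resCx α).obj W) ◁ (resCx φ).map (uCx α)) ≫
        (idCx h W ⊗ₘ idCx h (𝟙_ (DRing.Cx A'))) := by
    dsimp only [θ₀]
    rw [MonoidalCategory.tensorHom_def, MonoidalCategory.tensorHom_def,
      MonoidalCategory.whiskerLeft_comp, whisker_exchange_assoc]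
  symm
  dsimp only [actCx]
  calc _ = resTenCx φ ((resCx α).obj W) (𝟙_ (DRing.Cx A)) ≫
        (resCx φ).map (((resCx α).obj W ◁ uCx α) ≫ resTenCx α W (𝟙_ (DRing.Cx A')) ≫
          (resCx α).map (ρ_ W).hom) ≫ idCx h W := by
        rw [hu, Category.assoc]
    _ = (resTenCx φ ((resCx α).obj W) (𝟙_ (DRing.Cx A)) ≫
          (resCx φ).map ((resCx α).obj W ◁ uCx α)) ≫
        (resCx φ).map (resTenCx α W (𝟙_ (DRing.Cx A'))) ≫
        ((resCx φ).map ((resCx α).map (ρ_ W).hom) ≫ idCx h W) := by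
        simp only [Functor.map_comp, Category.assoc]
    _ = ((resCx φ).obj ((resCx α).obj W) ◁ (resCx φ).map (uCx α)) ≫
        (resTenCx φ ((resCx α).obj W) ((resCx α).obj (𝟙_ (DRing.Cx A'))) ≫
          (resCx φ).map (resTenCx α W (𝟙_ (DRing.Cx A'))) ≫ idCx h (W ⊗ 𝟙_ (DRing.Cx A'))) ≫
        (resCx ρ).map ((resCx φ').map (ρ_ W).hom) := by
        rw [hnat, ← hn]
        simp only [Category.assoc]
    _ = _ := by
        rw [← hM, ht, Functor.map_comp]
        simp only [Category.assoc]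

end Groth.Agent.H10.TB
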