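import Groth.Agent.H10.TB4
import Groth.Agent.H10.RH5
import Groth.Agent.H10.RHM3

/-!
# Derived level: the commutation of restrictions is compatible with the actions of `res A`, `res A'`
-/

set_option autoImplicit false
universe u
open CategoryTheory CategoryTheory.Limits MonoidalCategory
attribute [local instance] HasDerivedCategory.standard

namespace Groth.Agent.H10.TB

open DTen Groth.Agent.H10.DT Groth.Agent.H10.RH Groth.Agent.H10.RHM Groth.Agent.H35.TrivBCCmp
  Groth.Agent.H45.MultiDer Groth.Agent.H45.MultiDer.DTenC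

variable {R A R' A' : Type u} [CommRing R] [CommRing A] [CommRing R'] [CommRing A']
  {φ : R →+* A} {ρ : R →+* R'} {α : A →+* A'} {φ' : R' →+* A'}
  (h : α.comp φ = φ'.comp ρ)
  [DTen.HasLTen R] [DTen.HasLTen₃ R] [DTen.IsSymMonoidal R]
  [DTen.HasLTen R'] [DTen.HasLTen₃ R'] [DTen.IsSymMonoidal R']
  [DTen.HasResTen ρ] [DTen.ResLegIso ρ]

attribute [local instance] DT.monoidal

/-- The unit map `res_φ 𝟙_A ⟶ res_ρ (res_φ' 𝟙_A')` in `D(R)`. -/
noncomputable def θb : PA φ ⟶ (res ρ).obj (PA φ') :=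
  (res φ).map (e₀ α) ≫ (TrivBC.resComm h).hom.app (DTen.unit A')

/-- `res_φ (res_α (Q W)) ≅ Q (res res W)`. -/
noncomputable abbrev B₁ (W : DRing.Cx A') :
    (res φ).obj ((res α).obj (q W)) ≅ q ((resCx φ).obj ((resCx α).obj W)) :=
  (res φ).mapIso (bIso α W) ≪≫ bIso φ ((resCx α).obj W)

omit [DTen.HasLTen R] [DTen.HasLTen₃ R] [DTen.IsSymMonoidal R]
  [DTen.HasLTen R'] [DTen.HasLTen₃ R'] [DTen.IsSymMonoidal R']
  [DTen.HasResTen ρ] [DTen.ResLegIso ρ] in
lemma resComm_q (W : DRing.Cx A') :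
    (TrivBC.resComm h).hom.app (q W) =
      (B₁ (φ := φ) (α := α) W).hom ≫ qm (idCx h W) ≫ (B₁ (φ := ρ) (α := φ') W).inv := by
  rw [resComm_hom_app_Q]
  dsimp only [B₁, Iso.trans_hom, Iso.trans_inv, Functor.mapIso_hom, Functor.mapIso_inv]
  simp only [Category.assoc]
  rfl

omit [DTen.HasLTen R] [DTen.HasLTen₃ R] [DTen.IsSymMonoidal R]
  [DTen.HasLTen R'] [DTen.HasLTen₃ R'] [DTen.IsSymMonoidal R']
  [DTen.HasResTen ρ] [DTen.ResLegIso ρ] in
lemma θb_B₁ :
    θb h ≫ (B₁ (φ := ρ) (α := φ') (𝟙_ (DRing.Cx A'))).hom =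
      (bIso φ (𝟙_ (DRing.Cx A))).hom ≫ qm (θ₀ h) := by
  dsimp only [θb, e₀, θ₀]
  have h1 := resComm_q h (𝟙_ (DRing.Cx A'))
  have h2 := bIso_hom_naturality φ (uCx α)
  erw [h1]
  simp only [Category.assoc, Iso.inv_hom_id, Category.comp_id]
  dsimp only [B₁, Iso.trans_hom, Functor.mapIso_hom]
  have e1 : (res φ).map (qm (uCx α) ≫ (bIso α (𝟙_ (DRing.Cx A'))).inv) ≫
      (res φ).map (bIso α (𝟙_ (DRing.Cx A'))).hom = (res φ).map (qm (uCx α)) := by
    rw [← Functor.map_comp, Category.assoc, Iso.inv_hom_id, Category.comp_id]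
  simp only [Category.assoc]
  rw [reassoc_of% e1]
  erw [reassoc_of% h2]
  rw [← Functor.map_comp]

omit [DTen.HasLTen R'] [DTen.HasLTen₃ R'] [DTen.IsSymMonoidal R']
  [DTen.HasResTen ρ] [DTen.ResLegIso ρ] in
/-- The action on `res_α (Q W)` computed on complexes. -/
lemma act_res_q (W : DRing.Cx A') :
    Abs.act (adjD φ) (γIso φ) ((res α).obj (q W)) =
      tm (B₁ (φ := φ) (α := α) W).hom (bIso φ (𝟙_ (DRing.Cx A))).hom ≫
        ee ((resCx φ).obj ((resCx α).obj W)) ((resCx φ).obj (𝟙_ (DRing.Cx A))) ≫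
        qm (actCx φ ((resCx α).obj W)) ≫ (B₁ (φ := φ) (α := α) W).inv := by
  have h1 := Abs.act_naturality (adjD φ) (γIso φ) (bIso α W).hom
  have h2 := act_Q φ ((resCx α).obj W)
  have h3 : Abs.act (adjD φ) (γIso φ) ((res α).obj (q W)) =
      tm ((res φ).map (bIso α W).hom) (𝟙 (PA φ)) ≫
        Abs.act (adjD φ) (γIso φ) (q ((resCx α).obj W)) ≫ (res φ).map (bIso α W).inv := by
    have := congrArg (fun t => t ≫ (res φ).map (bIso α W).inv) h1
    simp only [Category.assoc] at this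
    rw [← Functor.map_comp, Iso.hom_inv_id, CategoryTheory.Functor.map_id, Category.comp_id]
      at this
    exact this.symm
  rw [h3]
  erw [h2]
  dsimp only [actQ, B₁, Iso.trans_hom, Iso.trans_inv, Functor.mapIso_hom, Functor.mapIso_inv]
  change tm ((res φ).map (bIso α W).hom) (𝟙 (PA φ)) ≫
    (tm (bIso φ ((resCx α).obj W)).hom (bIso φ (𝟙_ (DRing.Cx A))).hom ≫ _) ≫ _ = _
  simp only [Category.assoc]
  rw [← tm_comp_assoc, Category.id_comp]

/-- The commutation of restrictions is compatible with the actions, on images of complexes. -/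
theorem hact_q (W : DRing.Cx A') :
    tm ((TrivBC.resComm h).hom.app (q W)) (θb h) ≫ m ρ ((res φ').obj (q W)) (PA φ') ≫
        (res ρ).map (Abs.act (adjD φ') (γIso φ') (q W)) =
      Abs.act (adjD φ) (γIso φ) ((res α).obj (q W)) ≫ (TrivBC.resComm h).hom.app (q W) := by
  rw [← cancel_mono (B₁ (φ := ρ) (α := φ') W).hom]
  have s1 := act_Q φ' W
  have s3 := m_naturality ρ (bIso φ' W).hom (bIso φ' (𝟙_ (DRing.Cx A'))).hom
  have s4 := m_fac ρ ((resCx φ').obj W) ((resCx φ').obj (𝟙_ (DRing.Cx A')))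
  have s5 := bIso_hom_naturality ρ (actCx φ' W)
  have s6 := resComm_q h W
  have s7 := θb_B₁ h
  have s8 := ε_naturality (idCx h W) (θ₀ h)
  have s9 := idCx_actCx h W
  have s10 := act_res_q (φ := φ) (α := α) W
  -- the right hand side
  have hR : (Abs.act (adjD φ) (γIso φ) ((res α).obj (q W)) ≫ (TrivBC.resComm h).hom.app (q W)) ≫
      (B₁ (φ := ρ) (α := φ') W).hom =
      tm (B₁ (φ := φ) (α := α) W).hom (bIso φ (𝟙_ (DRing.Cx A))).hom ≫
        ee ((resCx φ).obj ((resCx α).obj W)) ((resCx φ).obj (𝟙_ (DRing.Cx A))) ≫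
        qm (actCx φ ((resCx α).obj W) ≫ idCx h W) := by
    rw [s10, s6]
    simp only [Category.assoc, Iso.inv_hom_id, Category.comp_id, Iso.inv_hom_id_assoc,
      Functor.map_comp]
  rw [hR]
  -- the left hand side
  have hL1 : (res ρ).map (Abs.act (adjD φ') (γIso φ') (q W)) ≫ (B₁ (φ := ρ) (α := φ') W).hom =
      (res ρ).map (tm (bIso φ' W).hom (bIso φ' (𝟙_ (DRing.Cx A'))).hom) ≫
        (res ρ).map (ee ((resCx φ').obj W) ((resCx φ').obj (𝟙_ (DRing.Cx A')))) ≫
        (bIso ρ ((resCx φ').obj W ⊗ (resCx φ').obj (𝟙_ (DRing.Cx A')))).hom ≫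
        qm ((resCx ρ).map (actCx φ' W)) := by
    erw [s1]
    dsimp only [actQ, B₁, Iso.trans_hom, Functor.mapIso_hom]
    simp only [Functor.map_comp, Category.assoc]
    rw [← Functor.map_comp_assoc (res ρ) (bIso φ' W).inv, Iso.inv_hom_id,
      CategoryTheory.Functor.map_id, Category.id_comp]
    erw [s5]
    rfl
  have hL2 : tm ((TrivBC.resComm h).hom.app (q W)) (θb h) ≫
      tm ((res ρ).map (bIso φ' W).hom) ((res ρ).map (bIso φ' (𝟙_ (DRing.Cx A'))).hom) ≫
      tm (bIso ρ ((resCx φ').obj W)).hom (bIso ρ ((resCx φ').obj (𝟙_ (DRing.Cx A')))).hom =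
      tm (B₁ (φ := φ) (α := α) W).hom (bIso φ (𝟙_ (DRing.Cx A))).hom ≫
        tm (qm (idCx h W)) (qm (θ₀ h)) := by
    rw [← tm_comp, ← tm_comp, ← tm_comp, ← s7, s6]
    dsimp only [B₁, Iso.trans_hom, Iso.trans_inv, Functor.mapIso_hom, Functor.mapIso_inv]
    simp only [Category.assoc]
    rw [← Functor.map_comp_assoc (res ρ) (bIso φ' W).inv, Iso.inv_hom_id,
      CategoryTheory.Functor.map_id, Category.id_comp, Iso.inv_hom_id, Category.comp_id]
  calc _ = tm ((TrivBC.resComm h).hom.app (q W)) (θb h) ≫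
        (m ρ ((res φ').obj (q W)) (PA φ') ≫
          (res ρ).map (tm (bIso φ' W).hom (bIso φ' (𝟙_ (DRing.Cx A'))).hom)) ≫
        (res ρ).map (ee ((resCx φ').obj W) ((resCx φ').obj (𝟙_ (DRing.Cx A')))) ≫
        (bIso ρ ((resCx φ').obj W ⊗ (resCx φ').obj (𝟙_ (DRing.Cx A')))).hom ≫
        qm ((resCx ρ).map (actCx φ' W)) := by
        simp only [Category.assoc]
        rw [hL1]
    _ = tm ((TrivBC.resComm h).hom.app (q W)) (θb h) ≫
        tm ((res ρ).map (bIso φ' W).hom) ((res ρ).map (bIso φ' (𝟙_ (DRing.Cx A'))).hom) ≫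
        (m ρ (q ((resCx φ').obj W)) (q ((resCx φ').obj (𝟙_ (DRing.Cx A')))) ≫
        (res ρ).map (ee ((resCx φ').obj W) ((resCx φ').obj (𝟙_ (DRing.Cx A')))) ≫
        (bIso ρ ((resCx φ').obj W ⊗ (resCx φ').obj (𝟙_ (DRing.Cx A')))).hom) ≫
        qm ((resCx ρ).map (actCx φ' W)) := by
        rw [← s3]
        simp only [Category.assoc]
    _ = (tm ((TrivBC.resComm h).hom.app (q W)) (θb h) ≫
        tm ((res ρ).map (bIso φ' W).hom) ((res ρ).map (bIso φ' (𝟙_ (DRing.Cx A'))).hom) ≫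
        tm (bIso ρ ((resCx φ').obj W)).hom (bIso ρ ((resCx φ').obj (𝟙_ (DRing.Cx A')))).hom) ≫
        ee ((resCx ρ).obj ((resCx φ').obj W)) ((resCx ρ).obj ((resCx φ').obj (𝟙_ (DRing.Cx A')))) ≫
        qm (resTenCx ρ ((resCx φ').obj W) ((resCx φ').obj (𝟙_ (DRing.Cx A')))) ≫
        qm ((resCx ρ).map (actCx φ' W)) := by
        rw [s4]
        simp only [Category.assoc]
    _ = tm (B₁ (φ := φ) (α := α) W).hom (bIso φ (𝟙_ (DRing.Cx A))).hom ≫
        (tm (qm (idCx h W)) (qm (θ₀ h)) ≫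
        ee ((resCx ρ).obj ((resCx φ').obj W)) ((resCx ρ).obj ((resCx φ').obj (𝟙_ (DRing.Cx A'))))) ≫
        qm (resTenCx ρ ((resCx φ').obj W) ((resCx φ').obj (𝟙_ (DRing.Cx A')))) ≫
        qm ((resCx ρ).map (actCx φ' W)) := by
        rw [hL2]
        simp only [Category.assoc]
    _ = _ := by
        erw [s8]
        simp only [Category.assoc]
        rw [← Functor.map_comp, ← Functor.map_comp, ← s9, MonoidalCategory.tensorHom_def]

/-- The commutation of restrictions is compatible with the actions of `res A` and `res A'`. -/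
theorem hact (W : Dual.D A') :
    tm ((TrivBC.resComm h).hom.app W) (θb h) ≫ m ρ ((res φ').obj W) (PA φ') ≫
        (res ρ).map (Abs.act (adjD φ') (γIso φ') W) =
      Abs.act (adjD φ) (γIso φ) ((res α).obj W) ≫ (TrivBC.resComm h).hom.app W := by
  let e : q (DerivedCategory.Q.objPreimage W) ≅ W := DerivedCategory.Q.objObjPreimageIso W
  have h0 := hact_q h (DerivedCategory.Q.objPreimage W)
  have n1 := (TrivBC.resComm h).hom.naturality e.hom
  dsimp only [Functor.comp_obj, Functor.comp_map] at n1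
  have n2 := m_naturality ρ ((res φ').map e.hom) (𝟙 (PA φ'))
  have n3 := Abs.act_naturality (adjD φ') (γIso φ') e.hom
  have n4 := Abs.act_naturality (adjD φ) (γIso φ) ((res α).map e.hom)
  have key : tm ((res φ).map ((res α).map e.hom)) (𝟙 (PA φ)) ≫
      (tm ((TrivBC.resComm h).hom.app W) (θb h) ≫ m ρ ((res φ').obj W) (PA φ') ≫
        (res ρ).map (Abs.act (adjD φ') (γIso φ') W)) =
      tm ((res φ).map ((res α).map e.hom)) (𝟙 (PA φ)) ≫
      (Abs.act (adjD φ) (γIso φ) ((res α).obj W) ≫ (TrivBC.resComm h).hom.app W) := by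
    calc _ = tm ((TrivBC.resComm h).hom.app (q (DerivedCategory.Q.objPreimage W))) (θb h) ≫
          (tm ((res ρ).map ((res φ').map e.hom)) ((res ρ).map (𝟙 (PA φ'))) ≫
          m ρ ((res φ').obj W) (PA φ')) ≫ (res ρ).map (Abs.act (adjD φ') (γIso φ') W) := by
          rw [← tm_comp_assoc, Category.id_comp]
          erw [n1]
          rw [CategoryTheory.Functor.map_id]
          simp only [Category.assoc]
          rw [← tm_comp_assoc, Category.comp_id]
      _ = (tm ((TrivBC.resComm h).hom.app (q (DerivedCategory.Q.objPreimage W))) (θb h) ≫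
          m ρ ((res φ').obj (q (DerivedCategory.Q.objPreimage W))) (PA φ') ≫
          (res ρ).map (Abs.act (adjD φ') (γIso φ') (q (DerivedCategory.Q.objPreimage W)))) ≫
          (res ρ).map ((res φ').map e.hom) := by
          rw [n2]
          simp only [Category.assoc]
          rw [← Functor.map_comp, ← Functor.map_comp]
          erw [n3]
      _ = _ := by
          rw [h0, Category.assoc]
          erw [← n1, ← reassoc_of% n4]
          rfl
  exact (cancel_epi _).1 key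

end Groth.Agent.H10.TB
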