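import Groth.Agent.H10.TB2
import Groth.Agent.H10.TB5
import Groth.Agent.H10.RHM10

/-!
# Base change for trivial duality: the base change map is an isomorphism iff the evaluation map is
-/

set_option autoImplicit false
universe u v₁ v₂ u₁ u₂
open CategoryTheory CategoryTheory.Limits MonoidalCategory
attribute [local instance] HasDerivedCategory.standard

namespace Groth.Agent.H10.TB

section GenAdj

variable {C : Type u₁} [Category.{v₁} C] {D : Type u₂} [Category.{v₂} D]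
  {L₁ L₂ : C ⥤ D} {G : D ⥤ C} (adj₁ : L₁ ⊣ G) (adj₂ : L₂ ⊣ G)

lemma homEquiv_symm_leftAdjointUniq {X : C} {Y : D} (f : X ⟶ G.obj Y) :
    (adj₁.homEquiv X Y).symm f =
      (adj₁.leftAdjointUniq adj₂).hom.app X ≫ (adj₂.homEquiv X Y).symm f := by
  apply (adj₁.homEquiv X Y).injective
  rw [Equiv.apply_symm_apply, Adjunction.homEquiv_unit, G.map_comp,
    reassoc_of% (adj₁.unit_leftAdjointUniq_hom_app adj₂ X), ← Adjunction.homEquiv_unit,
    Equiv.apply_symm_apply]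

end GenAdj

open DTen Groth.Agent.H10.DT Groth.Agent.H10.RH Groth.Agent.H10.RHM Groth.Agent.H35.TrivBCCmp
  Groth.Agent.H45.MultiDer Groth.Agent.H45.MultiDer.DTenC Functor.LaxMonoidal
  Functor.OplaxMonoidal

variable {R A R' A' : Type u} [CommRing R] [CommRing A] [CommRing R'] [CommRing A']
  {φ : R →+* A} {ρ : R →+* R'} {α : A →+* A'} {φ' : R' →+* A'}
  (h : α.comp φ = φ'.comp ρ)
  [DTen.HasLTen R] [DTen.HasLTen₃ R] [DTen.IsSymMonoidal R]
  [DTen.HasLTen R'] [DTen.HasLTen₃ R'] [DTen.IsSymMonoidal R']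
  [DTen.HasLTen A] [DTen.HasLTen₃ A] [DTen.IsSymMonoidal A]
  [DTen.HasLTen A'] [DTen.HasLTen₃ A'] [DTen.IsSymMonoidal A']
  [DTen.HasResTen ρ] [DTen.ResLegIso ρ] [DTen.HasResTen α] [DTen.ResLegIso α]
  [DRing.HasLBaseChange ρ] [DRing.HasLBaseChange α]
  (adjρ : DRing.LBaseChange ρ ⊣ DRing.restrictD ρ)
  (adjα : DRing.LBaseChange α ⊣ DRing.restrictD α)
  {Rφ : Dual.D R ⥤ Dual.D A} (adj : DRing.restrictD φ ⊣ Rφ)
  {Rφ' : Dual.D R' ⥤ Dual.D A'} (adj' : DRing.restrictD φ' ⊣ Rφ')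

attribute [local instance] DT.monoidal laxMonoidal

omit [DTen.HasLTen R] [DTen.HasLTen₃ R] [DTen.IsSymMonoidal R]
  [DTen.HasLTen R'] [DTen.HasLTen₃ R'] [DTen.IsSymMonoidal R']
  [DTen.HasResTen ρ] [DTen.ResLegIso ρ] [DRing.HasLBaseChange ρ] in
/-- The unit comparison `L_α 𝟙 ⟶ 𝟙` is an isomorphism. -/
lemma isIso_ι : IsIso ((adjα.homEquiv _ _).symm (e₀ α)) := by
  have : DTen.HasLBase α := ⟨adjα.isRightAdjoint⟩
  let _ := oplaxMonoidal α
  rw [homEquiv_symm_leftAdjointUniq adjα (baseAdj α)]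
  have : IsIso (((baseAdj α).homEquiv _ _).symm (e₀ α)) := isIso_η α
  infer_instance

omit [DTen.HasLTen₃ R] [DTen.IsSymMonoidal R] [DTen.HasLTen R'] [DTen.HasLTen₃ R']
  [DTen.IsSymMonoidal R'] [DTen.HasResTen ρ] [DTen.ResLegIso ρ] [DTen.HasLTen R]
  [DTen.HasLTen A] [DTen.HasLTen₃ A] [DTen.IsSymMonoidal A] [DTen.HasLTen A']
  [DTen.HasLTen₃ A'] [DTen.IsSymMonoidal A'] [DTen.HasResTen α] [DTen.ResLegIso α] in
/-- The unit comparison `L_ρ (res_φ 𝟙) ⟶ res_φ' 𝟙` is the base change comparison at the unit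
followed by `res_φ'` of the unit comparison of `L_α`. -/
lemma θG_eq :
    Gen.θG adjρ (θb h) = TrivBC.cmp adjρ adjα h (DTen.unit A) ≫
      (res φ').map ((adjα.homEquiv _ _).symm (e₀ α)) := by
  dsimp only [Gen.θG, TrivBC.cmp, θb]
  rw [← Adjunction.homEquiv_naturality_right_symm]
  congr 1
  have h1 : e₀ α = adjα.unit.app (DTen.unit A) ≫
      (res α).map ((adjα.homEquiv _ _).symm (e₀ α)) := by
    have := (adjα.homEquiv _ _).apply_symm_apply (e₀ α)
    rw [Adjunction.homEquiv_unit] at this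
    exact this.symm
  have h2 := (TrivBC.resComm h).hom.naturality ((adjα.homEquiv _ _).symm (e₀ α))
  dsimp only [Functor.comp_obj, Functor.comp_map] at h2
  conv_lhs => rw [h1]
  rw [Functor.map_comp, Category.assoc, Category.assoc]
  erw [h2]

include adjα in
omit [DTen.HasLTen₃ R] [DTen.IsSymMonoidal R] [DTen.HasLTen R'] [DTen.HasLTen₃ R']
  [DTen.IsSymMonoidal R'] [DTen.HasResTen ρ] [DTen.ResLegIso ρ] [DTen.HasLTen R] in
lemma isIso_θG (hu : IsIso (TrivBC.cmp adjρ adjα h (DTen.unit A))) :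
    IsIso (Gen.θG adjρ (θb h)) := by
  rw [θG_eq h adjρ adjα]
  have := isIso_ι adjα
  infer_instance

/-- **Base change for trivial duality**: the base change map is an isomorphism iff the
evaluation map for the adjunction `- ⊗ res A ⊣ Rφ ⋙ res` is. -/
theorem isIso_bcMap_iff_evT (K : Dual.D R) (hc : IsIso (TrivBC.cmp adjρ adjα h (Rφ.obj K)))
    (hu : IsIso (TrivBC.cmp adjρ adjα h (DTen.unit A))) :
    IsIso (TrivBC.bcMap adjρ adjα h adj adj' K hc) ↔
      IsIso (DT.Gen.evT ((res ρ).obj (DTen.unit R')) (PA φ) (Abs.adjS (adjD φ) adj (γIso φ)) K) := by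
  let _ : (DRing.LBaseChange ρ).OplaxMonoidal := adjρ.leftAdjointOplaxMonoidal
  have : adjρ.IsMonoidal :=
    inferInstanceAs (letI := adjρ.leftAdjointOplaxMonoidal; adjρ.IsMonoidal)
  have : DTen.HasLBase ρ := ⟨adjρ.isRightAdjoint⟩
  let _ := oplaxMonoidal ρ
  have i0 : IsIso (Gen.cmpG adjρ adjα (TrivBC.resComm h) (Rφ.obj K)) := hc
  have i1 : IsIso (Gen.θG adjρ (θb h)) := isIso_θG h adjρ adjα hu
  have i2 : ∀ Y : Dual.D R, IsIso (Gen.γl adjρ Y) := fun Y =>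
    have : IsIso (Gen.γl (baseAdj ρ) Y) := isIso_gl ρ Y
    Gen.isIso_γl_of_leftAdjointUniq adjρ (baseAdj ρ) Y
  have i3 : ∀ T : Dual.D R, IsIso (δ (DRing.LBaseChange ρ) T (PA φ)) := fun T =>
    Gen.isIso_δ_of_leftAdjointUniq adjρ (baseAdj ρ) T (PA φ)
  have i4 := i2 ((Rφ ⋙ res φ).obj K)
  have i5 := i2 K
  exact Gen.isIso_bcG_iff adjρ adjα (TrivBC.resComm h) adj adj'
    (Abs.act (adjD φ) (γIso φ)) (fun f => Abs.act_naturality (adjD φ) (γIso φ) f)
    (Abs.act (adjD φ') (γIso φ')) (fun f => Abs.act_naturality (adjD φ') (γIso φ') f)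
    (θb h) (hact h) K (Abs.adjS (adjD φ) adj (γIso φ))
    (fun M => Abs.adjS_counit (adjD φ) adj (γIso φ) M)
    (Abs.adjS (adjD φ') adj' (γIso φ'))
    (fun N => Abs.adjS_counit (adjD φ') adj' (γIso φ') N)

end Groth.Agent.H10.TB
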