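import Groth.Agent.H10.TB6
import Groth.Agent.H10.TB7
import Groth.Agent.H10.RHM11
import Groth.Agent.H35.TorDimAmp
import Groth.Agent.H35.TorAmpCone

/-!
# Base change for trivial duality: `A` pseudo-coherent, `R'` of finite tor dimension, `K` bounded
below
-/

set_option autoImplicit false
universe u
open CategoryTheory CategoryTheory.Limits MonoidalCategory
attribute [local instance] HasDerivedCategory.standard

namespace Groth.Agent.H10.TB

open DTen Groth.Agent.H10.DT Groth.Agent.H10.RH Groth.Agent.H10.RHM Groth.Agent.H35.TrivBCCmp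
  Groth.Agent.H45.MultiDer Groth.Agent.H45.MultiDer.DTenC DerivedCategory

section Gl

variable {R R' : Type u} [CommRing R] [CommRing R'] (φ : R →+* R')
  [DTen.HasLTen R] [DTen.HasLTen₃ R] [DTen.IsSymMonoidal R]
  [DTen.HasLTen R'] [DTen.HasLTen₃ R'] [DTen.IsSymMonoidal R']
  [DTen.HasResTen φ] [DTen.ResLegIso φ] [DTen.HasLBase φ]

attribute [local instance] DT.monoidal laxMonoidal oplaxMonoidal

/-- The projection isomorphism `res 𝟙 ⊗^L - ≅ res (- ⊗^L_R R')` as a natural isomorphism (no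
`HasRHom`). -/
noncomputable def glIso' :
    tensorLeft ((res φ).obj (DTen.unit R')) ≅ LBase φ ⋙ res φ :=
  NatIso.ofComponents (fun Y => asIso (gl φ Y)) (fun f => RHM.Gen.γl_naturality (baseAdj φ) f)

end Gl

variable {R A R' A' : Type u} [CommRing R] [CommRing A] [CommRing R'] [CommRing A']
  [Algebra R A] [Algebra R R'] [Algebra A A'] [Algebra R' A']
  (h : (algebraMap A A').comp (algebraMap R A) = (algebraMap R' A').comp (algebraMap R R'))
  [DTen.HasLTen R] [DTen.HasLTen₃ R] [DTen.IsSymMonoidal R]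
  [DTen.HasLTen R'] [DTen.HasLTen₃ R'] [DTen.IsSymMonoidal R']
  [DTen.HasLTen A] [DTen.HasLTen₃ A] [DTen.IsSymMonoidal A]
  [DTen.HasLTen A'] [DTen.HasLTen₃ A'] [DTen.IsSymMonoidal A']
  [DTen.HasResTen (algebraMap R R')] [DTen.ResLegIso (algebraMap R R')]
  [DTen.HasResTen (algebraMap A A')] [DTen.ResLegIso (algebraMap A A')]
  [DRing.HasLBaseChange (algebraMap R R')] [DRing.HasLBaseChange (algebraMap A A')]
  (adjρ : DRing.LBaseChange (algebraMap R R') ⊣ DRing.restrictD (algebraMap R R'))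
  (adjα : DRing.LBaseChange (algebraMap A A') ⊣ DRing.restrictD (algebraMap A A'))
  {Rφ : Dual.D R ⥤ Dual.D A} (adj : DRing.restrictD (algebraMap R A) ⊣ Rφ)
  {Rφ' : Dual.D R' ⥤ Dual.D A'} (adj' : DRing.restrictD (algebraMap R' A') ⊣ Rφ')

attribute [local instance] DT.monoidal laxMonoidal

omit [DTen.HasLTen R] [DTen.HasLTen₃ R] [DTen.IsSymMonoidal R]
  [DTen.HasLTen A] [DTen.HasLTen₃ A] [DTen.IsSymMonoidal A] in
lemma isPseudoCoherent_res_unit (hpc : DRing.IsPseudoCoherentModule' R A) :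
    DRing.IsPseudoCoherent' R ((DRing.restrictD (algebraMap R A)).obj (DTen.unit A)) := by
  obtain ⟨E, b, hb, hE, ⟨e⟩⟩ := hpc
  exact ⟨E, b, hb, hE, ⟨e ≪≫ (resUnitIsoInD R A).symm⟩⟩

/-- **S13550**: base change for trivial duality when `A` is pseudo-coherent over `R`, `R'` has
finite tor dimension over `R`, and `K` is bounded below. -/
theorem isIso_bcMap_of_isPseudoCoherent (hpc : DRing.IsPseudoCoherentModule' R A)
    (hfd : DRing.HasFiniteTorDim R R') (K : Dual.D R) (n : ℤ) [K.IsGE n]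
    (hc : IsIso (TrivBC.cmp adjρ adjα h (Rφ.obj K)))
    (hu : IsIso (TrivBC.cmp adjρ adjα h (DTen.unit A))) :
    IsIso (TrivBC.bcMap adjρ adjα h adj adj' K hc) := by
  rw [isIso_bcMap_iff_evT h adjρ adjα adj adj' K hc hu]
  have : DTen.HasLBase (algebraMap R R') := ⟨adjρ.isRightAdjoint⟩
  let _ := oplaxMonoidal (algebraMap R R')
  let _ : (LBase (algebraMap R R')).CommShift ℤ :=
    (baseAdj (algebraMap R R')).leftAdjointCommShift ℤ
  have : (baseAdj (algebraMap R R')).CommShift ℤ :=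
    (baseAdj (algebraMap R R')).commShift_of_rightAdjoint ℤ
  have : (LBase (algebraMap R R')).IsTriangulated :=
    (baseAdj (algebraMap R R')).isTriangulated_leftAdjoint
  obtain ⟨d, hd⟩ := hfd
  have h1 : DRing.HasTorAmplitudeIn R (-(d : ℤ)) 0 (Dual.inD R R') :=
    (Groth.Agent.H35.KF.hasTorDimLE_iff_hasTorAmplitudeIn R' d).1 hd
  have h2 : DRing.HasTorAmplitudeIn R (-(d : ℤ)) 0
      ((DRing.restrictD (algebraMap R R')).obj (DTen.unit R')) :=
    Groth.Agent.H35.KF.hasTorAmplitudeIn_of_iso (resUnitIsoInD R R').symm _ _ h1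
  exact PC.isIso_evT_of_isPseudoCoherent ((res (algebraMap R R')).obj (DTen.unit R'))
    (LBase (algebraMap R R') ⋙ res (algebraMap R R')) (glIso' (algebraMap R R'))
    (-(d : ℤ)) 0 h2 (PA (algebraMap R A))
    (Abs.adjS (adjD (algebraMap R A)) adj (γIso (algebraMap R A))) K
    (isPseudoCoherent_res_unit hpc) n

end Groth.Agent.H10.TB
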