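import Mathlib
import Groth.Prelude.Def_W4c1hilbpnTgt

/-!
# Monomial ideals: exponent sets and coefficient functionals on the quotient
-/

set_option autoImplicit false

namespace Groth.Agent.H10.TP

open MvPolynomial W4c1hilbpn

variable {σ : Type*} {k : Type*} [Field k] (I : Ideal (MvPolynomial σ k))

theorem mem_exps_iff (β : σ →₀ ℕ) : β ∈ exps I ↔ monomial β (1 : k) ∈ I := Iff.rfl

/-- exponent sets of ideals are up-closed. -/
theorem exps_add {β : σ →₀ ℕ} (hβ : β ∈ exps I) (δ : σ →₀ ℕ) : β + δ ∈ exps I := by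
  rw [mem_exps_iff] at hβ ⊢
  have : (monomial (β + δ) (1 : k)) = monomial δ 1 * monomial β 1 := by
    rw [monomial_mul, mul_one, add_comm]
  rw [this]
  exact I.mul_mem_left _ hβ

theorem exps_of_le {β γ : σ →₀ ℕ} (hβ : β ∈ exps I) (h : β ≤ γ) : γ ∈ exps I := by
  have : γ = β + (γ - β) := (add_tsub_cancel_of_le h).symm
  rw [this]; exact exps_add I hβ _

variable {I}

/-- for a monomial ideal, coefficients at exponents outside `exps I` vanish on `I`. -/
theorem coeff_eq_zero_of_mem (hI : IsMonomial I) {δ : σ →₀ ℕ} (hδ : δ ∉ exps I)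
    {p : MvPolynomial σ k} (hp : p ∈ I) : coeff δ p = 0 := by
  by_contra h
  exact hδ (hI p hp δ (mem_support_iff.2 h))

theorem support_subset_exps (hI : IsMonomial I) {p : MvPolynomial σ k} (hp : p ∈ I) :
    ∀ β ∈ p.support, β ∈ exps I := fun β hβ => hI p hp β hβ

open Classical in
/-- coefficient functional on the quotient (zero when `δ ∈ exps I`). -/
noncomputable def ell (hI : IsMonomial I) (δ : σ →₀ ℕ) : (MvPolynomial σ k ⧸ I) →ₗ[k] k :=
  if hδ : δ ∈ exps I then 0 else
    (Submodule.liftQ (I.restrictScalars k) (MvPolynomial.lcoeff k δ) (by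
      intro p hp
      rw [LinearMap.mem_ker]
      exact coeff_eq_zero_of_mem hI hδ hp)) ∘ₗ
    (Submodule.Quotient.restrictScalarsEquiv k I).symm.toLinearMap

theorem ell_mk (hI : IsMonomial I) {δ : σ →₀ ℕ} (hδ : δ ∉ exps I) (p : MvPolynomial σ k) :
    ell hI δ (Ideal.Quotient.mk I p) = coeff δ p := by
  unfold ell
  rw [dif_neg hδ]
  rfl

theorem ell_mk_monomial (hI : IsMonomial I) {δ : σ →₀ ℕ} (hδ : δ ∉ exps I) :
    ell hI δ (Ideal.Quotient.mk I (monomial δ 1)) = 1 := by
  classical
  rw [ell_mk hI hδ, coeff_monomial, if_pos rfl]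

theorem mk_monomial_eq_zero {δ : σ →₀ ℕ} (hδ : δ ∈ exps I) :
    Ideal.Quotient.mk I (monomial δ (1 : k)) = 0 :=
  Ideal.Quotient.eq_zero_iff_mem.2 hδ

/-- an element of the line spanned by a standard monomial is recovered from its coefficient. -/
theorem eq_ell_smul (hI : IsMonomial I) {δ : σ →₀ ℕ} (hδ : δ ∉ exps I)
    {y : MvPolynomial σ k ⧸ I}
    (hy : y ∈ Submodule.span k {Ideal.Quotient.mk I (monomial δ (1 : k))}) :
    y = ell hI δ y • Ideal.Quotient.mk I (monomial δ (1 : k)) := by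
  obtain ⟨a, rfl⟩ := Submodule.mem_span_singleton.1 hy
  rw [map_smul, ell_mk_monomial hI hδ, smul_eq_mul, mul_one]

theorem eq_zero_of_mem_span {δ : σ →₀ ℕ} (hδ : δ ∈ exps I)
    {y : MvPolynomial σ k ⧸ I}
    (hy : y ∈ Submodule.span k {Ideal.Quotient.mk I (monomial δ (1 : k))}) : y = 0 := by
  obtain ⟨a, rfl⟩ := Submodule.mem_span_singleton.1 hy
  rw [mk_monomial_eq_zero hδ, smul_zero]

/-- finite colength: only finitely many exponents outside `exps I`. -/
theorem finite_compl_exps (hI : IsMonomial I) [Module.Finite k (MvPolynomial σ k ⧸ I)] :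
    Set.Finite {δ : σ →₀ ℕ | δ ∉ exps I} := by
  classical
  rw [← Set.finite_coe_iff]
  have hli : LinearIndependent k (fun δ : {δ : σ →₀ ℕ | δ ∉ exps I} =>
      Ideal.Quotient.mk I (monomial δ.1 (1 : k))) := by
    rw [linearIndependent_iff']
    intro s g hg δ hδ
    have h := congrArg (ell hI δ.1) hg
    rw [map_sum, map_zero] at h
    rw [Finset.sum_eq_single δ] at h
    · rwa [map_smul, ell_mk_monomial hI δ.2, smul_eq_mul, mul_one] at h
    · intro δ' _ hne
      rw [map_smul, ell_mk hI δ.2, coeff_monomial, if_neg, smul_zero]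
      intro h'
      exact hne (Subtype.ext h')
    · intro h'; exact absurd hδ h'
  exact hli.finite

end Groth.Agent.H10.TP
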