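import Mathlib
import Groth.Agent.H10.TP1

/-!
# Lattice points: `pt`, `tn`, `nn`, unit steps and the step graph
-/

set_option autoImplicit false

namespace Groth.Agent.H10.TP

open MvPolynomial W4c1hilbpn

variable {n : ℕ}

/-- the lattice point `β + α`. -/
def pt (α : Fin n → ℤ) (β : Fin n →₀ ℕ) : Fin n → ℤ := fun i => (β i : ℤ) + α i

/-- all entries nonnegative. -/
def nn (γ : Fin n → ℤ) : Prop := ∀ i, 0 ≤ γ i

/-- truncation to natural exponents. -/
noncomputable def tn (γ : Fin n → ℤ) : Fin n →₀ ℕ :=
  Finsupp.equivFunOnFinite.symm fun i => (γ i).toNat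

@[simp] theorem tn_apply (γ : Fin n → ℤ) (i : Fin n) : tn γ i = (γ i).toNat := rfl

@[simp] theorem pt_apply (α : Fin n → ℤ) (β : Fin n →₀ ℕ) (i : Fin n) :
    pt α β i = (β i : ℤ) + α i := rfl

theorem shift_eq (β : Fin n →₀ ℕ) (α : Fin n → ℤ) : shift β α = tn (pt α β) := rfl

theorem pt_injective (α : Fin n → ℤ) : Function.Injective (pt α) := by
  intro β β' h
  ext i
  have := congrFun h i
  simp only [pt_apply] at this
  omega

theorem cast_tn {γ : Fin n → ℤ} (h : nn γ) (i : Fin n) : ((tn γ i : ℕ) : ℤ) = γ i := by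
  rw [tn_apply]; exact Int.toNat_of_nonneg (h i)

/-- the unit vector. -/
def ev (i : Fin n) : Fin n → ℤ := Pi.single i 1

theorem ev_apply (i j : Fin n) : ev i j = if j = i then 1 else 0 := by
  unfold ev
  rw [Pi.single_apply]

theorem pt_add_single (α : Fin n → ℤ) (β : Fin n →₀ ℕ) (i : Fin n) :
    pt α (β + Finsupp.single i 1) = pt α β + ev i := by
  funext j
  simp only [pt_apply, Finsupp.add_apply, Pi.add_apply, ev_apply, Finsupp.single_apply]
  by_cases h : j = i
  · subst h; simp; ring
  · rw [if_neg (Ne.symm h), if_neg h]; simp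

theorem nn_add_ev {γ : Fin n → ℤ} (h : nn γ) (i : Fin n) : nn (γ + ev i) := by
  intro j
  have := h j
  simp only [Pi.add_apply, ev_apply]
  split_ifs <;> omega

theorem tn_add_ev {γ : Fin n → ℤ} (h : nn γ) (i : Fin n) :
    tn (γ + ev i) = tn γ + Finsupp.single i 1 := by
  ext j
  have := h j
  simp only [tn_apply, Pi.add_apply, ev_apply, Finsupp.add_apply, Finsupp.single_apply]
  by_cases hj : j = i
  · subst hj; simp; omega
  · rw [if_neg hj, if_neg (Ne.symm hj)]; simp

theorem tn_pt_of_nn (α : Fin n → ℤ) (γ : Fin n → ℤ) (h : nn (fun i => γ i - α i)) :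
    pt α (tn (fun i => γ i - α i)) = γ := by
  funext i
  have h1 : 0 ≤ γ i - α i := h i
  simp only [pt_apply, tn_apply]
  omega

variable {k : Type*} [Field k] (I : Ideal (MvPolynomial (Fin n) k)) (α : Fin n → ℤ)

theorem mem_region_iff (γ : Fin n → ℤ) :
    γ ∈ region I α ↔ (∃ β ∈ exps I, γ = pt α β) ∧ ¬ (nn γ ∧ tn γ ∈ exps I) := Iff.rfl

theorem pt_mem_region {β : Fin n →₀ ℕ} (hβ : β ∈ exps I)
    (h : ¬ (nn (pt α β) ∧ tn (pt α β) ∈ exps I)) : pt α β ∈ region I α :=
  ⟨⟨β, hβ, rfl⟩, h⟩

theorem pt_mem_region_of_not_nn {β : Fin n →₀ ℕ} (hβ : β ∈ exps I) (h : ¬ nn (pt α β)) :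
    pt α β ∈ region I α :=
  pt_mem_region I α hβ (fun h' => h h'.1)

/-- the step graph adjacency, made explicit. -/
theorem stepGraph_adj_iff (a b : Fin n → ℤ) :
    (stepGraph (Fin n)).Adj a b ↔ ∃ i, b = a + ev i ∨ a = b + ev i := by
  unfold stepGraph
  rw [SimpleGraph.fromRel_adj]
  constructor
  · rintro ⟨hne, h⟩
    have key : ∀ a b : Fin n → ℤ, ∑ i, |a i - b i| = 1 → ∃ i, b = a + ev i ∨ a = b + ev i := by
      intro a b h
      have hnonneg : ∀ i ∈ (Finset.univ : Finset (Fin n)), 0 ≤ |a i - b i| := fun i _ => abs_nonneg _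
      have hex : ∃ i, 1 ≤ |a i - b i| := by
        by_contra hcon
        push Not at hcon
        have : ∑ i, |a i - b i| = 0 := by
          apply Finset.sum_eq_zero
          intro i _
          have := hcon i
          have := abs_nonneg (a i - b i)
          omega
        omega
      obtain ⟨i, hi⟩ := hex
      have hrest : ∀ j, j ≠ i → |a j - b j| = 0 := by
        intro j hj
        have h1 : |a i - b i| + |a j - b j| ≤ ∑ l, |a l - b l| := by
          have := Finset.sum_le_sum_of_subset_of_nonneg (s := {i, j}) (t := Finset.univ)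
            (f := fun l => |a l - b l|) (Finset.subset_univ _) (fun l _ _ => abs_nonneg _)
          rwa [Finset.sum_pair (Ne.symm hj)] at this
        have := abs_nonneg (a j - b j)
        omega
      have hi1 : |a i - b i| = 1 := by
        have h1 : |a i - b i| ≤ ∑ l, |a l - b l| :=
          Finset.single_le_sum (f := fun l => |a l - b l|) hnonneg (Finset.mem_univ i)
        omega
      refine ⟨i, ?_⟩
      rcases abs_eq (by norm_num : (0 : ℤ) ≤ 1) |>.1 hi1 with h1 | h1
      · right
        funext j
        simp only [Pi.add_apply, ev_apply]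
        by_cases hj : j = i
        · subst hj; rw [if_pos rfl]; omega
        · rw [if_neg hj]
          have := abs_eq_zero.1 (hrest j hj)
          omega
      · left
        funext j
        simp only [Pi.add_apply, ev_apply]
        by_cases hj : j = i
        · subst hj; rw [if_pos rfl]; omega
        · rw [if_neg hj]
          have := abs_eq_zero.1 (hrest j hj)
          omega
    rcases h with h | h
    · exact key a b h
    · obtain ⟨i, hi⟩ := key b a h
      exact ⟨i, hi.symm⟩
  · rintro ⟨i, h | h⟩
    · subst h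
      refine ⟨?_, Or.inl ?_⟩
      · intro h'
        have := congrFun h' i
        simp [ev_apply] at this
      · rw [Finset.sum_eq_single i]
        · simp [ev_apply]
        · intro j _ hj
          simp [ev_apply, hj]
        · intro h'; exact absurd (Finset.mem_univ i) h'
    · subst h
      refine ⟨?_, Or.inl ?_⟩
      · intro h'
        have := congrFun h' i
        simp [ev_apply] at this
      · rw [Finset.sum_eq_single i]
        · simp [ev_apply]
        · intro j _ hj
          simp [ev_apply, hj]
        · intro h'; exact absurd (Finset.mem_univ i) h'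

end Groth.Agent.H10.TP
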