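import Mathlib
import Groth.Agent.H10.TP2

/-!
# The graded piece of the tangent space as a space of functions on the region
-/

set_option autoImplicit false

namespace Groth.Agent.H10.TP

open MvPolynomial W4c1hilbpn

variable {n : ℕ} {k : Type*} [Field k] {I : Ideal (MvPolynomial (Fin n) k)} (α : Fin n → ℤ)

/-- the exponent `β ∈ exps I` with `β + α = v`. -/
noncomputable def bet (v : ↥(region I α)) : Fin n →₀ ℕ := Classical.choose v.2.1

theorem bet_mem (v : ↥(region I α)) : bet α v ∈ exps I := (Classical.choose_spec v.2.1).1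

theorem pt_bet (v : ↥(region I α)) : pt α (bet α v) = v.1 := (Classical.choose_spec v.2.1).2.symm

theorem bet_unique (v : ↥(region I α)) {β : Fin n →₀ ℕ} (h : pt α β = v.1) : bet α v = β :=
  pt_injective α ((pt_bet α v).trans h.symm)

theorem tn_notMem (v : ↥(region I α)) (h : nn v.1) : tn v.1 ∉ exps I := fun h' => v.2.2 ⟨h, h'⟩

/-- the monomial `x^β` as an element of `I`. -/
noncomputable def monI {β : Fin n →₀ ℕ} (hβ : β ∈ exps I) : ↥I := ⟨monomial β 1, hβ⟩

theorem X_smul_monI {β : Fin n →₀ ℕ} (hβ : β ∈ exps I) (i : Fin n) :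
    (X i : MvPolynomial (Fin n) k) • monI hβ = monI (exps_add I hβ (Finsupp.single i 1)) := by
  apply Subtype.ext
  change X i * monomial β (1 : k) = monomial (β + Finsupp.single i 1) 1
  rw [X, monomial_mul, mul_one, add_comm]

theorem not_nn_iff (β : Fin n →₀ ℕ) : (∃ i, (β i : ℤ) + α i < 0) ↔ ¬ nn (pt α β) := by
  unfold nn
  push Not
  rfl

/-- first tPiece condition. -/
theorem tPiece_span {φ : Tgt I} (hφ : φ ∈ tPiece I α) {β : Fin n →₀ ℕ} (hβ : β ∈ exps I)
    (h : nn (pt α β)) :
    φ (monI hβ) ∈ Submodule.span k {Ideal.Quotient.mk I (monomial (tn (pt α β)) (1 : k))} :=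
  (hφ β hβ).1 h

/-- second tPiece condition. -/
theorem tPiece_zero {φ : Tgt I} (hφ : φ ∈ tPiece I α) {β : Fin n →₀ ℕ} (hβ : β ∈ exps I)
    (h : ¬ nn (pt α β)) : φ (monI hβ) = 0 :=
  (hφ β hβ).2 ((not_nn_iff α β).2 h)

variable (hI : IsMonomial I)

/-- the space of admissible coefficient functions. -/
def W (I : Ideal (MvPolynomial (Fin n) k)) (α : Fin n → ℤ) : Submodule k (↥(region I α) → k) where
  carrier := {c | (∀ (v w : ↥(region I α)) (i : Fin n), w.1 = v.1 + ev i → c v = c w) ∧
    (∀ v : ↥(region I α), ¬ nn v.1 → c v = 0)}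
  zero_mem' := ⟨fun _ _ _ _ => rfl, fun _ _ => rfl⟩
  add_mem' := by
    rintro c c' ⟨h1, h2⟩ ⟨h1', h2'⟩
    refine ⟨fun v w i h => ?_, fun v h => ?_⟩
    · simp only [Pi.add_apply, h1 v w i h, h1' v w i h]
    · simp only [Pi.add_apply, h2 v h, h2' v h, add_zero]
  smul_mem' := by
    rintro a c ⟨h1, h2⟩
    refine ⟨fun v w i h => ?_, fun v h => ?_⟩
    · simp only [Pi.smul_apply, h1 v w i h]
    · simp only [Pi.smul_apply, h2 v h, smul_zero]

open Classical in
/-- the coefficient function of a homogeneous map. -/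
noncomputable def PhiFun (φ : Tgt I) (v : ↥(region I α)) : k :=
  if nn v.1 then ell hI (tn v.1) (φ (monI (bet_mem α v))) else 0

open Classical in
/-- `Φ` as a linear map on the graded piece. -/
noncomputable def Phi : ↥(tPiece I α) →ₗ[k] (↥(region I α) → k) where
  toFun φ := PhiFun α hI φ.1
  map_add' φ ψ := by
    funext v
    simp only [PhiFun, Pi.add_apply]
    split_ifs
    · rw [Submodule.coe_add, LinearMap.add_apply, map_add]
    · rw [add_zero]
  map_smul' a φ := by
    funext v
    simp only [PhiFun, Pi.smul_apply, RingHom.id_apply]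
    split_ifs
    · rw [Submodule.coe_smul, LinearMap.smul_apply, map_smul]
    · rw [smul_zero]

theorem Phi_apply (φ : ↥(tPiece I α)) (v : ↥(region I α)) :
    Phi α hI φ v = PhiFun α hI φ.1 v := rfl

/-- the value of `φ` on a monomial with nonnegative target outside `I`. -/
theorem phi_monI_eq (φ : ↥(tPiece I α)) (v : ↥(region I α)) (h : nn v.1) :
    φ.1 (monI (bet_mem α v)) =
      Phi α hI φ v • Ideal.Quotient.mk I (monomial (tn v.1) (1 : k)) := by
  have h1 := tPiece_span α φ.2 (bet_mem α v) (by rw [pt_bet]; exact h)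
  rw [pt_bet] at h1
  rw [Phi_apply, PhiFun, if_pos h]
  exact eq_ell_smul hI (tn_notMem α v h) h1

theorem Phi_mem_W (φ : ↥(tPiece I α)) : Phi α hI φ ∈ W I α := by
  classical
  refine ⟨fun v w i hw => ?_, fun v hv => ?_⟩
  · have hbw : bet α w = bet α v + Finsupp.single i 1 := by
      apply bet_unique
      rw [pt_add_single, pt_bet, hw]
    have hval : φ.1 (monI (bet_mem α w)) = (X i : MvPolynomial (Fin n) k) • φ.1 (monI (bet_mem α v)) := by
      rw [← map_smul, X_smul_monI]
      congr 1
      apply Subtype.ext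
      change monomial _ _ = monomial _ _
      rw [hbw]
    by_cases hv : nn v.1
    · have hwn : nn w.1 := by rw [hw]; exact nn_add_ev hv i
      have h1 := phi_monI_eq α hI φ v hv
      rw [h1] at hval
      have h2 : Phi α hI φ w = ell hI (tn w.1) (φ.1 (monI (bet_mem α w))) := by
        rw [Phi_apply, PhiFun, if_pos hwn]
      rw [h2, hval, smul_comm, map_smul]
      have h3 : (X i : MvPolynomial (Fin n) k) • Ideal.Quotient.mk I (monomial (tn v.1) (1 : k)) =
          Ideal.Quotient.mk I (monomial (tn w.1) (1 : k)) := by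
        rw [hw, tn_add_ev hv]
        change Ideal.Quotient.mk I (X i * monomial (tn v.1) (1 : k)) = _
        rw [X, monomial_mul, mul_one, add_comm]
      rw [h3, ell_mk_monomial hI (tn_notMem α w hwn), smul_eq_mul, mul_one]
    · have h0 : φ.1 (monI (bet_mem α v)) = 0 :=
        tPiece_zero α φ.2 (bet_mem α v) (by rw [pt_bet]; exact hv)
      rw [h0, smul_zero] at hval
      have hcv : Phi α hI φ v = 0 := by rw [Phi_apply, PhiFun, if_neg hv]
      have hcw : Phi α hI φ w = 0 := by
        rw [Phi_apply, PhiFun]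
        split_ifs
        · rw [hval, map_zero]
        · rfl
      rw [hcv, hcw]
  · rw [Phi_apply, PhiFun, if_neg hv]

/-- a homogeneous map is determined by its values on the monomials of `I`. -/
theorem ext_of_monI (hI : IsMonomial I) {φ ψ : Tgt I}
    (h : ∀ (β : Fin n →₀ ℕ) (hβ : β ∈ exps I), φ (monI hβ) = ψ (monI hβ)) : φ = ψ := by
  apply LinearMap.ext
  rintro ⟨p, hp⟩
  have hsum : (⟨p, hp⟩ : ↥I) =
      ∑ β ∈ p.support.attach, (C (coeff β.1 p) : MvPolynomial (Fin n) k) •
        monI (support_subset_exps hI hp β.1 β.2) := by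
    apply Subtype.ext
    rw [Submodule.coe_sum]
    change p = _
    conv_lhs => rw [← MvPolynomial.support_sum_monomial_coeff p, ← Finset.sum_attach]
    refine Finset.sum_congr rfl fun β _ => ?_
    change monomial β.1 (coeff β.1 p) = C (coeff β.1 p) * monomial β.1 (1 : k)
    rw [C_mul_monomial, mul_one]
  rw [hsum, map_sum, map_sum]
  refine Finset.sum_congr rfl fun β _ => ?_
  rw [map_smul, map_smul, h]

theorem Phi_injective : Function.Injective (Phi α hI) := by
  classical
  rw [injective_iff_map_eq_zero]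
  intro φ hφ
  apply Subtype.ext
  apply ext_of_monI hI
  intro β hβ
  rw [Submodule.coe_zero, LinearMap.zero_apply]
  by_cases hnn : nn (pt α β)
  · by_cases hE : tn (pt α β) ∈ exps I
    · exact eq_zero_of_mem_span hE (tPiece_span α φ.2 hβ hnn)
    · have hv : pt α β ∈ region I α := pt_mem_region I α hβ (fun h => hE h.2)
      have hb : bet α ⟨pt α β, hv⟩ = β := bet_unique α ⟨pt α β, hv⟩ rfl
      have h1 := phi_monI_eq α hI φ ⟨pt α β, hv⟩ hnn
      rw [hφ] at h1
      simp only [Pi.zero_apply, zero_smul] at h1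
      have h2 : monI (bet_mem α ⟨pt α β, hv⟩) = monI hβ := by
        apply Subtype.ext
        change monomial _ _ = monomial _ _
        rw [hb]
      rw [← h2]; exact h1
  · exact tPiece_zero α φ.2 hβ hnn

end Groth.Agent.H10.TP
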