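import Mathlib
import Groth.Agent.H10.TP3

/-!
# Surjectivity: every admissible coefficient function comes from a homogeneous map
-/

set_option autoImplicit false

namespace Groth.Agent.H10.TP

open MvPolynomial W4c1hilbpn

variable {n : ℕ} {k : Type*} [Field k] {I : Ideal (MvPolynomial (Fin n) k)} (α : Fin n → ℤ)
variable (c : ↥(region I α) → k)

open Classical in
/-- extension of `c` by zero. -/
noncomputable def chat (γ : Fin n → ℤ) : k := if h : γ ∈ region I α then c ⟨γ, h⟩ else 0

open Classical in
/-- the coefficient attached to the exponent `β`. -/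
noncomputable def dco (β : Fin n →₀ ℕ) : k :=
  if nn (pt α β) ∧ β ∈ exps I then chat α c (pt α β) else 0

/-- the diagonal shift operator. -/
noncomputable def Dop : MvPolynomial (Fin n) k →ₗ[k] MvPolynomial (Fin n) k :=
  (basisMonomials (Fin n) k).constr k (fun β => dco α c β • monomial (tn (pt α β)) (1 : k))

theorem Dop_monomial (β : Fin n →₀ ℕ) :
    Dop α c (monomial β 1) = dco α c β • monomial (tn (pt α β)) (1 : k) := by
  unfold Dop
  have := (basisMonomials (Fin n) k).constr_basis k
    (fun β => dco α c β • monomial (tn (pt α β)) (1 : k)) β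
  rwa [coe_basisMonomials] at this

/-- the `k`-linear map `S → S/I`. -/
noncomputable def phi0 : MvPolynomial (Fin n) k →ₗ[k] (MvPolynomial (Fin n) k ⧸ I) :=
  (Ideal.Quotient.mkₐ k I).toLinearMap ∘ₗ Dop α c

theorem phi0_monomial (β : Fin n →₀ ℕ) :
    phi0 α c (monomial β 1) =
      dco α c β • Ideal.Quotient.mk I (monomial (tn (pt α β)) (1 : k)) := by
  unfold phi0
  rw [LinearMap.comp_apply, Dop_monomial, map_smul]
  rfl

variable (hc : c ∈ W I α)
include hc

theorem phi0_step {β : Fin n →₀ ℕ} (hβ : β ∈ exps I) (i : Fin n) :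
    phi0 α c (X i * monomial β 1) = (X i : MvPolynomial (Fin n) k) • phi0 α c (monomial β 1) := by
  classical
  have hX : (X i : MvPolynomial (Fin n) k) * monomial β 1 = monomial (β + Finsupp.single i 1) 1 := by
    rw [X, monomial_mul, mul_one, add_comm]
  have hβ' : β + Finsupp.single i 1 ∈ exps I := exps_add I hβ _
  rw [hX, phi0_monomial, phi0_monomial, pt_add_single, smul_comm]
  by_cases hnn : nn (pt α β)
  · have hnn' : nn (pt α β + ev i) := nn_add_ev hnn i
    have htn : tn (pt α β + ev i) = tn (pt α β) + Finsupp.single i 1 := tn_add_ev hnn i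
    have hmul : (X i : MvPolynomial (Fin n) k) • Ideal.Quotient.mk I (monomial (tn (pt α β)) (1 : k)) =
        Ideal.Quotient.mk I (monomial (tn (pt α β + ev i)) (1 : k)) := by
      rw [htn]
      change Ideal.Quotient.mk I (X i * monomial (tn (pt α β)) (1 : k)) = _
      rw [X, monomial_mul, mul_one, add_comm]
    rw [hmul]
    by_cases hE : tn (pt α β + ev i) ∈ exps I
    · rw [mk_monomial_eq_zero hE, smul_zero, smul_zero]
    · have hE0 : tn (pt α β) ∉ exps I := fun h => hE (htn ▸ exps_add I h _)
      have hv : pt α β ∈ region I α := pt_mem_region I α hβ (fun h => hE0 h.2)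
      have hw : pt α (β + Finsupp.single i 1) ∈ region I α :=
        pt_mem_region I α hβ' (fun h => hE (by rw [← pt_add_single]; exact h.2))
      have hd : dco α c β = c ⟨pt α β, hv⟩ := by
        unfold dco chat
        rw [if_pos ⟨hnn, hβ⟩, dif_pos hv]
      have hd' : dco α c (β + Finsupp.single i 1) = c ⟨pt α (β + Finsupp.single i 1), hw⟩ := by
        unfold dco chat
        rw [if_pos ⟨by rw [pt_add_single]; exact hnn', hβ'⟩, dif_pos hw]
      rw [hd, hd']
      congr 1
      exact (hc.1 ⟨pt α β, hv⟩ ⟨pt α (β + Finsupp.single i 1), hw⟩ i (pt_add_single α β i)).symm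
  · have hd : dco α c β = 0 := by
      unfold dco
      rw [if_neg (fun h => hnn h.1)]
    rw [hd, zero_smul]
    by_cases hnn' : nn (pt α β + ev i)
    · by_cases hE : tn (pt α β + ev i) ∈ exps I
      · rw [mk_monomial_eq_zero hE, smul_zero]
      · have hv : pt α β ∈ region I α := pt_mem_region_of_not_nn I α hβ hnn
        have hw : pt α (β + Finsupp.single i 1) ∈ region I α :=
          pt_mem_region I α hβ' (fun h => hE (by rw [← pt_add_single]; exact h.2))
        have hd' : dco α c (β + Finsupp.single i 1) = c ⟨pt α (β + Finsupp.single i 1), hw⟩ := by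
          unfold dco chat
          rw [if_pos ⟨by rw [pt_add_single]; exact hnn', hβ'⟩, dif_pos hw]
        have h1 := hc.1 ⟨pt α β, hv⟩ ⟨pt α (β + Finsupp.single i 1), hw⟩ i (pt_add_single α β i)
        have h2 := hc.2 ⟨pt α β, hv⟩ hnn
        rw [hd', ← h1, h2, zero_smul]
    · have hd' : dco α c (β + Finsupp.single i 1) = 0 := by
        unfold dco
        rw [if_neg (fun h => hnn' (by rw [← pt_add_single]; exact h.1))]
      rw [hd', zero_smul]

theorem phi0_X_mul (hI : IsMonomial I) {p : MvPolynomial (Fin n) k} (hp : p ∈ I) (i : Fin n) :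
    phi0 α c (X i * p) = (X i : MvPolynomial (Fin n) k) • phi0 α c p := by
  have hsum : p = ∑ β ∈ p.support.attach, coeff β.1 p • monomial β.1 (1 : k) := by
    conv_lhs => rw [← MvPolynomial.support_sum_monomial_coeff p, ← Finset.sum_attach]
    refine Finset.sum_congr rfl fun β _ => ?_
    rw [smul_monomial, smul_eq_mul, mul_one]
  rw [hsum, Finset.mul_sum, map_sum, map_sum, Finset.smul_sum]
  refine Finset.sum_congr rfl fun β _ => ?_
  rw [mul_smul_comm, map_smul, map_smul, phi0_step α c hc (support_subset_exps hI hp β.1 β.2) i,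
    smul_comm]

theorem phi0_mul (hI : IsMonomial I) (q : MvPolynomial (Fin n) k) :
    ∀ p ∈ I, phi0 α c (q * p) = q • phi0 α c p := by
  induction q using MvPolynomial.induction_on with
  | C a =>
    intro p _
    rw [← smul_eq_C_mul, map_smul, ← algebraMap_eq, algebraMap_smul]
  | add q₁ q₂ h₁ h₂ =>
    intro p hp
    rw [add_mul, map_add, h₁ p hp, h₂ p hp, add_smul]
  | mul_X q i h =>
    intro p hp
    rw [mul_assoc, h (X i * p) (I.mul_mem_left _ hp), phi0_X_mul α c hc hI hp i, mul_smul]

/-- the homogeneous map attached to `c`. -/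
noncomputable def Psi (hI : IsMonomial I) : Tgt I where
  toFun p := phi0 α c p.1
  map_add' p q := by rw [Submodule.coe_add, map_add]
  map_smul' q p := by
    rw [RingHom.id_apply]
    exact phi0_mul α c hc hI q p.1 p.2

theorem Psi_monI (hI : IsMonomial I) {β : Fin n →₀ ℕ} (hβ : β ∈ exps I) :
    Psi α c hc hI (monI hβ) =
      dco α c β • Ideal.Quotient.mk I (monomial (tn (pt α β)) (1 : k)) :=
  phi0_monomial α c β

theorem Psi_mem (hI : IsMonomial I) : Psi α c hc hI ∈ tPiece I α := by
  intro β hβ
  refine ⟨fun _ => ?_, fun h => ?_⟩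
  · change Psi α c hc hI (monI hβ) ∈ _
    rw [Psi_monI, shift_eq]
    exact Submodule.smul_mem _ _ (Submodule.subset_span rfl)
  · change Psi α c hc hI (monI hβ) = 0
    rw [Psi_monI]
    have hd : dco α c β = 0 := by
      classical
      unfold dco
      rw [if_neg (fun h' => (not_nn_iff α β).1 h h'.1)]
    rw [hd, zero_smul]

theorem Phi_Psi (hI : IsMonomial I) : Phi α hI ⟨Psi α c hc hI, Psi_mem α c hc hI⟩ = c := by
  classical
  funext v
  rw [Phi_apply, PhiFun]
  by_cases hv : nn v.1
  · rw [if_pos hv, Psi_monI, pt_bet, map_smul, ell_mk_monomial hI (tn_notMem α v hv), smul_eq_mul,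
      mul_one]
    unfold dco chat
    rw [if_pos ⟨by rw [pt_bet]; exact hv, bet_mem α v⟩]
    have : pt α (bet α v) ∈ region I α := by rw [pt_bet]; exact v.2
    rw [dif_pos this]
    congr 1
    exact Subtype.ext (pt_bet α v)
  · rw [if_neg hv, hc.2 v hv]

end Groth.Agent.H10.TP
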