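import Mathlib
import Groth.Agent.H10.TP4

/-!
# Components of the region: admissible functions are functions on the good components
-/

set_option autoImplicit false

namespace Groth.Agent.H10.TP

open MvPolynomial W4c1hilbpn SimpleGraph

variable {n : ℕ} {k : Type*} [Field k] (I : Ideal (MvPolynomial (Fin n) k)) (α : Fin n → ℤ)

/-- the induced step graph on the region. -/
abbrev GR : SimpleGraph ↥(region I α) := (stepGraph (Fin n)).induce (region I α)

variable {I α}

theorem adj_iff (v w : ↥(region I α)) :
    (GR I α).Adj v w ↔ ∃ i, w.1 = v.1 + ev i ∨ v.1 = w.1 + ev i := by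
  rw [SimpleGraph.induce_adj]
  exact stepGraph_adj_iff v.1 w.1

theorem W_adj {c : ↥(region I α) → k} (hc : c ∈ W I α) {v w : ↥(region I α)}
    (h : (GR I α).Adj v w) : c v = c w := by
  obtain ⟨i, h | h⟩ := (adj_iff v w).1 h
  · exact hc.1 v w i h
  · exact (hc.1 w v i h).symm

theorem W_walk {c : ↥(region I α) → k} (hc : c ∈ W I α) {v w : ↥(region I α)}
    (p : (GR I α).Walk v w) : c v = c w := by
  induction p with
  | nil => rfl
  | cons h _ ih => exact (W_adj hc h).trans ih

theorem W_reachable {c : ↥(region I α) → k} (hc : c ∈ W I α) {v w : ↥(region I α)}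
    (h : (GR I α).Reachable v w) : c v = c w := by
  obtain ⟨p⟩ := h
  exact W_walk hc p

theorem W_of_mk_eq {c : ↥(region I α) → k} (hc : c ∈ W I α) {v w : ↥(region I α)}
    (h : (GR I α).connectedComponentMk v = (GR I α).connectedComponentMk w) : c v = c w :=
  W_reachable hc (ConnectedComponent.exact h)

/-- a component all of whose points have nonnegative entries. -/
def Good (C : (GR I α).ConnectedComponent) : Prop :=
  ∀ v : ↥(region I α), (GR I α).connectedComponentMk v = C → nn v.1

/-- a chosen representative. -/
noncomputable def rep (C : (GR I α).ConnectedComponent) : ↥(region I α) :=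
  Classical.choose C.exists_rep

theorem mk_rep (C : (GR I α).ConnectedComponent) : (GR I α).connectedComponentMk (rep C) = C :=
  Classical.choose_spec C.exists_rep

theorem W_zero_of_not_good {c : ↥(region I α) → k} (hc : c ∈ W I α) (v : ↥(region I α))
    (h : ¬ Good ((GR I α).connectedComponentMk v)) : c v = 0 := by
  unfold Good at h
  push Not at h
  obtain ⟨w, hw, hnn⟩ := h
  rw [← W_of_mk_eq hc hw]
  exact hc.2 w hnn

open Classical in
/-- extension of a function on good components to an admissible function. -/
noncomputable def extFun (f : {C : (GR I α).ConnectedComponent // Good C} → k) :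
    ↥(region I α) → k :=
  fun v => if h : Good ((GR I α).connectedComponentMk v) then f ⟨_, h⟩ else 0

theorem extFun_mem (f : {C : (GR I α).ConnectedComponent // Good C} → k) :
    extFun f ∈ W I α := by
  classical
  refine ⟨fun v w i h => ?_, fun v hv => ?_⟩
  · have hadj : (GR I α).Adj v w := (adj_iff v w).2 ⟨i, Or.inl h⟩
    have hmk := ConnectedComponent.connectedComponentMk_eq_of_adj hadj
    unfold extFun
    by_cases hg : Good ((GR I α).connectedComponentMk v)
    · have hg' : Good ((GR I α).connectedComponentMk w) := hmk ▸ hg
      rw [dif_pos hg, dif_pos hg']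
      congr 1
      exact Subtype.ext hmk
    · have hg' : ¬ Good ((GR I α).connectedComponentMk w) := fun h' => hg (hmk ▸ h')
      rw [dif_neg hg, dif_neg hg']
  · unfold extFun
    rw [dif_neg]
    intro hg
    exact hv (hg v rfl)

/-- restriction of an admissible function to the good components. -/
noncomputable def resLin :
    ↥(W I α) →ₗ[k] ({C : (GR I α).ConnectedComponent // Good C} → k) where
  toFun c := fun C => c.1 (rep C.1)
  map_add' c c' := by funext C; rfl
  map_smul' a c := by funext C; rfl

theorem resLin_bijective : Function.Bijective (resLin (I := I) (α := α) (k := k)) := by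
  classical
  constructor
  · rw [injective_iff_map_eq_zero]
    intro c hc
    apply Subtype.ext
    funext v
    rw [Submodule.coe_zero, Pi.zero_apply]
    by_cases hg : Good ((GR I α).connectedComponentMk v)
    · have h1 : c.1 (rep ((GR I α).connectedComponentMk v)) = 0 :=
        congrFun hc ⟨_, hg⟩
      rw [← h1]
      exact W_of_mk_eq c.2 (mk_rep _).symm
    · exact W_zero_of_not_good c.2 v hg
  · intro f
    refine ⟨⟨extFun f, extFun_mem f⟩, ?_⟩
    funext C
    change extFun f (rep C.1) = f C
    unfold extFun
    have hg : Good ((GR I α).connectedComponentMk (rep C.1)) := by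
      rw [mk_rep]; exact C.2
    rw [dif_pos hg]
    congr 1
    exact Subtype.ext (mk_rep C.1)

end Groth.Agent.H10.TP
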