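import Mathlib
import Groth.Agent.H10.TP5

/-!
# Bounded components and the dimension formula
-/

set_option autoImplicit false

namespace Groth.Agent.H10.TP

open MvPolynomial W4c1hilbpn SimpleGraph

variable {n : ℕ} {k : Type*} [Field k] {I : Ideal (MvPolynomial (Fin n) k)} {α : Fin n → ℤ}

theorem eq_of_tn_eq {v w : ↥(region I α)} (hv : nn v.1) (hw : nn w.1) (h : tn v.1 = tn w.1) :
    v = w := by
  apply Subtype.ext
  funext i
  rw [← cast_tn hv i, ← cast_tn hw i, h]

/-- the points `v + m e_j` of the region, for a point `v` with negative `i`-th entry, `j ≠ i`. -/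
theorem line_mem (v : ↥(region I α)) {i j : Fin n} (hij : i ≠ j) (hi : v.1 i < 0) (m : ℕ) :
    pt α (bet α v + m • Finsupp.single j 1) ∈ region I α := by
  apply pt_mem_region_of_not_nn I α (exps_add I (bet_mem α v) _)
  intro hnn
  have := hnn i
  have hv : pt α (bet α v) i = v.1 i := by rw [pt_bet]
  simp only [pt_apply, Finsupp.add_apply, Finsupp.smul_apply, Finsupp.single_apply,
    if_neg (Ne.symm hij), smul_zero, add_zero] at this hv
  omega

theorem line_mk (v : ↥(region I α)) {i j : Fin n} (hij : i ≠ j) (hi : v.1 i < 0) (m : ℕ) :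
    (GR I α).connectedComponentMk ⟨_, line_mem v hij hi m⟩ = (GR I α).connectedComponentMk v := by
  induction m with
  | zero =>
    congr 1
    apply Subtype.ext
    simp only [zero_smul, add_zero]
    exact pt_bet α v
  | succ m ih =>
    rw [← ih]
    symm
    apply ConnectedComponent.connectedComponentMk_eq_of_adj
    rw [adj_iff]
    refine ⟨j, Or.inl ?_⟩
    change pt α (bet α v + (m + 1) • Finsupp.single j 1) = pt α (bet α v + m • Finsupp.single j 1) + ev j
    rw [← pt_add_single, succ_nsmul, add_assoc]

variable (hI : IsMonomial I) [Module.Finite k (MvPolynomial (Fin n) k ⧸ I)]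

include hI in
theorem good_iff_finite (hn : 2 ≤ n) (C : (GR I α).ConnectedComponent) :
    Good C ↔ C.supp.Finite := by
  constructor
  · intro hg
    refine Set.Finite.of_injOn (f := fun v : ↥(region I α) => tn v.1)
      (t := {δ : Fin n →₀ ℕ | δ ∉ exps I}) ?_ ?_ (finite_compl_exps hI)
    · intro v hv
      exact tn_notMem α v (hg v hv)
    · intro v hv w hw h
      exact eq_of_tn_eq (hg v hv) (hg w hw) h
  · intro hfin
    by_contra hg
    unfold Good at hg
    push Not at hg
    obtain ⟨v, hv, hnn⟩ := hg
    unfold nn at hnn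
    push Not at hnn
    obtain ⟨i, hi⟩ := hnn
    obtain ⟨j, hij⟩ : ∃ j : Fin n, i ≠ j := by
      by_cases h : i = ⟨0, by omega⟩
      · exact ⟨⟨1, by omega⟩, by rw [h]; intro h'; simpa using congrArg Fin.val h'⟩
      · exact ⟨⟨0, by omega⟩, h⟩
    have hinf : C.supp.Infinite := by
      refine Set.infinite_of_injective_forall_mem
        (f := fun m : ℕ => (⟨_, line_mem v hij hi m⟩ : ↥(region I α))) ?_ ?_
      · intro m m' h
        have h1 := congrArg (fun w : ↥(region I α) => w.1 j) h
        simp only [pt_apply, Finsupp.add_apply, Finsupp.smul_apply, Finsupp.single_eq_same,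
          smul_eq_mul, mul_one] at h1
        omega
      · intro m
        change (GR I α).connectedComponentMk _ = C
        rw [line_mk v hij hi m, hv]
    exact hinf hfin

include hI in
theorem finite_good : Finite {C : (GR I α).ConnectedComponent // Good C} := by
  have : Finite {δ : Fin n →₀ ℕ // δ ∉ exps I} := (finite_compl_exps hI).to_subtype
  refine Finite.of_injective
    (fun C : {C : (GR I α).ConnectedComponent // Good C} =>
      (⟨tn (rep C.1).1, tn_notMem α _ (C.2 _ (mk_rep C.1))⟩ : {δ : Fin n →₀ ℕ // δ ∉ exps I})) ?_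
  intro C C' h
  have h1 : tn (rep C.1).1 = tn (rep C'.1).1 := congrArg Subtype.val h
  have h2 := eq_of_tn_eq (C.2 _ (mk_rep C.1)) (C'.2 _ (mk_rep C'.1)) h1
  apply Subtype.ext
  rw [← mk_rep C.1, ← mk_rep C'.1, h2]

/-- the linear equivalence of the graded piece with functions on good components. -/
noncomputable def pieceEquiv :
    ↥(tPiece I α) ≃ₗ[k] ({C : (GR I α).ConnectedComponent // Good C} → k) :=
  (LinearEquiv.ofBijective ((Phi α hI).codRestrict (W I α) (Phi_mem_W α hI))
    ⟨fun _ _ h => Phi_injective α hI (congrArg Subtype.val h),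
     fun c => ⟨⟨Psi α c.1 c.2 hI, Psi_mem α c.1 c.2 hI⟩, Subtype.ext (Phi_Psi α c.1 c.2 hI)⟩⟩) ≪≫ₗ
  LinearEquiv.ofBijective resLin resLin_bijective

include hI in
theorem main (hn : 2 ≤ n) : Module.finrank k ↥(tPiece I α) = nBddComp I α := by
  classical
  have := finite_good (α := α) hI
  have := Fintype.ofFinite {C : (GR I α).ConnectedComponent // Good C}
  rw [(pieceEquiv hI).finrank_eq, Module.finrank_fintype_fun_eq_card, ← Nat.card_eq_fintype_card]
  unfold nBddComp
  exact Nat.card_congr (Equiv.subtypeEquivRight (fun C => good_iff_finite hI hn C))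

end Groth.Agent.H10.TP
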