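import Mathlib
import Groth.Agent.H10.TP6

/-!
# Vanishing and non-vanishing criteria for graded pieces of `T(I)`
-/

set_option autoImplicit false

namespace Groth.Agent.H10.TP

open MvPolynomial W4c1hilbpn SimpleGraph

variable {n : ℕ} {k : Type*} [Field k] {I : Ideal (MvPolynomial (Fin n) k)} {α : Fin n → ℤ}

theorem tPiece_eq_bot_of_no_good (hI : IsMonomial I)
    (h : ∀ C : (GR I α).ConnectedComponent, ¬ Good C) : tPiece I α = ⊥ := by
  have : IsEmpty {C : (GR I α).ConnectedComponent // Good C} := ⟨fun C => h C.1 C.2⟩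
  have hs : Subsingleton ↥(tPiece I α) := (pieceEquiv hI).toEquiv.subsingleton
  exact Submodule.eq_bot_of_subsingleton

theorem tPiece_eq_bot_of_reach (hI : IsMonomial I)
    (h : ∀ v : ↥(region I α), ∃ w : ↥(region I α), (GR I α).Reachable v w ∧ ¬ nn w.1) :
    tPiece I α = ⊥ := by
  apply tPiece_eq_bot_of_no_good hI
  intro C hC
  obtain ⟨w, hw, hnn⟩ := h (rep C)
  apply hnn
  apply hC w
  rw [← mk_rep C]
  exact (ConnectedComponent.sound hw).symm

theorem tPiece_ne_bot_of_good (hI : IsMonomial I) (C : (GR I α).ConnectedComponent)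
    (hC : Good C) : tPiece I α ≠ ⊥ := by
  intro hbot
  have hs : Subsingleton ↥(tPiece I α) := by rw [hbot]; infer_instance
  have hs' : Subsingleton ({C : (GR I α).ConnectedComponent // Good C} → k) :=
    (pieceEquiv hI).symm.toEquiv.subsingleton
  have := congrFun (hs'.elim (fun _ => (1 : k)) (fun _ => 0)) ⟨C, hC⟩
  exact one_ne_zero this

theorem good_of_isolated (v : ↥(region I α)) (hv : nn v.1)
    (hiso : ∀ w : ↥(region I α), ¬ (GR I α).Adj v w) :
    Good ((GR I α).connectedComponentMk v) := by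
  intro w hw
  have hr : (GR I α).Reachable v w := (ConnectedComponent.exact hw).symm
  obtain ⟨p⟩ := hr
  cases p with
  | nil => exact hv
  | cons hadj _ => exact absurd hadj (hiso _)

/-- no nonnegative multidegree carries tangent vectors. -/
theorem tPiece_eq_bot_of_nonneg (hI : IsMonomial I) (hα : ∀ i, 0 ≤ α i) : tPiece I α = ⊥ := by
  apply tPiece_eq_bot_of_no_good hI
  intro C _
  have v := rep C
  obtain ⟨⟨β, hβ, hv⟩, hnot⟩ := (mem_region_iff I α v.1).1 v.2
  apply hnot
  have hnn : nn v.1 := by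
    intro i
    rw [hv]
    have := hα i
    simp only [pt_apply]
    omega
  refine ⟨hnn, exps_of_le I hβ ?_⟩
  intro i
  have := hα i
  rw [tn_apply, hv, pt_apply]
  omega

/-- a minimal generator and a socle monomial give a nonzero tangent vector. -/
theorem tPiece_ne_bot_of_gen_socle (hI : IsMonomial I) {β γ : Fin n →₀ ℕ} (hβ : β ∈ exps I)
    (hβmin : ∀ i, 0 < β i → β - Finsupp.single i 1 ∉ exps I) (hγ : γ ∉ exps I)
    (hγs : ∀ i, γ + Finsupp.single i 1 ∈ exps I) :
    tPiece I (fun i => (γ i : ℤ) - (β i : ℤ)) ≠ ⊥ := by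
  set α : Fin n → ℤ := fun i => (γ i : ℤ) - (β i : ℤ) with hα
  have hpt : pt α β = fun i => (γ i : ℤ) := by
    funext i
    simp only [pt_apply, hα]
    ring
  have hnn : nn (pt α β) := by
    intro i; rw [hpt]; exact Int.natCast_nonneg _
  have htn : tn (pt α β) = γ := by
    ext i
    rw [tn_apply, hpt]
    exact Int.toNat_natCast _
  have hv : pt α β ∈ region I α := pt_mem_region I α hβ (fun h => hγ (htn ▸ h.2))
  refine tPiece_ne_bot_of_good hI _ (good_of_isolated ⟨pt α β, hv⟩ hnn ?_)
  intro w hadj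
  rw [adj_iff] at hadj
  obtain ⟨i, h | h⟩ := hadj
  · -- w = v + e_i lies in I
    apply ((mem_region_iff I α w.1).1 w.2).2
    have hw1 : w.1 = pt α β + ev i := h
    have hwnn : nn w.1 := by rw [hw1]; exact nn_add_ev hnn i
    refine ⟨hwnn, ?_⟩
    rw [hw1, tn_add_ev hnn i, htn]
    exact hγs i
  · -- v = w + e_i, so bet w = β - e_i
    have hv1 : pt α β = w.1 + ev i := h
    have hb : bet α w + Finsupp.single i 1 = β := by
      apply pt_injective α
      rw [pt_add_single, pt_bet, hv1]
    have hpos : 0 < β i := by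
      rw [← hb]; simp
    apply hβmin i hpos
    have : β - Finsupp.single i 1 = bet α w := by
      rw [← hb]; exact add_tsub_cancel_right _ _
    rw [this]
    exact bet_mem α w

end Groth.Agent.H10.TP
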