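import Mathlib
import Groth.Agent.H10.TP7

/-!
# The zigzag argument: multidegrees `≤ 0` with two negative entries carry no tangent vectors
-/

set_option autoImplicit false

namespace Groth.Agent.H10.TP

open MvPolynomial W4c1hilbpn SimpleGraph

variable {n : ℕ} {k : Type*} [Field k] {I : Ideal (MvPolynomial (Fin n) k)} {α : Fin n → ℤ}

theorem exists_pow_mem (hI : IsMonomial I) [Module.Finite k (MvPolynomial (Fin n) k ⧸ I)]
    (i : Fin n) : ∃ N : ℕ, Finsupp.single i N ∈ exps I := by
  by_contra h
  push Not at h
  have hfin := finite_compl_exps hI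
  exact Set.infinite_of_injective_forall_mem (f := fun N : ℕ => Finsupp.single i N)
    (Finsupp.single_injective i) h hfin

theorem single_le_of_le {δ : Fin n →₀ ℕ} {i : Fin n} {N : ℕ} (h : N ≤ δ i) :
    Finsupp.single i N ≤ δ := by
  classical
  intro j
  rw [Finsupp.single_apply]
  split_ifs with hj
  · subst hj; exact h
  · exact Nat.zero_le _

theorem adj_of_eq_add {v w : ↥(region I α)} {i : Fin n} (h : w.1 = v.1 + ev i) :
    (GR I α).Adj v w := (adj_iff v w).2 ⟨i, Or.inl h⟩

theorem zigzag {i l : Fin n} (hil : i ≠ l) (hα : ∀ j, α j ≤ 0) (hi : α i < 0) (hl : α l < 0)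
    {N : ℕ} (hN : Finsupp.single i N ∈ exps I) :
    ∀ (m : ℕ) (v : ↥(region I α)), nn v.1 → (N - tn v.1 i) + tn v.1 l ≤ m →
      ∃ w : ↥(region I α), (GR I α).Reachable v w ∧ ¬ nn w.1 := by
  classical
  intro m
  induction m with
  | zero =>
    intro v hv hm
    exfalso
    have h1 : N ≤ tn v.1 i := by omega
    exact tn_notMem α v hv (exps_of_le I hN (single_le_of_le h1))
  | succ m ih =>
    intro v hv hm
    have hlt : tn v.1 i < N := by
      by_contra h
      push Not at h
      exact tn_notMem α v hv (exps_of_le I hN (single_le_of_le h))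
    have hβ : bet α v ∈ exps I := bet_mem α v
    have hpt : pt α (bet α v) = v.1 := pt_bet α v
    have hptj : ∀ j, ((bet α v j : ℕ) : ℤ) + α j = v.1 j := fun j => by
      rw [← hpt]; rfl
    have hβl : 0 < bet α v l := by
      have h1 := hptj l
      have h2 := hv l
      omega
    by_cases hcase : bet α v - Finsupp.single l 1 ∈ exps I
    · -- step down in direction `l`
      have hβ'' : bet α v - Finsupp.single l 1 + Finsupp.single l 1 = bet α v :=
        tsub_add_cancel_of_le (single_le_of_le hβl)
      have hpt' : v.1 = pt α (bet α v - Finsupp.single l 1) + ev l := by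
        rw [← pt_add_single, hβ'', hpt]
      by_cases hnn' : nn (pt α (bet α v - Finsupp.single l 1))
      · have hle : tn (pt α (bet α v - Finsupp.single l 1)) ≤ tn v.1 := by
          intro j
          rw [tn_apply, tn_apply, hpt']
          apply Int.toNat_le_toNat
          simp only [Pi.add_apply, ev_apply]
          split_ifs <;> omega
        have hmem : pt α (bet α v - Finsupp.single l 1) ∈ region I α :=
          pt_mem_region I α hcase (fun h => tn_notMem α v hv (exps_of_le I h.2 hle))
        have hadj : (GR I α).Adj ⟨_, hmem⟩ v := adj_of_eq_add hpt'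
        have hmeas : (N - tn (pt α (bet α v - Finsupp.single l 1)) i) +
            tn (pt α (bet α v - Finsupp.single l 1)) l ≤ m := by
          have e1 : tn v.1 i = tn (pt α (bet α v - Finsupp.single l 1)) i := by
            rw [tn_apply, tn_apply, hpt']
            simp only [Pi.add_apply, ev_apply, if_neg hil, add_zero]
          have e2 : tn v.1 l = tn (pt α (bet α v - Finsupp.single l 1)) l + 1 := by
            rw [tn_apply, tn_apply, hpt']
            simp only [Pi.add_apply, ev_apply, if_true]
            have := hnn' l
            omega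
          omega
        obtain ⟨w, hw, hwn⟩ := ih ⟨_, hmem⟩ hnn' hmeas
        exact ⟨w, hadj.symm.reachable.trans hw, hwn⟩
      · have hmem := pt_mem_region_of_not_nn I α hcase hnn'
        have hadj : (GR I α).Adj ⟨_, hmem⟩ v := adj_of_eq_add hpt'
        exact ⟨⟨_, hmem⟩, hadj.symm.reachable, hnn'⟩
    · -- step up in direction `i`
      have hnn' : nn (pt α (bet α v + Finsupp.single i 1)) := by
        rw [pt_add_single, hpt]; exact nn_add_ev hv i
      have htn' : tn (pt α (bet α v + Finsupp.single i 1)) = tn v.1 + Finsupp.single i 1 := by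
        rw [pt_add_single, hpt]; exact tn_add_ev hv i
      have hle : tn v.1 + Finsupp.single i 1 ≤ bet α v - Finsupp.single l 1 := by
        intro j
        have h1 := hptj j
        have h2 := hv j
        have h3 := hα j
        rw [Finsupp.add_apply, Finsupp.tsub_apply, tn_apply, Finsupp.single_apply,
          Finsupp.single_apply]
        by_cases hji : i = j
        · subst hji
          rw [if_pos rfl, if_neg (Ne.symm hil)]
          omega
        · rw [if_neg hji]
          by_cases hjl : l = j
          · subst hjl
            rw [if_pos rfl]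
            omega
          · rw [if_neg hjl]
            omega
      have hmem : pt α (bet α v + Finsupp.single i 1) ∈ region I α :=
        pt_mem_region I α (exps_add I hβ _)
          (fun h => hcase (exps_of_le I (htn' ▸ h.2) hle))
      have hadj : (GR I α).Adj v ⟨_, hmem⟩ :=
        adj_of_eq_add (by change pt α (bet α v + Finsupp.single i 1) = _; rw [pt_add_single, hpt])
      have hmeas : (N - tn (pt α (bet α v + Finsupp.single i 1)) i) +
          tn (pt α (bet α v + Finsupp.single i 1)) l ≤ m := by
        rw [htn']
        simp only [Finsupp.add_apply, Finsupp.single_eq_same, Finsupp.single_apply, if_neg hil,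
          add_zero]
        omega
      obtain ⟨w, hw, hwn⟩ := ih ⟨_, hmem⟩ hnn' hmeas
      exact ⟨w, hadj.reachable.trans hw, hwn⟩

/-- multidegrees `≤ 0` with at least two negative entries carry no tangent vectors. -/
theorem tPiece_eq_bot_of_two_neg (hI : IsMonomial I)
    [Module.Finite k (MvPolynomial (Fin n) k ⧸ I)] {i l : Fin n} (hil : i ≠ l)
    (hα : ∀ j, α j ≤ 0) (hi : α i < 0) (hl : α l < 0) : tPiece I α = ⊥ := by
  obtain ⟨N, hN⟩ := exists_pow_mem hI i
  apply tPiece_eq_bot_of_reach hI
  intro v
  by_cases hv : nn v.1
  · exact zigzag hil hα hi hl hN _ v hv le_rfl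
  · exact ⟨v, Reachable.refl v, hv⟩

end Groth.Agent.H10.TP
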