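import Mathlib
import Groth.Agent.H10.TP8

/-!
# The multigraded decomposition of `T(I)` for a monomial ideal of finite colength
-/

set_option autoImplicit false

namespace Groth.Agent.H10.TP

open MvPolynomial W4c1hilbpn SimpleGraph

variable {n : ℕ} {k : Type*} [Field k] {I : Ideal (MvPolynomial (Fin n) k)} (α : Fin n → ℤ)
variable (hI : IsMonomial I)

theorem notMem_of_add_notMem {δ ε : Fin n →₀ ℕ} (h : δ + ε ∉ exps I) : δ ∉ exps I :=
  fun h' => h (exps_add I h' _)

/-- coefficient shift. -/
theorem ell_X_smul {δ : Fin n →₀ ℕ} {i : Fin n} (hδ : δ + Finsupp.single i 1 ∉ exps I)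
    (f : MvPolynomial (Fin n) k ⧸ I) :
    ell hI (δ + Finsupp.single i 1) ((X i : MvPolynomial (Fin n) k) • f) = ell hI δ f := by
  obtain ⟨p, rfl⟩ := Ideal.Quotient.mk_surjective f
  change ell hI _ (Ideal.Quotient.mk I (X i * p)) = _
  rw [ell_mk hI hδ, ell_mk hI (notMem_of_add_notMem hδ), mul_comm, coeff_mul_X]

theorem ell_X_smul_of_zero {δ : Fin n →₀ ℕ} {i : Fin n} (hδ : δ i = 0)
    (f : MvPolynomial (Fin n) k ⧸ I) :
    ell hI δ ((X i : MvPolynomial (Fin n) k) • f) = 0 := by
  classical
  by_cases hm : δ ∈ exps I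
  · unfold ell; rw [dif_pos hm]; rfl
  obtain ⟨p, rfl⟩ := Ideal.Quotient.mk_surjective f
  change ell hI _ (Ideal.Quotient.mk I (X i * p)) = _
  rw [ell_mk hI hm, coeff_X_mul', if_neg]
  rw [Finsupp.mem_support_iff]
  exact fun h => h hδ

theorem ell_mem {δ : Fin n →₀ ℕ} (hm : δ ∈ exps I) (f : MvPolynomial (Fin n) k ⧸ I) :
    ell hI δ f = 0 := by
  unfold ell; rw [dif_pos hm]; rfl

theorem PhiFun_mem_W (φ : Tgt I) : PhiFun α hI φ ∈ W I α := by
  classical
  refine ⟨fun v w i hw => ?_, fun v hv => ?_⟩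
  · have hbw : bet α w = bet α v + Finsupp.single i 1 := by
      apply bet_unique
      rw [pt_add_single, pt_bet, hw]
    have hval : φ (monI (bet_mem α w)) =
        (X i : MvPolynomial (Fin n) k) • φ (monI (bet_mem α v)) := by
      rw [← map_smul, X_smul_monI]
      congr 1
      apply Subtype.ext
      change monomial _ _ = monomial _ _
      rw [hbw]
    unfold PhiFun
    by_cases hv : nn v.1
    · have hwn : nn w.1 := by rw [hw]; exact nn_add_ev hv i
      rw [if_pos hv, if_pos hwn, hval]
      have h1 : tn w.1 = tn v.1 + Finsupp.single i 1 := by rw [hw]; exact tn_add_ev hv i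
      have h2 := tn_notMem α w hwn
      rw [h1] at h2 ⊢
      exact (ell_X_smul hI h2 _).symm
    · rw [if_neg hv]
      split_ifs with hwn
      · rw [hval]
        symm
        apply ell_X_smul_of_zero
        rw [tn_apply]
        have hwi : w.1 i ≤ 0 := by
          by_contra hpos
          push Not at hpos
          apply hv
          intro j
          have h1 := congrFun hw j
          have h2 := hwn j
          simp only [Pi.add_apply, ev_apply] at h1
          split_ifs at h1 with hj
          · subst hj; omega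
          · omega
        have := hwn i
        omega
      · rfl
  · unfold PhiFun
    rw [if_neg hv]

/-- the coefficient function of an arbitrary element of `T(I)`. -/
noncomputable def PhiAll : Tgt I →ₗ[k] ↥(W I α) where
  toFun φ := ⟨PhiFun α hI φ, PhiFun_mem_W α hI φ⟩
  map_add' φ ψ := by
    classical
    apply Subtype.ext
    funext v
    simp only [PhiFun, Submodule.coe_add, Pi.add_apply]
    split_ifs
    · rw [LinearMap.add_apply, map_add]
    · rw [add_zero]
  map_smul' a φ := by
    classical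
    apply Subtype.ext
    funext v
    simp only [PhiFun, Submodule.coe_smul, Pi.smul_apply, RingHom.id_apply]
    split_ifs
    · rw [LinearMap.smul_apply, map_smul]
    · rw [smul_zero]

/-- the linear equivalence of the graded piece with admissible coefficient functions. -/
noncomputable def pieceW : ↥(tPiece I α) ≃ₗ[k] ↥(W I α) :=
  LinearEquiv.ofBijective ((Phi α hI).codRestrict (W I α) (Phi_mem_W α hI))
    ⟨fun _ _ h => Phi_injective α hI (congrArg Subtype.val h),
     fun c => ⟨⟨Psi α c.1 c.2 hI, Psi_mem α c.1 c.2 hI⟩, Subtype.ext (Phi_Psi α c.1 c.2 hI)⟩⟩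

theorem pieceW_apply (φ : ↥(tPiece I α)) : (pieceW α hI φ).1 = PhiFun α hI φ.1 := rfl

theorem pieceW_symm_apply (c : ↥(W I α)) : ((pieceW α hI).symm c).1 = Psi α c.1 c.2 hI := by
  have : (pieceW α hI).symm c = ⟨Psi α c.1 c.2 hI, Psi_mem α c.1 c.2 hI⟩ := by
    rw [LinearEquiv.symm_apply_eq]
    exact Subtype.ext (Phi_Psi α c.1 c.2 hI).symm
  rw [this]

/-- the homogeneous component of degree `α`. -/
noncomputable def comp : Tgt I →ₗ[k] Tgt I :=
  (tPiece I α).subtype ∘ₗ (pieceW α hI).symm.toLinearMap ∘ₗ PhiAll α hI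

theorem comp_mem (φ : Tgt I) : comp α hI φ ∈ tPiece I α :=
  ((pieceW α hI).symm (PhiAll α hI φ)).2

theorem comp_eq_Psi (φ : Tgt I) :
    comp α hI φ = Psi α (PhiFun α hI φ) (PhiFun_mem_W α hI φ) hI :=
  pieceW_symm_apply α hI (PhiAll α hI φ)

theorem comp_of_mem {φ : Tgt I} (hφ : φ ∈ tPiece I α) : comp α hI φ = φ := by
  have h1 : PhiAll α hI φ = pieceW α hI ⟨φ, hφ⟩ := Subtype.ext rfl
  change ((pieceW α hI).symm (PhiAll α hI φ)).1 = φ
  rw [h1, LinearEquiv.symm_apply_apply]

theorem comp_monI_not_nn (φ : Tgt I) {β : Fin n →₀ ℕ} (hβ : β ∈ exps I) (h : ¬ nn (pt α β)) :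
    comp α hI φ (monI hβ) = 0 :=
  tPiece_zero α (comp_mem α hI φ) hβ h

theorem comp_monI_nn (φ : Tgt I) {β : Fin n →₀ ℕ} (hβ : β ∈ exps I) (h : nn (pt α β)) :
    comp α hI φ (monI hβ) =
      ell hI (tn (pt α β)) (φ (monI hβ)) • Ideal.Quotient.mk I (monomial (tn (pt α β)) (1 : k)) := by
  classical
  by_cases hE : tn (pt α β) ∈ exps I
  · rw [mk_monomial_eq_zero hE, smul_zero]
    exact eq_zero_of_mem_span hE (tPiece_span α (comp_mem α hI φ) hβ h)
  · have hv : pt α β ∈ region I α := pt_mem_region I α hβ (fun h' => hE h'.2)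
    have hb : bet α ⟨pt α β, hv⟩ = β := bet_unique α ⟨pt α β, hv⟩ rfl
    rw [comp_eq_Psi, Psi_monI]
    congr 1
    unfold dco chat
    rw [if_pos ⟨h, hβ⟩, dif_pos hv]
    unfold PhiFun
    rw [if_pos h]
    congr 2
    apply Subtype.ext
    change monomial _ _ = monomial _ _
    rw [hb]

theorem comp_of_mem_ne {α' : Fin n → ℤ} (hne : α' ≠ α) {φ : Tgt I} (hφ : φ ∈ tPiece I α') :
    comp α hI φ = 0 := by
  classical
  apply ext_of_monI hI
  intro β hβ
  rw [LinearMap.zero_apply]
  by_cases h : nn (pt α β)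
  · rw [comp_monI_nn α hI φ hβ h]
    by_cases hE : tn (pt α β) ∈ exps I
    · rw [mk_monomial_eq_zero hE, smul_zero]
    · by_cases h' : nn (pt α' β)
      · have h1 := tPiece_span α' hφ hβ h'
        obtain ⟨a, ha⟩ := Submodule.mem_span_singleton.1 h1
        have hne' : tn (pt α β) ≠ tn (pt α' β) := by
          intro heq
          apply hne
          funext i
          have e1 := cast_tn h i
          have e2 := cast_tn h' i
          rw [heq, e2] at e1
          simp only [pt_apply] at e1
          omega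
        rw [← ha, map_smul, ell_mk hI hE, coeff_monomial, if_neg (Ne.symm hne'), smul_zero,
          zero_smul]
      · rw [tPiece_zero α' hφ hβ h', map_zero, zero_smul]
  · exact comp_monI_not_nn α hI φ hβ h

end Groth.Agent.H10.TP
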