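import Mathlib
import Groth.Agent.H10.TP9

/-!
# `T(I)` is the sum of its graded pieces
-/

set_option autoImplicit false

namespace Groth.Agent.H10.TP

open MvPolynomial W4c1hilbpn SimpleGraph

variable {n : ℕ} {k : Type*} [Field k] {I : Ideal (MvPolynomial (Fin n) k)}
variable (hI : IsMonomial I)

include hI in
/-- finitely many monomial generators. -/
theorem exists_gens : ∃ G : Finset (Fin n →₀ ℕ), (∀ β ∈ G, β ∈ exps I) ∧
    ∀ β ∈ exps I, ∃ β₀ ∈ G, β₀ ≤ β := by
  classical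
  obtain ⟨s, hs⟩ := (inferInstance : IsNoetherianRing (MvPolynomial (Fin n) k)).noetherian I
  refine ⟨s.biUnion (fun p => p.support), ?_, ?_⟩
  · intro β hβ
    rw [Finset.mem_biUnion] at hβ
    obtain ⟨p, hp, hβp⟩ := hβ
    have hpI : p ∈ I := by rw [← hs]; exact Submodule.subset_span hp
    exact hI p hpI β hβp
  · intro β hβ
    have hle : I ≤ Ideal.span ((fun s => monomial s (1 : k)) ''
        (↑(s.biUnion (fun p => p.support)) : Set (Fin n →₀ ℕ))) := by
      rw [← hs]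
      apply Ideal.span_le.2
      intro p hp
      rw [SetLike.mem_coe, mem_ideal_span_monomial_image]
      intro xi hxi
      refine ⟨xi, ?_, le_rfl⟩
      rw [Finset.mem_coe, Finset.mem_biUnion]
      exact ⟨p, hp, hxi⟩
    have h1 := hle hβ
    rw [mem_ideal_span_monomial_image] at h1
    obtain ⟨si, hsi, hle'⟩ := h1 β (by rw [support_monomial, if_neg one_ne_zero]; simp)
    exact ⟨si, hsi, hle'⟩

theorem monI_eq_smul {β β₀ : Fin n →₀ ℕ} (hβ : β ∈ exps I) (hβ₀ : β₀ ∈ exps I) (hle : β₀ ≤ β) :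
    monI hβ = (monomial (β - β₀) (1 : k) : MvPolynomial (Fin n) k) • monI hβ₀ := by
  apply Subtype.ext
  change monomial β (1 : k) = monomial (β - β₀) (1 : k) * monomial β₀ 1
  rw [monomial_mul, mul_one, tsub_add_cancel_of_le hle]

include hI in
theorem ext_of_gens {G : Finset (Fin n →₀ ℕ)} (hG : ∀ β ∈ G, β ∈ exps I)
    (hG' : ∀ β ∈ exps I, ∃ β₀ ∈ G, β₀ ≤ β) {φ ψ : Tgt I}
    (h : ∀ (β : Fin n →₀ ℕ) (hβ : β ∈ G), φ (monI (hG β hβ)) = ψ (monI (hG β hβ))) : φ = ψ := by
  apply ext_of_monI hI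
  intro β hβ
  obtain ⟨β₀, hβ₀, hle⟩ := hG' β hβ
  rw [monI_eq_smul hβ (hG β₀ hβ₀) hle, map_smul, map_smul, h β₀ hβ₀]

variable [Module.Finite k (MvPolynomial (Fin n) k ⧸ I)]

/-- the finite set of standard exponents. -/
noncomputable def stdF : Finset (Fin n →₀ ℕ) := (finite_compl_exps hI).toFinset

theorem mem_stdF {δ : Fin n →₀ ℕ} : δ ∈ stdF hI ↔ δ ∉ exps I := by
  unfold stdF
  rw [Set.Finite.mem_toFinset, Set.mem_ofPred_eq]

/-- expansion in the standard monomial basis. -/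
theorem eq_sum_ell (f : MvPolynomial (Fin n) k ⧸ I) :
    f = ∑ δ ∈ stdF hI, ell hI δ f • Ideal.Quotient.mk I (monomial δ (1 : k)) := by
  classical
  obtain ⟨p, rfl⟩ := Ideal.Quotient.mk_surjective f
  have h1 : p = ∑ δ ∈ p.support ∪ stdF hI, coeff δ p • monomial δ (1 : k) := by
    conv_lhs => rw [← MvPolynomial.support_sum_monomial_coeff p]
    rw [Finset.sum_subset Finset.subset_union_left]
    · refine Finset.sum_congr rfl fun δ _ => ?_
      rw [smul_monomial, smul_eq_mul, mul_one]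
    · intro δ _ hδ
      rw [notMem_support_iff.1 hδ, monomial_zero]
  have h2 : Ideal.Quotient.mk I p =
      ∑ δ ∈ p.support ∪ stdF hI, coeff δ p • Ideal.Quotient.mk I (monomial δ (1 : k)) := by
    conv_lhs => rw [h1]
    rw [map_sum]
    refine Finset.sum_congr rfl fun δ _ => ?_
    rw [← Ideal.Quotient.mkₐ_eq_mk k, map_smul]
  have h3 : ∀ δ : Fin n →₀ ℕ, ell hI δ (Ideal.Quotient.mk I p) •
      Ideal.Quotient.mk I (monomial δ (1 : k)) =
      coeff δ p • Ideal.Quotient.mk I (monomial δ (1 : k)) := by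
    intro δ
    by_cases hδ : δ ∈ exps I
    · rw [mk_monomial_eq_zero hδ, smul_zero, smul_zero]
    · rw [ell_mk hI hδ]
  symm
  rw [Finset.sum_subset (Finset.subset_union_right (s₁ := p.support))]
  · conv_rhs => rw [h2]
    exact Finset.sum_congr rfl fun δ _ => h3 δ
  · intro δ _ hδ
    rw [mem_stdF, not_not] at hδ
    rw [mk_monomial_eq_zero hδ, smul_zero]

/-- the degree from a generator to a standard monomial. -/
def degOf (p : (Fin n →₀ ℕ) × (Fin n →₀ ℕ)) : Fin n → ℤ := fun i => (p.2 i : ℤ) - (p.1 i : ℤ)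

theorem pt_degOf (β δ : Fin n →₀ ℕ) : pt (degOf (β, δ)) β = fun i => (δ i : ℤ) := by
  funext i
  simp only [pt_apply, degOf]
  ring

theorem nn_pt_degOf (β δ : Fin n →₀ ℕ) : nn (pt (degOf (β, δ)) β) := by
  rw [pt_degOf]; intro i; exact Int.natCast_nonneg _

theorem tn_pt_degOf (β δ : Fin n →₀ ℕ) : tn (pt (degOf (β, δ)) β) = δ := by
  ext i
  rw [tn_apply, pt_degOf]
  exact Int.toNat_natCast _

theorem degOf_tn {α : Fin n → ℤ} {β : Fin n →₀ ℕ} (h : nn (pt α β)) :
    degOf (β, tn (pt α β)) = α := by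
  funext i
  have := cast_tn h i
  simp only [degOf, pt_apply] at this ⊢
  omega

/-- the finite set of possible degrees. -/
noncomputable def degs (G : Finset (Fin n →₀ ℕ)) : Finset (Fin n → ℤ) := by
  classical
  exact (G ×ˢ stdF hI).image degOf

theorem comp_eq_zero_of_notMem {G : Finset (Fin n →₀ ℕ)} (hG : ∀ β ∈ G, β ∈ exps I)
    (hG' : ∀ β ∈ exps I, ∃ β₀ ∈ G, β₀ ≤ β) {α : Fin n → ℤ} (hα : α ∉ degs hI G) (φ : Tgt I) :
    comp α hI φ = 0 := by
  classical
  apply ext_of_gens hI hG hG'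
  intro β hβ
  rw [LinearMap.zero_apply]
  by_cases h : nn (pt α β)
  · rw [comp_monI_nn α hI φ (hG β hβ) h]
    by_cases hE : tn (pt α β) ∈ exps I
    · rw [mk_monomial_eq_zero hE, smul_zero]
    · exfalso
      apply hα
      unfold degs
      rw [Finset.mem_image]
      refine ⟨(β, tn (pt α β)), ?_, degOf_tn h⟩
      rw [Finset.mem_product]
      exact ⟨hβ, (mem_stdF hI).2 hE⟩
  · exact comp_monI_not_nn α hI φ (hG β hβ) h

theorem eq_sum_comp {G : Finset (Fin n →₀ ℕ)} (hG : ∀ β ∈ G, β ∈ exps I)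
    (hG' : ∀ β ∈ exps I, ∃ β₀ ∈ G, β₀ ≤ β) (φ : Tgt I) :
    φ = ∑ α ∈ degs hI G, comp α hI φ := by
  classical
  apply ext_of_gens hI hG hG'
  intro β hβ
  rw [LinearMap.sum_apply]
  conv_lhs => rw [eq_sum_ell hI (φ (monI (hG β hβ)))]
  refine Finset.sum_bij_ne_zero (fun δ _ _ => degOf (β, δ)) ?_ ?_ ?_ ?_
  · intro δ hδ _
    unfold degs
    rw [Finset.mem_image]
    exact ⟨(β, δ), Finset.mem_product.2 ⟨hβ, hδ⟩, rfl⟩
  · intro δ _ _ δ' _ _ h
    have h1 := tn_pt_degOf β δ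
    rw [h, tn_pt_degOf] at h1
    exact h1.symm
  · intro α hα hne
    by_cases h : nn (pt α β)
    · rw [comp_monI_nn α hI φ (hG β hβ) h] at hne
      have hE : tn (pt α β) ∉ exps I := by
        intro hE
        apply hne
        rw [mk_monomial_eq_zero hE, smul_zero]
      exact ⟨tn (pt α β), (mem_stdF hI).2 hE, hne, degOf_tn h⟩
    · exact absurd (comp_monI_not_nn α hI φ (hG β hβ) h) hne
  · intro δ _ _
    rw [comp_monI_nn _ hI φ (hG β hβ) (nn_pt_degOf β δ), tn_pt_degOf]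

include hI in
/-- `T(I)` is the sum of its multigraded pieces. -/
theorem iSup_tPiece_eq_top : (⨆ α : Fin n → ℤ, tPiece I α) = ⊤ := by
  classical
  obtain ⟨G, hG, hG'⟩ := exists_gens hI
  rw [eq_top_iff]
  intro φ _
  rw [eq_sum_comp hI hG hG' φ]
  exact Submodule.sum_mem _ fun α _ => Submodule.mem_iSup_of_mem α (comp_mem α hI φ)

include hI in
/-- a version with a condition on the degrees: pieces violating it vanish. -/
theorem mem_iSup_of_forall {ι : Sort*} (U : ι → Submodule k (Tgt I))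
    (h : ∀ α : Fin n → ℤ, tPiece I α = ⊥ ∨ ∃ j, tPiece I α ≤ U j) (φ : Tgt I) :
    φ ∈ ⨆ j, U j := by
  classical
  obtain ⟨G, hG, hG'⟩ := exists_gens hI
  rw [eq_sum_comp hI hG hG' φ]
  refine Submodule.sum_mem _ fun α _ => ?_
  rcases h α with h0 | ⟨j, hj⟩
  · have := comp_mem α hI φ
    rw [h0, Submodule.mem_bot] at this
    rw [this]; exact Submodule.zero_mem _
  · exact Submodule.mem_iSup_of_mem j (hj (comp_mem α hI φ))

end Groth.Agent.H10.TP
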