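import Mathlib
import Groth.Agent.H10.TP10

/-!
# Three variables: a tangent vector of forbidden sign pattern from a dominating generator
-/

set_option autoImplicit false

namespace Groth.Agent.H10.TP

open MvPolynomial W4c1hilbpn SimpleGraph

variable {k : Type*} [Field k] {I : Ideal (MvPolynomial (Fin 3) k)}

theorem e3_zero (a b c : ℕ) : e3 a b c 0 = a := rfl
theorem e3_one (a b c : ℕ) : e3 a b c 1 = b := rfl
theorem e3_two (a b c : ℕ) : e3 a b c 2 = c := rfl

theorem le_iff3 (δ ε : Fin 3 →₀ ℕ) : δ ≤ ε ↔ δ 0 ≤ ε 0 ∧ δ 1 ≤ ε 1 ∧ δ 2 ≤ ε 2 := by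
  constructor
  · intro h; exact ⟨h 0, h 1, h 2⟩
  · rintro ⟨h0, h1, h2⟩ i
    fin_cases i
    · exact h0
    · exact h1
    · exact h2

theorem ext3 {δ ε : Fin 3 →₀ ℕ} (h0 : δ 0 = ε 0) (h1 : δ 1 = ε 1) (h2 : δ 2 = ε 2) : δ = ε := by
  ext i
  fin_cases i
  · exact h0
  · exact h1
  · exact h2

theorem tPiece_le_sigPiece {n : ℕ} {I : Ideal (MvPolynomial (Fin n) k)} (α : Fin n → ℤ)
    (N : Set (Fin n)) (h : ∀ i, α i < 0 ↔ i ∈ N) : tPiece I α ≤ sigPiece I N := by
  unfold sigPiece
  exact le_iSup_of_le (⟨α, h⟩ : {α : Fin n → ℤ // ∀ i, α i < 0 ↔ i ∈ N}) le_rfl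

/-- the box lemma: a minimal generator in the `p,q`-plane dominating two other elements of `I`
yields a socle monomial strictly below it in the directions `p` and `q`. -/
theorem exists_neg_pair (hI : IsMonomial I) [Module.Finite k (MvPolynomial (Fin 3) k ⧸ I)]
    {p q r : Fin 3} (hpq : p ≠ q) (hpr : p ≠ r) (hqr : q ≠ r)
    (hcov : ∀ j : Fin 3, j = p ∨ j = q ∨ j = r)
    {β δ1 δ2 : Fin 3 →₀ ℕ} (hβ : β ∈ exps I) (hβr : β r = 0) (hβp : 0 < β p) (hβq : 0 < β q)
    (hminp : β - Finsupp.single p 1 ∉ exps I) (hminq : β - Finsupp.single q 1 ∉ exps I)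
    (hδ1 : δ1 ∈ exps I) (hδ1p : δ1 p ≤ β p) (hδ1q : δ1 q = 0)
    (hδ2 : δ2 ∈ exps I) (hδ2q : δ2 q ≤ β q) (hδ2p : δ2 p = 0)
    (hh1 : Finsupp.single r (δ1 r) ∉ exps I) (hh2 : Finsupp.single r (δ2 r) ∉ exps I) :
    sigPiece I ({p, q} : Set (Fin 3)) ≠ ⊥ := by
  classical
  obtain ⟨N, hN⟩ := exists_pow_mem hI r
  -- the height of the `r`-axis
  let P : ℕ → Prop := fun h => Finsupp.single r h ∈ exps I
  have hP : ∃ h, P h := ⟨N, hN⟩
  set Hh := Nat.find hP with hHh
  have hHh_mem : Finsupp.single r Hh ∈ exps I := Nat.find_spec hP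
  have hlt : ∀ h, Finsupp.single r h ∉ exps I → h < Hh := by
    intro h hh
    by_contra hle
    push Not at hle
    apply hh
    refine exps_of_le I hHh_mem ?_
    exact Finsupp.single_mono hle
  have h1 := hlt _ hh1
  have h2 := hlt _ hh2
  have hHpos : 0 < Hh := by omega
  have hHnot : Finsupp.single r (Hh - 1) ∉ exps I := Nat.find_min hP (by omega)
  -- the box
  have hfin := finite_compl_exps hI
  let D : Set (Fin 3 →₀ ℕ) := {γ | γ ∉ exps I ∧ γ p ≤ β p - 1 ∧ γ q ≤ β q - 1 ∧ γ r = Hh - 1}
  have hDfin : D.Finite := hfin.subset (fun γ hγ => hγ.1)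
  have hDne : D.Nonempty := by
    refine ⟨Finsupp.single r (Hh - 1), hHnot, ?_, ?_, ?_⟩
    · rw [Finsupp.single_apply, if_neg (Ne.symm hpr)]; exact Nat.zero_le _
    · rw [Finsupp.single_apply, if_neg (Ne.symm hqr)]; exact Nat.zero_le _
    · rw [Finsupp.single_eq_same]
  obtain ⟨γ, hγD, hγmax⟩ := Set.exists_max_image D (fun γ => γ p + γ q) hDfin hDne
  obtain ⟨hγ, hγp, hγq, hγr⟩ := hγD
  have hsocle : ∀ i, γ + Finsupp.single i 1 ∈ exps I := by
    intro i
    rcases hcov i with rfl | rfl | rfl
    · -- direction p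
      by_cases hlt' : γ i < β i - 1
      · by_contra hnot
        have hmem : γ + Finsupp.single i 1 ∈ D := by
          refine ⟨hnot, ?_, ?_, ?_⟩
          · rw [Finsupp.add_apply, Finsupp.single_eq_same]; omega
          · rw [Finsupp.add_apply, Finsupp.single_apply, if_neg hpq]; omega
          · rw [Finsupp.add_apply, Finsupp.single_apply, if_neg hpr]; omega
        have := hγmax _ hmem
        simp only [Finsupp.add_apply, Finsupp.single_eq_same, Finsupp.single_apply, if_neg hpq]
          at this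
        omega
      · refine exps_of_le I hδ1 ?_
        intro j
        rw [Finsupp.add_apply, Finsupp.single_apply]
        rcases hcov j with rfl | rfl | rfl
        · rw [if_pos rfl]; omega
        · rw [hδ1q]; exact Nat.zero_le _
        · rw [if_neg hpr]; omega
    · -- direction q
      by_cases hlt' : γ i < β i - 1
      · by_contra hnot
        have hmem : γ + Finsupp.single i 1 ∈ D := by
          refine ⟨hnot, ?_, ?_, ?_⟩
          · rw [Finsupp.add_apply, Finsupp.single_apply, if_neg (Ne.symm hpq)]; omega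
          · rw [Finsupp.add_apply, Finsupp.single_eq_same]; omega
          · rw [Finsupp.add_apply, Finsupp.single_apply, if_neg hqr]; omega
        have := hγmax _ hmem
        simp only [Finsupp.add_apply, Finsupp.single_eq_same, Finsupp.single_apply,
          if_neg (Ne.symm hpq)] at this
        omega
      · refine exps_of_le I hδ2 ?_
        intro j
        rw [Finsupp.add_apply, Finsupp.single_apply]
        rcases hcov j with rfl | rfl | rfl
        · rw [hδ2p]; exact Nat.zero_le _
        · rw [if_pos rfl]; omega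
        · rw [if_neg hqr]; omega
    · -- direction r
      refine exps_of_le I hHh_mem ?_
      intro j
      rw [Finsupp.add_apply, Finsupp.single_apply, Finsupp.single_apply]
      by_cases hj : i = j
      · subst hj; rw [if_pos rfl, if_pos rfl]; omega
      · rw [if_neg hj]; exact Nat.zero_le _
  have hmin : ∀ i, 0 < β i → β - Finsupp.single i 1 ∉ exps I := by
    intro i hi
    rcases hcov i with rfl | rfl | rfl
    · exact hminp
    · exact hminq
    · omega
  have hne := tPiece_ne_bot_of_gen_socle hI hβ hmin hγ hsocle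
  intro hbot
  apply hne
  rw [eq_bot_iff, ← hbot]
  apply tPiece_le_sigPiece
  intro i
  rw [Set.mem_insert_iff, Set.mem_singleton_iff]
  rcases hcov i with rfl | rfl | rfl
  · constructor
    · intro _; exact Or.inl rfl
    · intro _; omega
  · constructor
    · intro _; exact Or.inr rfl
    · intro _; omega
  · constructor
    · intro h; rw [hβr] at h; simp at h; omega
    · rintro (h | h)
      · exact absurd h.symm hpr
      · exact absurd h.symm hqr

theorem e3_sub_single0 (a b c : ℕ) : e3 a b c - Finsupp.single 0 1 = e3 (a - 1) b c := by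
  apply ext3 <;> simp [e3_zero, e3_one, e3_two, Finsupp.tsub_apply]

theorem e3_sub_single1 (a b c : ℕ) : e3 a b c - Finsupp.single 1 1 = e3 a (b - 1) c := by
  apply ext3 <;> simp [e3_zero, e3_one, e3_two, Finsupp.tsub_apply]

theorem e3_sub_single2 (a b c : ℕ) : e3 a b c - Finsupp.single 2 1 = e3 a b (c - 1) := by
  apply ext3 <;> simp [e3_zero, e3_one, e3_two, Finsupp.tsub_apply]

theorem single0_le_e3 (a b c : ℕ) : Finsupp.single 0 a ≤ e3 a b c := by
  rw [le_iff3]; simp [e3_zero]

theorem single1_le_e3 (a b c : ℕ) : Finsupp.single 1 b ≤ e3 a b c := by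
  rw [le_iff3]; simp [e3_one]

theorem single2_le_e3 (a b c : ℕ) : Finsupp.single 2 c ≤ e3 a b c := by
  rw [le_iff3]; simp [e3_two]

end Groth.Agent.H10.TP
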