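import Mathlib
import Groth.Agent.H10.TP11

/-!
# Strongly stable ideals in three variables: the forbidden sign patterns vanish iff `x ∈ I`
-/

set_option autoImplicit false

namespace Groth.Agent.H10.TP

open MvPolynomial W4c1hilbpn SimpleGraph

section walk

variable {n : ℕ} {k : Type*} [Field k] {I : Ideal (MvPolynomial (Fin n) k)} {α : Fin n → ℤ}

/-- walking down in a negative direction `l` as long as we stay inside `Ĩ + α`. -/
theorem walk_down {l : Fin n} (hl : α l < 0)
    (hstep : ∀ β ∈ exps I, nn (pt α β) → β - Finsupp.single l 1 ∈ exps I) :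
    ∀ (m : ℕ) (v : ↥(region I α)), nn v.1 → tn v.1 l < m →
      ∃ w : ↥(region I α), (GR I α).Reachable v w ∧ ¬ nn w.1 := by
  classical
  intro m
  induction m with
  | zero => intro v _ hm; omega
  | succ m ih =>
    intro v hv hm
    have hβ : bet α v ∈ exps I := bet_mem α v
    have hpt : pt α (bet α v) = v.1 := pt_bet α v
    have hptj : ∀ j, ((bet α v j : ℕ) : ℤ) + α j = v.1 j := fun j => by
      rw [← hpt]; rfl
    have hβl : 0 < bet α v l := by
      have h1 := hptj l
      have h2 := hv l
      omega
    have hcase := hstep _ hβ (by rw [hpt]; exact hv)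
    have hβ'' : bet α v - Finsupp.single l 1 + Finsupp.single l 1 = bet α v :=
      tsub_add_cancel_of_le (single_le_of_le hβl)
    have hpt' : v.1 = pt α (bet α v - Finsupp.single l 1) + ev l := by
      rw [← pt_add_single, hβ'', hpt]
    by_cases hnn' : nn (pt α (bet α v - Finsupp.single l 1))
    · have hle : tn (pt α (bet α v - Finsupp.single l 1)) ≤ tn v.1 := by
        intro j
        rw [tn_apply, tn_apply, hpt']
        apply Int.toNat_le_toNat
        simp only [Pi.add_apply, ev_apply]
        split_ifs <;> omega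
      have hmem : pt α (bet α v - Finsupp.single l 1) ∈ region I α :=
        pt_mem_region I α hcase (fun h => tn_notMem α v hv (exps_of_le I h.2 hle))
      have hadj : (GR I α).Adj ⟨_, hmem⟩ v := adj_of_eq_add hpt'
      have hmeas : tn (pt α (bet α v - Finsupp.single l 1)) l < m := by
        have e2 : tn v.1 l = tn (pt α (bet α v - Finsupp.single l 1)) l + 1 := by
          rw [tn_apply, tn_apply, hpt']
          simp only [Pi.add_apply, ev_apply, if_true]
          have := hnn' l
          omega
        omega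
      obtain ⟨w, hw, hwn⟩ := ih ⟨_, hmem⟩ hnn' hmeas
      exact ⟨w, hadj.symm.reachable.trans hw, hwn⟩
    · have hmem := pt_mem_region_of_not_nn I α hcase hnn'
      have hadj : (GR I α).Adj ⟨_, hmem⟩ v := adj_of_eq_add hpt'
      exact ⟨⟨_, hmem⟩, hadj.symm.reachable, hnn'⟩

theorem tPiece_eq_bot_of_walk_down (hI : IsMonomial I) {l : Fin n} (hl : α l < 0)
    (hstep : ∀ β ∈ exps I, nn (pt α β) → β - Finsupp.single l 1 ∈ exps I) :
    tPiece I α = ⊥ := by
  apply tPiece_eq_bot_of_reach hI
  intro v
  by_cases hv : nn v.1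
  · exact walk_down hl hstep _ v hv (Nat.lt_succ_self _)
  · exact ⟨v, Reachable.refl v, hv⟩

/-- if a variable `x_i` lies in `I`, degrees positive at `i` carry no tangent vectors. -/
theorem tPiece_eq_bot_of_var_pos (hI : IsMonomial I) {i : Fin n}
    (hx : Finsupp.single i 1 ∈ exps I) (hα : 0 < α i) : tPiece I α = ⊥ := by
  apply tPiece_eq_bot_of_reach hI
  intro v
  refine ⟨v, Reachable.refl v, fun hv => ?_⟩
  apply tn_notMem α v hv
  refine exps_of_le I hx (single_le_of_le ?_)
  rw [tn_apply]
  have h1 : ((bet α v i : ℕ) : ℤ) + α i = v.1 i := by rw [← pt_bet α v]; rfl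
  omega

/-- if a variable `x_i` lies in `I`, degrees negative at `i` and at another index `l` carry no
tangent vectors. -/
theorem tPiece_eq_bot_of_var_neg (hI : IsMonomial I) {i l : Fin n} (hil : i ≠ l)
    (hx : Finsupp.single i 1 ∈ exps I) (hi : α i < 0) (hl : α l < 0) : tPiece I α = ⊥ := by
  classical
  apply tPiece_eq_bot_of_walk_down hI hl
  intro β _ hnn
  refine exps_of_le I hx (single_le_of_le ?_)
  rw [Finsupp.tsub_apply, Finsupp.single_apply, if_neg (Ne.symm hil)]
  have := hnn i
  simp only [pt_apply] at this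
  omega

end walk

section three

variable {k : Type*} [Field k] {I : Ideal (MvPolynomial (Fin 3) k)}

theorem e3_add_single0 (a b c : ℕ) : e3 a b c + Finsupp.single 0 1 = e3 (a + 1) b c := by
  apply ext3 <;> simp [e3_zero, e3_one, e3_two]

theorem e3_add_single1 (a b c : ℕ) : e3 a b c + Finsupp.single 1 1 = e3 a (b + 1) c := by
  apply ext3 <;> simp [e3_zero, e3_one, e3_two]

theorem e3_add_single2 (a b c : ℕ) : e3 a b c + Finsupp.single 2 1 = e3 a b (c + 1) := by
  apply ext3 <;> simp [e3_zero, e3_one, e3_two]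

theorem sigPiece_eq_bot_iff {n : ℕ} {I : Ideal (MvPolynomial (Fin n) k)} (N : Set (Fin n)) :
    sigPiece I N = ⊥ ↔ ∀ α : Fin n → ℤ, (∀ i, α i < 0 ↔ i ∈ N) → tPiece I α = ⊥ := by
  unfold sigPiece
  rw [iSup_eq_bot]
  exact ⟨fun h α hα => h ⟨α, hα⟩, fun h α => h α.1 α.2⟩

theorem strongly_stable_main (hI : IsStronglyStable I)
    [Module.Finite k (MvPolynomial (Fin 3) k ⧸ I)] :
    (MvPolynomial.X 0 : MvPolynomial (Fin 3) k) ∈ I ↔
      (sigPiece I ({1, 2} : Set (Fin 3)) = ⊥ ∧ sigPiece I ({0, 2} : Set (Fin 3)) = ⊥ ∧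
        sigPiece I ({0, 1} : Set (Fin 3)) = ⊥) := by
  classical
  have hM : IsMonomial I := hI.1
  constructor
  · intro hx
    have hx' : Finsupp.single (0 : Fin 3) 1 ∈ exps I := hx
    refine ⟨?_, ?_, ?_⟩
    · rw [sigPiece_eq_bot_iff]
      intro α hα
      have h0 : ¬ α 0 < 0 := by rw [hα 0]; simp
      have h1 : α 1 < 0 := by rw [hα 1]; simp
      have h2 : α 2 < 0 := by rw [hα 2]; simp
      by_cases hpos : 0 < α 0
      · exact tPiece_eq_bot_of_var_pos hM hx' hpos
      · have h00 : α 0 = 0 := by omega
        refine tPiece_eq_bot_of_two_neg hM (i := 1) (l := 2) (by decide) ?_ h1 h2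
        intro j
        fin_cases j
        · exact h00.le
        · exact h1.le
        · exact h2.le
    · rw [sigPiece_eq_bot_iff]
      intro α hα
      have h0 : α 0 < 0 := by rw [hα 0]; simp
      have h2 : α 2 < 0 := by rw [hα 2]; simp
      exact tPiece_eq_bot_of_var_neg hM (i := 0) (l := 2) (by decide) hx' h0 h2
    · rw [sigPiece_eq_bot_iff]
      intro α hα
      have h0 : α 0 < 0 := by rw [hα 0]; simp
      have h1 : α 1 < 0 := by rw [hα 1]; simp
      exact tPiece_eq_bot_of_var_neg hM (i := 0) (l := 1) (by decide) hx' h0 h1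
  · rintro ⟨_, _, h01⟩
    by_contra hx
    have hx' : e3 1 0 0 ∉ exps I := by
      intro h
      apply hx
      have e : Finsupp.single (0 : Fin 3) 1 = e3 1 0 0 := by
        apply ext3 <;> simp [e3_zero, e3_one, e3_two]
      change monomial (Finsupp.single (0 : Fin 3) 1) (1 : k) ∈ I
      rw [e]; exact h
    -- the least q with x y^q ∈ I
    obtain ⟨Ny, hNy⟩ := exists_pow_mem hM (1 : Fin 3)
    have hP : ∃ q, e3 1 q 0 ∈ exps I := ⟨Ny, exps_of_le I hNy (single1_le_e3 _ _ _)⟩
    set q := Nat.find hP with hq
    have hqmem : e3 1 q 0 ∈ exps I := Nat.find_spec hP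
    have hqpos : 0 < q := by
      rcases Nat.eq_zero_or_pos q with h | h
      · rw [h] at hqmem; exact absurd hqmem hx'
      · exact h
    have hqmin : e3 1 (q - 1) 0 ∉ exps I := Nat.find_min hP (by omega)
    have hy : e3 0 q 0 ∉ exps I := by
      intro h
      have := hI.2 _ h 0 1 (by decide) (by rw [e3_one]; exact hqpos)
      rw [e3_sub_single1, e3_add_single0] at this
      exact hqmin this
    -- the largest t with y^(q-1) z^t ∉ I
    obtain ⟨Nz, hNz⟩ := exists_pow_mem hM (2 : Fin 3)
    have hbase : e3 0 (q - 1) 0 ∉ exps I := fun h =>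
      hqmin (exps_of_le I h (by rw [le_iff3]; simp [e3_zero, e3_one, e3_two]))
    set t := Nat.findGreatest (fun t => e3 0 (q - 1) t ∉ exps I) Nz with ht
    have htnot : e3 0 (q - 1) t ∉ exps I :=
      Nat.findGreatest_spec (P := fun t => e3 0 (q - 1) t ∉ exps I) (Nat.zero_le _) hbase
    have htmax : e3 0 (q - 1) (t + 1) ∈ exps I := by
      by_cases hle : t + 1 ≤ Nz
      · by_contra h
        have := Nat.le_findGreatest (P := fun t => e3 0 (q - 1) t ∉ exps I) hle h
        omega
      · refine exps_of_le I hNz ?_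
        rw [le_iff3]
        simp only [e3_zero, e3_one, e3_two, Finsupp.single_apply]
        simp
        omega
    -- generator and socle monomial
    have hne := tPiece_ne_bot_of_gen_socle hM (β := e3 1 q 0) (γ := e3 0 (q - 1) t) hqmem ?_ htnot ?_
    · apply hne
      rw [eq_bot_iff, ← h01]
      apply tPiece_le_sigPiece
      intro i
      fin_cases i
      · simp [e3_zero]
      · simp [e3_one]; omega
      · simp [e3_two]
    · intro i hi
      fin_cases i
      · change e3 1 q 0 - Finsupp.single 0 1 ∉ exps I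
        rw [e3_sub_single0]; exact hy
      · change e3 1 q 0 - Finsupp.single 1 1 ∉ exps I
        rw [e3_sub_single1]; exact hqmin
      · change 0 < e3 1 q 0 2 at hi
        rw [e3_two] at hi; omega
    · intro i
      fin_cases i
      · change e3 0 (q - 1) t + Finsupp.single 0 1 ∈ exps I
        have := hI.2 _ htmax 0 2 (by decide) (by rw [e3_two]; omega)
        rw [e3_sub_single2, e3_add_single0, Nat.add_sub_cancel] at this
        rw [e3_add_single0]; exact this
      · change e3 0 (q - 1) t + Finsupp.single 1 1 ∈ exps I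
        have := hI.2 _ htmax 1 2 (by decide) (by rw [e3_two]; omega)
        rw [e3_sub_single2, e3_add_single1, Nat.add_sub_cancel] at this
        rw [e3_add_single1]; exact this
      · change e3 0 (q - 1) t + Finsupp.single 2 1 ∈ exps I
        rw [e3_add_single2]; exact htmax

end three

end Groth.Agent.H10.TP
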