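import Mathlib
import Groth.Agent.H10.TP12

/-!
# Graded pieces all of whose nonnegative region points are isolated
-/

set_option autoImplicit false

namespace Groth.Agent.H10.TP

open MvPolynomial W4c1hilbpn SimpleGraph

variable {n : ℕ} {k : Type*} [Field k] {I : Ideal (MvPolynomial (Fin n) k)} {α : Fin n → ℤ}

theorem eq_of_reachable_of_isolated {v w : ↥(region I α)}
    (hiso : ∀ w : ↥(region I α), ¬ (GR I α).Adj v w) (h : (GR I α).Reachable v w) : v = w := by
  obtain ⟨p⟩ := h
  cases p with
  | nil => rfl
  | cons hadj _ => exact absurd hadj (hiso _)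

/-- if every nonnegative point of the region is isolated, the dimension of the graded piece is
the number of nonnegative region points. -/
theorem finrank_tPiece_of_isolated (hI : IsMonomial I)
    (hiso : ∀ v : ↥(region I α), nn v.1 → ∀ w : ↥(region I α), ¬ (GR I α).Adj v w)
    [Finite {v : ↥(region I α) // nn v.1}] :
    Module.finrank k ↥(tPiece I α) = Nat.card {v : ↥(region I α) // nn v.1} := by
  classical
  let f : {v : ↥(region I α) // nn v.1} → {C : (GR I α).ConnectedComponent // Good C} :=
    fun v => ⟨(GR I α).connectedComponentMk v.1, good_of_isolated v.1 v.2 (hiso v.1 v.2)⟩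
  have hf : Function.Bijective f := by
    constructor
    · intro v v' h
      have h1 : (GR I α).connectedComponentMk v.1 = (GR I α).connectedComponentMk v'.1 :=
        congrArg Subtype.val h
      exact Subtype.ext (eq_of_reachable_of_isolated (hiso v.1 v.2) (ConnectedComponent.exact h1))
    · intro C
      refine ⟨⟨rep C.1, C.2 _ (mk_rep C.1)⟩, Subtype.ext (mk_rep C.1)⟩
  have : Finite {C : (GR I α).ConnectedComponent // Good C} := Finite.of_surjective f hf.2
  have := Fintype.ofFinite {C : (GR I α).ConnectedComponent // Good C}
  rw [(pieceEquiv hI).finrank_eq, Module.finrank_fintype_fun_eq_card, ← Nat.card_eq_fintype_card]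
  exact (Nat.card_congr (Equiv.ofBijective f hf)).symm

end Groth.Agent.H10.TP
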