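import Mathlib
import Groth.Agent.H10.TP13

/-!
# The tangent space at a power of the irrelevant ideal
-/

set_option autoImplicit false

namespace Groth.Agent.H10.TP

open MvPolynomial W4c1hilbpn SimpleGraph

variable {n : ℕ} {k : Type*} [Field k]

/-- total degree. -/
def dg (β : Fin n →₀ ℕ) : ℕ := ∑ i, β i

variable (n k) in
/-- the `r`-th power of the irrelevant ideal. -/
noncomputable abbrev mpow (r : ℕ) : Ideal (MvPolynomial (Fin n) k) :=
  (Ideal.span (Set.range (MvPolynomial.X : Fin n → MvPolynomial (Fin n) k))) ^ r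

theorem mem_exps_mpow {r : ℕ} (β : Fin n →₀ ℕ) : β ∈ exps (mpow n k r) ↔ r ≤ dg β := by
  classical
  rw [mem_exps_iff]
  change monomial β (1 : k) ∈ idealOfVars (Fin n) k ^ r ↔ _
  rw [mem_pow_idealOfVars_iff, support_monomial, if_neg one_ne_zero]
  simp [Finsupp.degree_eq_sum, dg]

theorem isMonomial_mpow (r : ℕ) : IsMonomial (mpow n k r) := by
  classical
  intro p hp β hβ
  change p ∈ idealOfVars (Fin n) k ^ r at hp
  change monomial β (1 : k) ∈ idealOfVars (Fin n) k ^ r
  rw [mem_pow_idealOfVars_iff] at hp ⊢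
  intro x hx
  rw [support_monomial, if_neg one_ne_zero, Finset.mem_singleton] at hx
  subst hx
  exact hp _ hβ

theorem dg_add (β γ : Fin n →₀ ℕ) : dg (β + γ) = dg β + dg γ := by
  unfold dg
  simp only [Finsupp.add_apply, Finset.sum_add_distrib]

theorem dg_single (i : Fin n) (a : ℕ) : dg (Finsupp.single i a) = a := by
  classical
  unfold dg
  rw [Finset.sum_eq_single i]
  · exact Finsupp.single_eq_same
  · intro j _ hj; rw [Finsupp.single_apply, if_neg (Ne.symm hj)]
  · intro h; exact absurd (Finset.mem_univ i) h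

variable {r : ℕ} {α : Fin n → ℤ}

theorem sum_pt (β : Fin n →₀ ℕ) : ∑ i, pt α β i = (dg β : ℤ) + ∑ i, α i := by
  simp only [pt_apply, Finset.sum_add_distrib, dg, Nat.cast_sum]

theorem cast_dg_tn {γ : Fin n → ℤ} (h : nn γ) : ((dg (tn γ) : ℕ) : ℤ) = ∑ i, γ i := by
  unfold dg
  rw [Nat.cast_sum]
  exact Finset.sum_congr rfl fun i _ => cast_tn h i

theorem pt_mem_region_mpow {β : Fin n →₀ ℕ} (hβ : r ≤ dg β)
    (h : (dg β : ℤ) + ∑ i, α i < r) : pt α β ∈ region (mpow n k r) α := by
  apply pt_mem_region _ _ ((mem_exps_mpow β).2 hβ)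
  rintro ⟨hnn, hm⟩
  rw [mem_exps_mpow] at hm
  have := cast_dg_tn hnn
  rw [sum_pt] at this
  omega

theorem region_facts (v : ↥(region (mpow n k r) α)) :
    r ≤ dg (bet α v) ∧ (nn v.1 → (dg (bet α v) : ℤ) + ∑ i, α i < r) := by
  refine ⟨(mem_exps_mpow _).1 (bet_mem α v), fun hnn => ?_⟩
  have h1 := tn_notMem α v hnn
  rw [mem_exps_mpow] at h1
  have h2 : ((dg (tn v.1) : ℕ) : ℤ) = (dg (bet α v) : ℤ) + ∑ i, α i := by
    rw [cast_dg_tn hnn, ← sum_pt, pt_bet]
  omega

theorem bet_apply (v : ↥(region (mpow n k r) α)) (j : Fin n) :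
    ((bet α v j : ℕ) : ℤ) + α j = v.1 j := by
  rw [← pt_bet α v]; rfl

/-- one step down in a negative direction, from a point whose preimage has degree `> r`. -/
theorem step_down_mpow {i : Fin n} (hi : α i < 0) (v : ↥(region (mpow n k r) α)) (hv : nn v.1)
    (hd : r + 1 ≤ dg (bet α v)) :
    ∃ v2 : ↥(region (mpow n k r) α), v.1 = v2.1 + ev i := by
  have hβi : 0 < bet α v i := by
    have h1 := bet_apply v i
    have h2 := hv i
    omega
  have hcancel : bet α v - Finsupp.single i 1 + Finsupp.single i 1 = bet α v :=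
    tsub_add_cancel_of_le (single_le_of_le hβi)
  have hdg : dg (bet α v - Finsupp.single i 1) + 1 = dg (bet α v) := by
    conv_rhs => rw [← hcancel, dg_add, dg_single]
  have hmem : pt α (bet α v - Finsupp.single i 1) ∈ region (mpow n k r) α := by
    apply pt_mem_region_mpow (by omega)
    have := (region_facts v).2 hv
    have h3 : ((dg (bet α v - Finsupp.single i 1) : ℕ) : ℤ) + 1 = (dg (bet α v) : ℤ) := by
      exact_mod_cast hdg
    omega
  refine ⟨⟨_, hmem⟩, ?_⟩
  change v.1 = pt α (bet α v - Finsupp.single i 1) + ev i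
  rw [← pt_add_single, hcancel, pt_bet]

theorem walk_mpow {i j : Fin n} (hij : i ≠ j) (hi : α i < 0) (hs : ∑ i, α i ≤ -2) :
    ∀ (m : ℕ) (v : ↥(region (mpow n k r) α)), nn v.1 → tn v.1 i < m →
      ∃ w : ↥(region (mpow n k r) α), (GR (mpow n k r) α).Reachable v w ∧ ¬ nn w.1 := by
  classical
  intro m
  induction m with
  | zero => intro v _ hm; omega
  | succ m ih =>
    intro v hv hm
    -- first make sure the preimage has degree > r
    obtain ⟨v1, hv1, hreach, hd1, hi1⟩ : ∃ v1 : ↥(region (mpow n k r) α), nn v1.1 ∧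
        (GR (mpow n k r) α).Reachable v v1 ∧ r + 1 ≤ dg (bet α v1) ∧ v1.1 i = v.1 i := by
      by_cases hd : r + 1 ≤ dg (bet α v)
      · exact ⟨v, hv, Reachable.refl v, hd, rfl⟩
      · have h1 := (region_facts v).1
        have hdeq : dg (bet α v) = r := by omega
        have hmem : pt α (bet α v + Finsupp.single j 1) ∈ region (mpow n k r) α := by
          apply pt_mem_region_mpow
          · rw [dg_add, dg_single]; omega
          · rw [dg_add, dg_single, hdeq]; push_cast; omega
        have hpt : pt α (bet α v + Finsupp.single j 1) = v.1 + ev j := by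
          rw [pt_add_single, pt_bet]
        refine ⟨⟨_, hmem⟩, ?_, ?_, ?_, ?_⟩
        · change nn (pt α (bet α v + Finsupp.single j 1))
          rw [hpt]; exact nn_add_ev hv j
        · exact (adj_of_eq_add (v := v) (w := ⟨_, hmem⟩) hpt).reachable
        · have hb : bet α ⟨_, hmem⟩ = bet α v + Finsupp.single j 1 := bet_unique α _ rfl
          rw [hb, dg_add, dg_single]; omega
        · change pt α (bet α v + Finsupp.single j 1) i = v.1 i
          rw [hpt, Pi.add_apply, ev_apply, if_neg hij, add_zero]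
    obtain ⟨v2, h2⟩ := step_down_mpow hi v1 hv1 hd1
    have hadj : (GR (mpow n k r) α).Adj v2 v1 := adj_of_eq_add h2
    by_cases hnn2 : nn v2.1
    · have hmeas : tn v2.1 i < m := by
        have e1 : v1.1 i = v2.1 i + 1 := by
          rw [h2, Pi.add_apply, ev_apply, if_pos rfl]
        have e2 := hnn2 i
        have e3 := hv i
        rw [tn_apply] at hm ⊢
        omega
      obtain ⟨w, hw, hwn⟩ := ih v2 hnn2 hmeas
      exact ⟨w, (hreach.trans hadj.symm.reachable).trans hw, hwn⟩
    · exact ⟨v2, hreach.trans hadj.symm.reachable, hnn2⟩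

theorem sum_toNat_le_dg (v : ↥(region (mpow n k r) α)) (hv : nn v.1) :
    ∑ i, (-α i).toNat ≤ dg (bet α v) := by
  unfold dg
  refine Finset.sum_le_sum fun i _ => ?_
  have h1 := bet_apply v i
  have h2 := hv i
  omega

/-- the graded pieces that vanish. -/
theorem tPiece_mpow_eq_bot (hn : 2 ≤ n)
    (h : ¬ (∑ i, α i = -1 ∧ ∑ i, (-α i).toNat ≤ r)) : tPiece (mpow n k r) α = ⊥ := by
  classical
  apply tPiece_eq_bot_of_reach (isMonomial_mpow r)
  intro v
  by_cases hv : nn v.1
  swap
  · exact ⟨v, Reachable.refl v, hv⟩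
  obtain ⟨h1, h2⟩ := region_facts v
  specialize h2 hv
  by_cases hs : ∑ i, α i = -1
  · exfalso
    have hw := sum_toNat_le_dg v hv
    have : ¬ (∑ i, (-α i).toNat ≤ r) := fun h' => h ⟨hs, h'⟩
    omega
  · have hs2 : ∑ i, α i ≤ -2 := by omega
    obtain ⟨i, hi⟩ : ∃ i, α i < 0 := by
      by_contra hall
      push Not at hall
      have := Finset.sum_nonneg (fun i (_ : i ∈ Finset.univ) => hall i)
      omega
    obtain ⟨j, hij⟩ : ∃ j : Fin n, i ≠ j := by
      by_cases h0 : i = ⟨0, by omega⟩
      · exact ⟨⟨1, by omega⟩, by rw [h0]; intro h'; simpa using congrArg Fin.val h'⟩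
      · exact ⟨⟨0, by omega⟩, h0⟩
    exact walk_mpow hij hi hs2 _ v hv (Nat.lt_succ_self _)

/-- the isolated points in total degree `-1`. -/
theorem isolated_mpow (hs : ∑ i, α i = -1) (v : ↥(region (mpow n k r) α)) (hv : nn v.1)
    (w : ↥(region (mpow n k r) α)) : ¬ (GR (mpow n k r) α).Adj v w := by
  intro hadj
  rw [adj_iff] at hadj
  obtain ⟨h1, h2⟩ := region_facts v
  specialize h2 hv
  obtain ⟨i, h | h⟩ := hadj
  · have hb : bet α w = bet α v + Finsupp.single i 1 := by
      apply bet_unique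
      rw [pt_add_single, pt_bet, h]
    have hwn : nn w.1 := by rw [h]; exact nn_add_ev hv i
    have h3 := (region_facts w).2 hwn
    rw [hb, dg_add, dg_single] at h3
    push_cast at h3
    omega
  · have hb : bet α w + Finsupp.single i 1 = bet α v := by
      apply pt_injective α
      rw [pt_add_single, pt_bet, pt_bet, h]
    have h3 := (region_facts w).1
    have h4 : dg (bet α w) + 1 = dg (bet α v) := by
      rw [← hb, dg_add, dg_single]
    omega

theorem dg_tn_neg : dg (tn (-α)) = ∑ i, (-α i).toNat := by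
  unfold dg
  refine Finset.sum_congr rfl fun i _ => ?_
  rw [tn_apply, Pi.neg_apply]

/-- the count in total degree `-1`. -/
theorem card_nn_mpow (hs : ∑ i, α i = -1) (hw : ∑ i, (-α i).toNat ≤ r) :
    Finite {v : ↥(region (mpow n k r) α) // nn v.1} ∧
    Nat.card {v : ↥(region (mpow n k r) α) // nn v.1} =
      (n + (r - ∑ i, (-α i).toNat) - 1).choose (r - ∑ i, (-α i).toNat) := by
  classical
  set w := ∑ i, (-α i).toNat with hwdef
  have hdgu : ∀ u : Fin n →₀ ℕ, u ∈ (Finset.univ : Finset (Fin n)).finsuppAntidiag (r - w) →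
      dg u = r - w := by
    intro u hu
    rw [Finset.mem_finsuppAntidiag] at hu
    exact hu.1
  have hmem : ∀ u : Fin n →₀ ℕ, u ∈ (Finset.univ : Finset (Fin n)).finsuppAntidiag (r - w) →
      pt α (u + tn (-α)) ∈ region (mpow n k r) α := by
    intro u hu
    apply pt_mem_region_mpow
    · rw [dg_add, dg_tn_neg, ← hwdef, hdgu u hu]; omega
    · rw [dg_add, dg_tn_neg, ← hwdef, hdgu u hu, hs]
      have e : r - w + w = r := by omega
      rw [e]; omega
  have hnn : ∀ u : Fin n →₀ ℕ, nn (pt α (u + tn (-α))) := by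
    intro u i
    simp only [pt_apply, Finsupp.add_apply, tn_apply, Pi.neg_apply]
    push_cast
    omega
  let f : {u : Fin n →₀ ℕ // u ∈ (Finset.univ : Finset (Fin n)).finsuppAntidiag (r - w)} →
      {v : ↥(region (mpow n k r) α) // nn v.1} :=
    fun u => ⟨⟨pt α (u.1 + tn (-α)), hmem u.1 u.2⟩, hnn u.1⟩
  have hf : Function.Bijective f := by
    constructor
    · intro u u' h
      have h1 : pt α (u.1 + tn (-α)) = pt α (u'.1 + tn (-α)) :=
        congrArg (fun v : {v : ↥(region (mpow n k r) α) // nn v.1} => v.1.1) h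
      exact Subtype.ext (add_right_cancel (pt_injective α h1))
    · intro v
      obtain ⟨h1, h2⟩ := region_facts v.1
      specialize h2 v.2
      have hle : tn (-α) ≤ bet α v.1 := by
        intro i
        have e1 := bet_apply v.1 i
        have e2 := v.2 i
        rw [tn_apply, Pi.neg_apply]
        omega
      have hcancel : bet α v.1 - tn (-α) + tn (-α) = bet α v.1 := tsub_add_cancel_of_le hle
      have hdg : dg (bet α v.1 - tn (-α)) + w = dg (bet α v.1) := by
        conv_rhs => rw [← hcancel, dg_add, dg_tn_neg]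
      have hu : bet α v.1 - tn (-α) ∈ (Finset.univ : Finset (Fin n)).finsuppAntidiag (r - w) := by
        rw [Finset.mem_finsuppAntidiag]
        refine ⟨?_, Finset.subset_univ _⟩
        change dg (bet α v.1 - tn (-α)) = r - w
        omega
      refine ⟨⟨_, hu⟩, ?_⟩
      apply Subtype.ext
      apply Subtype.ext
      change pt α (bet α v.1 - tn (-α) + tn (-α)) = v.1.1
      rw [hcancel, pt_bet]
  refine ⟨Finite.of_surjective f hf.2, ?_⟩
  rw [← Nat.card_congr (Equiv.ofBijective f hf), Nat.card_eq_fintype_card, Fintype.card_coe,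
    Finset.card_finsuppAntidiag_nat_eq_choose, Finset.card_univ, Fintype.card_fin]

/-- the dimension of the graded pieces of `T(m^r)`. -/
theorem finrank_tPiece_mpow (hn : 2 ≤ n) :
    Module.finrank k ↥(tPiece (mpow n k r) α) =
      if (∑ i, α i = -1 ∧ ∑ i, (-α i).toNat ≤ r)
        then Nat.choose (n + r - (∑ i, (-α i).toNat) - 1) (n - 1) else 0 := by
  split_ifs with h
  · obtain ⟨hfin, hcard⟩ := card_nn_mpow (k := k) h.1 h.2
    rw [finrank_tPiece_of_isolated (isMonomial_mpow r) (fun v hv w => isolated_mpow h.1 v hv w),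
      hcard]
    have e1 : n + (r - ∑ i, (-α i).toNat) - 1 = n + r - (∑ i, (-α i).toNat) - 1 := by
      have := h.2; omega
    rw [e1]
    apply Nat.choose_symm_of_eq_add
    have := h.2
    omega
  · rw [tPiece_mpow_eq_bot hn h]
    exact finrank_bot k _

end Groth.Agent.H10.TP
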