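import Mathlib
import Groth.Agent.H10.TP14

/-!
# Dimension of sums of graded pieces of `T(I)`
-/

set_option autoImplicit false

namespace Groth.Agent.H10.TP

open MvPolynomial W4c1hilbpn SimpleGraph

variable {n : ℕ} {k : Type*} [Field k] {I : Ideal (MvPolynomial (Fin n) k)}

/-- the quotient by an ideal with finitely many standard monomials is finite-dimensional. -/
theorem finite_quot_of_finite_compl (hfin : Set.Finite {δ : Fin n →₀ ℕ | δ ∉ exps I}) :
    Module.Finite k (MvPolynomial (Fin n) k ⧸ I) := by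
  classical
  refine ⟨⟨hfin.toFinset.image (fun δ => Ideal.Quotient.mk I (monomial δ (1 : k))), ?_⟩⟩
  rw [eq_top_iff]
  intro f _
  obtain ⟨p, rfl⟩ := Ideal.Quotient.mk_surjective f
  have h1 : p = ∑ δ ∈ p.support, coeff δ p • monomial δ (1 : k) := by
    conv_lhs => rw [← MvPolynomial.support_sum_monomial_coeff p]
    refine Finset.sum_congr rfl fun δ _ => ?_
    rw [smul_monomial, smul_eq_mul, mul_one]
  have h2 : Ideal.Quotient.mk I p =
      ∑ δ ∈ p.support, coeff δ p • Ideal.Quotient.mk I (monomial δ (1 : k)) := by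
    conv_lhs => rw [h1]
    rw [map_sum]
    refine Finset.sum_congr rfl fun δ _ => ?_
    rw [← Ideal.Quotient.mkₐ_eq_mk k, map_smul]
  rw [h2]
  refine Submodule.sum_mem _ fun δ _ => ?_
  by_cases hδ : δ ∈ exps I
  · rw [mk_monomial_eq_zero hδ, smul_zero]; exact Submodule.zero_mem _
  · apply Submodule.smul_mem
    apply Submodule.subset_span
    rw [Finset.coe_image]
    exact ⟨δ, by simpa using hδ, rfl⟩

theorem finite_quot_mpow (r : ℕ) : Module.Finite k (MvPolynomial (Fin n) k ⧸ mpow n k r) := by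
  classical
  apply finite_quot_of_finite_compl
  refine Set.Finite.subset (Finset.finite_toSet ((Finset.range r).biUnion
    fun m => (Finset.univ : Finset (Fin n)).finsuppAntidiag m)) ?_
  intro δ hδ
  rw [Set.mem_ofPred_eq, mem_exps_mpow, not_le] at hδ
  rw [Finset.mem_coe, Finset.mem_biUnion]
  refine ⟨dg δ, Finset.mem_range.2 hδ, ?_⟩
  rw [Finset.mem_finsuppAntidiag]
  exact ⟨rfl, Finset.subset_univ _⟩

variable (hI : IsMonomial I)

include hI in
theorem finite_Tgt [Module.Finite k (MvPolynomial (Fin n) k ⧸ I)] : Module.Finite k (Tgt I) := by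
  classical
  obtain ⟨G, hG, hG'⟩ := exists_gens hI
  let ev : Tgt I →ₗ[k] (↥G → MvPolynomial (Fin n) k ⧸ I) :=
    { toFun := fun φ β => φ (monI (hG β.1 β.2))
      map_add' := fun _ _ => rfl
      map_smul' := fun _ _ => rfl }
  have hinj : Function.Injective ev := by
    intro φ ψ h
    apply ext_of_gens hI hG hG'
    intro β hβ
    exact congrFun h ⟨β, hβ⟩
  exact Module.Finite.of_injective ev hinj

include hI in
theorem disjoint_tPiece_biSup (a : Fin n → ℤ) (B : Finset (Fin n → ℤ)) (ha : a ∉ B) :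
    Disjoint (tPiece I a) (⨆ α ∈ B, tPiece I α) := by
  rw [Submodule.disjoint_def]
  intro φ h1 h2
  have e1 := comp_of_mem a hI h1
  have hle : (⨆ α ∈ B, tPiece I α) ≤ LinearMap.ker (comp a hI) := by
    refine iSup₂_le fun α hα φ hφ => ?_
    rw [LinearMap.mem_ker]
    exact comp_of_mem_ne a hI (ne_of_mem_of_not_mem hα ha) hφ
  have e2 : comp a hI φ = 0 := hle h2
  rw [← e1, e2]

include hI in
theorem finrank_biSup_tPiece [Module.Finite k (Tgt I)] (B : Finset (Fin n → ℤ)) :
    Module.finrank k ↥(⨆ α ∈ B, tPiece I α) = ∑ α ∈ B, Module.finrank k ↥(tPiece I α) := by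
  classical
  induction B using Finset.induction_on with
  | empty =>
    simp
  | insert a B ha ih =>
    rw [Finset.iSup_insert, Finset.sum_insert ha, ← ih]
    have h1 := Submodule.finrank_sup_add_finrank_inf_eq (tPiece I a) (⨆ α ∈ B, tPiece I α)
    rw [(disjoint_tPiece_biSup hI a B ha).eq_bot, finrank_bot, add_zero] at h1
    exact h1

include hI in
/-- the dimension of the span of the graded pieces with degrees in `A`, when all nonzero ones lie
in the finite set `B ⊆ A`. -/
theorem finrank_iSup_tPiece [Module.Finite k (Tgt I)] (A : Set (Fin n → ℤ))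
    (B : Finset (Fin n → ℤ)) (hBA : ∀ α ∈ B, α ∈ A)
    (hB : ∀ α ∈ A, α ∉ B → tPiece I α = ⊥) :
    Module.finrank k ↥(⨆ α : {α : Fin n → ℤ // α ∈ A}, tPiece I α.1) =
      ∑ α ∈ B, Module.finrank k ↥(tPiece I α) := by
  classical
  have : (⨆ α : {α : Fin n → ℤ // α ∈ A}, tPiece I α.1) = ⨆ α ∈ B, tPiece I α := by
    apply le_antisymm
    · refine iSup_le fun α => ?_
      by_cases h : α.1 ∈ B
      · exact le_biSup (fun α => tPiece I α) h
      · rw [hB α.1 α.2 h]; exact bot_le
    · refine iSup₂_le fun α hα => ?_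
      exact le_iSup (fun α : {α : Fin n → ℤ // α ∈ A} => tPiece I α.1) ⟨α, hBA α hα⟩
  rw [this, finrank_biSup_tPiece hI]

include hI in
theorem finrank_Tgt [Module.Finite k (MvPolynomial (Fin n) k ⧸ I)]
    (B : Finset (Fin n → ℤ)) (hB : ∀ α, α ∉ B → tPiece I α = ⊥) :
    Module.finrank k (Tgt I) = ∑ α ∈ B, Module.finrank k ↥(tPiece I α) := by
  classical
  have := finite_Tgt hI
  have h1 := finrank_iSup_tPiece hI Set.univ B (fun _ _ => Set.mem_univ _) (fun α _ h => hB α h)
  rw [← h1]
  have h2 : (⨆ α : {α : Fin n → ℤ // α ∈ Set.univ}, tPiece I α.1) = ⊤ := by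
    rw [eq_top_iff, ← iSup_tPiece_eq_top hI]
    refine iSup_le fun α => ?_
    exact le_iSup (fun α : {α : Fin n → ℤ // α ∈ Set.univ} => tPiece I α.1) ⟨α, Set.mem_univ _⟩
  rw [h2, finrank_top]

end Groth.Agent.H10.TP
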