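import Mathlib
import Groth.Agent.H10.TP15

/-!
# Three variables: the sign-pattern pieces of `T(m^r)`
-/

set_option autoImplicit false

namespace Groth.Agent.H10.TP

open MvPolynomial W4c1hilbpn SimpleGraph

/-- a convolution identity for binomial coefficients. -/
theorem conv_identity : ∀ (j r : ℕ),
    ∑ w ∈ Finset.range (r + 1), w * Nat.choose (r - w + j) j = Nat.choose (r + j + 1) (j + 2)
  | 0, r => by
    simp only [add_zero, Nat.choose_zero_right, mul_one, zero_add]
    rw [Finset.sum_range_id, Nat.choose_two_right]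
  | j + 1, 0 => by
    simp
  | j + 1, r + 1 => by
    have ihj := conv_identity j (r + 1)
    have ihr := conv_identity (j + 1) r
    rw [Finset.sum_range_succ]
    have h1 : ∀ w ∈ Finset.range (r + 1), w * Nat.choose (r + 1 - w + (j + 1)) (j + 1) =
        w * Nat.choose (r + 1 - w + j) j + w * Nat.choose (r - w + (j + 1)) (j + 1) := by
      intro w hw
      rw [Finset.mem_range] at hw
      have e : r + 1 - w + (j + 1) = (r - w + (j + 1)) + 1 := by omega
      have e' : r + 1 - w + j = r - w + (j + 1) := by omega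
      rw [e, Nat.choose_succ_succ, e', mul_add]
    rw [Finset.sum_congr rfl h1, Finset.sum_add_distrib, ihr]
    rw [Finset.sum_range_succ] at ihj
    have e5 : Nat.choose (r + 1 + (j + 1) + 1) (j + 1 + 2) =
        Nat.choose (r + (j + 1) + 1) (j + 2) + Nat.choose (r + (j + 1) + 1) (j + 1 + 2) := by
      have : r + 1 + (j + 1) + 1 = (r + (j + 1) + 1) + 1 := by omega
      rw [this]; exact Nat.choose_succ_succ' _ _
    rw [e5]
    simp only [Nat.sub_self, zero_add, Nat.choose_self, mul_one] at ihj ⊢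
    have e4 : r + 1 + j + 1 = r + (j + 1) + 1 := by omega
    rw [e4] at ihj
    omega

/-- a vector with prescribed entries at `i`, `i+1`, `i+2`. -/
def V (i : Fin 3) (x y z : ℤ) : Fin 3 → ℤ :=
  fun j => if j = i then x else if j = i + 1 then y else z

theorem succ_ne (i : Fin 3) : i + 1 ≠ i := by revert i; decide
theorem succ2_ne (i : Fin 3) : i + 2 ≠ i := by revert i; decide
theorem succ2_ne_succ (i : Fin 3) : i + 2 ≠ i + 1 := by revert i; decide
theorem cover3 (i j : Fin 3) : j = i ∨ j = i + 1 ∨ j = i + 2 := by revert i j; decide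

theorem V_self (i : Fin 3) (x y z : ℤ) : V i x y z i = x := by simp [V]
theorem V_succ (i : Fin 3) (x y z : ℤ) : V i x y z (i + 1) = y := by
  simp [V]
theorem V_succ2 (i : Fin 3) (x y z : ℤ) : V i x y z (i + 2) = z := by
  simp [V]

theorem sum3 {M : Type*} [AddCommMonoid M] (f : Fin 3 → M) (i : Fin 3) :
    ∑ j, f j = f i + f (i + 1) + f (i + 2) := by
  fin_cases i
  · simp [Fin.sum_univ_three]
  · simp only [Fin.sum_univ_three]
    change f 0 + f 1 + f 2 = f 1 + f 2 + f 0
    abel
  · simp only [Fin.sum_univ_three]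
    change f 0 + f 1 + f 2 = f 2 + f 0 + f 1
    abel

theorem eq_V (α : Fin 3 → ℤ) (i : Fin 3) : α = V i (α i) (α (i + 1)) (α (i + 2)) := by
  funext j
  rcases cover3 i j with rfl | rfl | rfl
  · rw [V_self]
  · rw [V_succ]
  · rw [V_succ2]

theorem V_congr (i : Fin 3) {x y z x' y' z' : ℤ} (hx : x = x') (hy : y = y') (hz : z = z') :
    V i x y z = V i x' y' z' := by rw [hx, hy, hz]

theorem sum_V (i : Fin 3) (x y z : ℤ) : ∑ j, V i x y z j = x + y + z := by
  rw [sum3 _ i, V_self, V_succ, V_succ2]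

theorem sumw_V (i : Fin 3) (x y z : ℤ) :
    ∑ j, (-(V i x y z j)).toNat = (-x).toNat + (-y).toNat + (-z).toNat := by
  rw [sum3 _ i, V_self, V_succ, V_succ2]

/-- degrees negative exactly at `i`, with nonzero piece. -/
noncomputable def B1 (i : Fin 3) (r : ℕ) : Finset (Fin 3 → ℤ) := by
  classical
  exact ((Finset.range r).sigma (fun w => Finset.range (w + 1))).image
    (fun p => V i (-((p.1 : ℤ) + 1)) (p.2 : ℤ) ((p.1 : ℤ) - (p.2 : ℤ)))

/-- degrees negative exactly off `i`, with nonzero piece. -/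
noncomputable def B2 (i : Fin 3) (r : ℕ) : Finset (Fin 3 → ℤ) := by
  classical
  exact ((Finset.range r).sigma (fun w => Finset.range w)).image
    (fun p => V i (p.1 : ℤ) (-((p.2 : ℤ) + 1)) (-((p.1 : ℤ) - (p.2 : ℤ))))

theorem mem_B1 (i : Fin 3) (r : ℕ) (α : Fin 3 → ℤ) :
    α ∈ B1 i r ↔ (∀ j, α j < 0 ↔ j = i) ∧ ∑ j, α j = -1 ∧ ∑ j, (-α j).toNat ≤ r := by
  classical
  unfold B1
  rw [Finset.mem_image]
  constructor
  · rintro ⟨⟨w, a⟩, hp, rfl⟩
    rw [Finset.mem_sigma, Finset.mem_range, Finset.mem_range] at hp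
    obtain ⟨hw, ha⟩ := hp
    change w < r at hw
    change a < w + 1 at ha
    refine ⟨fun j => ?_, ?_, ?_⟩
    · rcases cover3 i j with rfl | rfl | rfl
      · rw [V_self]; constructor
        · intro _; rfl
        · intro _; omega
      · rw [V_succ]; constructor
        · intro h; omega
        · intro h; exact absurd h (succ_ne _)
      · rw [V_succ2]; constructor
        · intro h; change ((w : ℤ) - (a : ℤ)) < 0 at h; omega
        · intro h; exact absurd h (succ2_ne _)
    · rw [sum_V]; change -((w : ℤ) + 1) + (a : ℤ) + ((w : ℤ) - (a : ℤ)) = -1; ring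
    · rw [sumw_V]
      change (-(-((w : ℤ) + 1))).toNat + (-(a : ℤ)).toNat + (-((w : ℤ) - (a : ℤ))).toNat ≤ r
      omega
  · rintro ⟨hpat, hs, hw⟩
    have h0 : α i < 0 := (hpat i).2 rfl
    have h1 : ¬ α (i + 1) < 0 := fun h => succ_ne i ((hpat _).1 h)
    have h2 : ¬ α (i + 2) < 0 := fun h => succ2_ne i ((hpat _).1 h)
    rw [sum3 _ i] at hs hw
    refine ⟨⟨(-α i).toNat - 1, (α (i + 1)).toNat⟩, ?_, ?_⟩
    · rw [Finset.mem_sigma, Finset.mem_range, Finset.mem_range]
      change (-α i).toNat - 1 < r ∧ (α (i + 1)).toNat < (-α i).toNat - 1 + 1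
      omega
    · refine (V_congr i ?_ ?_ ?_).trans (eq_V α i).symm
      · change -((((-α i).toNat - 1 : ℕ) : ℤ) + 1) = α i
        omega
      · change (((α (i + 1)).toNat : ℕ) : ℤ) = α (i + 1)
        omega
      · change (((-α i).toNat - 1 : ℕ) : ℤ) - (((α (i + 1)).toNat : ℕ) : ℤ) = α (i + 2)
        omega

theorem mem_B2 (i : Fin 3) (r : ℕ) (α : Fin 3 → ℤ) :
    α ∈ B2 i r ↔ (∀ j, α j < 0 ↔ j ≠ i) ∧ ∑ j, α j = -1 ∧ ∑ j, (-α j).toNat ≤ r := by
  classical
  unfold B2
  rw [Finset.mem_image]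
  constructor
  · rintro ⟨⟨w, a⟩, hp, rfl⟩
    rw [Finset.mem_sigma, Finset.mem_range, Finset.mem_range] at hp
    obtain ⟨hw, ha⟩ := hp
    change w < r at hw
    change a < w at ha
    refine ⟨fun j => ?_, ?_, ?_⟩
    · rcases cover3 i j with rfl | rfl | rfl
      · rw [V_self]; constructor
        · intro h; change (w : ℤ) < 0 at h; omega
        · intro h; exact absurd rfl h
      · rw [V_succ]; constructor
        · intro _; exact succ_ne _
        · intro _; omega
      · rw [V_succ2]; constructor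
        · intro _; exact succ2_ne _
        · intro _; change -((w : ℤ) - (a : ℤ)) < 0; omega
    · rw [sum_V]; change (w : ℤ) + -((a : ℤ) + 1) + -((w : ℤ) - (a : ℤ)) = -1; ring
    · rw [sumw_V]
      change (-(w : ℤ)).toNat + (-(-((a : ℤ) + 1))).toNat + (-(-((w : ℤ) - (a : ℤ)))).toNat ≤ r
      omega
  · rintro ⟨hpat, hs, hw⟩
    have h0 : ¬ α i < 0 := fun h => (hpat i).1 h rfl
    have h1 : α (i + 1) < 0 := (hpat _).2 (succ_ne i)
    have h2 : α (i + 2) < 0 := (hpat _).2 (succ2_ne i)
    rw [sum3 _ i] at hs hw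
    refine ⟨⟨(α i).toNat, (-α (i + 1)).toNat - 1⟩, ?_, ?_⟩
    · rw [Finset.mem_sigma, Finset.mem_range, Finset.mem_range]
      change (α i).toNat < r ∧ (-α (i + 1)).toNat - 1 < (α i).toNat
      omega
    · refine (V_congr i ?_ ?_ ?_).trans (eq_V α i).symm
      · change (((α i).toNat : ℕ) : ℤ) = α i
        omega
      · change -((((-α (i + 1)).toNat - 1 : ℕ) : ℤ) + 1) = α (i + 1)
        omega
      · change -((((α i).toNat : ℕ) : ℤ) - (((-α (i + 1)).toNat - 1 : ℕ) : ℤ)) = α (i + 2)
        omega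

section sums

variable {k : Type*} [Field k]

theorem finrank_V1 (i : Fin 3) {r w a : ℕ} (hw : w < r) (ha : a < w + 1) :
    Module.finrank k ↥(tPiece (mpow 3 k r) (V i (-((w : ℤ) + 1)) (a : ℤ) ((w : ℤ) - (a : ℤ)))) =
      Nat.choose (r + 1 - w) 2 := by
  have e : (-(-((w : ℤ) + 1))).toNat + (-(a : ℤ)).toNat + (-((w : ℤ) - (a : ℤ))).toNat = w + 1 := by
    omega
  rw [finrank_tPiece_mpow (by norm_num), sum_V, sumw_V, e, if_pos ⟨by ring, by omega⟩]
  congr 1
  omega

theorem finrank_V2 (i : Fin 3) {r w a : ℕ} (hw : w < r) (ha : a < w) :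
    Module.finrank k ↥(tPiece (mpow 3 k r) (V i (w : ℤ) (-((a : ℤ) + 1)) (-((w : ℤ) - (a : ℤ))))) =
      Nat.choose (r + 1 - w) 2 := by
  have e : (-(w : ℤ)).toNat + (-(-((a : ℤ) + 1))).toNat + (-(-((w : ℤ) - (a : ℤ)))).toNat =
      w + 1 := by
    omega
  rw [finrank_tPiece_mpow (by norm_num), sum_V, sumw_V, e, if_pos ⟨by ring, by omega⟩]
  congr 1
  omega

theorem sum_B1 (i : Fin 3) (r : ℕ) :
    ∑ α ∈ B1 i r, Module.finrank k ↥(tPiece (mpow 3 k r) α) = Nat.choose (r + 3) 4 := by
  classical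
  unfold B1
  rw [Finset.sum_image]
  · rw [Finset.sum_sigma]
    have h1 : ∀ w ∈ Finset.range r, ∑ a ∈ Finset.range (w + 1),
        Module.finrank k ↥(tPiece (mpow 3 k r) (V i (-((w : ℤ) + 1)) (a : ℤ) ((w : ℤ) - (a : ℤ)))) =
        (w + 1) * Nat.choose (r - (w + 1) + 2) 2 := by
      intro w hw
      rw [Finset.mem_range] at hw
      rw [Finset.sum_congr rfl (fun a ha => finrank_V1 i hw (Finset.mem_range.1 ha)),
        Finset.sum_const, Finset.card_range, smul_eq_mul]
      congr 2
      omega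
    rw [Finset.sum_congr rfl h1]
    have h2 := conv_identity 2 r
    rw [Finset.sum_range_succ'] at h2
    simpa using h2
  · rintro ⟨w, a⟩ _ ⟨w', a'⟩ _ h
    have h1 := congrFun h i
    have h2 := congrFun h (i + 1)
    dsimp only at h1 h2
    rw [V_self, V_self] at h1
    rw [V_succ, V_succ] at h2
    have e1 : w = w' := by omega
    have e2 : a = a' := by omega
    subst e1 e2
    rfl

theorem sum_B2 (i : Fin 3) (r : ℕ) :
    ∑ α ∈ B2 i r, Module.finrank k ↥(tPiece (mpow 3 k r) α) = Nat.choose (r + 2) 4 := by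
  classical
  unfold B2
  rw [Finset.sum_image]
  · rw [Finset.sum_sigma]
    rcases Nat.eq_zero_or_pos r with hr | hr
    · subst hr; simp [Nat.choose_eq_zero_of_lt]
    have h1 : ∀ w ∈ Finset.range r, ∑ a ∈ Finset.range w,
        Module.finrank k ↥(tPiece (mpow 3 k r)
          (V i (w : ℤ) (-((a : ℤ) + 1)) (-((w : ℤ) - (a : ℤ))))) =
        w * Nat.choose (r - 1 - w + 2) 2 := by
      intro w hw
      rw [Finset.mem_range] at hw
      rw [Finset.sum_congr rfl (fun a ha => finrank_V2 i hw (Finset.mem_range.1 ha)),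
        Finset.sum_const, Finset.card_range, smul_eq_mul]
      congr 2
      omega
    rw [Finset.sum_congr rfl h1]
    have h2 := conv_identity 2 (r - 1)
    have e : r - 1 + 1 = r := by omega
    rw [e] at h2
    rw [h2]
    congr 1
    omega
  · rintro ⟨w, a⟩ _ ⟨w', a'⟩ _ h
    have h1 := congrFun h i
    have h2 := congrFun h (i + 1)
    dsimp only at h1 h2
    rw [V_self, V_self] at h1
    rw [V_succ, V_succ] at h2
    have e1 : w = w' := by omega
    have e2 : a = a' := by omega
    subst e1 e2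
    rfl

end sums

section total

variable {k : Type*} [Field k]

theorem twentyfour_choose_four (m : ℕ) :
    24 * Nat.choose (m + 3) 4 = m * (m + 1) * (m + 2) * (m + 3) := by
  have := Nat.descFactorial_eq_factorial_mul_choose (m + 3) 4
  simp [Nat.descFactorial, Nat.factorial] at this
  rw [← this]
  ring

theorem two_choose_two (m : ℕ) : 2 * Nat.choose (m + 1) 2 = m * (m + 1) := by
  have := Nat.descFactorial_eq_factorial_mul_choose (m + 1) 2
  simp [Nat.descFactorial, Nat.factorial] at this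
  rw [← this]

theorem choose_identity (r : ℕ) :
    3 * (Nat.choose (r + 3) 4 + Nat.choose (r + 2) 4) =
      Nat.choose (r + 2) 2 * Nat.choose (r + 1) 2 := by
  cases r with
  | zero => decide
  | succ m =>
    have a := twentyfour_choose_four (m + 1)
    have b := twentyfour_choose_four m
    have c := two_choose_two (m + 2)
    have d := two_choose_two (m + 1)
    have e1 : m + 1 + 3 = m + 4 := by omega
    have e2 : m + 1 + 2 = m + 3 := by omega
    have e3 : m + 1 + 1 = m + 2 := by omega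
    have e4 : m + 2 + 1 = m + 3 := by omega
    rw [e1] at a
    rw [e4] at c
    rw [e3] at d
    rw [e1, e2, e3]
    zify at a b c d ⊢
    have cd : (2 * ((m + 3).choose 2 : ℤ)) * (2 * ((m + 2).choose 2 : ℤ)) =
        (((m : ℤ) + 2) * ((m : ℤ) + 2 + 1)) * (((m : ℤ) + 1) * ((m : ℤ) + 1 + 1)) := by
      rw [c, d]; ring
    have h24 : (24 : ℤ) * (3 * (((m + 4).choose 4 : ℤ) + ((m + 3).choose 4 : ℤ))) =
        24 * (((m + 3).choose 2 : ℤ) * ((m + 2).choose 2 : ℤ)) := by
      linear_combination 3 * a + 3 * b - 6 * cd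
    exact mul_left_cancel₀ (by norm_num : (24 : ℤ) ≠ 0) h24

/-- the sign pattern attached to an index and a flag. -/
def Pat (x : Fin 3 × Bool) (j : Fin 3) : Prop := if x.2 then j ≠ x.1 else j = x.1

instance (x : Fin 3 × Bool) (j : Fin 3) : Decidable (Pat x j) := by
  unfold Pat; infer_instance

theorem Pat_injective : ∀ x y : Fin 3 × Bool, (∀ j, Pat x j ↔ Pat y j) → x = y := by
  decide

/-- all degrees with nonzero piece, by sign pattern. -/
noncomputable def BB (r : ℕ) (x : Fin 3 × Bool) : Finset (Fin 3 → ℤ) :=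
  if x.2 then B2 x.1 r else B1 x.1 r

theorem mem_BB (r : ℕ) (x : Fin 3 × Bool) (α : Fin 3 → ℤ) :
    α ∈ BB r x ↔ (∀ j, α j < 0 ↔ Pat x j) ∧ ∑ j, α j = -1 ∧ ∑ j, (-α j).toNat ≤ r := by
  obtain ⟨i, b⟩ := x
  cases b
  · simp only [BB, Pat, Bool.false_eq_true, if_false]
    exact mem_B1 i r α
  · simp only [BB, Pat, if_true]
    exact mem_B2 i r α

theorem pattern_exists (α : Fin 3 → ℤ) (hs : ∑ j, α j = -1) :
    ∃ x : Fin 3 × Bool, ∀ j, α j < 0 ↔ Pat x j := by
  rw [Fin.sum_univ_three] at hs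
  by_cases h0 : α 0 < 0 <;> by_cases h1 : α 1 < 0 <;> by_cases h2 : α 2 < 0
  · exfalso; omega
  · exact ⟨(2, true), by intro j; fin_cases j <;> simp [Pat, h0, h1, h2]⟩
  · exact ⟨(1, true), by intro j; fin_cases j <;> simp [Pat, h0, h1, h2]⟩
  · exact ⟨(0, false), by intro j; fin_cases j <;> simp [Pat, h0, h1, h2]⟩
  · exact ⟨(0, true), by intro j; fin_cases j <;> simp [Pat, h0, h1, h2]⟩
  · exact ⟨(1, false), by intro j; fin_cases j <;> simp [Pat, h0, h1, h2]⟩
  · exact ⟨(2, false), by intro j; fin_cases j <;> simp [Pat, h0, h1, h2]⟩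
  · exfalso; omega

theorem main_mpow3 (r : ℕ) (i : Fin 3) :
    Module.finrank k ↥(sigPiece (mpow 3 k r) {i}) = Nat.choose (r + 3) 4 ∧
      Module.finrank k ↥(sigPiece (mpow 3 k r) ({i}ᶜ : Set (Fin 3))) = Nat.choose (r + 2) 4 ∧
      Module.finrank k (Tgt (mpow 3 k r)) = Nat.choose (r + 2) 2 * Nat.choose (r + 1) 2 := by
  classical
  have hM := isMonomial_mpow (n := 3) (k := k) r
  have hfq : Module.Finite k (MvPolynomial (Fin 3) k ⧸ mpow 3 k r) := finite_quot_mpow r
  have hfT : Module.Finite k (Tgt (mpow 3 k r)) := finite_Tgt hM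
  have hbot : ∀ α : Fin 3 → ℤ, ¬ (∑ j, α j = -1 ∧ ∑ j, (-α j).toNat ≤ r) →
      tPiece (mpow 3 k r) α = ⊥ := fun α h => tPiece_mpow_eq_bot (by norm_num) h
  refine ⟨?_, ?_, ?_⟩
  · have h := finrank_iSup_tPiece hM {α : Fin 3 → ℤ | ∀ j, α j < 0 ↔ j ∈ ({i} : Set (Fin 3))}
      (B1 i r) ?_ ?_
    · rw [← sum_B1 (k := k) i r, ← h]
      rfl
    · intro α hα
      intro j
      rw [((mem_B1 i r α).1 hα).1 j, Set.mem_singleton_iff]
    · intro α hα hnot
      apply hbot
      intro hc
      apply hnot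
      rw [mem_B1]
      exact ⟨fun j => by rw [hα j, Set.mem_singleton_iff], hc⟩
  · have h := finrank_iSup_tPiece hM
      {α : Fin 3 → ℤ | ∀ j, α j < 0 ↔ j ∈ ({i}ᶜ : Set (Fin 3))} (B2 i r) ?_ ?_
    · rw [← sum_B2 (k := k) i r, ← h]
      rfl
    · intro α hα
      intro j
      rw [((mem_B2 i r α).1 hα).1 j, Set.mem_compl_singleton_iff]
    · intro α hα hnot
      apply hbot
      intro hc
      apply hnot
      rw [mem_B2]
      exact ⟨fun j => by rw [hα j, Set.mem_compl_singleton_iff], hc⟩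
  · rw [finrank_Tgt hM ((Finset.univ : Finset (Fin 3 × Bool)).biUnion (BB r))]
    · rw [Finset.sum_biUnion]
      · have h1 : ∀ x : Fin 3 × Bool,
            ∑ α ∈ BB r x, Module.finrank k ↥(tPiece (mpow 3 k r) α) =
              if x.2 then Nat.choose (r + 2) 4 else Nat.choose (r + 3) 4 := by
          rintro ⟨i, b⟩
          cases b
          · simp only [BB, Bool.false_eq_true, if_false]; exact sum_B1 i r
          · simp only [BB, if_true]; exact sum_B2 i r
        rw [Finset.sum_congr rfl (fun x _ => h1 x), ← choose_identity]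
        simp [Fintype.sum_prod_type]
        ring
      · intro x _ y _ hxy
        rw [Function.onFun, Finset.disjoint_left]
        intro α hx hy
        apply hxy
        apply Pat_injective
        intro j
        rw [← ((mem_BB r x α).1 hx).1 j, ← ((mem_BB r y α).1 hy).1 j]
    · intro α hnot
      apply hbot
      intro hc
      apply hnot
      obtain ⟨x, hx⟩ := pattern_exists α hc.1
      rw [Finset.mem_biUnion]
      exact ⟨x, Finset.mem_univ _, (mem_BB r x α).2 ⟨hx, hc⟩⟩

end total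

end Groth.Agent.H10.TP
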