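import Mathlib
import Groth.Agent.H10.TP16

/-!
# Staircase heights in three variables
-/

set_option autoImplicit false

namespace Groth.Agent.H10.TP

open MvPolynomial W4c1hilbpn SimpleGraph

variable {k : Type*} [Field k] {I : Ideal (MvPolynomial (Fin 3) k)}

theorem e3_injective_third (a b : ℕ) : Function.Injective (fun c => e3 a b c) := by
  intro c c' h
  have := congrArg (fun δ : Fin 3 →₀ ℕ => δ 2) h
  simpa [e3_two] using this

theorem e3_le_e3 {a b c a' b' c' : ℕ} (ha : a ≤ a') (hb : b ≤ b') (hc : c ≤ c') :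
    e3 a b c ≤ e3 a' b' c' := by
  rw [le_iff3]; exact ⟨ha, hb, hc⟩

/-- a finite down-closed set of naturals is an initial segment. -/
theorem downclosed_eq_Iio {Z : Set ℕ} (hfin : Z.Finite) (hdown : ∀ c ∈ Z, ∀ c' ≤ c, c' ∈ Z) :
    ∀ c, c ∈ Z ↔ c < Nat.card Z := by
  classical
  have hex : ∃ N, N ∉ Z := by
    by_contra h
    push Not at h
    exact Set.infinite_univ (hfin.subset (fun c _ => h c))
  set N := Nat.find hex with hN
  have h1 : ∀ c, c ∈ Z ↔ c < N := by
    intro c
    constructor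
    · intro hc
      by_contra hle
      push Not at hle
      exact Nat.find_spec hex (hdown c hc N hle)
    · intro hc
      by_contra hnot
      exact Nat.find_min hex hc hnot
  have h2 : Z = Set.Iio N := by ext c; rw [h1, Set.mem_Iio]
  have h3 : Nat.card Z = N := by
    rw [h2, Nat.card_eq_fintype_card, Fintype.card_ofFinset]
    simp
  rw [h3]
  exact h1

variable (hI : IsMonomial I) [Module.Finite k (MvPolynomial (Fin 3) k ⧸ I)]

include hI in
/-- the staircase number is the height of the column. -/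
theorem mem_exps_e3_iff (a b c : ℕ) : e3 a b c ∈ exps I ↔ stairZ I a b ≤ c := by
  have hfin : {c : ℕ | e3 a b c ∉ exps I}.Finite :=
    Set.Finite.of_injOn (f := fun c => e3 a b c) (t := {δ : Fin 3 →₀ ℕ | δ ∉ exps I})
      (fun c hc => hc) (fun c _ c' _ h => e3_injective_third a b h) (finite_compl_exps hI)
  have hdown : ∀ c ∈ {c : ℕ | e3 a b c ∉ exps I}, ∀ c' ≤ c, c' ∈ {c : ℕ | e3 a b c ∉ exps I} := by
    intro c hc c' hle h'
    exact hc (exps_of_le I h' (e3_le_e3 le_rfl le_rfl hle))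
  have h := downclosed_eq_Iio hfin hdown c
  have h' : e3 a b c ∉ exps I ↔ c < stairZ I a b := h
  rw [← not_lt, ← h', not_not]

include hI in
theorem stairZ_anti {a b a' b' : ℕ} (ha : a ≤ a') (hb : b ≤ b') :
    stairZ I a' b' ≤ stairZ I a b := by
  rw [← mem_exps_e3_iff hI]
  exact exps_of_le I ((mem_exps_e3_iff hI a b _).2 le_rfl) (e3_le_e3 ha hb le_rfl)

include hI in
theorem stairZ_eq_zero_left {A : ℕ} (hA : Finsupp.single (0 : Fin 3) A ∈ exps I) {a b : ℕ}
    (ha : A ≤ a) : stairZ I a b = 0 := by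
  have : e3 a b 0 ∈ exps I := exps_of_le I hA (by
    rw [le_iff3]; simp [e3_zero, ha])
  exact Nat.le_zero.1 ((mem_exps_e3_iff hI a b 0).1 this)

include hI in
theorem stairZ_eq_zero_right {B : ℕ} (hB : Finsupp.single (1 : Fin 3) B ∈ exps I) {a b : ℕ}
    (hb : B ≤ b) : stairZ I a b = 0 := by
  have : e3 a b 0 ∈ exps I := exps_of_le I hB (by
    rw [le_iff3]; simp [e3_one, hb])
  exact Nat.le_zero.1 ((mem_exps_e3_iff hI a b 0).1 this)

theorem eq_e3 (δ : Fin 3 →₀ ℕ) : δ = e3 (δ 0) (δ 1) (δ 2) := by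
  apply ext3 <;> simp [e3_zero, e3_one, e3_two]

end Groth.Agent.H10.TP
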