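import Mathlib
import Groth.Agent.H10.TP17

/-!
# Distinguished points of bounded components in degrees `(a1, a2, -m)`
-/

set_option autoImplicit false

namespace Groth.Agent.H10.TP

open MvPolynomial W4c1hilbpn SimpleGraph

section general

variable {n : ℕ} {k : Type*} [Field k] {I : Ideal (MvPolynomial (Fin n) k)} {α : Fin n → ℤ}

theorem bet_add (v : ↥(region I α)) (j : Fin n) : ((bet α v j : ℕ) : ℤ) + α j = v.1 j := by
  rw [← pt_bet α v]; rfl

end general

variable {k : Type*} [Field k] {I : Ideal (MvPolynomial (Fin 3) k)}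

/-- the degree `(a1, a2, -m)`. -/
def am (a1 a2 m : ℕ) : Fin 3 → ℤ := ![(a1 : ℤ), (a2 : ℤ), -(m : ℤ)]

theorem am_zero (a1 a2 m : ℕ) : am a1 a2 m 0 = a1 := rfl
theorem am_one (a1 a2 m : ℕ) : am a1 a2 m 1 = a2 := rfl
theorem am_two (a1 a2 m : ℕ) : am a1 a2 m 2 = -(m : ℤ) := rfl

/-- the key: first maximise `x + y`, then minimise `z`. -/
def key {α : Fin 3 → ℤ} (v : ↥(region I α)) : ℤ ×ₗ ℤ := toLex (v.1 0 + v.1 1, - v.1 2)

variable (hI : IsMonomial I) [Module.Finite k (MvPolynomial (Fin 3) k ⧸ I)]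

include hI in
theorem exists_dpt {α : Fin 3 → ℤ} (C : (GR I α).ConnectedComponent) (hC : Good C) :
    ∃ v : ↥(region I α), (GR I α).connectedComponentMk v = C ∧
      ∀ w : ↥(region I α), (GR I α).connectedComponentMk w = C → key w ≤ key v := by
  have hfin : C.supp.Finite := (good_iff_finite hI (by norm_num) C).1 hC
  have hne : C.supp.Nonempty := ⟨rep C, mk_rep C⟩
  obtain ⟨v, hv, hmax⟩ := Set.exists_max_image C.supp key hfin hne
  exact ⟨v, hv, fun w hw => hmax w hw⟩

include hI in
/-- the properties of a key-maximal point of a bounded component. -/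
theorem dpt_facts {α : Fin 3 → ℤ} {a1 a2 m : ℕ} (hα0 : α 0 = a1) (hα1 : α 1 = a2)
    (hα2 : α 2 = -(m : ℤ)) (hm : 1 ≤ m)
    (C : (GR I α).ConnectedComponent) (hC : Good C)
    (v : ↥(region I α)) (hv : (GR I α).connectedComponentMk v = C)
    (hmax : ∀ w : ↥(region I α),
      (GR I α).connectedComponentMk w = C → key w ≤ key v) :
    a1 ≤ tn v.1 0 ∧ a2 ≤ tn v.1 1 ∧ tn v.1 2 < stairZ I (tn v.1 0) (tn v.1 1) ∧
      stairZ I (tn v.1 0 + 1) (tn v.1 1) ≤ tn v.1 2 ∧
      stairZ I (tn v.1 0) (tn v.1 1 + 1) ≤ tn v.1 2 ∧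
      stairZ I (tn v.1 0 - a1) (tn v.1 1 - a2) = tn v.1 2 + m := by
  classical
  have hnn : nn v.1 := hC v hv
  have hb0 := bet_add v 0
  have hb1 := bet_add v 1
  have hb2 := bet_add v 2
  rw [hα0] at hb0
  rw [hα1] at hb1
  rw [hα2] at hb2
  have c0 := cast_tn hnn 0
  have c1 := cast_tn hnn 1
  have c2 := cast_tn hnn 2
  have hβ : bet α v ∈ exps I := bet_mem α v
  have hnot : tn v.1 ∉ exps I := tn_notMem α v hnn
  -- a step up in a direction `d ∈ {0, 1}` leaves the region
  have hup : ∀ d : Fin 3, (d = 0 ∨ d = 1) → tn v.1 + Finsupp.single d 1 ∈ exps I := by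
    intro d hd
    by_contra h
    have hmem : pt α (bet α v + Finsupp.single d 1) ∈ region I α := by
      apply pt_mem_region I α (exps_add I hβ _)
      rintro ⟨_, h2⟩
      apply h
      rw [pt_add_single, pt_bet, tn_add_ev hnn] at h2
      exact h2
    have hw1 : (⟨_, hmem⟩ : ↥(region I α)).1 = v.1 + ev d := by
      change pt α (bet α v + Finsupp.single d 1) = _
      rw [pt_add_single, pt_bet]
    have hadj : (GR I α).Adj v ⟨_, hmem⟩ := adj_of_eq_add hw1
    have hmk : (GR I α).connectedComponentMk ⟨_, hmem⟩ = C := by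
      rw [← hv]
      exact (ConnectedComponent.connectedComponentMk_eq_of_adj hadj).symm
    have hle := hmax _ hmk
    unfold key at hle
    rw [Prod.Lex.toLex_le_toLex, hw1] at hle
    simp only [Pi.add_apply, ev_apply] at hle
    rcases hd with rfl | rfl
    · simp at hle
    · simp at hle
  -- a step down in direction `2` leaves the region
  have hβ2 : 0 < bet α v 2 := by omega
  have hdown : bet α v - Finsupp.single 2 1 ∉ exps I := by
    intro h
    have hcancel : bet α v - Finsupp.single 2 1 + Finsupp.single 2 1 = bet α v :=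
      tsub_add_cancel_of_le (single_le_of_le hβ2)
    have hpt' : v.1 = pt α (bet α v - Finsupp.single 2 1) + ev 2 := by
      rw [← pt_add_single, hcancel, pt_bet]
    have hmem : pt α (bet α v - Finsupp.single 2 1) ∈ region I α := by
      apply pt_mem_region I α h
      rintro ⟨hnn', h2⟩
      apply hnot
      refine exps_of_le I h2 ?_
      intro j
      rw [tn_apply, tn_apply]
      apply Int.toNat_le_toNat
      rw [hpt']
      simp only [Pi.add_apply, ev_apply]
      split_ifs <;> omega
    have hadj : (GR I α).Adj ⟨_, hmem⟩ v := adj_of_eq_add hpt'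
    have hmk : (GR I α).connectedComponentMk ⟨_, hmem⟩ = C := by
      rw [← hv]
      exact ConnectedComponent.connectedComponentMk_eq_of_adj hadj
    have hle := hmax _ hmk
    unfold key at hle
    rw [Prod.Lex.toLex_le_toLex] at hle
    have e0 : pt α (bet α v - Finsupp.single 2 1) 0 = v.1 0 := by
      rw [hpt']; simp [ev_apply]
    have e1 : pt α (bet α v - Finsupp.single 2 1) 1 = v.1 1 := by
      rw [hpt']; simp [ev_apply]
    have e2 : pt α (bet α v - Finsupp.single 2 1) 2 + 1 = v.1 2 := by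
      rw [hpt']; simp [ev_apply]
    simp only at hle
    omega
  have hv_e3 : tn v.1 = e3 (tn v.1 0) (tn v.1 1) (tn v.1 2) := eq_e3 _
  have hβ_e3 : bet α v = e3 (bet α v 0) (bet α v 1) (bet α v 2) := eq_e3 _
  refine ⟨by omega, by omega, ?_, ?_, ?_, ?_⟩
  · rw [hv_e3, mem_exps_e3_iff hI] at hnot
    omega
  · have := hup 0 (Or.inl rfl)
    rw [hv_e3, e3_add_single0, mem_exps_e3_iff hI] at this
    exact this
  · have := hup 1 (Or.inr rfl)
    rw [hv_e3, e3_add_single1, mem_exps_e3_iff hI] at this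
    exact this
  · rw [hβ_e3, mem_exps_e3_iff hI] at hβ
    rw [hβ_e3, e3_sub_single2, mem_exps_e3_iff hI] at hdown
    have e0 : bet α v 0 = tn v.1 0 - a1 := by omega
    have e1 : bet α v 1 = tn v.1 1 - a2 := by omega
    have e2 : bet α v 2 = tn v.1 2 + m := by omega
    rw [← e0, ← e1]
    omega

end Groth.Agent.H10.TP
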