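import Mathlib
import Groth.Agent.H10.TP18

/-!
# The bound on `(+,+,-)` pieces by staircase corners
-/

set_option autoImplicit false

namespace Groth.Agent.H10.TP

open MvPolynomial W4c1hilbpn SimpleGraph

variable {k : Type*} [Field k] {I : Ideal (MvPolynomial (Fin 3) k)}

/-- the summand of the bound. -/
noncomputable def fSum (I : Ideal (MvPolynomial (Fin 3) k)) (a1 a2 : ℕ) (p : ℕ × ℕ) : ℕ :=
  if a1 ≤ p.1 ∧ a2 ≤ p.2
    then stairZ I p.1 p.2 - max (stairZ I (p.1 + 1) p.2) (stairZ I p.1 (p.2 + 1)) else 0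

/-- the fibre of corner heights over a column. -/
noncomputable def fibre (I : Ideal (MvPolynomial (Fin 3) k)) (a1 a2 : ℕ) (p : ℕ × ℕ) : Finset ℕ :=
  if a1 ≤ p.1 ∧ a2 ≤ p.2
    then Finset.Ico (max (stairZ I (p.1 + 1) p.2) (stairZ I p.1 (p.2 + 1))) (stairZ I p.1 p.2)
    else ∅

theorem card_fibre (a1 a2 : ℕ) (p : ℕ × ℕ) : (fibre I a1 a2 p).card = fSum I a1 a2 p := by
  unfold fibre fSum
  split_ifs
  · rw [Nat.card_Ico]
  · rfl

theorem am_injective (a1 a2 : ℕ) : Function.Injective (am a1 a2) := by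
  intro m m' h
  have := congrFun h 2
  rw [am_two, am_two] at this
  omega

/-- the corner points, as a finite set. -/
noncomputable def Sfin (I : Ideal (MvPolynomial (Fin 3) k)) (a1 a2 A0 B0 : ℕ) :
    Finset (Σ _ : ℕ × ℕ, ℕ) :=
  (Finset.range A0 ×ˢ Finset.range B0).sigma (fun p => fibre I a1 a2 p)

/-- the corner points attached to the degree `(a1, a2, -m)`. -/
noncomputable def Sm (I : Ideal (MvPolynomial (Fin 3) k)) (a1 a2 A0 B0 m : ℕ) :
    Finset (Σ _ : ℕ × ℕ, ℕ) := by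
  classical
  exact (Sfin I a1 a2 A0 B0).filter (fun s => stairZ I (s.1.1 - a1) (s.1.2 - a2) = s.2 + m)

variable (hI : IsMonomial I) [Module.Finite k (MvPolynomial (Fin 3) k ⧸ I)] (a1 a2 : ℕ)

include hI in
theorem tPiece_am_eq_bot {m : ℕ} (hm : stairZ I 0 0 < m) : tPiece I (am a1 a2 m) = ⊥ := by
  apply tPiece_eq_bot_of_walk_down hI (l := 2) (by rw [am_two]; omega)
  intro β hβ hnn
  have h2 := hnn 2
  simp only [pt_apply, am_two] at h2
  have hβ' : stairZ I (β 0) (β 1) ≤ β 2 := by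
    rw [← mem_exps_e3_iff hI, ← eq_e3]; exact hβ
  rw [eq_e3 β, e3_sub_single2, mem_exps_e3_iff hI]
  have := stairZ_anti hI (a := 0) (b := 0) (a' := β 0) (b' := β 1) (Nat.zero_le _) (Nat.zero_le _)
  omega

include hI in
/-- the number of bounded components in degree `(a1, a2, -m)` is at most the number of attached
corner points. -/
theorem card_good_le {A0 B0 : ℕ} (hA0 : Finsupp.single (0 : Fin 3) A0 ∈ exps I)
    (hB0 : Finsupp.single (1 : Fin 3) B0 ∈ exps I) {m : ℕ} (hm : 1 ≤ m) :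
    Nat.card {C : (GR I (am a1 a2 m)).ConnectedComponent // Good C} ≤
      (Sm I a1 a2 A0 B0 m).card := by
  classical
  have hdp : ∀ x : {C : (GR I (am a1 a2 m)).ConnectedComponent // Good C},
      ∃ v : ↥(region I (am a1 a2 m)),
        (GR I (am a1 a2 m)).connectedComponentMk v = x.1 ∧
        ∀ w : ↥(region I (am a1 a2 m)),
          (GR I (am a1 a2 m)).connectedComponentMk w = x.1 → key w ≤ key v :=
    fun x => exists_dpt hI x.1 x.2
  choose dp hdp1 hdp2 using hdp
  have hfacts := fun x : {C : (GR I (am a1 a2 m)).ConnectedComponent // Good C} =>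
    dpt_facts hI (am_zero a1 a2 m) (am_one a1 a2 m) (am_two a1 a2 m) hm x.1 x.2 (dp x)
      (hdp1 x) (hdp2 x)
  have hmemS : ∀ x, (⟨(tn (dp x).1 0, tn (dp x).1 1), tn (dp x).1 2⟩ : Σ _ : ℕ × ℕ, ℕ) ∈
      Sm I a1 a2 A0 B0 m := by
    intro x
    obtain ⟨f1, f2, f3, f4, f5, f6⟩ := hfacts x
    unfold Sm Sfin
    rw [Finset.mem_filter, Finset.mem_sigma]
    refine ⟨⟨?_, ?_⟩, f6⟩
    · rw [Finset.mem_product, Finset.mem_range, Finset.mem_range]
      constructor
      · by_contra hle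
        push Not at hle
        rw [stairZ_eq_zero_left hI hA0 hle] at f3
        omega
      · by_contra hle
        push Not at hle
        rw [stairZ_eq_zero_right hI hB0 hle] at f3
        omega
    · unfold fibre
      rw [if_pos ⟨f1, f2⟩, Finset.mem_Ico]
      exact ⟨max_le f4 f5, f3⟩
  rw [← Fintype.card_coe, ← Nat.card_eq_fintype_card]
  refine Nat.card_le_card_of_injective
    (fun x => (⟨_, hmemS x⟩ : ↥(Sm I a1 a2 A0 B0 m))) ?_
  intro x y hxy
  have hxy' : (⟨(tn (dp x).1 0, tn (dp x).1 1), tn (dp x).1 2⟩ : Σ _ : ℕ × ℕ, ℕ) =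
      ⟨(tn (dp y).1 0, tn (dp y).1 1), tn (dp y).1 2⟩ := congrArg Subtype.val hxy
  have e0 : tn (dp x).1 0 = tn (dp y).1 0 :=
    congrArg (fun s : (Σ _ : ℕ × ℕ, ℕ) => s.1.1) hxy'
  have e1 : tn (dp x).1 1 = tn (dp y).1 1 :=
    congrArg (fun s : (Σ _ : ℕ × ℕ, ℕ) => s.1.2) hxy'
  have e2 : tn (dp x).1 2 = tn (dp y).1 2 :=
    congrArg (fun s : (Σ _ : ℕ × ℕ, ℕ) => s.2) hxy'
  have hv : dp x = dp y := by
    apply eq_of_tn_eq (x.2 (dp x) (hdp1 x)) (y.2 (dp y) (hdp1 y))
    rw [eq_e3 (tn (dp x).1), eq_e3 (tn (dp y).1), e0, e1, e2]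
  apply Subtype.ext
  rw [← hdp1 x, ← hdp1 y, hv]

omit [Module.Finite k (MvPolynomial (Fin 3) k ⧸ I)] in
theorem disjoint_Sm (A0 B0 : ℕ) {m m' : ℕ} (h : m ≠ m') :
    Disjoint (Sm I a1 a2 A0 B0 m) (Sm I a1 a2 A0 B0 m') := by
  classical
  rw [Finset.disjoint_left]
  intro s hs hs'
  unfold Sm at hs hs'
  rw [Finset.mem_filter] at hs hs'
  apply h
  have := hs.2
  have := hs'.2
  omega

include hI in
theorem main_ppn :
    Module.finrank k ↥(⨆ α : {α : Fin 3 → ℤ // α 0 = (a1 : ℤ) ∧ α 1 = (a2 : ℤ) ∧ α 2 < 0},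
      tPiece I α.1) ≤ ∑ᶠ p : ℕ × ℕ, fSum I a1 a2 p := by
  classical
  have hfT : Module.Finite k (Tgt I) := finite_Tgt hI
  set H := stairZ I 0 0 with hH
  -- reduce to a finite sum over `m`
  have h1 := finrank_iSup_tPiece hI
    {α : Fin 3 → ℤ | α 0 = (a1 : ℤ) ∧ α 1 = (a2 : ℤ) ∧ α 2 < 0}
    ((Finset.Icc 1 H).image (am a1 a2)) ?_ ?_
  rotate_left
  · intro α hα
    rw [Finset.mem_image] at hα
    obtain ⟨m, hm, rfl⟩ := hα
    rw [Finset.mem_Icc] at hm
    exact ⟨rfl, rfl, by rw [am_two]; omega⟩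
  · rintro α ⟨h0, h1, h2⟩ hnot
    have hα : α = am a1 a2 (-α 2).toNat := by
      funext j
      fin_cases j
      · exact h0
      · exact h1
      · change α 2 = -(((-α 2).toNat : ℕ) : ℤ)
        omega
    rw [hα]
    apply tPiece_am_eq_bot hI
    by_contra hle
    apply hnot
    rw [Finset.mem_image]
    refine ⟨(-α 2).toNat, ?_, hα.symm⟩
    rw [Finset.mem_Icc]
    omega
  rw [Finset.sum_image (fun m _ m' _ h => am_injective a1 a2 h)] at h1
  have h1' : Module.finrank k ↥(⨆ α : {α : Fin 3 → ℤ // α 0 = (a1 : ℤ) ∧ α 1 = (a2 : ℤ) ∧ α 2 < 0},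
      tPiece I α.1) = ∑ m ∈ Finset.Icc 1 H, Module.finrank k ↥(tPiece I (am a1 a2 m)) := h1
  rw [h1']
  -- dimension = number of bounded components
  have h2 : ∀ m : ℕ, Module.finrank k ↥(tPiece I (am a1 a2 m)) =
      Nat.card {C : (GR I (am a1 a2 m)).ConnectedComponent // Good C} := by
    intro m
    have := finite_good (α := am a1 a2 m) hI
    have := Fintype.ofFinite {C : (GR I (am a1 a2 m)).ConnectedComponent // Good C}
    rw [(pieceEquiv hI).finrank_eq, Module.finrank_fintype_fun_eq_card,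
      ← Nat.card_eq_fintype_card]
  rw [Finset.sum_congr rfl (fun m _ => h2 m)]
  obtain ⟨A0, hA0⟩ := exists_pow_mem hI (0 : Fin 3)
  obtain ⟨B0, hB0⟩ := exists_pow_mem hI (1 : Fin 3)
  have hsupp : Function.support (fSum I a1 a2) ⊆
      ((Finset.range A0 ×ˢ Finset.range B0 : Finset (ℕ × ℕ)) : Set (ℕ × ℕ)) := by
    intro p hp
    rw [Function.mem_support] at hp
    rw [Finset.mem_coe, Finset.mem_product, Finset.mem_range, Finset.mem_range]
    constructor
    · by_contra hle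
      push Not at hle
      apply hp
      unfold fSum
      rw [stairZ_eq_zero_left hI hA0 hle]
      split_ifs <;> simp
    · by_contra hle
      push Not at hle
      apply hp
      unfold fSum
      rw [stairZ_eq_zero_right hI hB0 hle]
      split_ifs <;> simp
  rw [finsum_eq_finsetSum_of_support_subset _ hsupp]
  have hcard : (Sfin I a1 a2 A0 B0).card =
      ∑ p ∈ Finset.range A0 ×ˢ Finset.range B0, fSum I a1 a2 p := by
    unfold Sfin
    rw [Finset.card_sigma]
    exact Finset.sum_congr rfl fun p _ => card_fibre a1 a2 p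
  rw [← hcard]
  calc ∑ m ∈ Finset.Icc 1 H, Nat.card {C : (GR I (am a1 a2 m)).ConnectedComponent // Good C}
      ≤ ∑ m ∈ Finset.Icc 1 H, (Sm I a1 a2 A0 B0 m).card :=
        Finset.sum_le_sum fun m hm => card_good_le hI a1 a2 hA0 hB0 (Finset.mem_Icc.1 hm).1
    _ = ((Finset.Icc 1 H).biUnion (Sm I a1 a2 A0 B0)).card := by
        rw [Finset.card_biUnion]
        intro m _ m' _ hne
        exact disjoint_Sm a1 a2 A0 B0 hne
    _ ≤ (Sfin I a1 a2 A0 B0).card := by
        apply Finset.card_le_card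
        rw [Finset.biUnion_subset]
        intro m _
        unfold Sm
        exact Finset.filter_subset _ _

end Groth.Agent.H10.TP
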