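import Mathlib

set_option autoImplicit false
set_option linter.style.haveILetI false
set_option linter.unusedSectionVars false
set_option linter.unusedVariables false
universe u
open Polynomial

namespace Groth.Agent.H10.TwistDiag

/-- number theory: `d ∣ E * t` with `1 ≤ t ≤ N` forces `I(d,N) ∣ E`. -/
theorem index_dvd (d N t E : ℕ) (hd : 1 ≤ d) (ht : 1 ≤ t) (htN : t ≤ N) (h : d ∣ E * t) :
    ((Finset.Icc 1 N).filter (fun δ => δ ∣ d)).gcd (fun δ => d / δ) ∣ E := by
  set δ := Nat.gcd d t with hδ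
  have hδpos : 0 < δ := Nat.gcd_pos_of_pos_left t hd
  have hδd : δ ∣ d := Nat.gcd_dvd_left d t
  have hδt : δ ∣ t := Nat.gcd_dvd_right d t
  have hδN : δ ≤ N := (Nat.le_of_dvd ht hδt).trans htN
  have hmem : δ ∈ (Finset.Icc 1 N).filter (fun δ => δ ∣ d) := by
    rw [Finset.mem_filter, Finset.mem_Icc]
    exact ⟨⟨hδpos, hδN⟩, hδd⟩
  refine (Finset.gcd_dvd hmem).trans ?_
  have hcop : Nat.Coprime (d / δ) (t / δ) := Nat.coprime_div_gcd_div_gcd hδpos
  have h2 : d / δ ∣ E * (t / δ) := by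
    obtain ⟨c, hc⟩ := h
    refine ⟨c, ?_⟩
    apply Nat.eq_of_mul_eq_mul_left hδpos
    calc δ * (E * (t / δ)) = E * (δ * (t / δ)) := by ring
      _ = E * t := by rw [Nat.mul_div_cancel' hδt]
      _ = d * c := hc
      _ = δ * (d / δ) * c := by rw [Nat.mul_div_cancel' hδd]
      _ = δ * (d / δ * c) := by ring
  exact hcop.dvd_of_dvd_mul_right h2

section Core

open WithZero

variable {F : Type u} [Field F] (W : Valuation F ℤᵐ⁰)

/-- if a finite sum vanishes and not all terms vanish, two distinct terms share the maximal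
nonzero valuation. -/
theorem exists_eq_of_sum_eq_zero {n : ℕ} (T : Fin n → F) (hsum : ∑ j, T j = 0)
    (hne : ∃ j, T j ≠ 0) : ∃ i j, i ≠ j ∧ W (T i) = W (T j) ∧ W (T i) ≠ 0 := by
  by_contra hcon
  push Not at hcon
  obtain ⟨j₀, hj₀⟩ := hne
  obtain ⟨i₀, -, hi₀⟩ := Finset.exists_max_image Finset.univ (fun j => W (T j)) ⟨j₀, Finset.mem_univ _⟩
  have hpos : W (T i₀) ≠ 0 := by
    intro h0
    have := hi₀ j₀ (Finset.mem_univ _)
    rw [h0, le_zero_iff, Valuation.zero_iff] at this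
    exact hj₀ this
  have hlt : ∀ j ∈ Finset.univ.erase i₀, W (T j) < W (T i₀) := by
    intro j hj
    rw [Finset.mem_erase] at hj
    refine lt_of_le_of_ne (hi₀ j (Finset.mem_univ _)) ?_
    intro heq
    exact hpos (hcon i₀ j (Ne.symm hj.1) heq.symm)
  have h1 : W (∑ j ∈ Finset.univ.erase i₀, T j) < W (T i₀) := Valuation.map_sum_lt W hpos hlt
  have h2 : T i₀ = - ∑ j ∈ Finset.univ.erase i₀, T j := by
    rw [eq_neg_iff_add_eq_zero, Finset.add_sum_erase _ _ (Finset.mem_univ _), hsum]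
  have h3 : W (T i₀) = W (∑ j ∈ Finset.univ.erase i₀, T j) := by
    conv_lhs => rw [h2]
    rw [Valuation.map_neg]
  rw [h3] at h1
  exact lt_irrefl _ h1

/-- the ultrametric argument for the twisted diagonal form. -/
theorem core (c : F) (E : ℕ) (hc : W c = exp (-(E : ℤ))) (d N Q : ℕ) (hd : 1 ≤ d)
    (y : Fin (N + 1) → F) (hy : y ≠ 0)
    (heq : y 0 ^ d = ∑ i : Fin N, c ^ (((i : ℕ) + 1) * Q) * y i.succ ^ d) :
    ∃ t, 1 ≤ t ∧ t ≤ N ∧ d ∣ E * Q * t := by
  have hc0 : c ≠ 0 := by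
    intro h0
    rw [h0, map_zero] at hc
    exact exp_ne_zero hc.symm
  let T : Fin (N + 1) → F :=
    Fin.cons (-(y 0) ^ d) (fun i : Fin N => c ^ (((i : ℕ) + 1) * Q) * y i.succ ^ d)
  have hT0 : T 0 = -(y 0) ^ d := Fin.cons_zero _ _
  have hTs : ∀ i : Fin N, T i.succ = c ^ (((i : ℕ) + 1) * Q) * y i.succ ^ d :=
    fun i => Fin.cons_succ _ _ i
  have hsum : ∑ j, T j = 0 := by
    rw [Fin.sum_univ_succ, hT0]
    simp_rw [hTs]
    rw [← heq]; ring
  have hne : ∃ j, T j ≠ 0 := by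
    obtain ⟨j, hj⟩ := Function.ne_iff.1 hy
    refine ⟨j, ?_⟩
    induction j using Fin.cases with
    | zero => rw [hT0]; exact neg_ne_zero.2 (pow_ne_zero d hj)
    | succ i => rw [hTs]; exact mul_ne_zero (pow_ne_zero _ hc0) (pow_ne_zero d hj)
  have hval : ∀ j : Fin (N + 1), W (T j) = exp (-((E * (j : ℕ) * Q : ℕ) : ℤ)) * W (y j) ^ d := by
    intro j
    induction j using Fin.cases with
    | zero =>
      rw [hT0, Valuation.map_neg, map_pow]
      simp
    | succ i =>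
      rw [hTs, map_mul, map_pow, map_pow, hc, ← exp_nsmul]
      congr 2
      simp only [Fin.val_succ, nsmul_eq_mul]
      push_cast
      ring
  obtain ⟨i, j, hij, hWeq, hWne⟩ := exists_eq_of_sum_eq_zero W T hsum hne
  -- symmetric helper
  have key : ∀ i j : Fin (N + 1), (i : ℕ) < (j : ℕ) → W (T i) = W (T j) → W (T i) ≠ 0 →
      ∃ t, 1 ≤ t ∧ t ≤ N ∧ d ∣ E * Q * t := by
    intro i j hlt hWeq hWne
    have hWne' : W (T j) ≠ 0 := hWeq ▸ hWne
    rw [hval i] at hWne
    rw [hval j] at hWne'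
    have hyi : W (y i) ≠ 0 := fun h => hWne (by rw [h, zero_pow (by omega), mul_zero])
    have hyj : W (y j) ≠ 0 := fun h => hWne' (by rw [h, zero_pow (by omega), mul_zero])
    rw [hval i, hval j, ← exp_log hyi, ← exp_log hyj, ← exp_nsmul, ← exp_nsmul, ← exp_add,
      ← exp_add, exp_inj] at hWeq
    simp only [nsmul_eq_mul] at hWeq
    refine ⟨(j : ℕ) - (i : ℕ), by omega, by omega, ?_⟩
    rw [← Int.natCast_dvd_natCast]
    refine ⟨log (W (y j)) - log (W (y i)), ?_⟩
    push_cast at hWeq ⊢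
    rw [Nat.cast_sub hlt.le]
    linear_combination hWeq
  rcases lt_or_gt_of_ne (fun h => hij (Fin.ext h)) with h | h
  · exact key i j h hWeq hWne
  · exact key j i h hWeq.symm (hWeq ▸ hWne)

end Core

end Groth.Agent.H10.TwistDiag
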