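import Mathlib
import Groth.Agent.H10.TwistDiag1

set_option autoImplicit false
set_option linter.style.haveILetI false
set_option linter.unusedSectionVars false
set_option linter.unusedVariables false
set_option linter.deprecated false
universe u
open Polynomial

namespace Groth.Agent.H10.TwistDiag

section Insep

variable (F E : Type u) [Field F] [Field E] [Algebra F E] (q : ℕ) [ExpChar F q]
  [IsPurelyInseparable F E] [FiniteDimensional F E]

include q in
/-- in a finite purely inseparable extension, the `[E:F]`-th power of any element lies in `F`. -/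
theorem pow_finrank_mem (z : E) : z ^ Module.finrank F E ∈ (algebraMap F E).range := by
  obtain ⟨n, a, hmin⟩ := IsPurelyInseparable.minpoly_eq_X_pow_sub_C F q z
  have hint : IsIntegral F z := Algebra.IsIntegral.isIntegral z
  have hz : z ^ q ^ n = algebraMap F E a := by
    have h := minpoly.aeval F z
    rw [hmin, map_sub, map_pow, aeval_X, aeval_C, sub_eq_zero] at h
    exact h
  have hdvd := minpoly.degree_dvd (K := F) (L := E) hint
  have hqpos : 0 < q ^ n := expChar_pow_pos F q n
  rw [hmin, natDegree_X_pow_sub_C] at hdvd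
  obtain ⟨k, hk⟩ := hdvd
  rw [hk, pow_mul, hz, ← map_pow]
  exact ⟨_, rfl⟩

end Insep

section Dvd

open WithZero IsDedekindDomain

variable (R : Type u) [CommRing R] [IsDomain R] [IsDiscreteValuationRing R]
  (K : Type u) [Field K] [Algebra R K] [IsFractionRing R K]
  (ϖ : R) (hϖ : Irreducible ϖ) (d N : ℕ) (hd : 1 ≤ d)

include hϖ hd in
theorem dvd_finrank (L : Type u) [Field L] [Algebra K L] [FiniteDimensional K L]
    (x : Fin (N + 1) → L) (hx : x ≠ 0)
    (heq : x 0 ^ d = ∑ i : Fin N,
      algebraMap K L (algebraMap R K (ϖ ^ ((i : ℕ) + 1))) * x i.succ ^ d) :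
    ((Finset.Icc 1 N).filter (fun δ => δ ∣ d)).gcd (fun δ => d / δ) ∣ Module.finrank K L := by
  letI : Algebra R L := ((algebraMap K L).comp (algebraMap R K)).toAlgebra
  haveI : IsScalarTower R K L := IsScalarTower.of_algebraMap_eq (fun _ => rfl)
  obtain ⟨q, hq⟩ : ∃ q, q = ringExpChar K := ⟨_, rfl⟩
  haveI : ExpChar K q := hq ▸ ringExpChar.expChar K
  haveI : ExpChar L q := expChar_of_injective_algebraMap (algebraMap K L).injective q
  let Ls := separableClosure K L
  haveI : IsPurelyInseparable Ls L := separableClosure.isPurelyInseparable K L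
  haveI : Algebra.IsSeparable K Ls := separableClosure.isSeparable K L
  haveI : ExpChar Ls q := expChar_of_injective_algebraMap (algebraMap K Ls).injective q
  obtain ⟨m, hm⟩ := IsPurelyInseparable.finrank_eq_pow Ls L q
  have hmem : ∀ z : L, z ^ q ^ m ∈ Ls := by
    intro z
    obtain ⟨a, ha⟩ := pow_finrank_mem Ls L q z
    rw [hm] at ha
    rw [← ha]
    exact a.2
  -- the solution in `Ls`
  let y : Fin (N + 1) → Ls := fun j => ⟨x j ^ q ^ m, hmem _⟩
  have hy : y ≠ 0 := by
    obtain ⟨j, hj⟩ := Function.ne_iff.1 hx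
    apply Function.ne_iff.2
    refine ⟨j, ?_⟩
    intro h0
    have := congrArg (Subtype.val) h0
    exact hj (pow_eq_zero_iff (expChar_pow_pos K q m).ne' |>.1 this)
  let c : Ls := algebraMap K Ls (algebraMap R K ϖ)
  have hyeq : y 0 ^ d = ∑ i : Fin N, c ^ (((i : ℕ) + 1) * q ^ m) * y i.succ ^ d := by
    apply Subtype.ext
    have h1 : (x 0 ^ d) ^ q ^ m = (∑ i : Fin N,
      algebraMap K L (algebraMap R K (ϖ ^ ((i : ℕ) + 1))) * x i.succ ^ d) ^ q ^ m := by rw [heq]
    rw [sum_pow_char_pow] at h1
    push_cast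
    show (x 0 ^ q ^ m) ^ d = ∑ i : Fin N,
      (algebraMap K L (algebraMap R K ϖ)) ^ (((i : ℕ) + 1) * q ^ m) * (x i.succ ^ q ^ m) ^ d
    rw [← pow_mul, mul_comm, pow_mul, h1]
    apply Finset.sum_congr rfl
    intro i _
    rw [mul_pow, map_pow, map_pow]
    ring
  -- the integral closure of `R` in `Ls`
  haveI : Module.IsTorsionFree R Ls := by
    rw [Module.isTorsionFree_iff_algebraMap_injective, IsScalarTower.algebraMap_eq R K Ls]
    exact (algebraMap K Ls).injective.comp (IsFractionRing.injective R K)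
  let B := integralClosure R Ls
  haveI : IsDedekindDomain B := integralClosure.isDedekindDomain R K Ls
  haveI : IsFractionRing B Ls := integralClosure.isFractionRing_of_finite_extension K Ls
  haveI : Module.Finite R B := IsIntegralClosure.finite R K Ls B
  have hp0 : IsLocalRing.maximalIdeal R ≠ ⊥ := IsDiscreteValuationRing.not_a_field R
  have hsum := Ideal.sum_ramification_inertia B K Ls hp0
  let v : HeightOneSpectrum R := ⟨IsLocalRing.maximalIdeal R, inferInstance, hp0⟩
  have hvϖ : v.valuation K (algebraMap R K ϖ) = exp (-1 : ℤ) := by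
    rw [HeightOneSpectrum.valuation_of_algebraMap]
    exact HeightOneSpectrum.intValuation_singleton v hϖ.ne_zero hϖ.maximalIdeal_eq
  have hP : ∀ P ∈ IsDedekindDomain.primesOverFinset (IsLocalRing.maximalIdeal R) B,
      ((Finset.Icc 1 N).filter (fun δ => δ ∣ d)).gcd (fun δ => d / δ) ∣
        Ideal.ramificationIdx' (IsLocalRing.maximalIdeal R) P * q ^ m := by
    intro P hPmem
    rw [IsDedekindDomain.mem_primesOverFinset_iff hp0] at hPmem
    obtain ⟨hPprime, hPlies⟩ := hPmem
    have hPne : P ≠ ⊥ := Ideal.ne_bot_of_liesOver_of_ne_bot hp0 P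
    let w : HeightOneSpectrum B := ⟨P, hPprime, hPne⟩
    haveI : w.asIdeal.LiesOver v.asIdeal := hPlies
    have hWc : w.valuation Ls c =
        exp (-((Ideal.ramificationIdx' (IsLocalRing.maximalIdeal R) P : ℕ) : ℤ)) := by
      rw [← HeightOneSpectrum.valuation_liesOver Ls v w, hvϖ, ← exp_nsmul, nsmul_eq_mul, mul_neg,
        mul_one]
    obtain ⟨t, ht1, htN, hdvd⟩ := core (w.valuation Ls) c _ hWc d N (q ^ m) hd y hy hyeq
    exact index_dvd d N t _ hd ht1 htN hdvd
  rw [← Module.finrank_mul_finrank K Ls L, hm, ← hsum, Finset.sum_mul]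
  apply Finset.dvd_sum
  intro P hP'
  have h := hP P hP'
  have : Ideal.ramificationIdx' (IsLocalRing.maximalIdeal R) P *
      Ideal.inertiaDeg' (IsLocalRing.maximalIdeal R) P * q ^ m =
      (Ideal.ramificationIdx' (IsLocalRing.maximalIdeal R) P * q ^ m) *
        Ideal.inertiaDeg' (IsLocalRing.maximalIdeal R) P := by ring
  rw [this]
  exact Dvd.dvd.mul_right h _

end Dvd

end Groth.Agent.H10.TwistDiag
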