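import Mathlib
import Groth.Agent.H10.TwistDiag2
import Groth.Agent.H10.EisDvr

set_option autoImplicit false
set_option linter.style.haveILetI false
set_option linter.unusedSectionVars false
set_option linter.unusedVariables false
set_option linter.deprecated false
universe u
open Polynomial

namespace Groth.Agent.H10.TwistDiag

section Main

variable (R : Type u) [CommRing R] [IsDomain R] [IsDiscreteValuationRing R]
  (K : Type u) [Field K] [Algebra R K] [IsFractionRing R K]
  (ϖ : R) (hϖ : Irreducible ϖ)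

include hϖ in
/-- the Eisenstein extension `K(ϖ^{1/m})`. -/
theorem exists_ext (m : ℕ) (hm : 1 ≤ m) :
    ∃ (L : Type u) (_ : Field L) (_ : Algebra K L), FiniteDimensional K L ∧
      Module.finrank K L = m ∧ ∃ t : L, t ^ m = algebraMap K L (algebraMap R K ϖ) := by
  have hg : (1 : R[X]).natDegree < m := by rw [natDegree_one]; omega
  have hg0 : IsUnit ((1 : R[X]).coeff 0) := by rw [coeff_one_zero]; exact isUnit_one
  have hirr := EisDvr.irreducible_f (π := ϖ) hϖ hg hg0
  have hmon := EisDvr.monic_f (π := ϖ) hg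
  have hdeg := EisDvr.natDegree_f (π := ϖ) hg
  rw [mul_one] at hirr hmon hdeg
  have hirrK : Irreducible ((X ^ m - C ϖ : R[X]).map (algebraMap R K)) :=
    (Polynomial.Monic.irreducible_iff_irreducible_map_fraction_map hmon).1 hirr
  have hmap : (X ^ m - C ϖ : R[X]).map (algebraMap R K) = X ^ m - C (algebraMap R K ϖ) := by
    rw [Polynomial.map_sub, Polynomial.map_pow, map_X, map_C]
  rw [hmap] at hirrK
  haveI : Fact (Irreducible (X ^ m - C (algebraMap R K ϖ) : K[X])) := ⟨hirrK⟩
  refine ⟨AdjoinRoot (X ^ m - C (algebraMap R K ϖ) : K[X]), inferInstance, inferInstance, ?_, ?_,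
    AdjoinRoot.root _, ?_⟩
  · exact (AdjoinRoot.powerBasis hirrK.ne_zero).finite
  · rw [(AdjoinRoot.powerBasis hirrK.ne_zero).finrank, AdjoinRoot.powerBasis_dim,
      natDegree_X_pow_sub_C]
  · have h := AdjoinRoot.eval₂_root (X ^ m - C (algebraMap R K ϖ) : K[X])
    rw [eval₂_sub, eval₂_pow, eval₂_X, eval₂_C, sub_eq_zero] at h
    rw [h]; rfl

include hϖ in
theorem result' (d N : ℕ) (hd : 1 ≤ d) (hN : 1 ≤ N) :
    AddSubgroup.closure {m : ℤ | ∃ (L : Type u) (_ : Field L) (_ : Algebra K L),
        FiniteDimensional K L ∧ m = (Module.finrank K L : ℤ) ∧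
        ∃ x : Fin (N + 1) → L, x ≠ 0 ∧
          x 0 ^ d = ∑ i : Fin N, algebraMap K L (algebraMap R K (ϖ ^ ((i : ℕ) + 1))) * x i.succ ^ d} =
      AddSubgroup.zmultiples
        ((((Finset.Icc 1 N).filter (fun δ => δ ∣ d)).gcd (fun δ => d / δ) : ℕ) : ℤ) := by
  apply le_antisymm
  · rw [AddSubgroup.closure_le]
    rintro _ ⟨L, _, _, hfin, rfl, x, hx, heq⟩
    rw [SetLike.mem_coe, Int.mem_zmultiples_iff]
    exact_mod_cast dvd_finrank R K ϖ hϖ d N hd L x hx heq
  · rw [AddSubgroup.zmultiples_le]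
    -- the gcd is an integer combination of the `d / δ`
    have key : ∀ (s : Finset ℕ), (∀ δ ∈ s, ((d / δ : ℕ) : ℤ) ∈ AddSubgroup.closure
        {m : ℤ | ∃ (L : Type u) (_ : Field L) (_ : Algebra K L),
        FiniteDimensional K L ∧ m = (Module.finrank K L : ℤ) ∧
        ∃ x : Fin (N + 1) → L, x ≠ 0 ∧
          x 0 ^ d = ∑ i : Fin N,
            algebraMap K L (algebraMap R K (ϖ ^ ((i : ℕ) + 1))) * x i.succ ^ d}) →
        ((s.gcd (fun δ => d / δ) : ℕ) : ℤ) ∈ AddSubgroup.closure
        {m : ℤ | ∃ (L : Type u) (_ : Field L) (_ : Algebra K L),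
        FiniteDimensional K L ∧ m = (Module.finrank K L : ℤ) ∧
        ∃ x : Fin (N + 1) → L, x ≠ 0 ∧
          x 0 ^ d = ∑ i : Fin N,
            algebraMap K L (algebraMap R K (ϖ ^ ((i : ℕ) + 1))) * x i.succ ^ d} := by
      intro s
      induction s using Finset.induction_on with
      | empty => intro _; simp
      | insert a s ha ih =>
        intro h
        rw [Finset.gcd_insert]
        have h1 := h a (Finset.mem_insert_self a s)
        have h2 := ih (fun δ hδ => h δ (Finset.mem_insert_of_mem hδ))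
        show ((Nat.gcd (d / a) (s.gcd fun δ => d / δ) : ℕ) : ℤ) ∈ _
        rw [← Int.gcd_natCast_natCast, Int.gcd_eq_gcd_ab]
        refine add_mem ?_ ?_
        · rw [mul_comm, ← smul_eq_mul]
          exact AddSubgroup.zsmul_mem _ h1 _
        · rw [mul_comm, ← smul_eq_mul]
          exact AddSubgroup.zsmul_mem _ h2 _
    apply key
    intro δ hδ
    rw [Finset.mem_filter, Finset.mem_Icc] at hδ
    obtain ⟨⟨hδ1, hδN⟩, hδd⟩ := hδ
    have hm1 : 1 ≤ d / δ := Nat.div_pos (Nat.le_of_dvd hd hδd) hδ1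
    obtain ⟨L, hL1, hL2, hfin, hrank, t, ht⟩ := exists_ext R K ϖ hϖ (d / δ) hm1
    apply AddSubgroup.subset_closure
    refine ⟨L, hL1, hL2, hfin, by rw [hrank], ?_⟩
    -- the solution `x₀ = t`, `x_δ = 1`
    let i₀ : Fin N := ⟨δ - 1, by omega⟩
    refine ⟨fun j => if j = 0 then t else if j = i₀.succ then 1 else 0, ?_, ?_⟩
    · intro h0
      have := congrFun h0 i₀.succ
      simp [Fin.succ_ne_zero] at this
    · simp only [if_true]
      rw [Finset.sum_eq_single i₀]
      · simp only [Fin.succ_ne_zero, if_false, if_true, one_pow, mul_one]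
        have : ((i₀ : ℕ) + 1) = δ := by simp only [i₀]; omega
        rw [this, map_pow, map_pow, ← ht, ← pow_mul, Nat.div_mul_cancel hδd]
      · intro b _ hb
        have : b.succ ≠ i₀.succ := fun h => hb (Fin.succ_injective _ h)
        simp only [Fin.succ_ne_zero, this, if_false, zero_pow (by omega : d ≠ 0), mul_zero]
      · intro h; exact absurd (Finset.mem_univ _) h

end Main

end Groth.Agent.H10.TwistDiag
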