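import Mathlib

set_option autoImplicit false
set_option linter.style.haveILetI false
universe u
open TensorProduct
namespace Groth.Agent.H10


/-- a product of two flat modules is flat. -/
theorem flat_prod (R : Type*) [CommRing R] (M N : Type*) [AddCommGroup M] [Module R M]
    [AddCommGroup N] [Module R N] [Module.Flat R M] [Module.Flat R N] : Module.Flat R (M × N) := by
  rw [Module.Flat.iff_lTensor_preserves_injective_linearMap]
  intro P P' _ _ _ _ f hf
  rw [injective_iff_map_eq_zero]
  intro w hw
  have h1 : LinearMap.rTensor P (LinearMap.fst R M N) w = 0 := by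
    have : LinearMap.lTensor M f (LinearMap.rTensor P (LinearMap.fst R M N) w) = 0 := by
      rw [← LinearMap.comp_apply, LinearMap.lTensor_comp_rTensor, ← LinearMap.rTensor_comp_lTensor,
        LinearMap.comp_apply, hw, map_zero]
    exact (injective_iff_map_eq_zero _).1
      (Module.Flat.lTensor_preserves_injective_linearMap f hf) _ this
  have h2 : LinearMap.rTensor P (LinearMap.snd R M N) w = 0 := by
    have : LinearMap.lTensor N f (LinearMap.rTensor P (LinearMap.snd R M N) w) = 0 := by
      rw [← LinearMap.comp_apply, LinearMap.lTensor_comp_rTensor, ← LinearMap.rTensor_comp_lTensor,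
        LinearMap.comp_apply, hw, map_zero]
    exact (injective_iff_map_eq_zero _).1
      (Module.Flat.lTensor_preserves_injective_linearMap f hf) _ this
  have h3 : LinearMap.inl R M N ∘ₗ LinearMap.fst R M N + LinearMap.inr R M N ∘ₗ LinearMap.snd R M N
      = LinearMap.id := by
    apply LinearMap.ext
    intro x
    simp
  have : LinearMap.rTensor P (LinearMap.id : M × N →ₗ[R] M × N) w = 0 := by
    rw [← h3, LinearMap.rTensor_add, LinearMap.add_apply, LinearMap.rTensor_comp_apply,
      LinearMap.rTensor_comp_apply, h1, h2, map_zero, map_zero, add_zero]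
  rwa [LinearMap.rTensor_id, LinearMap.id_apply] at this

section
variable {R : Type*} [CommRing R] [IsLocalRing R]
variable {F N : Type*} [AddCommGroup F] [Module R F] [AddCommGroup N] [Module R N] [Module.Flat R N]

/-- Main lemma: free source. -/
theorem rTensor_injective_of_free {ι : Type*} (b : Module.Basis ι R F) (u : F →ₗ[R] N)
    (h : Function.Injective (LinearMap.lTensor (IsLocalRing.ResidueField R) u))
    (Q : Type*) [AddCommGroup Q] [Module R Q] : Function.Injective (LinearMap.rTensor Q u) := by
  classical
  rw [injective_iff_map_eq_zero]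
  intro z hz
  obtain ⟨c, rfl⟩ := TensorProduct.eq_repr_basis_left b z
  set s := c.support with hs
  -- the finite free module on `s`
  let β : (s → R) →ₗ[R] F := Fintype.linearCombination R (fun i : s => b i)
  let β' : F →ₗ[R] (s → R) := LinearMap.pi fun i : s => b.coord i
  have hββ : β' ∘ₗ β = LinearMap.id := by
    apply LinearMap.pi_ext'
    intro i
    apply LinearMap.ext_ring
    funext j
    simp [β, β', Fintype.linearCombination_apply, Finsupp.single_apply, Pi.single_apply,
      eq_comm]
  let z₀ : (s → R) ⊗[R] Q := ∑ i : s, (Pi.single i (1 : R) : s → R) ⊗ₜ[R] c i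
  have hz₀ : LinearMap.rTensor Q β z₀ = c.sum fun i q => b i ⊗ₜ q := by
    simp only [z₀, map_sum, LinearMap.rTensor_tmul, β, Fintype.linearCombination_apply_single,
      one_smul]
    rw [Finsupp.sum, ← hs]
    exact Finset.sum_coe_sort s (fun i => b i ⊗ₜ[R] c i)
  rw [← hz₀] at hz ⊢
  rw [← LinearMap.rTensor_comp_apply] at hz
  set x : (s → R) →ₗ[R] N := u ∘ₗ β with hx
  -- vanishing in `Q ⊗ N`
  have hsum : ∑ i : s, c i ⊗ₜ[R] x (Pi.single i 1) = (0 : Q ⊗[R] N) := by
    have := congrArg (TensorProduct.comm R N Q) hz
    simpa [z₀, map_sum] using this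
  have hinj : Function.Injective
      (LinearMap.rTensor N (Submodule.span R (Set.range fun i : s => c i)).subtype) :=
    Module.Flat.rTensor_preserves_injective_linearMap _ Subtype.val_injective
  obtain ⟨k, a, y, hay, hac⟩ :=
    TensorProduct.vanishesTrivially_of_sum_tmul_eq_zero_of_rTensor_injective R hinj hsum
  let α : (s → R) →ₗ[R] (Fin k → R) := Fintype.linearCombination R a
  let y' : (Fin k → R) →ₗ[R] N := Fintype.linearCombination R y
  have hxy : x = y' ∘ₗ α := by
    apply LinearMap.pi_ext'
    intro i
    apply LinearMap.ext_ring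
    change x (Pi.single i 1) = y' (α (Pi.single i 1))
    have h1 : α (Pi.single i 1) = a i := by
      simp [α, Fintype.linearCombination_apply_single]
    have h2 : y' (a i) = ∑ j, a i j • y j := by
      simp [y', Fintype.linearCombination_apply]
    rw [h1, h2]
    exact hay i
  -- `α` is split injective
  have hαinj : Function.Injective (α.lTensor (IsLocalRing.ResidueField R)) := by
    have h1 : (y'.lTensor (IsLocalRing.ResidueField R)) ∘ₗ (α.lTensor (IsLocalRing.ResidueField R))
        = (u.lTensor (IsLocalRing.ResidueField R)) ∘ₗ (β.lTensor (IsLocalRing.ResidueField R)) := by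
      rw [← LinearMap.lTensor_comp, ← LinearMap.lTensor_comp, ← hxy]
    have h2 : Function.Injective (β.lTensor (IsLocalRing.ResidueField R)) := by
      have : (β'.lTensor (IsLocalRing.ResidueField R)) ∘ₗ (β.lTensor (IsLocalRing.ResidueField R))
          = LinearMap.id := by
        rw [← LinearMap.lTensor_comp, hββ, LinearMap.lTensor_id]
      exact Function.HasLeftInverse.injective ⟨_, LinearMap.congr_fun this⟩
    have h3 : Function.Injective ((y'.lTensor (IsLocalRing.ResidueField R)) ∘ₗ
        (α.lTensor (IsLocalRing.ResidueField R))) := by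
      rw [h1]
      exact h.comp h2
    exact Function.Injective.of_comp h3
  obtain ⟨α', hα'⟩ :=
    (IsLocalRing.split_injective_iff_lTensor_residueField_injective α).2 hαinj
  have hαz : LinearMap.rTensor Q α z₀ = 0 := by
    simp only [z₀, map_sum, LinearMap.rTensor_tmul, α, Fintype.linearCombination_apply_single,
      one_smul]
    have : ∀ i : s, (a i : Fin k → R) = ∑ j, a i j • (Pi.single j (1 : R) : Fin k → R) := by
      intro i
      funext j'
      simp [Finset.sum_apply, Pi.single_apply]
    calc ∑ i : s, (a i : Fin k → R) ⊗ₜ[R] c i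
        = ∑ i : s, ∑ j, (Pi.single j (1 : R) : Fin k → R) ⊗ₜ[R] (a i j • c i) := by
          refine Finset.sum_congr rfl fun i _ => ?_
          conv_lhs => rw [this i]
          rw [TensorProduct.sum_tmul]
          refine Finset.sum_congr rfl fun j _ => ?_
          rw [TensorProduct.smul_tmul]
      _ = ∑ j, (Pi.single j (1 : R) : Fin k → R) ⊗ₜ[R] (∑ i : s, a i j • c i) := by
          rw [Finset.sum_comm]
          refine Finset.sum_congr rfl fun j _ => ?_
          rw [TensorProduct.tmul_sum]
      _ = 0 := by
          refine Finset.sum_eq_zero fun j _ => ?_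
          rw [hac j, TensorProduct.tmul_zero]
  have hz₀0 : z₀ = 0 := by
    have : LinearMap.rTensor Q (α' ∘ₗ α) z₀ = z₀ := by
      rw [hα', LinearMap.rTensor_id, LinearMap.id_apply]
    rw [← this, LinearMap.rTensor_comp_apply, hαz, map_zero]
  rw [hz₀0, map_zero]

end

section
variable {R : Type*} [CommRing R] [IsLocalRing R]
variable {M N : Type*} [AddCommGroup M] [Module R M] [Module.Projective R M]
  [AddCommGroup N] [Module R N] [Module.Flat R N]

/-- Projective source. -/
theorem rTensor_injective_of_projective (u : M →ₗ[R] N)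
    (h : Function.Injective (LinearMap.lTensor (IsLocalRing.ResidueField R) u))
    (Q : Type*) [AddCommGroup Q] [Module R Q] : Function.Injective (LinearMap.rTensor Q u) := by
  classical
  obtain ⟨s, hs⟩ := Module.projective_def'.1 (inferInstance : Module.Projective R M)
  let π : (M →₀ R) →ₗ[R] M := Finsupp.linearCombination R id
  have hπs : π ∘ₗ s = LinearMap.id := hs
  let u' : (M →₀ R) →ₗ[R] N × (M →₀ R) :=
    (u ∘ₗ π).prod (LinearMap.id - s ∘ₗ π)
  have hu's : u' ∘ₗ s = LinearMap.inl R N (M →₀ R) ∘ₗ u := by
    apply LinearMap.ext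
    intro m
    have h1 : π (s m) = m := LinearMap.congr_fun hπs m
    simp [u', h1]
  have hu'inj : Function.Injective (LinearMap.lTensor (IsLocalRing.ResidueField R) u') := by
    rw [injective_iff_map_eq_zero]
    intro w hw
    have h1 : LinearMap.lTensor (IsLocalRing.ResidueField R) (u ∘ₗ π) w = 0 := by
      have : u ∘ₗ π = LinearMap.fst R N (M →₀ R) ∘ₗ u' := by
        simp [u']
      rw [this, LinearMap.lTensor_comp_apply, hw, map_zero]
    have h2 : LinearMap.lTensor (IsLocalRing.ResidueField R) π w = 0 := by
      rw [LinearMap.lTensor_comp_apply] at h1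
      exact (injective_iff_map_eq_zero _).1 h _ h1
    have h3 : LinearMap.lTensor (IsLocalRing.ResidueField R) (LinearMap.id - s ∘ₗ π) w = 0 := by
      have : LinearMap.id - s ∘ₗ π = LinearMap.snd R N (M →₀ R) ∘ₗ u' := by
        simp [u']
      rw [this, LinearMap.lTensor_comp_apply, hw, map_zero]
    rw [LinearMap.lTensor_sub, LinearMap.sub_apply, LinearMap.lTensor_id, LinearMap.id_apply,
      LinearMap.lTensor_comp_apply, h2, map_zero, sub_zero] at h3
    exact h3
  haveI : Module.Flat R (N × (M →₀ R)) := flat_prod R N (M →₀ R)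
  have hmain := rTensor_injective_of_free (Finsupp.basisSingleOne (R := R) (ι := M)) u' hu'inj Q
  rw [injective_iff_map_eq_zero]
  intro t ht
  have h1 : LinearMap.rTensor Q (u' ∘ₗ s) t = 0 := by
    rw [hu's, LinearMap.rTensor_comp_apply, ht, map_zero]
  rw [LinearMap.rTensor_comp_apply] at h1
  have h2 : LinearMap.rTensor Q s t = 0 := (injective_iff_map_eq_zero _).1 hmain _ h1
  have h3 : LinearMap.rTensor Q (π ∘ₗ s) t = t := by
    rw [hπs, LinearMap.rTensor_id, LinearMap.id_apply]
  rw [← h3, LinearMap.rTensor_comp_apply, h2, map_zero]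

end

end Groth.Agent.H10
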