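import Groth.Agent.H10.DT3

/-!
# Formal lemmas: naturality of the evaluation map `evH` in the first variable

In a monoidal category where `- ⊗ X` has a right adjoint `H_X` for the relevant objects `X`.
-/

set_option autoImplicit false
universe v u
open CategoryTheory MonoidalCategory

namespace Groth.Agent.H10.WO.Gen

open Groth.Agent.H10.DT.Gen

variable {C : Type u} [Category.{v} C] [MonoidalCategory C]

section Conj

variable {K K' : C} (ι : K' ⟶ K) {HK HK' : C ⥤ C} (adjK : tensorRight K ⊣ HK)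
  (adjK' : tensorRight K' ⊣ HK')

/-- The map `H_K(L) ⟶ H_{K'}(L)` induced by `ι : K' ⟶ K`. -/
def conj (L : C) : HK.obj L ⟶ HK'.obj L :=
  adjK'.homEquiv _ _ ((HK.obj L ◁ ι) ≫ adjK.counit.app L)

@[reassoc]
lemma conj_counit (L : C) :
    (conj ι adjK adjK' L ▷ K') ≫ adjK'.counit.app L = (HK.obj L ◁ ι) ≫ adjK.counit.app L := by
  have := (adjK'.homEquiv _ _).symm_apply_apply ((HK.obj L ◁ ι) ≫ adjK.counit.app L)
  rw [Adjunction.homEquiv_counit] at this
  exact this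

lemma uncurry_comp_conj (L T : C) (g : T ⟶ HK.obj L) :
    ((g ≫ conj ι adjK adjK' L) ▷ K') ≫ adjK'.counit.app L =
      (T ◁ ι) ≫ (g ▷ K) ≫ adjK.counit.app L := by
  rw [comp_whiskerRight, Category.assoc, conj_counit, ← whisker_exchange_assoc]

/-- Through the adjunctions, composition with `conj` is precomposition with `ι`. -/
lemma bijective_comp_conj {T : C} {HT' : C ⥤ C} (adjT : tensorLeft T ⊣ HT') (L : C)
    (h : Function.Bijective (fun x : K ⟶ HT'.obj L => ι ≫ x)) :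
    Function.Bijective (fun g : T ⟶ HK.obj L => g ≫ conj ι adjK adjK' L) := by
  let e1 : (T ⟶ HK.obj L) ≃ (K ⟶ HT'.obj L) :=
    (adjK.homEquiv T L).symm.trans (adjT.homEquiv K L)
  let e2 : (T ⟶ HK'.obj L) ≃ (K' ⟶ HT'.obj L) :=
    (adjK'.homEquiv T L).symm.trans (adjT.homEquiv K' L)
  have key : ∀ g : T ⟶ HK.obj L, e2 (g ≫ conj ι adjK adjK' L) = ι ≫ e1 g := by
    intro g
    dsimp only [e1, e2, Equiv.trans_apply]
    rw [Adjunction.homEquiv_counit, Adjunction.homEquiv_counit]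
    have h1 := uncurry_comp_conj ι adjK adjK' L T g
    change ((g ≫ conj ι adjK adjK' L) ▷ K') ≫ adjK'.counit.app L = _ at h1
    erw [h1]
    exact adjT.homEquiv_naturality_left ι ((g ▷ K) ≫ adjK.counit.app L)
  have : (fun g : T ⟶ HK.obj L => g ≫ conj ι adjK adjK' L) =
      e2.symm ∘ (fun x : K ⟶ HT'.obj L => ι ≫ x) ∘ e1 := by
    funext g
    dsimp only [Function.comp]
    rw [← key, Equiv.symm_apply_apply]
  rw [this]
  exact e2.symm.bijective.comp (h.comp e1.bijective)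

end Conj

section EvH

variable {K K' : C} (ι : K' ⟶ K) {HK HK' : C ⥤ C} (adjK : tensorRight K ⊣ HK)
  (adjK' : tensorRight K' ⊣ HK')
  (σ : tensorLeft K ≅ tensorRight K) (σ' : tensorLeft K' ≅ tensorRight K')
  (hσ : ∀ X : C, (ι ▷ X) ≫ σ.hom.app X = σ'.hom.app X ≫ (X ◁ ι))
  (L : C) {HL : C ⥤ C} (adjL : tensorRight L ⊣ HL)
  {HH HH' : C ⥤ C} (adjHH : tensorRight (HK.obj L) ⊣ HH)
  (adjHH' : tensorRight (HK'.obj L) ⊣ HH')

include hσ in
lemma sEv_conj :
    (ι ▷ HK.obj L) ≫ sEv K adjK σ L =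
      (K' ◁ conj ι adjK adjK' L) ≫ sEv K' adjK' σ' L := by
  dsimp only [sEv]
  have h1 := σ'.hom.naturality (conj ι adjK adjK' L)
  dsimp at h1
  rw [reassoc_of% (hσ (HK.obj L)), reassoc_of% h1, conj_counit]

include hσ in
/-- Naturality of `evH` in `K`, in uncurried form. -/
theorem evH_natural (M T : C) (f : T ⟶ HL.obj M ⊗ K') :
    ((f ≫ (HL.obj M ◁ ι) ≫ evH K adjK σ L adjL adjHH M) ▷ HK.obj L) ≫ adjHH.counit.app M =
      (T ◁ conj ι adjK adjK' L) ≫
        ((f ≫ evH K' adjK' σ' L adjL adjHH' M) ▷ HK'.obj L) ≫ adjHH'.counit.app M := by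
  have e1 : (evH K adjK σ L adjL adjHH M ▷ HK.obj L) ≫ adjHH.counit.app M =
      (α_ (HL.obj M) K (HK.obj L)).hom ≫ HL.obj M ◁ sEv K adjK σ L ≫ adjL.counit.app M := by
    have := (adjHH.homEquiv _ _).symm_apply_apply
      ((α_ (HL.obj M) K (HK.obj L)).hom ≫ HL.obj M ◁ sEv K adjK σ L ≫ adjL.counit.app M)
    rw [Adjunction.homEquiv_counit] at this
    exact this
  have e2 : (evH K' adjK' σ' L adjL adjHH' M ▷ HK'.obj L) ≫ adjHH'.counit.app M =
      (α_ (HL.obj M) K' (HK'.obj L)).hom ≫ HL.obj M ◁ sEv K' adjK' σ' L ≫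
        adjL.counit.app M := by
    have := (adjHH'.homEquiv _ _).symm_apply_apply
      ((α_ (HL.obj M) K' (HK'.obj L)).hom ≫ HL.obj M ◁ sEv K' adjK' σ' L ≫ adjL.counit.app M)
    rw [Adjunction.homEquiv_counit] at this
    exact this
  have e3 := sEv_conj ι adjK adjK' σ σ' hσ L
  calc _ = (f ▷ HK.obj L) ≫ ((HL.obj M ◁ ι) ▷ HK.obj L) ≫
        (α_ (HL.obj M) K (HK.obj L)).hom ≫ HL.obj M ◁ sEv K adjK σ L ≫ adjL.counit.app M := by
        rw [comp_whiskerRight, comp_whiskerRight]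
        simp only [Category.assoc]
        rw [e1]
    _ = (f ▷ HK.obj L) ≫ (α_ (HL.obj M) K' (HK.obj L)).hom ≫
        HL.obj M ◁ ((ι ▷ HK.obj L) ≫ sEv K adjK σ L) ≫ adjL.counit.app M := by
        rw [MonoidalCategory.whiskerLeft_comp]
        simp only [Category.assoc]
        rw [← associator_naturality_middle_assoc]
    _ = (f ▷ HK.obj L) ≫ (α_ (HL.obj M) K' (HK.obj L)).hom ≫
        HL.obj M ◁ ((K' ◁ conj ι adjK adjK' L) ≫ sEv K' adjK' σ' L) ≫ adjL.counit.app M := by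
        rw [e3]
    _ = (f ▷ HK.obj L) ≫ ((HL.obj M ⊗ K') ◁ conj ι adjK adjK' L) ≫
        (α_ (HL.obj M) K' (HK'.obj L)).hom ≫ HL.obj M ◁ sEv K' adjK' σ' L ≫
        adjL.counit.app M := by
        rw [MonoidalCategory.whiskerLeft_comp]
        simp only [Category.assoc]
        rw [← associator_naturality_right_assoc]
    _ = _ := by
        rw [comp_whiskerRight, Category.assoc, e2, ← whisker_exchange_assoc]

include hσ in
/-- Transfer of bijectivity of `Hom(T, evH)` along `ι : K' ⟶ K`. -/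
theorem bijective_comp_evH (M T : C)
    (h1 : Function.Bijective (fun f : T ⟶ HL.obj M ⊗ K' => f ≫ (HL.obj M ◁ ι)))
    (h2 : Function.Bijective (fun g : T ⊗ HK'.obj L ⟶ M => (T ◁ conj ι adjK adjK' L) ≫ g))
    (h3 : Function.Bijective (fun f : T ⟶ HL.obj M ⊗ K' =>
      f ≫ evH K' adjK' σ' L adjL adjHH' M)) :
    Function.Bijective (fun f : T ⟶ HL.obj M ⊗ K => f ≫ evH K adjK σ L adjL adjHH M) := by
  let u : (T ⟶ HH.obj M) ≃ (T ⊗ HK.obj L ⟶ M) := (adjHH.homEquiv T M).symm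
  let u' : (T ⟶ HH'.obj M) ≃ (T ⊗ HK'.obj L ⟶ M) := (adjHH'.homEquiv T M).symm
  have key : ∀ f : T ⟶ HL.obj M ⊗ K',
      u ((f ≫ (HL.obj M ◁ ι)) ≫ evH K adjK σ L adjL adjHH M) =
        (T ◁ conj ι adjK adjK' L) ≫ u' (f ≫ evH K' adjK' σ' L adjL adjHH' M) := by
    intro f
    dsimp only [u, u']
    rw [Adjunction.homEquiv_counit, Adjunction.homEquiv_counit, Category.assoc]
    exact evH_natural ι adjK adjK' σ σ' hσ L adjL adjHH adjHH' M T f
  have h4 : Function.Bijective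
      ((fun f : T ⟶ HL.obj M ⊗ K => u (f ≫ evH K adjK σ L adjL adjHH M)) ∘
        (fun f : T ⟶ HL.obj M ⊗ K' => f ≫ (HL.obj M ◁ ι))) := by
    have : ((fun f : T ⟶ HL.obj M ⊗ K => u (f ≫ evH K adjK σ L adjL adjHH M)) ∘
        (fun f : T ⟶ HL.obj M ⊗ K' => f ≫ (HL.obj M ◁ ι))) =
        (fun g : T ⊗ HK'.obj L ⟶ M => (T ◁ conj ι adjK adjK' L) ≫ g) ∘ u' ∘
          (fun f : T ⟶ HL.obj M ⊗ K' => f ≫ evH K' adjK' σ' L adjL adjHH' M) := by
      funext f
      exact key f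
    rw [this]
    exact h2.comp (u'.bijective.comp h3)
  have h5 : Function.Bijective
      (fun f : T ⟶ HL.obj M ⊗ K => u (f ≫ evH K adjK σ L adjL adjHH M)) :=
    (Function.Bijective.of_comp_iff _ h1).1 h4
  have h6 : (fun f : T ⟶ HL.obj M ⊗ K => f ≫ evH K adjK σ L adjL adjHH M) =
      u.symm ∘ (fun f : T ⟶ HL.obj M ⊗ K => u (f ≫ evH K adjK σ L adjL adjHH M)) := by
    funext f
    simp
  rw [h6]
  exact u.symm.bijective.comp h5

/-- Precomposition with `T ◁ c` corresponds to precomposition with `c` under `T ⊗ - ⊣ HT'`. -/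
lemma bijective_whiskerLeft_comp {T : C} {HT' : C ⥤ C} (adjT : tensorLeft T ⊣ HT')
    {Y Y' : C} (c : Y ⟶ Y') (M : C)
    (h : Function.Bijective (fun w : Y' ⟶ HT'.obj M => c ≫ w)) :
    Function.Bijective (fun g : T ⊗ Y' ⟶ M => (T ◁ c) ≫ g) := by
  have key : ∀ g : T ⊗ Y' ⟶ M, adjT.homEquiv Y M ((T ◁ c) ≫ g) = c ≫ adjT.homEquiv Y' M g :=
    fun g => adjT.homEquiv_naturality_left c g
  have : (fun g : T ⊗ Y' ⟶ M => (T ◁ c) ≫ g) =
      (adjT.homEquiv Y M).symm ∘ (fun w : Y' ⟶ HT'.obj M => c ≫ w) ∘ (adjT.homEquiv Y' M) := by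
    funext g
    dsimp only [Function.comp]
    rw [← key, Equiv.symm_apply_apply]
  rw [this]
  exact (adjT.homEquiv Y M).symm.bijective.comp (h.comp (adjT.homEquiv Y' M).bijective)

end EvH

end Groth.Agent.H10.WO.Gen
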