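import Groth.Agent.H2.DualCx.Single
import Groth.Agent.H33.BrownGA.GenSingle

/-!
# Testing amplitude and isomorphisms in `D(A)` with the shifted units `A[-k]`
-/

set_option autoImplicit false
universe u
open CategoryTheory CategoryTheory.Limits Pretriangulated DerivedCategory
attribute [local instance] HasDerivedCategory.standard

namespace Groth.Agent.H10.WO

variable {A : Type u} [CommRing A]

/-- The ring `A` placed in degree `k`, as an object of `D(A)`. -/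
noncomputable abbrev Tk (k : ℤ) : Dual.D A :=
  (singleFunctor (ModuleCat.{u} A) k).obj (ModuleCat.of A A)

/-- `A[-k][k] ≅ A`. -/
noncomputable def TkShiftIso (k : ℤ) : (Tk (A := A) k)⟦k⟧ ≅ Dual.inD A A :=
  ((singleFunctors (ModuleCat.{u} A)).shiftIso k 0 k (by simp)).app (ModuleCat.of A A)

/-- `A[-(k+1)][1] ≅ A[-k]`. -/
noncomputable def TkSuccIso (k k' : ℤ) (h : k + 1 = k') : (Tk (A := A) k')⟦(1 : ℤ)⟧ ≅ Tk k :=
  ((singleFunctors (ModuleCat.{u} A)).shiftIso 1 k k' (by omega)).app (ModuleCat.of A A)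

/-- `Hom(A[-k], X) ≃ Hom(A, X[k])`. -/
noncomputable def homTkEquiv (k : ℤ) (X : Dual.D A) : (Tk k ⟶ X) ≃ (Dual.inD A A ⟶ X⟦k⟧) :=
  (Functor.FullyFaithful.ofFullyFaithful (shiftFunctor (Dual.D A) k)).homEquiv.trans
    ((TkShiftIso k).homCongr (Iso.refl _))

/-- `Hom(A[-(k+1)], X) ≃ Hom(A[-k], X[1])`. -/
noncomputable def homTkSuccEquiv (k k' : ℤ) (h : k + 1 = k') (X : Dual.D A) :
    (Tk k' ⟶ X) ≃ (Tk k ⟶ X⟦(1 : ℤ)⟧) :=
  (Functor.FullyFaithful.ofFullyFaithful (shiftFunctor (Dual.D A) (1 : ℤ))).homEquiv.trans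
    ((TkSuccIso k k' h).homCongr (Iso.refl _))

lemma homTkSuccEquiv_comp (k k' : ℤ) (h : k + 1 = k') {X Y : Dual.D A} (u : Tk k' ⟶ X)
    (f : X ⟶ Y) :
    homTkSuccEquiv k k' h Y (u ≫ f) = homTkSuccEquiv k k' h X u ≫ f⟦(1 : ℤ)⟧' := by
  simp [homTkSuccEquiv, Functor.FullyFaithful.homEquiv]

lemma subsingleton_hom_Tk_iff (k : ℤ) (X : Dual.D A) :
    Subsingleton (Tk k ⟶ X) ↔ IsZero ((homologyFunctor (ModuleCat.{u} A) k).obj X) := by
  rw [(homTkEquiv k X).subsingleton_congr]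
  rw [show Subsingleton (Dual.inD A A ⟶ X⟦k⟧) ↔ Subsingleton (Dual.HD A X k) from
    Groth.Agent.H2.DualCx.subsingleton_T_self_iff X k]
  exact ⟨fun h => ModuleCat.isZero_of_subsingleton _, fun h => ModuleCat.subsingleton_of_isZero h⟩

lemma hom_Tk_eq_zero_of_isLE (X : Dual.D A) (k n : ℤ) (h : n < k) [X.IsLE n] (u : Tk k ⟶ X) :
    u = 0 := by
  have := (subsingleton_hom_Tk_iff k X).2 (X.isZero_of_isLE n k h)
  exact Subsingleton.elim _ _

lemma hom_Tk_eq_zero_of_isGE (X : Dual.D A) (k n : ℤ) (h : k < n) [X.IsGE n] (u : Tk k ⟶ X) :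
    u = 0 := by
  have := (subsingleton_hom_Tk_iff k X).2 (X.isZero_of_isGE n k h)
  exact Subsingleton.elim _ _

lemma isLE_of_hom_Tk (X : Dual.D A) (n : ℤ) (h : ∀ k : ℤ, n < k → ∀ u : Tk k ⟶ X, u = 0) :
    X.IsLE n := by
  rw [isLE_iff]
  intro k hk
  rw [← subsingleton_hom_Tk_iff]
  exact ⟨fun u v => (h k hk u).trans (h k hk v).symm⟩

lemma isGE_of_hom_Tk (X : Dual.D A) (n : ℤ) (h : ∀ k : ℤ, k < n → ∀ u : Tk k ⟶ X, u = 0) :
    X.IsGE n := by
  rw [isGE_iff]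
  intro k hk
  rw [← subsingleton_hom_Tk_iff]
  exact ⟨fun u v => (h k hk u).trans (h k hk v).symm⟩

/-- The key step of the long exact sequence. -/
lemma hom_Tk_cone_eq_zero (T : Triangle (Dual.D A)) (hT : T ∈ distTriang (Dual.D A)) (k k' : ℤ)
    (hk : k + 1 = k')
    (hs : Function.Surjective (fun u : Tk k ⟶ T.obj₁ => u ≫ T.mor₁))
    (hi : Function.Injective (fun u : Tk k' ⟶ T.obj₁ => u ≫ T.mor₁))
    (g : Tk k ⟶ T.obj₃) : g = 0 := by
  have h1 : (g ≫ T.mor₃) ≫ T.mor₁⟦(1 : ℤ)⟧' = 0 := by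
    rw [Category.assoc, comp_distTriang_mor_zero₃₁ T hT, comp_zero]
  obtain ⟨v, hv⟩ := (homTkSuccEquiv k k' hk T.obj₁).surjective (g ≫ T.mor₃)
  have h2 : homTkSuccEquiv k k' hk T.obj₂ (v ≫ T.mor₁) = homTkSuccEquiv k k' hk T.obj₂ 0 := by
    rw [homTkSuccEquiv_comp, hv, h1]
    have := homTkSuccEquiv_comp k k' hk (0 : Tk k' ⟶ T.obj₁) T.mor₁
    rw [zero_comp] at this
    rw [this]
    have h0 : homTkSuccEquiv k k' hk T.obj₁ 0 = 0 := by
      simp [homTkSuccEquiv, Functor.FullyFaithful.homEquiv]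
    rw [h0, zero_comp]
  have h3 : v ≫ T.mor₁ = 0 := (homTkSuccEquiv k k' hk T.obj₂).injective h2
  have h4 : v = 0 := hi (by simpa using h3)
  have h5 : g ≫ T.mor₃ = 0 := by
    rw [← hv, h4]
    simp [homTkSuccEquiv, Functor.FullyFaithful.homEquiv]
  obtain ⟨w, hw⟩ := Triangle.coyoneda_exact₃ T hT g h5
  obtain ⟨w', hw'⟩ := hs w
  rw [hw, ← hw']
  dsimp only
  rw [Category.assoc, comp_distTriang_mor_zero₁₂ T hT, comp_zero]

/-- A morphism of `D(A)` inducing bijections on `Hom(A[-k], -)` for all `k` is an isomorphism. -/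
theorem isIso_of_bijective_hom_Tk {X Y : Dual.D A} (f : X ⟶ Y)
    (h : ∀ k : ℤ, Function.Bijective (fun u : Tk k ⟶ X => u ≫ f)) : IsIso f := by
  obtain ⟨Z, b, c, hT⟩ := distinguished_cocone_triangle f
  have hZ : IsZero Z := by
    apply Groth.Agent.H33.BrownGA.isZero_of_isZero_homology
    intro n
    rw [← subsingleton_hom_Tk_iff]
    refine ⟨fun u v => ?_⟩
    have h0 := fun g => hom_Tk_cone_eq_zero (Triangle.mk f b c) hT n (n + 1) rfl
      (h n).2 (h (n + 1)).1 g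
    exact (h0 u).trans (h0 v).symm
  exact (Triangle.isZero₃_iff_isIso₁ _ hT).1 hZ

/-- If `T.mor₁` induces bijections on `Hom(A[-k], -)` for `k < m`, the cone is in `D^{≥ m-1}`. -/
theorem isGE_cone_of_bijective_hom_Tk (T : Triangle (Dual.D A)) (hT : T ∈ distTriang (Dual.D A))
    (m m' : ℤ) (hm : m' + 1 = m)
    (h : ∀ k : ℤ, k < m → Function.Bijective (fun u : Tk k ⟶ T.obj₁ => u ≫ T.mor₁)) :
    T.obj₃.IsGE m' := by
  apply isGE_of_hom_Tk
  intro k hk g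
  exact hom_Tk_cone_eq_zero T hT k (k + 1) rfl (h k (by omega)).2 (h (k + 1) (by omega)).1 g

end Groth.Agent.H10.WO
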