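import Groth.Agent.H10.WO3
import Groth.Agent.H45.KFlat.StupidFiltration
import Groth.Agent.H35.KFTwoOfThree
import Mathlib.Algebra.Homology.DerivedCategory.ShortExact

/-!
# Perfect approximations of a bounded above complex of finite free modules
-/

set_option autoImplicit false
universe u
open CategoryTheory CategoryTheory.Limits MonoidalCategory DerivedCategory
attribute [local instance] HasDerivedCategory.standard

namespace Groth.Agent.H10.WO

open DTen Groth.Agent.H10.DT HomologicalComplex Groth.Agent.H45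

variable {A : Type u} [CommRing A] (E : DRing.Cx A)

/-- The stupid truncation `σ_{≥ -N} E`. -/
noncomputable abbrev EN (N : ℤ) : DRing.Cx A := sigmaGE E (-N)

/-- The quotient `E / σ_{≥ -N} E = σ_{≤ -N-1} E`. -/
noncomputable abbrev CN (N : ℤ) : DRing.Cx A :=
  E.stupidTrunc (ComplexShape.embeddingUpIntLE (-N - 1))

/-- The inclusion. -/
noncomputable abbrev iN (N : ℤ) : EN E N ⟶ E := ιSigmaGE E (-N)

/-- The projection. -/
noncomputable abbrev pN (N : ℤ) : E ⟶ CN E N := πStupidLE E (-N - 1)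

lemma isZero_CN_X (N q : ℤ) (hq : -N - 1 < q) : IsZero ((CN E N).X q) :=
  isZero_stupidTruncLE_X E (-N - 1) q hq

lemma isIso_pN_f (N q : ℤ) (hq : q ≤ -N - 1) : IsIso ((pN E N).f q) :=
  isIso_πStupidLE_f E (-N - 1) q hq

lemma isIso_iN_f (N q : ℤ) (hq : -N ≤ q) : IsIso ((iN E N).f q) :=
  isIso_ιSigmaGE_f E (-N) q hq

lemma isZero_EN_X (N q : ℤ) (hq : q < -N) : IsZero ((EN E N).X q) :=
  isZero_sigmaGE_X E (-N) q hq

instance epi_pN (N : ℤ) : Epi (pN E N) := by
  have : ∀ q, Epi ((pN E N).f q) := fun q => by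
    by_cases hq : q ≤ -N - 1
    · have := isIso_pN_f E N q hq
      infer_instance
    · exact ⟨fun g h _ => (isZero_CN_X E N q (by omega)).eq_of_src _ _⟩
  exact HomologicalComplex.epi_of_epi_f _ this

/-- The short complex `σ_{≥ -N} E ⟶ E ⟶ σ_{≤ -N-1} E`. -/
noncomputable def SN (N : ℤ) : ShortComplex (DRing.Cx A) :=
  ShortComplex.mk (iN E N) (pN E N) (kernel.condition _)

lemma shortExact_SN (N : ℤ) : (SN E N).ShortExact where
  exact := ShortComplex.exact_of_f_is_kernel _ (kernelIsKernel _)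
  mono_f := inferInstanceAs (Mono (kernel.ι _))
  epi_g := epi_pN E N

lemma flat_CN_X (hE : ∀ i, Module.Flat A (E.X i)) (N q : ℤ) : Module.Flat A ((CN E N).X q) := by
  by_cases hq : q ≤ -N - 1
  · have := isIso_pN_f E N q hq
    exact Module.Flat.of_linearEquiv (asIso ((pN E N).f q)).symm.toLinearEquiv
  · have := ModuleCat.subsingleton_of_isZero (isZero_CN_X E N q (by omega))
    infer_instance

lemma isKFlat_CN (hE : ∀ i, Module.Flat A (E.X i)) (N : ℤ) : DRing.IsKFlat A (CN E N) :=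
  isKFlat_of_bounded_flat (CN E N) (-N - 1) (fun i hi => isZero_CN_X E N i hi)
    (flat_CN_X E hE N)

lemma flat_EN_X (hE : ∀ i, Module.Flat A (E.X i)) (N q : ℤ) : Module.Flat A ((EN E N).X q) := by
  by_cases hq : -N ≤ q
  · have := isIso_iN_f E N q hq
    exact Module.Flat.of_linearEquiv (asIso ((iN E N).f q)).toLinearEquiv
  · have := ModuleCat.subsingleton_of_isZero (isZero_EN_X E N q (by omega))
    infer_instance

lemma isZero_EN_X_of_gt (b : ℤ) (hb : DRing.VanishesAbove E b) (N q : ℤ) (hq : b < q) :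
    IsZero ((EN E N).X q) := by
  by_cases hq' : -N ≤ q
  · have := isIso_iN_f E N q hq'
    exact (hb q hq).of_iso (asIso ((iN E N).f q))
  · exact isZero_EN_X E N q (by omega)

lemma isKFlat_EN (b : ℤ) (hb : DRing.VanishesAbove E b) (hE : ∀ i, Module.Flat A (E.X i))
    (N : ℤ) : DRing.IsKFlat A (EN E N) :=
  isKFlat_of_bounded_flat (EN E N) b (fun i hi => isZero_EN_X_of_gt E b hb N i hi)
    (flat_EN_X E hE N)

lemma isPerfect_EN (b : ℤ) (hb : DRing.VanishesAbove E b) (hE : DRing.TermwiseFiniteFree E)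
    (N : ℤ) : DRing.IsPerfect A (q (EN E N)) := by
  refine ⟨EN E N, -N, b, ?_, ?_, ⟨Iso.refl _⟩⟩
  · rintro i (hi | hi)
    · exact isZero_EN_X E N i hi
    · exact isZero_EN_X_of_gt E b hb N i hi
  · intro i
    by_cases hq : -N ≤ i
    · have := isIso_iN_f E N i hq
      have e := (asIso ((iN E N).f i)).toLinearEquiv
      have h1 := (hE i).1
      have h2 := (hE i).2
      exact ⟨Module.Finite.equiv e.symm, Module.Projective.of_equiv e.symm⟩
    · have := ModuleCat.subsingleton_of_isZero (isZero_EN_X E N i (by omega))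
      exact ⟨inferInstance, inferInstance⟩

instance isLE_CN (N : ℤ) : (q (CN E N)).IsLE (-N - 1) := by
  have : (CN E N).IsStrictlyLE (-N - 1) := by
    rw [CochainComplex.isStrictlyLE_iff]
    exact fun i hi => isZero_CN_X E N i hi
  infer_instance

/-- The distinguished triangle `σ_{≥ -N} E ⟶ E ⟶ σ_{≤ -N-1} E ⟶`. -/
noncomputable def triN (N : ℤ) : Pretriangulated.Triangle (Dual.D A) :=
  triangleOfSES (shortExact_SN E N)

lemma triN_distinguished (N : ℤ) : triN E N ∈ distTriang (Dual.D A) :=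
  triangleOfSES_distinguished (shortExact_SN E N)

/-- Tensoring the short exact sequence with a complex on the left. -/
lemma shortExact_tensor_SN (hE : ∀ i, Module.Flat A (E.X i)) (N : ℤ) (X₀ : DRing.Cx A) :
    ((SN E N).map (tensorLeft X₀)).ShortExact :=
  Groth.Agent.H35.KF.shortExact_map_tensorLeft_of_flat (SN E N) (shortExact_SN E N)
    (flat_CN_X E hE N) X₀

/-- The distinguished triangle `X₀ ⊗ σ_{≥ -N} E ⟶ X₀ ⊗ E ⟶ X₀ ⊗ σ_{≤ -N-1} E ⟶`. -/
noncomputable def triTN (hE : ∀ i, Module.Flat A (E.X i)) (N : ℤ) (X₀ : DRing.Cx A) :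
    Pretriangulated.Triangle (Dual.D A) :=
  triangleOfSES (shortExact_tensor_SN E hE N X₀)

lemma triTN_distinguished (hE : ∀ i, Module.Flat A (E.X i)) (N : ℤ) (X₀ : DRing.Cx A) :
    triTN E hE N X₀ ∈ distTriang (Dual.D A) :=
  triangleOfSES_distinguished (shortExact_tensor_SN E hE N X₀)

/-- `X₀ ⊗ σ_{≤ -N-1} E` is in `D^{≤ c - N - 1}` when `X₀` is in `D^{≤ c}`. -/
lemma isLE_tensor_CN (hE : ∀ i, Module.Flat A (E.X i)) (N : ℤ) (X₀ : DRing.Cx A) (c n : ℤ)
    [X₀.IsLE c] (hn : c + (-N - 1) = n) : (q (X₀ ⊗ CN E N)).IsLE n := by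
  have h3 : (CN E N ⊗ X₀).IsLE n := by
    rw [CochainComplex.isLE_iff]
    intro i hi
    exact Groth.Agent.H35.LT.exactAt_tensor_of_gt (CN E N) X₀ (isKFlat_CN E hE N) (-N - 1) c
      (fun p hp => isZero_CN_X E N p hp) i (by omega)
  have h4 : (q (CN E N ⊗ X₀)).IsLE n := inferInstance
  exact TStructure.t.isLE_of_iso
    (Q.mapIso (Groth.Agent.H35.KF.tensorSwapIso (CN E N) X₀)) n

end Groth.Agent.H10.WO
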