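import Groth.Agent.H10.WO4
import Groth.Agent.H10.WO1

/-!
# Way-out lemmas in `D(A)`: bijectivity of `Hom` maps from triangles, amplitude of `RHom`
-/

set_option autoImplicit false
universe u
open CategoryTheory CategoryTheory.Limits MonoidalCategory DerivedCategory Pretriangulated
attribute [local instance] HasDerivedCategory.standard

namespace Groth.Agent.H10.WO

open DTen Groth.Agent.H10.DT

variable {A : Type u} [CommRing A]

/-- If the cone of `T.mor₁` is in `D^{≤ n}` with `n + 1 < j`, then `T.mor₁` induces a bijection on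
`Hom(A[-j], -)`. -/
lemma bijective_hom_Tk_mor₁ (T : Triangle (Dual.D A)) (hT : T ∈ distTriang (Dual.D A)) (j n : ℤ)
    [T.obj₃.IsLE n] (h : n + 1 < j) :
    Function.Bijective (fun u : Tk j ⟶ T.obj₁ => u ≫ T.mor₁) := by
  constructor
  · intro u v huv
    have h0 : (u - v) ≫ T.mor₁ = 0 := by
      rw [Preadditive.sub_comp]
      exact sub_eq_zero.2 huv
    obtain ⟨g, hg⟩ := Triangle.coyoneda_exact₂ _ (inv_rot_of_distTriang _ hT) (u - v) h0
    have : (T.obj₃⟦(-1 : ℤ)⟧).IsLE (n + 1) := TStructure.t.isLE_shift T.obj₃ n (-1) (n + 1)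
    have hg0 : g = 0 := hom_Tk_eq_zero_of_isLE (T.obj₃⟦(-1 : ℤ)⟧) j (n + 1) h g
    rw [hg0, zero_comp] at hg
    exact sub_eq_zero.1 hg
  · intro v
    have hv : v ≫ T.mor₂ = 0 := hom_Tk_eq_zero_of_isLE T.obj₃ j n (by omega) _
    obtain ⟨u, hu⟩ := Triangle.coyoneda_exact₂ T hT v hv
    exact ⟨u, hu.symm⟩

/-- If there are no nonzero maps from the cone of `T.mor₁` and its shift by `-1` to `W`, then
`T.mor₁` induces a bijection on `Hom(-, W)`. -/
lemma bijective_precomp_mor₁ (T : Triangle (Dual.D A)) (hT : T ∈ distTriang (Dual.D A))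
    (W : Dual.D A) (h₃ : ∀ f : T.obj₃ ⟶ W, f = 0) (h₃' : ∀ f : T.obj₃⟦(-1 : ℤ)⟧ ⟶ W, f = 0) :
    Function.Bijective (fun w : T.obj₂ ⟶ W => T.mor₁ ≫ w) := by
  constructor
  · intro u v huv
    have h0 : T.mor₁ ≫ (u - v) = 0 := by
      rw [Preadditive.comp_sub]
      exact sub_eq_zero.2 huv
    obtain ⟨g, hg⟩ := Triangle.yoneda_exact₂ T hT (u - v) h0
    rw [h₃ g, comp_zero] at hg
    exact sub_eq_zero.1 hg
  · intro v
    have hv : (T.invRotate).mor₁ ≫ v = 0 := h₃' _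
    obtain ⟨w, hw⟩ := Triangle.yoneda_exact₂ _ (inv_rot_of_distTriang _ hT) v hv
    exact ⟨w, hw.symm⟩

/-- Transport of bijectivity of postcomposition along a commutative square of isomorphisms. -/
lemma bijective_postcomp_of_sq {T X Y X' Y' : Dual.D A} (f : X ⟶ Y) (f' : X' ⟶ Y')
    (a : X ≅ X') (b : Y ≅ Y') (h : f ≫ b.hom = a.hom ≫ f')
    (hf' : Function.Bijective (fun u : T ⟶ X' => u ≫ f')) :
    Function.Bijective (fun u : T ⟶ X => u ≫ f) := by
  have : (fun u : T ⟶ X => u ≫ f) =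
      (fun v : T ⟶ Y' => v ≫ b.inv) ∘ (fun u : T ⟶ X' => u ≫ f') ∘ (fun u : T ⟶ X => u ≫ a.hom) := by
    funext u
    simp only [Function.comp, Category.assoc]
    rw [← reassoc_of% h, Iso.hom_inv_id, Category.comp_id]
  rw [this]
  refine Function.Bijective.comp ?_ (hf'.comp ?_)
  · exact ⟨fun u v huv => by simpa using congrArg (· ≫ b.hom) huv,
      fun v => ⟨v ≫ b.hom, by simp⟩⟩
  · exact ⟨fun u v huv => by simpa using congrArg (· ≫ a.inv) huv,
      fun v => ⟨v ≫ a.inv, by simp⟩⟩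

section RHom

variable [DTen.HasLTen A] [DTen.HasLTen₃ A] [DTen.IsSymMonoidal A] [DTen.HasRHom A]

attribute [local instance] DT.monoidal

/-- The adjunction `T ⊗^L - ⊣ RHom(T, -)`. -/
noncomputable def lAdj (T : Dual.D A) : tensorLeft T ⊣ RHomR A T :=
  (rAdj T).ofNatIsoLeft (sigmaIso T).symm

/-- `RHom(A[-k], L)` is in `D^{≥ n - k}` for `L` in `D^{≥ n}`. -/
lemma isGE_RHomR_Tk (k n m : ℤ) (hm : m + k = n) (L : Dual.D A) [L.IsGE n] :
    ((RHomR A (Tk k)).obj L).IsGE m := by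
  apply isGE_of_hom_Tk
  intro r hr u
  apply ((lAdj (Tk k)).homEquiv _ _).symm.injective
  have : (tn (Tk (A := A) k) (Tk r)).IsLE (k + r) := isLE_tn_Tk k r (k + r) rfl (Tk r)
  have h0 : ∀ f : tn (Tk (A := A) k) (Tk r) ⟶ L, f = 0 := fun f =>
    TStructure.t.zero f (k + r) n (by omega)
  exact (h0 _).trans (h0 _).symm

/-- `RHom(L, M)` is in `D^{≤ b - n}` for `L` in `D^{≥ n}` and `M` of injective amplitude
`[a, b]`. -/
lemma isLE_RHomR_of_hasInjAmplitudeIn (L M : Dual.D A) (n a b c : ℤ) (hc : c + n = b)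
    [L.IsGE n] (hM : DRing.HasInjAmplitudeIn A a b M) : ((RHomR A L).obj M).IsLE c := by
  apply isLE_of_hom_Tk
  intro k hk u
  apply ((rAdj L).homEquiv _ _).symm.injective
  have : (tn (Tk (A := A) k) L).IsGE (k + n) := isGE_tn_Tk k n (k + n) rfl L
  have h0 : ∀ f : tn (Tk (A := A) k) L ⟶ M, f = 0 := fun f =>
    hom_eq_zero_of_hasInjAmplitudeIn M a b hM _ (k + n) (by omega) f
  exact (h0 _).trans (h0 _).symm

/-- No nonzero maps from `D^{≥ m}` to `RHom(A[-j], M)` when `j + m > b`. -/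
lemma hom_RHomR_Tk_eq_zero (M : Dual.D A) (a b : ℤ) (hM : DRing.HasInjAmplitudeIn A a b M)
    (j m : ℤ) (h : b < j + m) (Z : Dual.D A) [Z.IsGE m] (f : Z ⟶ (RHomR A (Tk j)).obj M) :
    f = 0 := by
  apply ((lAdj (Tk j)).homEquiv _ _).symm.injective
  have : (tn (Tk (A := A) j) Z).IsGE (j + m) := isGE_tn_Tk j m (j + m) rfl Z
  have h0 : ∀ g : tn (Tk (A := A) j) Z ⟶ M, g = 0 := fun g =>
    hom_eq_zero_of_hasInjAmplitudeIn M a b hM _ (j + m) h g
  exact (h0 _).trans (h0 _).symm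

end RHom

end Groth.Agent.H10.WO
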