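import Groth.Agent.H10.WO5

/-!
# The evaluation map `RHom(L, M) ⊗^L K ⟶ RHom(RHom(K, L), M)` for `K` pseudo-coherent
-/

set_option autoImplicit false
universe u
open CategoryTheory CategoryTheory.Limits MonoidalCategory DerivedCategory Pretriangulated
attribute [local instance] HasDerivedCategory.standard

namespace Groth.Agent.H10.WO

open DTen Groth.Agent.H10.DT

variable {A : Type u} [CommRing A]
  [DTen.HasLTen A] [DTen.HasLTen₃ A] [DTen.IsSymMonoidal A]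

attribute [local instance] DT.monoidal

lemma sigmaIso_natural {K K' : Dual.D A} (ι : K' ⟶ K) (X : Dual.D A) :
    (ι ▷ X) ≫ (sigmaIso K).hom.app X = (sigmaIso K').hom.app X ≫ (X ◁ ι) :=
  (symm A).naturality (Prod.mkHom (𝟙 X) ι : (X, K') ⟶ (X, K))

omit [DTen.HasLTen₃ A] [DTen.IsSymMonoidal A] in
/-- Step (i): `X ⊗^L σ_{≥ -N} E ⟶ X ⊗^L E` induces a bijection on `Hom(A[-j], -)` for `N`
large. -/
lemma bijective_whiskerLeft_iN (E : DRing.Cx A) (b' : ℤ) (hb : DRing.VanishesAbove E b')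
    (hE : ∀ i, Module.Flat A (E.X i)) (X : Dual.D A) (c : ℤ) [X.IsLE c] (N j : ℤ)
    (h : c - N < j) :
    Function.Bijective (fun f : Tk j ⟶ tn X (q (EN E N)) => f ≫ tm (𝟙 X) (qm (iN E N))) := by
  let X₀ := Q.objPreimage X
  let e : X ≅ q X₀ := (Q.objObjPreimageIso X).symm
  have h1 : (Q.obj X₀).IsLE c := TStructure.t.isLE_of_iso e c
  have h2 : X₀.IsLE c := (isLE_Q_obj_iff X₀ c).1 h1
  have hT := triTN_distinguished E hE N X₀
  have : (triTN E hE N X₀).obj₃.IsLE (c - N - 1) :=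
    isLE_tensor_CN E hE N X₀ c (c - N - 1) (by omega)
  have hbij := bijective_hom_Tk_mor₁ (triTN E hE N X₀) hT j (c - N - 1) (by omega)
  have i1 : IsIso (ee X₀ (EN E N)) := isIso_ee _ _ (Or.inr (isKFlat_EN E b' hb hE N))
  have i2 : IsIso (ee X₀ E) := isIso_ee _ _ (Or.inr (isKFlat_of_bounded_flat E b' hb hE))
  let a : tn X (q (EN E N)) ≅ q (X₀ ⊗ EN E N) :=
    (LTen₂ A).mapIso (Iso.prod e (Iso.refl _)) ≪≫ asIso (ee X₀ (EN E N))
  let b : tn X (q E) ≅ q (X₀ ⊗ E) :=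
    (LTen₂ A).mapIso (Iso.prod e (Iso.refl _)) ≪≫ asIso (ee X₀ E)
  refine bijective_postcomp_of_sq (tm (𝟙 X) (qm (iN E N))) (qm (X₀ ◁ iN E N)) a b ?_ hbij
  have h3 : tm (𝟙 (q X₀)) (qm (iN E N)) ≫ ee X₀ E = ee X₀ (EN E N) ≫ qm (X₀ ◁ iN E N) :=
    ε_naturality_right X₀ (iN E N)
  change tm (𝟙 X) (qm (iN E N)) ≫ tm e.hom (𝟙 _) ≫ ee X₀ E =
    (tm e.hom (𝟙 _) ≫ ee X₀ (EN E N)) ≫ qm (X₀ ◁ iN E N)
  rw [Category.assoc, ← h3, ← tm_comp_assoc, ← tm_comp_assoc]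
  simp only [Category.id_comp, Category.comp_id]

variable [DTen.HasRHom A]

/-- Step (ii). -/
lemma bijective_whiskerLeft_conj {K KN C : Dual.D A} (ι : KN ⟶ K) (p : K ⟶ C)
    (δ : C ⟶ KN⟦(1 : ℤ)⟧) (hT : Triangle.mk ι p δ ∈ distTriang (Dual.D A)) (N : ℤ)
    [C.IsLE (-N - 1)] (L : Dual.D A) (n : ℤ) [L.IsGE n] (M : Dual.D A) (a b : ℤ)
    (hM : DRing.HasInjAmplitudeIn A a b M) (j : ℤ) (hN : b - n - j + 1 < N) :
    Function.Bijective (fun g : tn (Tk j) ((RHomR A KN).obj L) ⟶ M =>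
      (Tk j ◁ Gen.conj ι (rAdj K) (rAdj KN) L) ≫ g) := by
  apply Gen.bijective_whiskerLeft_comp (lAdj (Tk j)) (Gen.conj ι (rAdj K) (rAdj KN) L) M
  obtain ⟨Z, p', δ', hT'⟩ := distinguished_cocone_triangle (Gen.conj ι (rAdj K) (rAdj KN) L)
  -- the cone of `conj` is in `D^{≥ n + N - 1}`
  have hZ : Z.IsGE (n + N - 1) := by
    refine isGE_cone_of_bijective_hom_Tk _ hT' (n + N) (n + N - 1) (by omega) ?_
    intro k hk
    apply Gen.bijective_comp_conj ι (rAdj K) (rAdj KN) (lAdj (Tk k)) L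
    have hW : ((RHomR A (Tk k)).obj L).IsGE (n - k) := isGE_RHomR_Tk k n (n - k) (by omega) L
    refine bijective_precomp_mor₁ (Triangle.mk ι p δ) hT _ ?_ ?_
    · intro f
      change C ⟶ _ at f
      exact TStructure.t.zero f (-N - 1) (n - k) (by omega)
    · intro f
      change C⟦(-1 : ℤ)⟧ ⟶ _ at f
      have : (C⟦(-1 : ℤ)⟧).IsLE (-N) := TStructure.t.isLE_shift C (-N - 1) (-1) (-N)
      exact TStructure.t.zero f (-N) (n - k) (by omega)
  refine bijective_precomp_mor₁ (Triangle.mk (Gen.conj ι (rAdj K) (rAdj KN) L) p' δ') hT' _ ?_ ?_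
  · intro f
    exact hom_RHomR_Tk_eq_zero M a b hM j (n + N - 1) (by omega) Z f
  · intro f
    change Z⟦(-1 : ℤ)⟧ ⟶ _ at f
    have : (Z⟦(-1 : ℤ)⟧).IsGE (n + N) := TStructure.t.isGE_shift Z (n + N - 1) (-1) (n + N)
    exact hom_RHomR_Tk_eq_zero M a b hM j (n + N) (by omega) (Z⟦(-1 : ℤ)⟧) f

/-- The evaluation map induces a bijection on `Hom(A[-j], -)` when `K` has a perfect
approximation `KN ⟶ K` with cone in `D^{≤ -N-1}`, `N` large. -/
lemma bijective_comp_evalHom {K KN C : Dual.D A} (ι : KN ⟶ K) (p : K ⟶ C)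
    (δ : C ⟶ KN⟦(1 : ℤ)⟧) (hT : Triangle.mk ι p δ ∈ distTriang (Dual.D A)) (N : ℤ)
    [C.IsLE (-N - 1)] (hKN : DRing.IsPerfect A KN) (L : Dual.D A) (n : ℤ) [L.IsGE n]
    (M : Dual.D A) (a b : ℤ) (hM : DRing.HasInjAmplitudeIn A a b M) (j : ℤ)
    (hN : b - n - j + 1 < N)
    (h1 : Function.Bijective (fun f : Tk j ⟶ tn ((RHomR A L).obj M) KN =>
      f ≫ tm (𝟙 ((RHomR A L).obj M)) ι)) :
    Function.Bijective (fun f : Tk j ⟶ tn ((RHomR A L).obj M) K => f ≫ evalHom K L M) := by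
  have h2 := bijective_whiskerLeft_conj ι p δ hT N L n M a b hM j hN
  have i3 : IsIso (evalHom KN L M) := isIso_evalHom_of_isPerfect KN L M hKN
  have h3 : Function.Bijective (fun f : Tk j ⟶ tn ((RHomR A L).obj M) KN =>
      f ≫ evalHom KN L M) :=
    ⟨fun u v huv => by simpa using congrArg (· ≫ inv (evalHom KN L M)) huv,
      fun v => ⟨v ≫ inv (evalHom KN L M), by simp⟩⟩
  exact Gen.bijective_comp_evH ι (rAdj K) (rAdj KN) (sigmaIso K) (sigmaIso KN)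
    (sigmaIso_natural ι) L (rAdj L) (rAdj ((RHomR A K).obj L)) (rAdj ((RHomR A KN).obj L))
    M (Tk j) h1 h2 h3

/-- **S13890**: the evaluation map is an isomorphism for `K` pseudo-coherent, `L` bounded below
and `M` of finite injective dimension. -/
theorem isIso_evalHom_of_isPseudoCoherent (K L M : Dual.D A) (hK : DRing.IsPseudoCoherent' A K)
    (n : ℤ) [L.IsGE n] (hM : DRing.HasFiniteInjDim A M) : IsIso (evalHom K L M) := by
  obtain ⟨E, b', hb, hE, ⟨e⟩⟩ := hK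
  obtain ⟨a, b, hM⟩ := hM
  have hfl : ∀ i, Module.Flat A (E.X i) := fun i => by
    have := (hE i).2
    infer_instance
  apply isIso_of_bijective_hom_Tk
  intro j
  let N : ℤ := b - n - j + 2
  have hT₀ := triN_distinguished E N
  let T₁ : Triangle (Dual.D A) :=
    Triangle.mk (qm (iN E N) ≫ e.hom) (e.inv ≫ qm (pN E N)) (triN E N).mor₃
  have hT₁ : T₁ ∈ distTriang (Dual.D A) := by
    refine isomorphic_distinguished _ hT₀ _ ?_
    refine Triangle.isoMk _ _ (Iso.refl _) e.symm (Iso.refl _) ?_ ?_ ?_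
    · change (qm (iN E N) ≫ e.hom) ≫ e.inv = 𝟙 _ ≫ qm (iN E N)
      simp
    · change (e.inv ≫ qm (pN E N)) ≫ 𝟙 _ = e.inv ≫ qm (pN E N)
      simp
    · change (triN E N).mor₃ ≫ (𝟙 _)⟦(1 : ℤ)⟧' = 𝟙 _ ≫ (triN E N).mor₃
      simp
  have : (q (CN E N)).IsLE (-N - 1) := isLE_CN E N
  have hX : ((RHomR A L).obj M).IsLE (b - n) :=
    isLE_RHomR_of_hasInjAmplitudeIn L M n a b (b - n) (by omega) hM
  refine bijective_comp_evalHom (qm (iN E N) ≫ e.hom) (e.inv ≫ qm (pN E N)) (triN E N).mor₃ hT₁ N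
    (isPerfect_EN E b' hb hE N) L n M a b hM j (by omega) ?_
  have h0 := bijective_whiskerLeft_iN E b' hb hfl ((RHomR A L).obj M) (b - n) N j (by omega)
  have : (fun f : Tk j ⟶ tn ((RHomR A L).obj M) (q (EN E N)) =>
      f ≫ tm (𝟙 ((RHomR A L).obj M)) (qm (iN E N) ≫ e.hom)) =
      (fun v : Tk j ⟶ tn ((RHomR A L).obj M) (q E) => v ≫ tm (𝟙 ((RHomR A L).obj M)) e.hom) ∘
      (fun f : Tk j ⟶ tn ((RHomR A L).obj M) (q (EN E N)) =>
        f ≫ tm (𝟙 ((RHomR A L).obj M)) (qm (iN E N))) := by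
    funext f
    dsimp only [Function.comp]
    rw [Category.assoc, ← tm_comp, Category.comp_id]
  rw [this]
  refine Function.Bijective.comp ?_ h0
  exact ⟨fun u v huv => by
      simpa using congrArg (· ≫ inv (tm (𝟙 ((RHomR A L).obj M)) e.hom)) huv,
    fun v => ⟨v ≫ inv (tm (𝟙 ((RHomR A L).obj M)) e.hom), by simp⟩⟩

end Groth.Agent.H10.WO
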