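import Groth.Agent.H10.WO1

/-!
# Formal lemmas: naturality of the evaluation map `evT` in the `RHom` variable
-/

set_option autoImplicit false
universe v u
open CategoryTheory MonoidalCategory

namespace Groth.Agent.H10.WO.Gen

open Groth.Agent.H10.DT.Gen

variable {C : Type u} [Category.{v} C] [MonoidalCategory C]

variable {K K' : C} (ι : K' ⟶ K) {HK HK' : C ⥤ C} (adjK : tensorRight K ⊣ HK)
  (adjK' : tensorRight K' ⊣ HK') (P M : C)

/-- Naturality of `evT` in `K`, in uncurried form. -/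
theorem evT_natural (T : C) (f : T ⟶ P ⊗ HK.obj M) :
    ((f ≫ (P ◁ conj ι adjK adjK' M) ≫ evT P K' adjK' M) ▷ K') ≫ adjK'.counit.app (P ⊗ M) =
      (T ◁ ι) ≫ ((f ≫ evT P K adjK M) ▷ K) ≫ adjK.counit.app (P ⊗ M) := by
  have e1 : (evT P K adjK M ▷ K) ≫ adjK.counit.app (P ⊗ M) =
      (α_ P (HK.obj M) K).hom ≫ P ◁ adjK.counit.app M := by
    have := (adjK.homEquiv _ _).symm_apply_apply ((α_ P (HK.obj M) K).hom ≫ P ◁ adjK.counit.app M)
    rw [Adjunction.homEquiv_counit] at this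
    exact this
  have e2 : (evT P K' adjK' M ▷ K') ≫ adjK'.counit.app (P ⊗ M) =
      (α_ P (HK'.obj M) K').hom ≫ P ◁ adjK'.counit.app M := by
    have := (adjK'.homEquiv _ _).symm_apply_apply
      ((α_ P (HK'.obj M) K').hom ≫ P ◁ adjK'.counit.app M)
    rw [Adjunction.homEquiv_counit] at this
    exact this
  have e3 := conj_counit ι adjK adjK' M
  calc _ = (f ▷ K') ≫ ((P ◁ conj ι adjK adjK' M) ▷ K') ≫
        (α_ P (HK'.obj M) K').hom ≫ P ◁ adjK'.counit.app M := by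
        rw [comp_whiskerRight, comp_whiskerRight]
        simp only [Category.assoc]
        rw [e2]
    _ = (f ▷ K') ≫ (α_ P (HK.obj M) K').hom ≫
        P ◁ ((conj ι adjK adjK' M ▷ K') ≫ adjK'.counit.app M) := by
        rw [MonoidalCategory.whiskerLeft_comp, ← associator_naturality_middle_assoc]
    _ = (f ▷ K') ≫ (α_ P (HK.obj M) K').hom ≫
        P ◁ ((HK.obj M ◁ ι) ≫ adjK.counit.app M) := by
        rw [e3]
    _ = (f ▷ K') ≫ ((P ⊗ HK.obj M) ◁ ι) ≫ (α_ P (HK.obj M) K).hom ≫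
        P ◁ adjK.counit.app M := by
        rw [MonoidalCategory.whiskerLeft_comp, ← associator_naturality_right_assoc]
    _ = _ := by
        rw [comp_whiskerRight, Category.assoc, e1, ← whisker_exchange_assoc]

/-- Transfer of bijectivity of `Hom(T, evT)` along `ι : K' ⟶ K`. -/
theorem bijective_comp_evT (T : C)
    (h1 : Function.Bijective (fun f : T ⟶ P ⊗ HK.obj M => f ≫ (P ◁ conj ι adjK adjK' M)))
    (h2 : Function.Bijective (fun g : T ⊗ K ⟶ P ⊗ M => (T ◁ ι) ≫ g))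
    (h3 : Function.Bijective (fun f : T ⟶ P ⊗ HK'.obj M => f ≫ evT P K' adjK' M)) :
    Function.Bijective (fun f : T ⟶ P ⊗ HK.obj M => f ≫ evT P K adjK M) := by
  let u : (T ⟶ HK.obj (P ⊗ M)) ≃ (T ⊗ K ⟶ P ⊗ M) := (adjK.homEquiv T (P ⊗ M)).symm
  let u' : (T ⟶ HK'.obj (P ⊗ M)) ≃ (T ⊗ K' ⟶ P ⊗ M) := (adjK'.homEquiv T (P ⊗ M)).symm
  have key : ∀ f : T ⟶ P ⊗ HK.obj M,
      u' ((f ≫ (P ◁ conj ι adjK adjK' M)) ≫ evT P K' adjK' M) =
        (T ◁ ι) ≫ u (f ≫ evT P K adjK M) := by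
    intro f
    dsimp only [u, u']
    rw [Adjunction.homEquiv_counit, Adjunction.homEquiv_counit, Category.assoc]
    exact evT_natural ι adjK adjK' P M T f
  have h4 : Function.Bijective
      ((fun g : T ⊗ K ⟶ P ⊗ M => (T ◁ ι) ≫ g) ∘
        (fun f : T ⟶ P ⊗ HK.obj M => u (f ≫ evT P K adjK M))) := by
    have : ((fun g : T ⊗ K ⟶ P ⊗ M => (T ◁ ι) ≫ g) ∘
        (fun f : T ⟶ P ⊗ HK.obj M => u (f ≫ evT P K adjK M))) =
        u' ∘ (fun f : T ⟶ P ⊗ HK'.obj M => f ≫ evT P K' adjK' M) ∘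
          (fun f : T ⟶ P ⊗ HK.obj M => f ≫ (P ◁ conj ι adjK adjK' M)) := by
      funext f
      exact (key f).symm
    rw [this]
    exact u'.bijective.comp (h3.comp h1)
  have h5 : Function.Bijective (fun f : T ⟶ P ⊗ HK.obj M => u (f ≫ evT P K adjK M)) :=
    (Function.Bijective.of_comp_iff' h2 _).1 h4
  have h6 : (fun f : T ⟶ P ⊗ HK.obj M => f ≫ evT P K adjK M) =
      u.symm ∘ (fun f : T ⟶ P ⊗ HK.obj M => u (f ≫ evT P K adjK M)) := by
    funext f
    simp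
  rw [h6]
  exact u.symm.bijective.comp h5

end Groth.Agent.H10.WO.Gen
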