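import Groth.Agent.H10.WO6
import Groth.Agent.H10.WO7

/-!
# The evaluation map `P ⊗^L RHom(K, M) ⟶ RHom(K, P ⊗^L M)` for `K` pseudo-coherent, `M` bounded
below and `P` of finite tor dimension (when `P ⊗^L -` is a triangulated functor)
-/

set_option autoImplicit false
universe u
open CategoryTheory CategoryTheory.Limits MonoidalCategory DerivedCategory Pretriangulated
attribute [local instance] HasDerivedCategory.standard

namespace Groth.Agent.H10.WO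

open DTen Groth.Agent.H10.DT

variable {A : Type u} [CommRing A]

/-- If the cone of `T.mor₁` is in `D^{≥ n}` with `j < n`, then `T.mor₁` induces a bijection on
`Hom(A[-j], -)`. -/
lemma bijective_hom_Tk_mor₁_of_isGE (T : Triangle (Dual.D A)) (hT : T ∈ distTriang (Dual.D A))
    (j n : ℤ) [T.obj₃.IsGE n] (h : j < n) :
    Function.Bijective (fun u : Tk j ⟶ T.obj₁ => u ≫ T.mor₁) := by
  constructor
  · intro u v huv
    have h0 : (u - v) ≫ T.mor₁ = 0 := by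
      rw [Preadditive.sub_comp]
      exact sub_eq_zero.2 huv
    obtain ⟨g, hg⟩ := Triangle.coyoneda_exact₂ _ (inv_rot_of_distTriang _ hT) (u - v) h0
    have : (T.obj₃⟦(-1 : ℤ)⟧).IsGE (n + 1) := TStructure.t.isGE_shift T.obj₃ n (-1) (n + 1)
    have hg0 : g = 0 := hom_Tk_eq_zero_of_isGE (T.obj₃⟦(-1 : ℤ)⟧) j (n + 1) (by omega) g
    rw [hg0, zero_comp] at hg
    exact sub_eq_zero.1 hg
  · intro v
    have hv : v ≫ T.mor₂ = 0 := hom_Tk_eq_zero_of_isGE T.obj₃ j n h _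
    obtain ⟨u, hu⟩ := Triangle.coyoneda_exact₂ T hT v hv
    exact ⟨u, hu.symm⟩

/-- A pseudo-coherent object has perfect approximations with cone in `D^{≤ -N-1}`. -/
lemma exists_perfect_approx (K : Dual.D A) (hK : DRing.IsPseudoCoherent' A K) (N : ℤ) :
    ∃ (KN C : Dual.D A) (ι : KN ⟶ K) (p : K ⟶ C) (δ : C ⟶ KN⟦(1 : ℤ)⟧),
      Triangle.mk ι p δ ∈ distTriang (Dual.D A) ∧ C.IsLE (-N - 1) ∧ DRing.IsPerfect A KN := by
  obtain ⟨E, b', hb, hE, ⟨e⟩⟩ := hK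
  have hT₀ := triN_distinguished E N
  refine ⟨q (EN E N), q (CN E N), qm (iN E N) ≫ e.hom, e.inv ≫ qm (pN E N), (triN E N).mor₃,
    ?_, isLE_CN E N, isPerfect_EN E b' hb hE N⟩
  refine isomorphic_distinguished _ hT₀ _ ?_
  refine Triangle.isoMk _ _ (Iso.refl _) e.symm (Iso.refl _) ?_ ?_ ?_
  · change (qm (iN E N) ≫ e.hom) ≫ e.inv = 𝟙 _ ≫ qm (iN E N)
    simp
  · change (e.inv ≫ qm (pN E N)) ≫ 𝟙 _ = e.inv ≫ qm (pN E N)
    simp
  · change (triN E N).mor₃ ≫ (𝟙 _)⟦(1 : ℤ)⟧' = 𝟙 _ ≫ (triN E N).mor₃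
    simp

variable [DTen.HasLTen A]

/-- Lower bound for the amplitude of `P ⊗^L Y`. -/
lemma isGE_tn_of_hasTorAmplitudeIn (P : Dual.D A) (d₁ d₂ : ℤ)
    (hP : DRing.HasTorAmplitudeIn A d₁ d₂ P) (m n : ℤ) (hn : d₁ + m = n) (Y : Dual.D A)
    [Y.IsGE m] : (tn P Y).IsGE n := by
  obtain ⟨F, hv, hfl, ⟨eP⟩⟩ := hP
  have hKF : DRing.IsKFlat A F :=
    isKFlat_of_bounded_flat F d₂ (fun i hi => hv i (Or.inr hi)) hfl
  let Y₀ := Q.objPreimage Y
  let e : Y ≅ q Y₀ := (Q.objObjPreimageIso Y).symm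
  have h1 : (Q.obj Y₀).IsGE m := TStructure.t.isGE_of_iso e m
  have h2 : Y₀.IsGE m := (isGE_Q_obj_iff Y₀ m).1 h1
  have h3 : (F ⊗ Y₀).IsGE n := by
    rw [CochainComplex.isGE_iff]
    intro i hi
    exact Groth.Agent.H35.LT.exactAt_tensor_of_lt F Y₀ hKF d₁ m
      (fun p hp => hv p (Or.inl hp)) i (by omega)
  have i1 : IsIso (ee F Y₀) := isIso_ee F Y₀ (Or.inl hKF)
  let a : tn P Y ≅ q (F ⊗ Y₀) :=
    (LTen₂ A).mapIso (Iso.prod eP.symm e) ≪≫ asIso (ee F Y₀)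
  exact TStructure.t.isGE_of_iso a.symm n

variable [DTen.HasLTen₃ A] [DTen.IsSymMonoidal A] [DTen.HasRHom A]

attribute [local instance] DT.monoidal

/-- The cone of `RHom(K, L) ⟶ RHom(KN, L)` is in `D^{≥ n + N - 1}`. -/
lemma isGE_cone_conj {K KN C : Dual.D A} (ι : KN ⟶ K) (p : K ⟶ C)
    (δ : C ⟶ KN⟦(1 : ℤ)⟧) (hT : Triangle.mk ι p δ ∈ distTriang (Dual.D A)) (N : ℤ)
    [C.IsLE (-N - 1)] (L : Dual.D A) (n : ℤ) [L.IsGE n] {Z : Dual.D A}
    (p' : (RHomR A KN).obj L ⟶ Z) (δ' : Z ⟶ ((RHomR A K).obj L)⟦(1 : ℤ)⟧)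
    (hT' : Triangle.mk (Gen.conj ι (rAdj K) (rAdj KN) L) p' δ' ∈ distTriang (Dual.D A))
    (m : ℤ) (hm : m + 1 = n + N) : Z.IsGE m := by
  refine isGE_cone_of_bijective_hom_Tk _ hT' (n + N) m hm ?_
  intro k hk
  apply Gen.bijective_comp_conj ι (rAdj K) (rAdj KN) (lAdj (Tk k)) L
  have hW : ((RHomR A (Tk k)).obj L).IsGE (n - k) := isGE_RHomR_Tk k n (n - k) (by omega) L
  refine bijective_precomp_mor₁ (Triangle.mk ι p δ) hT _ ?_ ?_
  · intro f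
    change C ⟶ _ at f
    exact TStructure.t.zero f (-N - 1) (n - k) (by omega)
  · intro f
    change C⟦(-1 : ℤ)⟧ ⟶ _ at f
    have : (C⟦(-1 : ℤ)⟧).IsLE (-N) := TStructure.t.isLE_shift C (-N - 1) (-1) (-N)
    exact TStructure.t.zero f (-N) (n - k) (by omega)

section Main

variable (P : Dual.D A) (G : Dual.D A ⥤ Dual.D A) [G.CommShift ℤ] [G.IsTriangulated]
  (θ : tensorLeft P ≅ G) (d₁ d₂ : ℤ) (hP : DRing.HasTorAmplitudeIn A d₁ d₂ P)

include θ hP in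
/-- Step (b). -/
lemma bijective_whiskerLeft_conj_right {K KN C : Dual.D A} (ι : KN ⟶ K) (p : K ⟶ C)
    (δ : C ⟶ KN⟦(1 : ℤ)⟧) (hT : Triangle.mk ι p δ ∈ distTriang (Dual.D A)) (N : ℤ)
    [C.IsLE (-N - 1)] (M : Dual.D A) (n : ℤ) [M.IsGE n] (j : ℤ) (hN : j - d₁ - n + 1 < N) :
    Function.Bijective (fun f : Tk j ⟶ tn P ((RHomR A K).obj M) =>
      f ≫ tm (𝟙 P) (Gen.conj ι (rAdj K) (rAdj KN) M)) := by
  obtain ⟨Z, p', δ', hT'⟩ := distinguished_cocone_triangle (Gen.conj ι (rAdj K) (rAdj KN) M)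
  have hZ : Z.IsGE (n + N - 1) := isGE_cone_conj ι p δ hT N M n p' δ' hT' (n + N - 1) (by omega)
  have hPZ : (tn P Z).IsGE (d₁ + (n + N - 1)) :=
    isGE_tn_of_hasTorAmplitudeIn P d₁ d₂ hP (n + N - 1) _ rfl Z
  have hPZ' : ((tensorLeft P).obj Z).IsGE (d₁ + (n + N - 1)) := hPZ
  have hGZ : (G.obj Z).IsGE (d₁ + (n + N - 1)) :=
    TStructure.t.isGE_of_iso (θ.app Z) _
  have hT'' := G.map_distinguished _ hT'
  have : (G.mapTriangle.obj (Triangle.mk (Gen.conj ι (rAdj K) (rAdj KN) M) p' δ')).obj₃.IsGE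
      (d₁ + (n + N - 1)) := hGZ
  have hbij := bijective_hom_Tk_mor₁_of_isGE _ hT'' j (d₁ + (n + N - 1)) (by omega)
  exact bijective_postcomp_of_sq (tm (𝟙 P) (Gen.conj ι (rAdj K) (rAdj KN) M))
    (G.map (Gen.conj ι (rAdj K) (rAdj KN) M)) (θ.app _) (θ.app _)
    (θ.hom.naturality (Gen.conj ι (rAdj K) (rAdj KN) M)) hbij

include hP in
/-- Step (a). -/
lemma bijective_whiskerLeft_ι {K KN C : Dual.D A} (ι : KN ⟶ K) (p : K ⟶ C)
    (δ : C ⟶ KN⟦(1 : ℤ)⟧) (hT : Triangle.mk ι p δ ∈ distTriang (Dual.D A)) (N : ℤ)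
    [C.IsLE (-N - 1)] (M : Dual.D A) (n : ℤ) [M.IsGE n] (j : ℤ) (hN : j - d₁ - n < N) :
    Function.Bijective (fun g : tn (Tk j) K ⟶ tn P M => (Tk j ◁ ι) ≫ g) := by
  apply Gen.bijective_whiskerLeft_comp (lAdj (Tk j)) ι (tn P M)
  have hPM : (tn P M).IsGE (d₁ + n) := isGE_tn_of_hasTorAmplitudeIn P d₁ d₂ hP n _ rfl M
  have hW : ((RHomR A (Tk j)).obj (tn P M)).IsGE (d₁ + n - j) :=
    isGE_RHomR_Tk j (d₁ + n) (d₁ + n - j) (by omega) (tn P M)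
  refine bijective_precomp_mor₁ (Triangle.mk ι p δ) hT _ ?_ ?_
  · intro f
    change C ⟶ _ at f
    exact TStructure.t.zero f (-N - 1) (d₁ + n - j) (by omega)
  · intro f
    change C⟦(-1 : ℤ)⟧ ⟶ _ at f
    have : (C⟦(-1 : ℤ)⟧).IsLE (-N) := TStructure.t.isLE_shift C (-N - 1) (-1) (-N)
    exact TStructure.t.zero f (-N) (d₁ + n - j) (by omega)

include θ hP in
/-- The evaluation map `P ⊗^L RHom(K, M) ⟶ RHom(K, P ⊗^L M)` is an isomorphism for `K`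
pseudo-coherent, `M` bounded below and `P` of finite tor dimension such that `P ⊗^L -` is
(isomorphic to) a triangulated functor. -/
theorem isIso_evalTen_of_isPseudoCoherent (K M : Dual.D A) (hK : DRing.IsPseudoCoherent' A K)
    (n : ℤ) [M.IsGE n] : IsIso (evalTen P M K) := by
  rw [evalTen_eq]
  apply isIso_of_bijective_hom_Tk
  intro j
  obtain ⟨KN, C, ι, p, δ, hT, hC, hKN⟩ := exists_perfect_approx K hK (j - d₁ - n + 2)
  have h1 := bijective_whiskerLeft_conj_right P G θ d₁ d₂ hP ι p δ hT (j - d₁ - n + 2) M n j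
    (by omega)
  have h2 := bijective_whiskerLeft_ι P d₁ d₂ hP ι p δ hT (j - d₁ - n + 2) M n j (by omega)
  have i3 : IsIso (Gen.evT P KN (rAdj KN) M) := by
    rw [← evalTen_eq]
    exact isIso_evalTen_of_isPerfect_right P M KN hKN
  have h3 : Function.Bijective (fun f : Tk j ⟶ tn P ((RHomR A KN).obj M) =>
      f ≫ Gen.evT P KN (rAdj KN) M) :=
    ⟨fun u v huv => by simpa using congrArg (· ≫ inv (Gen.evT P KN (rAdj KN) M)) huv,
      fun v => ⟨v ≫ inv (Gen.evT P KN (rAdj KN) M), by simp⟩⟩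
  exact Gen.bijective_comp_evT ι (rAdj K) (rAdj KN) P M (Tk j) h1 h2 h3

end Main

end Groth.Agent.H10.WO
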