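import Groth.Agent.H10.WO8
import Groth.Agent.H10.RHM11
import Groth.Agent.H35.TorDimAmp
import Groth.Agent.H35.TorAmpCone

/-!
# Base change for `RHom(K, M)` with `K` pseudo-coherent, `M` bounded below and `R'` of finite tor
dimension over `R`
-/

set_option autoImplicit false
universe v₁ v₂ u₁ u₂ u
open CategoryTheory CategoryTheory.Limits MonoidalCategory
attribute [local instance] HasDerivedCategory.standard

namespace Groth.Agent.H10.RHM.Gen

open Functor.LaxMonoidal Functor.OplaxMonoidal Groth.Agent.H10.DT.Gen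

variable {C : Type u₁} [Category.{v₁} C] [MonoidalCategory C]
  {D : Type u₂} [Category.{v₂} D] [MonoidalCategory D]
  {L : C ⥤ D} {G : D ⥤ C} [L.OplaxMonoidal] [G.LaxMonoidal] (adj : L ⊣ G) [adj.IsMonoidal]
  (K : C) {H : C ⥤ C} (adjK : tensorRight K ⊣ H) {H' : D ⥤ D}
  (adjK' : tensorRight (L.obj K) ⊣ H') (M : C)
  (β : L.obj (H.obj M) ⟶ H'.obj (L.obj M))
  (hβ : δ L (H.obj M) K ≫ (β ▷ L.obj K) ≫ adjK'.counit.app (L.obj M) =
    L.map (adjK.counit.app M))
  (ρ : G.obj (H'.obj (L.obj M)) ⟶ H.obj (G.obj (L.obj M)))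
  (hρ : (ρ ▷ K) ≫ adjK.counit.app (G.obj (L.obj M)) =
    (G.obj (H'.obj (L.obj M)) ◁ adj.unit.app K) ≫ μ G (H'.obj (L.obj M)) (L.obj K) ≫
      G.map (adjK'.counit.app (L.obj M)))

include hβ hρ in
/-- If the evaluation map `G 𝟙 ⊗ H(M) ⟶ H(G 𝟙 ⊗ M)` is an isomorphism, the projection maps and
`ρ` are isomorphisms and `G` reflects isomorphisms, then the base change map for internal homs
is an isomorphism. -/
theorem isIso_of_isIso_evT [G.ReflectsIsomorphisms] [IsIso ρ] [IsIso (γl adj (H.obj M))]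
    [IsIso (γl adj M)] [IsIso (evT (G.obj (𝟙_ D)) K adjK M)] : IsIso β := by
  have h := γl_comp_map_comp adj K adjK adjK' M β hβ ρ hρ
  have h1 : IsIso (γl adj (H.obj M) ≫ G.map β ≫ ρ) := by
    rw [h]
    infer_instance
  have h2 : IsIso (G.map β ≫ ρ) := IsIso.of_isIso_comp_left (γl adj (H.obj M)) _
  have h3 : IsIso (G.map β) := IsIso.of_isIso_comp_right _ ρ
  exact isIso_of_reflects_iso β G

end Groth.Agent.H10.RHM.Gen

namespace Groth.Agent.H10.WO

open DTen Groth.Agent.H10.DT Groth.Agent.H10.RH Groth.Agent.H10.RHM Groth.Agent.H45.MultiDer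
  Groth.Agent.H45.MultiDer.DTenC DerivedCategory

section General

variable {R R' : Type u} [CommRing R] [CommRing R'] (φ : R →+* R')
  [DTen.HasLTen R] [DTen.HasLTen₃ R] [DTen.IsSymMonoidal R]
  [DTen.HasLTen R'] [DTen.HasLTen₃ R'] [DTen.IsSymMonoidal R']
  [DTen.HasResTen φ] [DTen.ResLegIso φ] [DTen.HasLBase φ]
  [DTen.HasRHom R] [DTen.HasRHom R']

attribute [local instance] DT.monoidal laxMonoidal oplaxMonoidal

/-- The projection isomorphism `res 𝟙 ⊗^L - ≅ res (- ⊗^L_R R')` as a natural isomorphism. -/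
noncomputable def glIso :
    tensorLeft ((res φ).obj (DTen.unit R')) ≅ LBase φ ⋙ res φ :=
  NatIso.ofComponents (fun Y => asIso (gl φ Y)) (fun f => RHM.Gen.γl_naturality (baseAdj φ) f)

/-- Base change for `RHom(K, M)`: `K` pseudo-coherent, `M` bounded below, `res R'` of finite tor
amplitude. -/
theorem isIso_bcRHom_of_hasTorAmplitudeIn (K M : Dual.D R)
    [IsIso (rhomBC φ K ((LBase φ).obj M))] (d₁ d₂ : ℤ)
    (hP : DRing.HasTorAmplitudeIn R d₁ d₂ ((res φ).obj (DTen.unit R')))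
    (hK : DRing.IsPseudoCoherent' R K) (n : ℤ) [M.IsGE n] : IsIso (bcRHom φ K M) := by
  let _ : (LBase φ).CommShift ℤ := (baseAdj φ).leftAdjointCommShift ℤ
  have : (baseAdj φ).CommShift ℤ := (baseAdj φ).commShift_of_rightAdjoint ℤ
  have : (LBase φ).IsTriangulated := (baseAdj φ).isTriangulated_leftAdjoint
  have hev : IsIso (DT.Gen.evT ((res φ).obj (DTen.unit R')) K (rAdj K) M) := by
    rw [← evalTen_eq]
    exact isIso_evalTen_of_isPseudoCoherent ((res φ).obj (DTen.unit R')) (LBase φ ⋙ res φ)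
      (glIso φ) d₁ d₂ hP K M hK n
  have hβ := lbaseμ_bcRHom φ K M
  rw [← δ_eq] at hβ
  have hρ := rhomBC_fac φ K ((LBase φ).obj M)
  exact RHM.Gen.isIso_of_isIso_evT (baseAdj φ) K (rAdj K) (rAdj ((LBase φ).obj K)) M
    (bcRHom φ K M) hβ (rhomBC φ K ((LBase φ).obj M)) hρ

end General

section Algebra

variable {R R' : Type u} [CommRing R] [CommRing R'] [Algebra R R']
  [DTen.HasLTen R] [DTen.HasLTen₃ R] [DTen.IsSymMonoidal R]
  [DTen.HasLTen R'] [DTen.HasLTen₃ R'] [DTen.IsSymMonoidal R']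
  [DTen.HasResTen (algebraMap R R')] [DTen.ResLegIso (algebraMap R R')]
  [DTen.HasLBase (algebraMap R R')] [DTen.HasRHom R] [DTen.HasRHom R']

/-- **S14267**. -/
theorem isIso_bcRHom_of_hasFiniteTorDim (K M : Dual.D R)
    [IsIso (rhomBC (algebraMap R R') K ((LBase (algebraMap R R')).obj M))]
    (hR' : DRing.HasFiniteTorDim R R') (hK : DRing.IsPseudoCoherent' R K) (n : ℤ) [M.IsGE n] :
    IsIso (bcRHom (algebraMap R R') K M) := by
  obtain ⟨d, hd⟩ := hR'
  have h1 : DRing.HasTorAmplitudeIn R (-(d : ℤ)) 0 (Dual.inD R R') :=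
    (Groth.Agent.H35.KF.hasTorDimLE_iff_hasTorAmplitudeIn R' d).1 hd
  have h2 : DRing.HasTorAmplitudeIn R (-(d : ℤ)) 0
      ((DRing.restrictD (algebraMap R R')).obj (DTen.unit R')) :=
    Groth.Agent.H35.KF.hasTorAmplitudeIn_of_iso (resUnitIsoInD R R').symm _ _ h1
  exact isIso_bcRHom_of_hasTorAmplitudeIn (algebraMap R R') K M (-(d : ℤ)) 0 h2 hK n

/-- **S14266**. -/
theorem isIso_bcRHom_of_flat [Module.Flat R R'] (K M : Dual.D R)
    [IsIso (rhomBC (algebraMap R R') K ((LBase (algebraMap R R')).obj M))]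
    (hK : DRing.IsPseudoCoherent' R K) (n : ℤ) [M.IsGE n] :
    IsIso (bcRHom (algebraMap R R') K M) :=
  isIso_bcRHom_of_hasFiniteTorDim K M
    ⟨0, (Groth.Agent.H35.KF.hasTorDimLE_zero_iff_flat R').2 inferInstance⟩ hK n

end Algebra

end Groth.Agent.H10.WO
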