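import Groth.Agent.H10.FlatDescent
import Mathlib

set_option autoImplicit false

/-!
# Weakly étale algebras over a field

Criterion: for a field `K`, a `K`-algebra `B` is weakly étale iff the kernel `J` of the
multiplication `B ⊗[K] B → B` satisfies: every `x ∈ J` is of the form `x = x * y` with `y ∈ J`.
Consequences: `B` is von Neumann regular and integral over `K`; quotients and subalgebras of `B`
are weakly étale.
-/

namespace Groth.Agent.H10

open TensorProduct

universe u

section Pure

variable {R : Type*} [CommRing R]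

/-- An ideal is pure iff each of its elements `x` is of the form `x * y` with `y` in the ideal. -/
theorem pure_iff_forall_exists_eq_mul (I : Ideal R) :
    I.Pure ↔ ∀ x ∈ I, ∃ y ∈ I, x = x * y := by
  constructor
  · intro h x hx
    exact Ideal.exists_eq_mul_of_pure hx
  · intro h
    apply Ideal.Pure.of_inf_eq_mul
    intro J _
    apply le_antisymm
    · rintro z ⟨hzI, hzJ⟩
      obtain ⟨y, hy, hzy⟩ := h z hzI
      rw [hzy, mul_comm z y]
      exact Ideal.mul_mem_mul hy hzJ
    · exact Ideal.mul_le_inf

/-- A surjective ring hom is flat iff its kernel is pure. -/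
theorem flat_iff_pure_ker_of_surjective {S : Type*} [CommRing S] (f : R →+* S)
    (hf : Function.Surjective f) : f.Flat ↔ (RingHom.ker f).Pure := by
  algebraize [f]
  have hsurj : Function.Surjective (Algebra.ofId R S) := hf
  have e : (R ⧸ RingHom.ker (Algebra.ofId R S)) ≃ₐ[R] S :=
    Ideal.quotientKerAlgEquivOfSurjective hsurj
  have hker : RingHom.ker (Algebra.ofId R S) = RingHom.ker f := rfl
  rw [← hker]
  show Module.Flat R S ↔ Module.Flat R (R ⧸ RingHom.ker (Algebra.ofId R S))
  exact ⟨fun _ => Module.Flat.of_linearEquiv e.toLinearEquiv,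
    fun _ => Module.Flat.of_linearEquiv e.symm.toLinearEquiv⟩

end Pure

section Criterion

variable (K : Type u) [Field K] (B : Type u) [CommRing B] [Algebra K B]

/-- the kernel of the multiplication map `B ⊗[K] B → B`. -/
noncomputable def mulKer : Ideal (B ⊗[K] B) := RingHom.ker (Algebra.TensorProduct.lmul' K (S := B))

theorem mem_mulKer (x : B ⊗[K] B) : x ∈ mulKer K B ↔ Algebra.TensorProduct.lmul' K (S := B) x = 0 :=
  Iff.rfl

theorem lmul'_surjective : Function.Surjective (Algebra.TensorProduct.lmul' K (S := B)) :=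
  fun b => ⟨b ⊗ₜ[K] 1, by rw [Algebra.TensorProduct.lmul'_apply_tmul, mul_one]⟩

theorem weaklyEtale_iff_mulKer : Algebra.WeaklyEtale K B ↔
    ∀ x ∈ mulKer K B, ∃ y ∈ mulKer K B, x = x * y := by
  rw [Algebra.weaklyEtale_iff, ← pure_iff_forall_exists_eq_mul]
  have hflat : Module.Flat K B := inferInstance
  rw [and_iff_right hflat]
  exact flat_iff_pure_ker_of_surjective _ (lmul'_surjective K B)

end Criterion

section Quotient

variable (K : Type u) [Field K] (B : Type u) [CommRing B] [Algebra K B]

/-- compatibility of multiplication maps with an algebra hom. -/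
theorem lmul'_map {C : Type u} [CommRing C] [Algebra K C] (f : B →ₐ[K] C) (t : B ⊗[K] B) :
    Algebra.TensorProduct.lmul' K (S := C) (Algebra.TensorProduct.map f f t) =
      f (Algebra.TensorProduct.lmul' K (S := B) t) := by
  induction t using TensorProduct.induction_on with
  | zero => simp
  | tmul a b => simp [Algebra.TensorProduct.lmul'_apply_tmul]
  | add x y hx hy => rw [map_add, map_add, hx, hy, map_add, map_add]

theorem weaklyEtale_quotient [Algebra.WeaklyEtale K B] (I : Ideal B) :
    Algebra.WeaklyEtale K (B ⧸ I) := by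
  rw [weaklyEtale_iff_mulKer]
  intro x hx
  have hπ : Function.Surjective (Ideal.Quotient.mkₐ K I) := Ideal.Quotient.mkₐ_surjective K I
  have hPsurj : Function.Surjective (Algebra.TensorProduct.map (Ideal.Quotient.mkₐ K I)
      (Ideal.Quotient.mkₐ K I)) := TensorProduct.map_surjective hπ hπ
  obtain ⟨t, rfl⟩ := hPsurj x
  have ht : Algebra.TensorProduct.lmul' K (S := B) t ∈ I := by
    rw [mem_mulKer, lmul'_map] at hx
    exact Ideal.Quotient.eq_zero_iff_mem.1 hx
  have ht' : t - (Algebra.TensorProduct.lmul' K (S := B) t) ⊗ₜ[K] 1 ∈ mulKer K B := by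
    rw [mem_mulKer, map_sub, Algebra.TensorProduct.lmul'_apply_tmul, mul_one, sub_self]
  have hPt' : Algebra.TensorProduct.map (Ideal.Quotient.mkₐ K I) (Ideal.Quotient.mkₐ K I)
      (t - (Algebra.TensorProduct.lmul' K (S := B) t) ⊗ₜ[K] 1) =
      Algebra.TensorProduct.map (Ideal.Quotient.mkₐ K I) (Ideal.Quotient.mkₐ K I) t := by
    rw [map_sub, Algebra.TensorProduct.map_tmul]
    have : Ideal.Quotient.mkₐ K I (Algebra.TensorProduct.lmul' K (S := B) t) = 0 :=
      Ideal.Quotient.eq_zero_iff_mem.2 ht
    rw [this, TensorProduct.zero_tmul, sub_zero]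
  obtain ⟨y, hy, hty⟩ := (weaklyEtale_iff_mulKer K B).1 inferInstance _ ht'
  refine ⟨Algebra.TensorProduct.map (Ideal.Quotient.mkₐ K I) (Ideal.Quotient.mkₐ K I) y, ?_, ?_⟩
  · rw [mem_mulKer, lmul'_map, (mem_mulKer K B y).1 hy, map_zero]
  · rw [← hPt', ← map_mul, ← hty]

end Quotient

section VNR

variable (K : Type u) [Field K] (B : Type u) [CommRing B] [Algebra K B]

/-- for every `b` there is `e` with `μ(e) = 1` and `(b ⊗ 1) e = (1 ⊗ b) e`. -/
theorem exists_sep_elem [Algebra.WeaklyEtale K B] (b : B) :
    ∃ e : B ⊗[K] B, Algebra.TensorProduct.lmul' K (S := B) e = 1 ∧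
      (b ⊗ₜ[K] (1 : B)) * e = ((1 : B) ⊗ₜ[K] b) * e := by
  have hx : b ⊗ₜ[K] (1 : B) - (1 : B) ⊗ₜ[K] b ∈ mulKer K B := by
    rw [mem_mulKer, map_sub, Algebra.TensorProduct.lmul'_apply_tmul,
      Algebra.TensorProduct.lmul'_apply_tmul, mul_one, one_mul, sub_self]
  obtain ⟨y, hy, hxy⟩ := (weaklyEtale_iff_mulKer K B).1 inferInstance _ hx
  refine ⟨1 - y, by rw [map_sub, map_one, (mem_mulKer K B y).1 hy, sub_zero], ?_⟩
  have : (b ⊗ₜ[K] (1 : B) - (1 : B) ⊗ₜ[K] b) * (1 - y) = 0 := by
    rw [mul_sub, mul_one, ← hxy, sub_self]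
  rw [sub_mul] at this
  exact sub_eq_zero.1 this

/-- A weakly étale algebra over a field is von Neumann regular. -/
theorem exists_eq_sq_mul [Algebra.WeaklyEtale K B] (b : B) : ∃ t : B, b = b * b * t := by
  obtain ⟨e, he1, he2⟩ := exists_sep_elem K B b
  have h1 : ∀ z : B ⊗[K] B, ((Ideal.Quotient.mkₐ K (Ideal.span {b})).toLinearMap.lTensor B)
      (((1 : B) ⊗ₜ[K] b) * z) = 0 := by
    intro z
    induction z using TensorProduct.induction_on with
    | zero => simp
    | tmul c d =>
      rw [Algebra.TensorProduct.tmul_mul_tmul, LinearMap.lTensor_tmul]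
      have : (Ideal.Quotient.mkₐ K (Ideal.span {b})).toLinearMap (b * d) = 0 := by
        rw [AlgHom.toLinearMap_apply, Ideal.Quotient.mkₐ_eq_mk, Ideal.Quotient.eq_zero_iff_mem]
        exact Ideal.mul_mem_right _ _ (Ideal.mem_span_singleton_self b)
      rw [this, TensorProduct.tmul_zero]
    | add x y hx hy => rw [mul_add, map_add, hx, hy, add_zero]
  have h2 : ∀ z : B ⊗[K] B, ((Ideal.Quotient.mkₐ K (Ideal.span {b})).toLinearMap.lTensor B)
      ((b ⊗ₜ[K] (1 : B)) * z) = (LinearMap.mulLeft K b).rTensor (B ⧸ Ideal.span {b})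
        (((Ideal.Quotient.mkₐ K (Ideal.span {b})).toLinearMap.lTensor B) z) := by
    intro z
    induction z using TensorProduct.induction_on with
    | zero => simp
    | tmul c d =>
      rw [Algebra.TensorProduct.tmul_mul_tmul, LinearMap.lTensor_tmul, LinearMap.lTensor_tmul,
        LinearMap.rTensor_tmul, one_mul, LinearMap.mulLeft_apply]
    | add x y hx hy => rw [mul_add, map_add, hx, hy, map_add, map_add]
  have h3 : (LinearMap.mulLeft K b).rTensor (B ⧸ Ideal.span {b})
      (((Ideal.Quotient.mkₐ K (Ideal.span {b})).toLinearMap.lTensor B) e) = 0 := by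
    rw [← h2, he2, h1]
  have hex : Function.Exact (LinearMap.ker (LinearMap.mulLeft K b)).subtype
      (LinearMap.mulLeft K b) := LinearMap.exact_subtype_ker_map _
  have hex' := Module.Flat.rTensor_exact (B ⧸ Ideal.span {b}) hex
  obtain ⟨w₀, hw₀⟩ := (hex' _).1 h3
  have h4 : ∀ z : B ⊗[K] B,
      TensorProduct.lift ((Algebra.lsmul K K (B ⧸ Ideal.span {b})).toLinearMap)
        (((Ideal.Quotient.mkₐ K (Ideal.span {b})).toLinearMap.lTensor B) z) =
      Ideal.Quotient.mk (Ideal.span {b}) (Algebra.TensorProduct.lmul' K (S := B) z) := by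
    intro z
    induction z using TensorProduct.induction_on with
    | zero => simp
    | tmul c d =>
      rw [LinearMap.lTensor_tmul, TensorProduct.lift.tmul, Algebra.TensorProduct.lmul'_apply_tmul]
      simp [Algebra.smul_def]
    | add x y hx hy => rw [map_add, map_add, hx, hy, map_add, map_add]
  have h5 : ∀ w : (LinearMap.ker (LinearMap.mulLeft K b)) ⊗[K] (B ⧸ Ideal.span {b}),
      ∃ a : B, b * a = 0 ∧
        TensorProduct.lift ((Algebra.lsmul K K (B ⧸ Ideal.span {b})).toLinearMap)
          ((LinearMap.ker (LinearMap.mulLeft K b)).subtype.rTensor (B ⧸ Ideal.span {b}) w) =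
        Ideal.Quotient.mk (Ideal.span {b}) a := by
    intro w
    induction w using TensorProduct.induction_on with
    | zero => exact ⟨0, by simp, by simp⟩
    | tmul a v =>
      obtain ⟨c, rfl⟩ := Ideal.Quotient.mk_surjective v
      refine ⟨a * c, ?_, ?_⟩
      · have : b * (a : B) = 0 := a.2
        rw [← mul_assoc, this, zero_mul]
      · rw [LinearMap.rTensor_tmul, TensorProduct.lift.tmul]
        simp [Algebra.smul_def]
    | add x y hx hy =>
      obtain ⟨a₁, h₁, e₁⟩ := hx
      obtain ⟨a₂, h₂, e₂⟩ := hy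
      exact ⟨a₁ + a₂, by rw [mul_add, h₁, h₂, add_zero], by rw [map_add, map_add, e₁, e₂, map_add]⟩
  obtain ⟨a, hab, ha⟩ := h5 w₀
  rw [hw₀, h4, he1] at ha
  have hmem : (1 : B) - a ∈ Ideal.span {b} := Ideal.Quotient.eq.1 ha
  obtain ⟨t, ht⟩ := Ideal.mem_span_singleton.1 hmem
  exact ⟨t, by linear_combination b * ht + hab⟩

end VNR

section Integral

variable (K : Type u) [Field K] (B : Type u) [CommRing B] [Algebra K B]

/-- contraction of the first tensor factor with a functional. -/
noncomputable def contr (φ : Module.Dual K B) : B ⊗[K] B →ₗ[K] B :=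
  (TensorProduct.lid K B).toLinearMap ∘ₗ φ.rTensor B

@[simp] theorem contr_tmul (φ : Module.Dual K B) (x y : B) :
    contr K B φ (x ⊗ₜ[K] y) = φ x • y := by
  simp [contr]

theorem contr_mul_right (φ : Module.Dual K B) (c : B) (z : B ⊗[K] B) :
    contr K B φ (((1 : B) ⊗ₜ[K] c) * z) = c * contr K B φ z := by
  induction z using TensorProduct.induction_on with
  | zero => simp
  | tmul x y => simp [Algebra.TensorProduct.tmul_mul_tmul]
  | add x y hx hy => rw [mul_add, map_add, hx, hy, map_add, mul_add]

theorem contr_mul_left (φ : Module.Dual K B) (c : B) (z : B ⊗[K] B) :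
    contr K B φ ((c ⊗ₜ[K] (1 : B)) * z) = contr K B (φ ∘ₗ LinearMap.mulLeft K c) z := by
  induction z using TensorProduct.induction_on with
  | zero => simp
  | tmul x y => simp [Algebra.TensorProduct.tmul_mul_tmul]
  | add x y hx hy => rw [mul_add, map_add, hx, hy, map_add]

/-- the map `φ ↦ contr φ e`. -/
noncomputable def contrAt (e : B ⊗[K] B) : Module.Dual K B →ₗ[K] B where
  toFun φ := contr K B φ e
  map_add' φ ψ := by simp [contr, LinearMap.rTensor_add]
  map_smul' a φ := by simp [contr, LinearMap.rTensor_smul]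

theorem contrAt_apply (e : B ⊗[K] B) (φ : Module.Dual K B) :
    contrAt K B e φ = contr K B φ e := rfl

theorem exists_finset_contr_mem (e : B ⊗[K] B) :
    ∃ s : Finset B, ∀ φ : Module.Dual K B, contr K B φ e ∈ Submodule.span K (s : Set B) := by
  classical
  induction e using TensorProduct.induction_on with
  | zero => exact ⟨∅, fun φ => by simp⟩
  | tmul x y =>
    refine ⟨{y}, fun φ => ?_⟩
    rw [contr_tmul]
    exact Submodule.smul_mem _ _ (Submodule.subset_span (by simp))
  | add x y hx hy =>
    obtain ⟨s, hs⟩ := hx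
    obtain ⟨t, ht⟩ := hy
    refine ⟨s ∪ t, fun φ => ?_⟩
    rw [map_add]
    refine Submodule.add_mem _ (Submodule.span_mono ?_ (hs φ)) (Submodule.span_mono ?_ (ht φ))
    · exact_mod_cast Finset.subset_union_left
    · exact_mod_cast Finset.subset_union_right

theorem range_contrAt_finite (e : B ⊗[K] B) :
    Module.Finite K (LinearMap.range (contrAt K B e)) := by
  obtain ⟨s, hs⟩ := exists_finset_contr_mem K B e
  have hle : LinearMap.range (contrAt K B e) ≤ Submodule.span K (s : Set B) := by
    rintro _ ⟨φ, rfl⟩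
    exact hs φ
  have : Module.Finite K (Submodule.span K (s : Set B)) := Module.Finite.span_finset K s
  exact Submodule.finiteDimensional_of_le hle

/-- contractions separate points. -/
theorem eq_zero_of_contr_eq_zero (z : B ⊗[K] B) (h : ∀ φ : Module.Dual K B, contr K B φ z = 0) :
    z = 0 := by
  classical
  let ℬ := Module.Basis.ofVectorSpace K B
  apply (TensorProduct.equivFinsuppOfBasisLeft ℬ).injective
  rw [map_zero]
  ext i
  rw [TensorProduct.equivFinsuppOfBasisLeft_apply]
  exact h (ℬ.coord i)

end Integral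

section Integral2

open Polynomial

variable (K : Type u) [Field K] (B : Type u) [CommRing B] [Algebra K B]

/-- if `b W ⊆ W` then `q(b|_W) w = q(b) w`. -/
theorem aeval_restrict_mulLeft (b : B) (W : Submodule K B)
    (hW : ∀ x ∈ W, LinearMap.mulLeft K b x ∈ W) (q : K[X]) (w : W) :
    ((aeval ((LinearMap.mulLeft K b).restrict hW) q) w : B) = aeval b q * w := by
  induction q using Polynomial.induction_on' with
  | add p q hp hq => rw [map_add, map_add, LinearMap.add_apply, Submodule.coe_add, hp, hq, add_mul]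
  | monomial n a =>
    rw [aeval_monomial, aeval_monomial]
    have hpow : ∀ (n : ℕ) (w : W), ((((LinearMap.mulLeft K b).restrict hW) ^ n) w : B) = b ^ n * w := by
      intro n
      induction n with
      | zero => intro w; simp
      | succ n ih =>
        intro w
        rw [pow_succ, Module.End.mul_apply, ih, LinearMap.restrict_apply]
        simp only [LinearMap.mulLeft_apply]
        ring
    rw [Module.End.mul_apply, Module.algebraMap_end_apply, Submodule.coe_smul, hpow,
      Algebra.smul_def, mul_assoc]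

/-- A weakly étale algebra over a field is integral. -/
theorem isIntegral_of_weaklyEtale [Algebra.WeaklyEtale K B] (b : B) : IsIntegral K b := by
  obtain ⟨e, he1, he2⟩ := exists_sep_elem K B b
  set W := LinearMap.range (contrAt K B e) with hWdef
  have hfin : Module.Finite K W := range_contrAt_finite K B e
  have hW : ∀ x ∈ W, LinearMap.mulLeft K b x ∈ W := by
    rintro _ ⟨φ, rfl⟩
    refine ⟨φ ∘ₗ LinearMap.mulLeft K b, ?_⟩
    rw [contrAt_apply, contrAt_apply, LinearMap.mulLeft_apply, ← contr_mul_left, he2,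
      contr_mul_right]
  set f := (LinearMap.mulLeft K b).restrict hW with hf
  refine ⟨f.charpoly, f.charpoly_monic, ?_⟩
  rw [← aeval_def]
  have hz : ((1 : B) ⊗ₜ[K] (aeval b f.charpoly)) * e = 0 := by
    apply eq_zero_of_contr_eq_zero
    intro φ
    rw [contr_mul_right]
    have hw : contr K B φ e ∈ W := ⟨φ, rfl⟩
    have := aeval_restrict_mulLeft K B b W hW f.charpoly ⟨_, hw⟩
    rw [← hf, LinearMap.aeval_self_charpoly] at this
    simpa using this.symm
  have := congrArg (Algebra.TensorProduct.lmul' K (S := B)) hz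
  rw [map_mul, he1, Algebra.TensorProduct.lmul'_apply_tmul, map_zero, one_mul, mul_one] at this
  exact this

instance [Algebra.WeaklyEtale K B] : Algebra.IsIntegral K B := ⟨isIntegral_of_weaklyEtale K B⟩

end Integral2

section VNR2

open Polynomial

/-- von Neumann regularity, stated elementwise. -/
def IsVNR (C : Type*) [CommRing C] : Prop := ∀ c : C, ∃ t : C, c = c * c * t

theorem IsVNR.isReduced {C : Type*} [CommRing C] (h : IsVNR C) : IsReduced C := by
  refine ⟨fun x hx => ?_⟩
  obtain ⟨n, hn⟩ := hx
  obtain ⟨t, ht⟩ := h x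
  have key : ∀ k : ℕ, x = x ^ (k + 1) * t ^ k := by
    intro k
    induction k with
    | zero => simp
    | succ k ih =>
      calc x = x ^ (k + 1) * t ^ k := ih
        _ = x ^ k * x * t ^ k := by rw [pow_succ]
        _ = x ^ k * (x * x * t) * t ^ k := by rw [← ht]
        _ = x ^ (k + 1 + 1) * t ^ (k + 1) := by ring
  have := key n
  rw [pow_succ, hn, zero_mul, zero_mul] at this
  exact this

/-- In a von Neumann regular ring every ideal is pure. -/
theorem IsVNR.pure {C : Type*} [CommRing C] (h : IsVNR C) (I : Ideal C) : I.Pure := by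
  rw [pure_iff_forall_exists_eq_mul]
  intro x hx
  obtain ⟨t, ht⟩ := h x
  exact ⟨x * t, I.mul_mem_right _ hx, by rw [← mul_assoc]; exact ht⟩

/-- A reduced algebra integral over a field is von Neumann regular. -/
theorem isVNR_of_isReduced_of_isIntegral (K : Type*) [Field K] (C : Type*) [CommRing C]
    [Algebra K C] [IsReduced C] [Algebra.IsIntegral K C] : IsVNR C := by
  intro c
  obtain ⟨p, hpm, hpc⟩ := Algebra.IsIntegral.isIntegral (R := K) c
  rw [← aeval_def] at hpc
  obtain ⟨q, hpq, hq⟩ := Polynomial.exists_eq_pow_rootMultiplicity_mul_and_not_dvd p hpm.ne_zero 0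
  set k := p.rootMultiplicity 0
  rw [C_0, sub_zero] at hpq hq
  have hq0 : q.coeff 0 ≠ 0 := fun h0 => hq (Polynomial.X_dvd_iff.2 h0)
  have h1 : c ^ k * aeval c q = 0 := by
    rw [hpq, map_mul, map_pow, aeval_X] at hpc
    exact hpc
  have h2 : c * aeval c q = 0 := by
    apply IsReduced.eq_zero
    refine ⟨k + 1, ?_⟩
    calc (c * aeval c q) ^ (k + 1) = (c ^ k * aeval c q) * (c * (aeval c q) ^ k) := by ring
      _ = 0 := by rw [h1, zero_mul]
  have h3 : aeval c q = aeval c q.divX * c + algebraMap K C (q.coeff 0) := by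
    conv_lhs => rw [← Polynomial.divX_mul_X_add q]
    rw [map_add, map_mul, aeval_X, aeval_C]
  rw [h3] at h2
  refine ⟨- (algebraMap K C (q.coeff 0)⁻¹ * aeval c q.divX), ?_⟩
  have h4 : algebraMap K C (q.coeff 0)⁻¹ * algebraMap K C (q.coeff 0) = 1 := by
    rw [← map_mul, inv_mul_cancel₀ hq0, map_one]
  linear_combination (algebraMap K C (q.coeff 0)⁻¹) * h2 - c * h4

end VNR2

section Sub

variable (K : Type u) [Field K] (B : Type u) [CommRing B] [Algebra K B]

theorem isVNR_of_weaklyEtale [Algebra.WeaklyEtale K B] : IsVNR B := exists_eq_sq_mul K B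

theorem weaklyEtale_of_isVNR_tensor (h : IsVNR (B ⊗[K] B)) : Algebra.WeaklyEtale K B := by
  rw [weaklyEtale_iff_mulKer, ← pure_iff_forall_exists_eq_mul]
  exact h.pure _

theorem weaklyEtale_subalgebra [Algebra.WeaklyEtale K B] (S : Subalgebra K B) :
    Algebra.WeaklyEtale K S := by
  apply weaklyEtale_of_isVNR_tensor
  have hBB : Algebra.WeaklyEtale K (B ⊗[K] B) := Algebra.WeaklyEtale.trans K B (B ⊗[K] B)
  have hred : IsReduced (B ⊗[K] B) := (isVNR_of_weaklyEtale K (B ⊗[K] B)).isReduced
  have hinj : Function.Injective (Algebra.TensorProduct.map S.val S.val) := by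
    have : (Algebra.TensorProduct.map S.val S.val : S ⊗[K] S → B ⊗[K] B) =
        TensorProduct.map S.val.toLinearMap S.val.toLinearMap := rfl
    rw [this]
    exact TensorProduct.map_injective_of_flat_flat _ _ Subtype.val_injective Subtype.val_injective
  have hredS : IsReduced (S ⊗[K] S) :=
    isReduced_of_injective (Algebra.TensorProduct.map S.val S.val) hinj
  have hintS : Algebra.IsIntegral K S := ⟨fun s => by
    have := isIntegral_of_weaklyEtale K B (s : B)
    exact (isIntegral_algHom_iff S.val Subtype.val_injective).1 this⟩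
  have hintSS : Algebra.IsIntegral K (S ⊗[K] S) := Algebra.IsIntegral.trans (R := K) S
  exact isVNR_of_isReduced_of_isIntegral K _

end Sub

end Groth.Agent.H10
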