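import Mathlib
import Groth.Agent.H10.WeakDimOne
import Groth.Agent.H10.PiValuation
import Groth.Agent.H10.NormalCartesian
import Groth.Agent.H36.FlatTwist

/-! A weakly étale algebra over a normal domain is integrally closed in its generic fibre. -/

set_option autoImplicit false
set_option linter.style.haveILetI false
universe u

open TensorProduct Polynomial

namespace Groth.Agent.H10.WEN

section Dvd

/-- In an integrally closed domain, a root `w` of `p.scaleRoots s` with `p` monic is divisible
by `s`. -/
theorem dvd_of_scaleRoots_eval_eq_zero (R : Type*) [CommRing R] [IsDomain R] [IsIntegrallyClosed R]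
    (s w : R) (p : R[X]) (hp : p.Monic) (h : (p.scaleRoots s).eval w = 0) : s ∣ w := by
  by_cases hs : s = 0
  · subst hs
    rw [scaleRoots_zero, hp.leadingCoeff, one_smul, eval_pow, eval_X] at h
    rw [eq_zero_of_pow_eq_zero h]
  · let F := FractionRing R
    set x : F := algebraMap R F w / algebraMap R F s with hx
    have hs' : algebraMap R F s ≠ 0 := by
      simpa using (IsFractionRing.injective R F).ne hs
    have h1 : algebraMap R F s * x = algebraMap R F w := by
      rw [hx, mul_div_cancel₀ _ hs']
    have h2 := scaleRoots_eval₂_mul (p := p) (algebraMap R F) x s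
    rw [h1, eval₂_at_apply, h, map_zero] at h2
    have h3 : eval₂ (algebraMap R F) x p = 0 := by
      rcases mul_eq_zero.mp h2.symm with h | h
      · exact absurd (eq_zero_of_pow_eq_zero h) hs'
      · exact h
    have hint : IsIntegral R x := ⟨p, hp, h3⟩
    obtain ⟨r, hr⟩ := (isIntegrallyClosed_iff F).1 inferInstance hint
    refine ⟨r, ?_⟩
    apply IsFractionRing.injective R F
    rw [map_mul, hr, h1]

/-- Local-global version. -/
theorem dvd_of_scaleRoots_eval_eq_zero_of_local (R : Type*) [CommRing R]
    (hloc : ∀ (m : Ideal R) [m.IsMaximal], ∃ _ : IsDomain (Localization.AtPrime m),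
      IsIntegrallyClosed (Localization.AtPrime m))
    (s w : R) (p : R[X]) (hp : p.Monic) (h : (p.scaleRoots s).eval w = 0) : s ∣ w := by
  rw [← Ideal.mem_span_singleton]
  apply Ideal.mem_of_localization_maximal
  intro m hm
  haveI := hm
  obtain ⟨hdom, hic⟩ := hloc m
  set φ := algebraMap R (Localization.AtPrime m) with hφ
  rw [Ideal.map_span, Set.image_singleton, Ideal.mem_span_singleton]
  apply dvd_of_scaleRoots_eval_eq_zero (Localization.AtPrime m) (φ s) (φ w) (p.map φ)
    (hp.map φ)
  rw [← map_scaleRoots, eval_map, eval₂_at_apply, h, map_zero]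
  rw [hp.leadingCoeff, map_one]
  exact one_ne_zero

end Dvd

section Descent

variable (A V B : Type u) [CommRing A] [CommRing V] [CommRing B] [Algebra A V] [Algebra A B]
  [Module.Flat A B]

/-- If `A/sA → V/sV` is injective and `B` is flat over `A`, divisibility by `s` descends from
`V ⊗ B` to `B`. -/
theorem dvd_of_dvd_tensor (s : A)
    (hinj : ∀ a : A, algebraMap A V s ∣ algebraMap A V a → s ∣ a) (b : B)
    (h : (algebraMap A V s ⊗ₜ[A] (1 : B) : V ⊗[A] B) ∣ (1 : V) ⊗ₜ[A] b) :
    algebraMap A B s ∣ b := by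
  set I : Ideal A := Ideal.span {s} with hI
  set I' : Submodule A V := (Ideal.span {algebraMap A V s}).restrictScalars A with hI'
  have hle : I ≤ I'.comap (Algebra.linearMap A V) := by
    intro a ha
    rw [hI, Ideal.mem_span_singleton] at ha
    obtain ⟨c, rfl⟩ := ha
    rw [Submodule.mem_comap, hI', Submodule.restrictScalars_mem, Algebra.linearMap_apply, map_mul]
    exact Ideal.mul_mem_right _ _ (Ideal.subset_span rfl)
  let ι : (A ⧸ I) →ₗ[A] (V ⧸ I') := Submodule.mapQ I I' (Algebra.linearMap A V) hle
  have hι : Function.Injective ι := by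
    rw [injective_iff_map_eq_zero]
    intro x hx
    obtain ⟨a, rfl⟩ := Submodule.Quotient.mk_surjective _ x
    rw [Submodule.mapQ_apply, Submodule.Quotient.mk_eq_zero, hI', Submodule.restrictScalars_mem,
      Algebra.linearMap_apply, Ideal.mem_span_singleton] at hx
    rw [Submodule.Quotient.mk_eq_zero, hI, Ideal.mem_span_singleton]
    exact hinj a hx
  have hιB : Function.Injective (LinearMap.rTensor B ι) :=
    Module.Flat.rTensor_preserves_injective_linearMap ι hι
  let q : V ⊗[A] B →ₗ[A] (V ⧸ I') ⊗[A] B := LinearMap.rTensor B I'.mkQ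
  have hq : ∀ w : V ⊗[A] B, q ((algebraMap A V s ⊗ₜ[A] (1 : B)) * w) = 0 := by
    intro w
    induction w using TensorProduct.induction_on with
    | zero => simp
    | add x y hx hy => rw [mul_add, map_add, hx, hy, add_zero]
    | tmul v b =>
      rw [Algebra.TensorProduct.tmul_mul_tmul, LinearMap.rTensor_tmul]
      have : I'.mkQ (algebraMap A V s * v) = 0 := by
        rw [Submodule.mkQ_apply, Submodule.Quotient.mk_eq_zero, hI', Submodule.restrictScalars_mem]
        exact Ideal.mul_mem_right _ _ (Ideal.subset_span rfl)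
      rw [this, zero_tmul]
  obtain ⟨w, hw⟩ := h
  have h1 : q ((1 : V) ⊗ₜ[A] b) = 0 := by rw [hw]; exact hq w
  have h2 : LinearMap.rTensor B ι ((Submodule.Quotient.mk (1 : A) : A ⧸ I) ⊗ₜ[A] b) = 0 := by
    rw [LinearMap.rTensor_tmul, Submodule.mapQ_apply, Algebra.linearMap_apply, map_one]
    rw [LinearMap.rTensor_tmul, Submodule.mkQ_apply] at h1
    exact h1
  have h3 : ((Submodule.Quotient.mk (1 : A) : A ⧸ I) ⊗ₜ[A] b) = 0 :=
    hιB (by rw [h2, map_zero])
  have h4 := congrArg (TensorProduct.quotTensorEquivQuotSMul B I) h3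
  rw [map_zero] at h4
  have h5 : (Submodule.Quotient.mk ((1 : A) • b) : B ⧸ (I • ⊤ : Submodule A B)) = 0 := by
    rw [← h4]
    exact (TensorProduct.quotTensorEquivQuotSMul_mk_tmul I 1 b).symm
  rw [Submodule.Quotient.mk_eq_zero, one_smul, hI, Submodule.ideal_span_singleton_smul,
    Submodule.mem_smul_pointwise_iff_exists] at h5
  obtain ⟨b', -, hb'⟩ := h5
  exact ⟨b', by rw [← hb', Algebra.smul_def]⟩

end Descent

section Ascent

variable (V W : Type u) [CommRing V] [CommRing W] [Algebra V W] [Algebra.WeaklyEtale V W]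

/-- Weak dimension at most one ascends along weakly étale maps. -/
theorem weakDim_ascent (hV : ∀ I : Ideal V, Module.Flat V I) :
    ∀ (p : Ideal W) [p.IsPrime], ∃ _ : IsDomain (Localization.AtPrime p),
      ValuationRing (Localization.AtPrime p) := by
  have hV3 := ((Groth.Agent.H10.weakDimOne_tfae V).out 0 2).mp hV
  have hW1 : ∀ I : Ideal W, Module.Flat W I := by
    intro I
    haveI : Module.Flat V (I.restrictScalars V) := hV3 W inferInstance (I.restrictScalars V)
    let e : (I.restrictScalars V) ≃ₗ[V] I :=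
      { toFun := fun x => ⟨x.1, x.2⟩
        invFun := fun x => ⟨x.1, x.2⟩
        map_add' := fun _ _ => rfl
        map_smul' := fun _ _ => rfl
        left_inv := fun _ => rfl
        right_inv := fun _ => rfl }
    haveI : Module.Flat V I := Module.Flat.of_linearEquiv e.symm
    exact Groth.Agent.H36.flat_of_flat_lmul' V W I (Algebra.WeaklyEtale.flat_lmul' V W)
  exact ((Groth.Agent.H10.weakDimOne_tfae W).out 0 3).mp hW1

end Ascent

section Main

variable (A : Type u) [CommRing A] [IsDomain A] [IsIntegrallyClosed A]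
  (K : Type u) [Field K] [Algebra A K] [IsFractionRing A K] (B : Type u) [CommRing B] [Algebra A B]
  [Algebra.WeaklyEtale A B]

theorem main : IsIntegrallyClosedIn B (B ⊗[A] K) := by
  classical
  set R₀ : Subring K := (algebraMap A K).range with hR₀
  haveI : IsIntegrallyClosedIn R₀ K := Groth.Agent.H10.range_isIntegrallyClosedIn A K
  let J : Type u := {V : ValuationSubring K // R₀ ≤ V.toSubring}
  let V : Type u := ∀ j : J, ↥j.1
  let f : A →+* V := RingHom.pi (fun j =>
    (algebraMap A K).codRestrict j.1.toSubring (fun a => j.2 ⟨a, rfl⟩))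
  letI : Algebra A V := f.toAlgebra
  have hV : ∀ I : Ideal V, Module.Flat V I := fun I =>
    Groth.Agent.H10.flat_ideal_pi_valuationRing (fun j : J => ↥j.1) I
  have hinj : ∀ s a : A, s ≠ 0 → algebraMap A V s ∣ algebraMap A V a → s ∣ a := by
    rintro s a hs ⟨v, hv⟩
    have hsK : algebraMap A K s ≠ 0 := by
      simpa using (IsFractionRing.injective A K).ne hs
    have hk : ∀ j : J, algebraMap A K a / algebraMap A K s ∈ j.1.toSubring := by
      intro j
      have h1 := congrFun hv j
      have h2 : algebraMap A K a = algebraMap A K s * ((v j : ↥j.1) : K) :=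
        congrArg Subtype.val h1
      rw [h2, mul_div_cancel_left₀ _ hsK]
      exact (v j).2
    have hkR : algebraMap A K a / algebraMap A K s ∈ R₀ := by
      rw [Subring.eq_iInf_of_isIntegrallyClosedIn (R := R₀)]
      rw [Subring.mem_iInf]
      exact hk
    obtain ⟨c, hc⟩ := hkR
    refine ⟨c, ?_⟩
    apply IsFractionRing.injective A K
    rw [map_mul, hc, mul_div_cancel₀ _ hsK]
  let W : Type u := V ⊗[A] B
  have hW := weakDim_ascent V W hV
  have hWloc : ∀ (m : Ideal W) [m.IsMaximal], ∃ _ : IsDomain (Localization.AtPrime m),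
      IsIntegrallyClosed (Localization.AtPrime m) := by
    intro m hm
    obtain ⟨hdom, hval⟩ := hW m
    exact ⟨hdom, inferInstance⟩
  set φ := algebraMap B (B ⊗[A] K) with hφ
  have hφinj : Function.Injective φ :=
    Algebra.TensorProduct.includeLeft_injective (S := B) (IsFractionRing.injective A K)
  rw [isIntegrallyClosedIn_iff]
  refine ⟨hφinj, ?_⟩
  rintro x ⟨p, hp, hpx⟩
  haveI hloc : IsLocalization (Algebra.algebraMapSubmonoid B (nonZeroDivisors A)) (B ⊗[A] K) :=
    IsLocalization.tensor K (nonZeroDivisors A)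
  obtain ⟨⟨b, ⟨s', hs'⟩⟩, hbs⟩ :=
    IsLocalization.mk'_surjective (Algebra.algebraMapSubmonoid B (nonZeroDivisors A)) x
  obtain ⟨s, hs, rfl⟩ := hs'
  have h1 : φ (algebraMap A B s) * x = φ b := by
    rw [← hbs, mul_comm]
    exact IsLocalization.mk'_spec _ _ _
  have h2 := scaleRoots_eval₂_mul (p := p) φ x (algebraMap A B s)
  rw [h1, hpx, mul_zero, eval₂_at_apply] at h2
  have h3 : eval b (p.scaleRoots (algebraMap A B s)) = 0 := hφinj (by rw [h2, map_zero])
  let ψ : B →+* W := (Algebra.TensorProduct.includeRight : B →ₐ[A] V ⊗[A] B).toRingHom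
  have h5 : ψ (algebraMap A B s) ∣ ψ b := by
    rcases subsingleton_or_nontrivial W with hsub | hnt
    · rw [Subsingleton.elim (ψ b) (ψ (algebraMap A B s))]
    · apply dvd_of_scaleRoots_eval_eq_zero_of_local W hWloc _ _ (p.map ψ) (hp.map ψ)
      rw [← map_scaleRoots, eval_map, eval₂_at_apply, h3, map_zero]
      rw [hp.leadingCoeff, map_one]
      exact one_ne_zero
  have h6 : ψ (algebraMap A B s) = (algebraMap A V s ⊗ₜ[A] (1 : B) : W) := by
    change (1 : V) ⊗ₜ[A] (algebraMap A B s) = _
    rw [Algebra.algebraMap_eq_smul_one, ← TensorProduct.smul_tmul, ← Algebra.algebraMap_eq_smul_one]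
  have h7 : algebraMap A B s ∣ b := by
    apply dvd_of_dvd_tensor A V B s (fun a => hinj s a (nonZeroDivisors.ne_zero hs)) b
    rw [← h6]
    exact h5
  obtain ⟨b', rfl⟩ := h7
  refine ⟨b', ?_⟩
  have hu : IsUnit (φ (algebraMap A B s)) :=
    IsLocalization.map_units (B ⊗[A] K)
      (⟨algebraMap A B s, ⟨s, hs, rfl⟩⟩ : Algebra.algebraMapSubmonoid B (nonZeroDivisors A))
  apply hu.mul_right_injective
  change φ (algebraMap A B s) * φ b' = φ (algebraMap A B s) * x
  rw [h1, map_mul]

end Main

end Groth.Agent.H10.WEN
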