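import Mathlib
import Groth.Agent.H10.WeaklyEtaleNormal
import Groth.Agent.H10.WeaklyEtaleField2

/-! A local ring weakly étale over a normal domain is a normal domain. -/

set_option autoImplicit false
set_option linter.style.haveILetI false
universe u

open TensorProduct Polynomial

namespace Groth.Agent.H10.WEN

/-- A nontrivial von Neumann regular ring with only trivial idempotents is a field. -/
theorem isField_of_isVNR (C : Type*) [CommRing C] [Nontrivial C] (h : Groth.Agent.H10.IsVNR C)
    (hidem : ∀ e : C, e * e = e → e = 0 ∨ e = 1) : IsField C := by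
  refine ⟨⟨0, 1, zero_ne_one⟩, mul_comm, ?_⟩
  intro c hc
  obtain ⟨t, ht⟩ := h c
  have hidem' : (c * t) * (c * t) = c * t := by
    calc (c * t) * (c * t) = (c * c * t) * t := by ring
      _ = c * t := by rw [← ht]
  rcases hidem (c * t) hidem' with h0 | h1
  · exfalso
    apply hc
    calc c = c * c * t := ht
      _ = c * (c * t) := by ring
      _ = 0 := by rw [h0, mul_zero]
  · exact ⟨t, h1⟩

theorem isDomain_isIntegrallyClosed_of_weaklyEtale_local (A : Type u) [CommRing A] [IsDomain A]
    [IsIntegrallyClosed A] (B : Type u) [CommRing B] [IsLocalRing B] [Algebra A B]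
    [Algebra.WeaklyEtale A B] : IsDomain B ∧ IsIntegrallyClosed B := by
  let K := FractionRing A
  let C := B ⊗[A] K
  have hic : IsIntegrallyClosedIn B C := main A K B
  have hinj : Function.Injective (algebraMap B C) := hic.algebraMap_injective
  haveI : Nontrivial C := hinj.nontrivial
  have hVNR' : Groth.Agent.H10.IsVNR (K ⊗[A] B) :=
    Groth.Agent.H10.isVNR_of_weaklyEtale K (K ⊗[A] B)
  have hVNR : Groth.Agent.H10.IsVNR C :=
    hVNR'.of_surjective (Algebra.TensorProduct.comm A K B).toRingEquiv.toRingHom
      (Algebra.TensorProduct.comm A K B).surjective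
  have hidem : ∀ e : C, e * e = e → e = 0 ∨ e = 1 := by
    intro e he
    have hint : IsIntegral B e := by
      refine ⟨X ^ 2 - X, monic_X_pow_sub (by simp), ?_⟩
      simp [pow_two, he]
    obtain ⟨b, rfl⟩ := hic.isIntegral_iff.mp hint
    have hb : b * b = b := hinj (by rw [map_mul, he])
    have hb' : b * (1 - b) = 0 := by rw [mul_sub, mul_one, hb, sub_self]
    rcases IsLocalRing.isUnit_or_isUnit_one_sub_self b with h | h
    · right
      have : 1 - b = 0 := h.mul_right_eq_zero.mp hb'
      rw [← sub_eq_zero.mp this, map_one]
    · left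
      have : b = 0 := h.mul_left_eq_zero.mp hb'
      rw [this, map_zero]
  have hfield : IsField C := isField_of_isVNR C hVNR hidem
  letI : Field C := hfield.toField
  have hdom : IsDomain B := hinj.isDomain (algebraMap B C)
  refine ⟨hdom, ?_⟩
  haveI hloc : IsLocalization (Algebra.algebraMapSubmonoid B (nonZeroDivisors A)) C :=
    IsLocalization.tensor K (nonZeroDivisors A)
  haveI : IsFractionRing B C := by
    apply IsLocalization.of_le (M := Algebra.algebraMapSubmonoid B (nonZeroDivisors A))
      (nonZeroDivisors B)
    · rintro _ ⟨s, hs, rfl⟩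
      have hu : IsUnit (algebraMap B C (algebraMap A B s)) :=
        IsLocalization.map_units C
          (⟨algebraMap A B s, ⟨s, hs, rfl⟩⟩ : Algebra.algebraMapSubmonoid B (nonZeroDivisors A))
      rw [mem_nonZeroDivisors_iff_ne_zero]
      intro h0
      rw [h0, map_zero] at hu
      exact not_isUnit_zero hu
    · intro r hr
      have : algebraMap B C r ≠ 0 := by
        rw [Ne, map_eq_zero_iff _ hinj]
        exact nonZeroDivisors.ne_zero hr
      exact this.isUnit
  exact (isIntegrallyClosed_iff_isIntegrallyClosedIn C).mpr hic

end Groth.Agent.H10.WEN
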