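import Groth.Agent.H10.WeaklyEtaleScheme
import Groth.Agent.S7128
import Mathlib

set_option autoImplicit false
set_option linter.style.haveILetI false

/-!
# The source of a weakly étale morphism with reduced target is reduced
-/

open AlgebraicGeometry CategoryTheory Limits

namespace Groth.Agent.H10

universe u

/-- a scheme covered by affine opens with reduced rings of sections is reduced. -/
theorem isReduced_of_affine_cover (X : Scheme.{u})
    (h : ∀ x : X, ∃ U : X.Opens, IsAffineOpen U ∧ x ∈ U ∧ _root_.IsReduced Γ(X, U)) :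
    AlgebraicGeometry.IsReduced X := by
  choose U hU hxU hred using h
  have hcov : TopologicalSpace.IsOpenCover U := by
    refine TopologicalSpace.IsOpenCover.mk (top_le_iff.1 ?_)
    intro x _
    exact TopologicalSpace.Opens.mem_iSup.2 ⟨x, hxU x⟩
  have : ∀ i, AlgebraicGeometry.IsReduced ((X.openCoverOfIsOpenCover U hcov).X i) := by
    intro x
    change AlgebraicGeometry.IsReduced (U x : Scheme)
    haveI : IsAffine (U x : Scheme) := hU x
    haveI : _root_.IsReduced Γ((U x : Scheme), ⊤) := by
      have hinj : Function.Injective ((U x).topIso.hom.hom) :=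
        (ConcreteCategory.bijective_of_isIso (U x).topIso.hom).1
      haveI := hred x
      exact isReduced_of_injective _ hinj
    exact isReduced_of_isAffine_isReduced _
  exact IsReduced.of_openCover X (X.openCoverOfIsOpenCover U hcov)

theorem isReduced_of_weaklyEtale {X Y : Scheme.{u}} (f : X ⟶ Y) [WeaklyEtale f]
    [AlgebraicGeometry.IsReduced Y] : AlgebraicGeometry.IsReduced X := by
  apply isReduced_of_affine_cover
  intro x
  obtain ⟨V, hV, hxV, -⟩ := (TopologicalSpace.Opens.isBasis_iff_nbhd.1 Y.isBasis_affineOpens)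
    (show f x ∈ (⊤ : Y.Opens) from trivial)
  obtain ⟨U, hU, hxU, hUV⟩ := (TopologicalSpace.Opens.isBasis_iff_nbhd.1 X.isBasis_affineOpens)
    (show x ∈ f ⁻¹ᵁ V from hxV)
  refine ⟨U, hU, hxU, ?_⟩
  letI := (f.appLE V U hUV).hom.toAlgebra
  haveI : Algebra.WeaklyEtale Γ(Y, V) Γ(X, U) :=
    (weaklyEtale_iff_appLE f).1 inferInstance U V hU hV hUV
  exact Groth.Agent.S7128.result Γ(Y, V) Γ(X, U)

end Groth.Agent.H10
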