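import Mathlib

set_option autoImplicit false
set_option linter.style.haveILetI false

/-!
# Weakly étale morphisms of schemes: affine-local characterization
-/

open AlgebraicGeometry CategoryTheory Limits

namespace Groth.Agent.H10

universe u

/-- affine case: `Spec B ⟶ Spec A` is weakly étale iff `B` is a weakly étale `A`-algebra. -/
theorem weaklyEtale_SpecMap_algebraMap_iff (A B : Type u) [CommRing A] [CommRing B] [Algebra A B] :
    WeaklyEtale (Spec.map (CommRingCat.ofHom (algebraMap A B))) ↔ Algebra.WeaklyEtale A B := by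
  rw [weaklyEtale_iff, Algebra.weaklyEtale_iff, diagonal_SpecMap,
    MorphismProperty.cancel_right_of_respectsIso (P := @Flat),
    HasRingHomProperty.Spec_iff (P := @Flat), HasRingHomProperty.Spec_iff (P := @Flat)]
  simp only [CommRingCat.hom_ofHom]
  rw [RingHom.flat_algebraMap_iff]

/-- the ring hom version. -/
theorem weaklyEtale_SpecMap_iff {A B : Type u} [CommRing A] [CommRing B] (φ : A →+* B) :
    WeaklyEtale (Spec.map (CommRingCat.ofHom φ)) ↔
      (letI := φ.toAlgebra; Algebra.WeaklyEtale A B) := by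
  letI := φ.toAlgebra
  exact weaklyEtale_SpecMap_algebraMap_iff A B

instance : HasRingHomProperty @WeaklyEtale
    (fun {R S} [CommRing R] [CommRing S] f => WeaklyEtale (Spec.map (CommRingCat.ofHom f))) :=
  HasRingHomProperty.of_isZariskiLocalAtSource_of_isZariskiLocalAtTarget @WeaklyEtale

/-- affine-local characterization of weakly étale morphisms. -/
theorem weaklyEtale_iff_appLE {X S : Scheme.{u}} (f : X ⟶ S) :
    WeaklyEtale f ↔ ∀ (U : X.Opens) (V : S.Opens) (_ : IsAffineOpen U) (_ : IsAffineOpen V)
      (hUV : U ≤ f ⁻¹ᵁ V),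
      (letI := (f.appLE V U hUV).hom.toAlgebra
       Algebra.WeaklyEtale Γ(S, V) Γ(X, U)) := by
  rw [HasRingHomProperty.iff_appLE (P := @WeaklyEtale)]
  constructor
  · intro h U V hU hV hUV
    have := h ⟨V, hV⟩ ⟨U, hU⟩ hUV
    exact (weaklyEtale_SpecMap_iff _).1 this
  · intro h V U e
    exact (weaklyEtale_SpecMap_iff _).2 (h U.1 V.1 U.2 V.2 e)

end Groth.Agent.H10
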