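import Mathlib
import Groth.Agent.H10.WeaklyEtaleScheme
import Groth.Agent.S7127

set_option autoImplicit false
set_option linter.style.haveILetI false
universe u
open TensorProduct
namespace Groth.Agent.H10

/-- a localization is an epimorphism: `1 ⊗ x = x ⊗ 1`. -/
theorem one_tmul_eq_tmul_one_of_isLocalization {R : Type*} [CommRing R] (M : Submonoid R)
    (S : Type*) [CommRing S] [Algebra R S] [IsLocalization M S] (x : S) :
    (1 : S) ⊗ₜ[R] x = x ⊗ₜ[R] (1 : S) := by
  obtain ⟨⟨r, m⟩, hx⟩ := IsLocalization.surj M x
  simp only at hx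
  obtain ⟨u, hu⟩ := IsLocalization.map_units S m
  have h1 : (1 : S) = (m : R) • (↑u⁻¹ : S) := by
    rw [Algebra.smul_def, ← hu, Units.mul_inv]
  have h2 : (m : R) • x = r • (1 : S) := by
    rw [Algebra.smul_def, Algebra.smul_def, mul_one, mul_comm, hx]
  have h3 : x = r • (↑u⁻¹ : S) := by
    rw [Algebra.smul_def, ← hx, ← hu, mul_assoc, Units.mul_inv, mul_one]
  calc (1 : S) ⊗ₜ[R] x = ((m : R) • (↑u⁻¹ : S)) ⊗ₜ[R] x := by rw [← h1]
    _ = (↑u⁻¹ : S) ⊗ₜ[R] ((m : R) • x) := by rw [TensorProduct.smul_tmul]
    _ = (↑u⁻¹ : S) ⊗ₜ[R] (r • (1 : S)) := by rw [h2]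
    _ = (r • (↑u⁻¹ : S)) ⊗ₜ[R] (1 : S) := by rw [TensorProduct.smul_tmul]
    _ = x ⊗ₜ[R] (1 : S) := by rw [← h3]

theorem lmul'_bijective_of_isLocalization {R : Type*} [CommRing R] (M : Submonoid R)
    (S : Type*) [CommRing S] [Algebra R S] [IsLocalization M S] :
    Function.Bijective (Algebra.TensorProduct.lmul' R (S := S)) := by
  have hepi : Algebra.IsEpi R S :=
    (Algebra.isEpi_iff_forall_one_tmul_eq R S).2 (one_tmul_eq_tmul_one_of_isLocalization M S)
  constructor
  · intro x y hxy
    apply hepi.injective_lift_mul
    have : ∀ z : S ⊗[R] S, (TensorProduct.lift (LinearMap.mul R S)) z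
        = Algebra.TensorProduct.lmul' R (S := S) z := by
      intro z
      induction z using TensorProduct.induction_on with
      | zero => simp
      | tmul a b => simp
      | add a b ha hb => rw [map_add, map_add, ha, hb]
    rw [this, this, hxy]
  · intro s
    exact ⟨s ⊗ₜ 1, by simp⟩

theorem weaklyEtale_of_isLocalization {R : Type*} [CommRing R] (M : Submonoid R)
    (S : Type*) [CommRing S] [Algebra R S] [IsLocalization M S] : Algebra.WeaklyEtale R S where
  flat := IsLocalization.flat S M
  flat_lmul' := RingHom.Flat.of_bijective (lmul'_bijective_of_isLocalization M S)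

/-- weakly étale passes to the local ring homomorphisms at primes. -/
theorem weaklyEtale_localRingHom {A B : Type u} [CommRing A] [CommRing B] (φ : A →+* B)
    (h : letI := φ.toAlgebra; Algebra.WeaklyEtale A B) (J : Ideal B) [J.IsPrime] :
    letI := (Localization.localRingHom (J.comap φ) J φ rfl).toAlgebra
    Algebra.WeaklyEtale (Localization.AtPrime (J.comap φ)) (Localization.AtPrime J) := by
  letI := φ.toAlgebra
  letI := (Localization.localRingHom (J.comap φ) J φ rfl).toAlgebra
  haveI : IsScalarTower A (Localization.AtPrime (J.comap φ)) (Localization.AtPrime J) :=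
    .of_algebraMap_eq fun x ↦ (Localization.localRingHom_to_map _ _ _ rfl x).symm
  haveI : Algebra.WeaklyEtale B (Localization.AtPrime J) :=
    weaklyEtale_of_isLocalization J.primeCompl _
  haveI : Algebra.WeaklyEtale A (Localization.AtPrime J) :=
    Algebra.WeaklyEtale.trans A B (Localization.AtPrime J)
  haveI : Algebra.WeaklyEtale A (Localization.AtPrime (J.comap φ)) :=
    weaklyEtale_of_isLocalization (J.comap φ).primeCompl _
  exact Groth.Agent.S7127.result A (Localization.AtPrime (J.comap φ)) (Localization.AtPrime J)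


/-- weakly étale can be checked on the local ring homomorphisms at primes. -/
theorem weaklyEtale_of_localRingHom {A B : Type u} [CommRing A] [CommRing B] (φ : A →+* B)
    (h : ∀ (J : Ideal B) (_ : J.IsPrime),
      letI := (Localization.localRingHom (J.comap φ) J φ rfl).toAlgebra
      Algebra.WeaklyEtale (Localization.AtPrime (J.comap φ)) (Localization.AtPrime J)) :
    letI := φ.toAlgebra; Algebra.WeaklyEtale A B := by
  letI := φ.toAlgebra
  have hflat : φ.Flat := by
    apply RingHom.Flat.ofLocalizationPrime
    intro J hJ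
    letI := (Localization.localRingHom (J.comap φ) J φ rfl).toAlgebra
    have := h J hJ
    exact (RingHom.flat_algebraMap_iff).2 this.flat
  refine ⟨hflat, ?_⟩
  -- flatness of the multiplication map
  let μ : B ⊗[A] B →+* B := (Algebra.TensorProduct.lmul' A (S := B)).toRingHom
  change μ.Flat
  letI := μ.toAlgebra
  rw [RingHom.Flat]
  apply Module.flat_of_isLocalized_maximal B B (fun P ↦ Localization.AtPrime P)
    (fun P ↦ Algebra.linearMap B _)
  intro P hP
  haveI : P.IsPrime := hP.isPrime
  letI := (Localization.localRingHom (P.comap φ) P φ rfl).toAlgebra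
  haveI : IsScalarTower A (Localization.AtPrime (P.comap φ)) (Localization.AtPrime P) :=
    .of_algebraMap_eq fun x ↦ (Localization.localRingHom_to_map _ _ _ rfl x).symm
  have hP' := h P inferInstance
  -- the three flat maps
  let f1 : B ⊗[A] B →ₐ[A] Localization.AtPrime P ⊗[A] Localization.AtPrime P :=
    Algebra.TensorProduct.map (IsScalarTower.toAlgHom A B (Localization.AtPrime P))
      (IsScalarTower.toAlgHom A B (Localization.AtPrime P))
  have hf1 : f1.toRingHom.Flat := by
    apply RingHom.Flat.tensorProductMap
    · exact (RingHom.flat_algebraMap_iff).2 (IsLocalization.flat _ P.primeCompl)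
    · exact (RingHom.flat_algebraMap_iff).2 (IsLocalization.flat _ P.primeCompl)
  let f2 := Algebra.TensorProduct.mapOfCompatibleSMul (Localization.AtPrime (P.comap φ)) A
    (Localization.AtPrime P) (Localization.AtPrime P) (Localization.AtPrime P)
  have hf2 : f2.toRingHom.Flat := by
    apply RingHom.Flat.mapOfCompatibleSMul
    exact RingHom.Flat.of_bijective (lmul'_bijective_of_isLocalization (P.comap φ).primeCompl _)
  let f3 := Algebra.TensorProduct.lmul' (Localization.AtPrime (P.comap φ))
    (S := Localization.AtPrime P)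
  have hf3 : f3.toRingHom.Flat := hP'.flat_lmul'
  have hcomp : (f3.toRingHom.comp (f2.toRingHom.comp f1.toRingHom)) =
      algebraMap (B ⊗[A] B) (Localization.AtPrime P) := by
    apply RingHom.ext
    intro z
    induction z using TensorProduct.induction_on with
    | zero => simp
    | tmul a b =>
      simp only [RingHom.comp_apply, AlgHom.toRingHom_eq_coe, RingHom.coe_coe, f1, f2, f3,
        Algebra.TensorProduct.map_tmul, Algebra.TensorProduct.mapOfCompatibleSMul_tmul,
        Algebra.TensorProduct.lmul'_apply_tmul, IsScalarTower.coe_toAlgHom']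
      rw [IsScalarTower.algebraMap_apply (B ⊗[A] B) B (Localization.AtPrime P)]
      change _ = algebraMap B _ (μ (a ⊗ₜ b))
      simp [μ]
    | add x y hx hy => rw [map_add, map_add, hx, hy]
  have hall : (algebraMap (B ⊗[A] B) (Localization.AtPrime P)).Flat := by
    rw [← hcomp]
    exact (hf1.comp hf2).comp hf3
  exact (RingHom.flat_algebraMap_iff).1 hall


end Groth.Agent.H10
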