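import Groth.Agent.H37.UHBasic
import Mathlib

set_option autoImplicit false
set_option linter.style.haveILetI false

/-!
# A weakly étale universal homeomorphism is an isomorphism
-/

open AlgebraicGeometry CategoryTheory Limits MorphismProperty

namespace Groth.Agent.H10

universe u

/-- a flat, surjective, quasi-compact monomorphism is an isomorphism (fpqc descent). -/
theorem isIso_of_mono_of_fpqc {Z W : Scheme.{u}} (g : Z ⟶ W) [Mono g] [Surjective g] [Flat g]
    [QuasiCompact g] : IsIso g := by
  have : (MorphismProperty.isomorphisms Scheme.{u}) g :=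
    MorphismProperty.of_pullback_fst_of_descendsAlong
      (P := MorphismProperty.isomorphisms Scheme.{u})
      (Q := @Surjective ⊓ @Flat ⊓ @QuasiCompact) (f := g) (g := g)
      ⟨⟨inferInstance, inferInstance⟩, inferInstance⟩
      (by change IsIso _; infer_instance)
  exact this

theorem isIso_of_weaklyEtale_of_isUnivHomeo {X Y : Scheme.{u}} (f : X ⟶ Y) [WeaklyEtale f]
    (h : FlatMor.IsUnivHomeo f) : IsIso f := by
  obtain ⟨h1, h2, h3⟩ := (Groth.Agent.H37.isUnivHomeo_iff f).1 h
  -- the first projection is a universal homeomorphism, hence a homeomorphism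
  haveI : (FlatMor.IsUnivHomeo.{u}).IsStableUnderBaseChange := by
    unfold FlatMor.IsUnivHomeo
    infer_instance
  have hpr : FlatMor.IsUnivHomeo (pullback.fst f f) :=
    MorphismProperty.pullback_fst (P := FlatMor.IsUnivHomeo) f f h
  have hhomeo : IsHomeomorph (pullback.fst f f).base :=
    hpr _ _ _ IsPullback.of_id_snd
  have hsec : ∀ x : X, (pullback.fst f f).base ((pullback.diagonal f).base x) = x := by
    intro x
    rw [← Scheme.Hom.comp_apply, pullback.diagonal_fst]
    rfl
  have hsec' : ∀ z, (pullback.diagonal f).base ((pullback.fst f f).base z) = z := by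
    intro z
    apply hhomeo.injective
    rw [hsec]
  haveI : Surjective (pullback.diagonal f) := (UniversallyInjective.iff_diagonal f).1 h2
  haveI : QuasiCompact (pullback.diagonal f) := by
    constructor
    intro U hU hUc
    have : (pullback.diagonal f).base ⁻¹' U = (pullback.fst f f).base '' U := by
      ext x
      constructor
      · intro hx
        exact ⟨(pullback.diagonal f).base x, hx, hsec x⟩
      · rintro ⟨z, hz, rfl⟩
        change (pullback.diagonal f).base ((pullback.fst f f).base z) ∈ U
        rw [hsec']
        exact hz
    rw [show ((pullback.diagonal f) ⁻¹' U : Set X) = (pullback.diagonal f).base ⁻¹' U from rfl, this]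
    exact hUc.image hhomeo.continuous
  haveI : IsIso (pullback.diagonal f) := isIso_of_mono_of_fpqc _
  haveI : Mono f := (pullback.isIso_diagonal_iff f).1 inferInstance
  exact isIso_of_mono_of_fpqc f

end Groth.Agent.H10
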