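import Groth.Agent.H10.WeaklyEtaleScheme
import Groth.Agent.H10.WeaklyEtaleResidue
import Mathlib

set_option autoImplicit false
set_option linter.style.haveILetI false

/-!
# Weakly étale morphisms are formally unramified; weakly étale + lfp = étale
-/

open AlgebraicGeometry CategoryTheory Limits

namespace Groth.Agent.H10

universe u

theorem formallyUnramified_of_weaklyEtale_scheme {X Y : Scheme.{u}} (f : X ⟶ Y) [WeaklyEtale f] :
    AlgebraicGeometry.FormallyUnramified f := by
  refine ⟨fun {U} hU {V} hV e => ?_⟩
  have h := (weaklyEtale_iff_appLE f).1 inferInstance V U hV hU e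
  letI := (f.appLE U V e).hom.toAlgebra
  haveI : Algebra.WeaklyEtale Γ(Y, U) Γ(X, V) := h
  exact formallyUnramified_of_weaklyEtale Γ(Y, U) Γ(X, V)

theorem etale_of_weaklyEtale_of_locallyOfFinitePresentation {X Y : Scheme.{u}} (f : X ⟶ Y)
    [WeaklyEtale f] [LocallyOfFinitePresentation f] : Etale f := by
  haveI := formallyUnramified_of_weaklyEtale_scheme f
  exact Etale.of_formallyUnramified_of_flat f

end Groth.Agent.H10
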