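import Mathlib

set_option autoImplicit false
set_option linter.style.haveILetI false
universe u
namespace Groth.Agent.H10

/-- a height `≤ 1` prime in a domain contains no prime strictly between `⊥` and itself. -/
theorem eq_of_le_of_height_le_one {D : Type*} [CommRing D] [IsDomain D] {p q : Ideal D}
    [hp : p.IsPrime] [hq : q.IsPrime] (hp0 : p ≠ ⊥) (hpq : p ≤ q) (hq1 : q.height ≤ 1) : p = q := by
  by_contra hne
  have hlt : p < q := lt_of_le_of_ne hpq hne
  haveI : (⊥ : Ideal D).IsPrime := Ideal.isPrime_bot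
  have h0 : (⊥ : Ideal D) < p := bot_lt_iff_ne_bot.2 hp0
  have h1 := Ideal.height_add_one_le_of_lt_of_isPrime h0
  have h2 := Ideal.height_add_one_le_of_lt_of_isPrime hlt
  have h3 : (⊥ : Ideal D).height + 1 + 1 ≤ 1 := (add_le_add_left h1 1).trans (h2.trans hq1)
  have h4 : (1 : ℕ∞) + 1 ≤ 1 := le_trans (add_le_add_left (le_add_self) 1) h3
  exact absurd h4 (by decide)

/-- Artin–Tate: in a Noetherian domain in which every nonzero prime contains a fixed
nonzero element, every nonzero prime is maximal. -/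
theorem isMaximal_of_forall_prime_mem {D : Type*} [CommRing D] [IsDomain D] [IsNoetherianRing D]
    (g : D) (hg : g ≠ 0) (h : ∀ Q : Ideal D, Q.IsPrime → Q ≠ ⊥ → g ∈ Q)
    (P : Ideal D) [hP : P.IsPrime] (hP0 : P ≠ ⊥) : P.IsMaximal := by
  classical
  by_contra hmax
  obtain ⟨m, hm, hPm⟩ := Ideal.exists_le_maximal P hP.ne_top
  haveI := hm.isPrime
  have hlt : P < m := lt_of_le_of_ne hPm (fun h => hmax (h ▸ hm))
  have hfin : (Ideal.span {g}).minimalPrimes.Finite :=
    Ideal.finite_minimalPrimes_of_isNoetherianRing D _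
  have hprime : ∀ p ∈ hfin.toFinset, p.IsPrime := fun p hp =>
    (hfin.mem_toFinset.1 hp).1.1
  have hheight : ∀ p ∈ (Ideal.span {g}).minimalPrimes, p.height ≤ 1 := fun p hp =>
    Ideal.height_le_one_of_isPrincipal_of_mem_minimalPrimes _ p hp
  -- `P` contains a minimal prime over `(g)`
  have hgP : Ideal.span {g} ≤ P := by
    rw [Ideal.span_singleton_le_iff_mem]
    exact h P hP hP0
  obtain ⟨p₁, hp₁, hp₁P⟩ := Ideal.exists_minimalPrimes_le hgP
  -- prime avoidance
  have hnot : ¬ ((m : Set D) ⊆ ⋃ p ∈ (hfin.toFinset : Set (Ideal D)), (p : Set D)) := by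
    rw [Ideal.subset_union_prime (f := fun p : Ideal D => p) p₁ p₁ (fun p hp _ _ => hprime p hp)]
    rintro ⟨p, hp, hmp⟩
    have hp' := hfin.mem_toFinset.1 hp
    haveI := hp'.1.1
    have hpm : m = p := hm.eq_of_le hp'.1.1.ne_top hmp
    have : P = m := eq_of_le_of_height_le_one hP0 hPm (hpm ▸ hheight p hp')
    exact hlt.ne this
  rw [Set.not_subset] at hnot
  obtain ⟨x, hxm, hx⟩ := hnot
  have hx' : ∀ p ∈ (Ideal.span {g}).minimalPrimes, x ∉ p := by
    intro p hp hxp
    apply hx
    simp only [Set.mem_iUnion]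
    exact ⟨p, by simpa using hp, hxp⟩
  have hxm' : Ideal.span {x} ≤ m := by
    rw [Ideal.span_singleton_le_iff_mem]
    exact hxm
  obtain ⟨q, hq, hqm⟩ := Ideal.exists_minimalPrimes_le hxm'
  haveI := hq.1.1
  have hxq : x ∈ q := hq.1.2 (Ideal.mem_span_singleton_self x)
  have hq0 : q ≠ ⊥ := by
    rintro rfl
    have : x = 0 := hxq
    exact hx' p₁ hp₁ (this ▸ Ideal.zero_mem _)
  have hgq : Ideal.span {g} ≤ q := by
    rw [Ideal.span_singleton_le_iff_mem]
    exact h q hq.1.1 hq0
  obtain ⟨p', hp', hp'q⟩ := Ideal.exists_minimalPrimes_le hgq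
  haveI := hp'.1.1
  have hp'0 : p' ≠ ⊥ := by
    rintro rfl
    exact hg (hp'.1.2 (Ideal.mem_span_singleton_self g))
  have : p' = q := eq_of_le_of_height_le_one hp'0 hp'q
    (Ideal.height_le_one_of_isPrincipal_of_mem_minimalPrimes _ q hq)
  exact hx' p' hp' (this ▸ hxq)

/-- relative Artin–Tate. -/
theorem isMaximal_of_lt_of_forall_mem {A : Type*} [CommRing A] [IsNoetherianRing A]
    (q : Ideal A) [hq : q.IsPrime] (g : A) (hg : g ∉ q)
    (h : ∀ Q : Ideal A, Q.IsPrime → q < Q → g ∈ Q)
    (Q : Ideal A) [hQ : Q.IsPrime] (hqQ : q < Q) : Q.IsMaximal := by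
  let π := Ideal.Quotient.mk q
  have hπ : Function.Surjective π := Ideal.Quotient.mk_surjective
  have hcm : ∀ J : Ideal A, q ≤ J → (J.map π).comap π = J := by
    intro J hJ
    rw [Ideal.comap_map_of_surjective π hπ, ← RingHom.ker_eq_comap_bot, Ideal.mk_ker]
    exact sup_eq_left.2 hJ
  have hD : ∀ Q' : Ideal (A ⧸ q), Q'.IsPrime → Q' ≠ ⊥ → π g ∈ Q' := by
    intro Q' hQ' hQ'0
    have hc : (Q'.comap π).IsPrime := hQ'.comap π
    have hle : q ≤ Q'.comap π := by
      intro a ha
      rw [Ideal.mem_comap]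
      have : π a = 0 := Ideal.Quotient.eq_zero_iff_mem.2 ha
      rw [this]
      exact zero_mem _
    have hlt : q < Q'.comap π := by
      refine lt_of_le_of_ne hle ?_
      intro heq
      apply hQ'0
      rw [← Ideal.map_comap_of_surjective π hπ Q', ← heq]
      exact Ideal.map_quotient_self q
    exact h _ hc hlt
  have hkerQ : RingHom.ker π ≤ Q := by
    rw [Ideal.mk_ker]
    exact hqQ.le
  haveI : (Q.map π).IsPrime := Ideal.map_isPrime_of_surjective hπ hkerQ
  have hne : Q.map π ≠ ⊥ := by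
    intro h0
    have h1 := hcm Q hqQ.le
    rw [h0, ← RingHom.ker_eq_comap_bot, Ideal.mk_ker] at h1
    exact hqQ.ne h1
  have hmax := isMaximal_of_forall_prime_mem (π g)
    (by rwa [Ne, Ideal.Quotient.eq_zero_iff_mem]) hD (Q.map π) hne
  rw [← hcm Q hqQ.le]
  exact Ideal.comap_isMaximal_of_surjective π hπ


theorem isJacobsonRing_away_of_mem_jacobson (A : Type*) [CommRing A] [IsNoetherianRing A] (f : A)
    (hf : f ∈ (⊥ : Ideal A).jacobson) (S : Type*) [CommRing S] [Algebra A S]
    [IsLocalization.Away f S] : IsJacobsonRing S := by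
  classical
  rw [isJacobsonRing_iff_prime_eq]
  intro P hP
  refine le_antisymm ?_ Ideal.le_jacobson
  intro y hy
  by_contra hyP
  obtain ⟨⟨a, ⟨_, n, rfl⟩⟩, hya⟩ := IsLocalization.surj (Submonoid.powers f) y
  simp only at hya
  have hunit : ∀ k : ℕ, IsUnit (algebraMap A S (f ^ k)) := fun k =>
    IsLocalization.map_units S (⟨f ^ k, k, rfl⟩ : Submonoid.powers f)
  let p := P.comap (algebraMap A S)
  have hp : p.IsPrime := hP.comap _
  have hfp : f ∉ p := by
    intro hfp
    have : algebraMap A S (f ^ 1) ∈ P := by rw [pow_one]; exact hfp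
    exact hP.ne_top (Ideal.eq_top_of_isUnit_mem _ this (hunit 1))
  have hap : a ∉ p := by
    intro hap
    apply hyP
    have : y * algebraMap A S (f ^ n) ∈ P := by rw [hya]; exact hap
    exact (hP.mem_or_mem this).resolve_right
      (fun h => hP.ne_top (Ideal.eq_top_of_isUnit_mem _ h (hunit n)))
  let T := Submonoid.powers (f * a)
  have hdisj : Disjoint (p : Set A) T := by
    rw [Set.disjoint_right]
    rintro _ ⟨k, rfl⟩ hk
    exact (hp.mem_or_mem (hp.mem_of_pow_mem k hk)).elim hfp hap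
  have ⟨q, hpq, hqmax⟩ := zorn_le_nonempty₀ {J : Ideal A | Disjoint (J : Set A) T}
    (fun c hc hc' x hx ↦ by
      rcases isEmpty_or_nonempty c with hc0 | hc0
      · exact ⟨p, hdisj, fun J hJ ↦ isEmptyElim (⟨J, hJ⟩ : c)⟩
      refine ⟨sSup c, Set.disjoint_left.mpr fun x hx ↦ ?_, fun _ ↦ le_sSup⟩
      have ⟨p', hp'⟩ := (Submodule.mem_iSup_of_directed _ hc'.directed).mp (sSup_eq_iSup' c ▸ hx)
      exact Set.disjoint_left.mp (hc p'.2) hp') p hdisj
  have hq : q.IsPrime := Ideal.isPrime_of_maximally_disjoint q T hqmax.1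
    (fun _ ↦ hqmax.not_prop_of_gt)
  have hfaq : f * a ∉ q := fun h =>
    Set.disjoint_left.1 hqmax.1 h (Submonoid.mem_powers (f * a))
  have hfq : f ∉ q := fun h => hfaq (Ideal.mul_mem_right _ _ h)
  have haq : a ∉ q := fun h => hfaq (Ideal.mul_mem_left _ _ h)
  have hdisjf : Disjoint (Submonoid.powers f : Set A) (q : Set A) := by
    rw [Set.disjoint_left]
    rintro _ ⟨k, rfl⟩ hk
    exact hfq (hq.mem_of_pow_mem k hk)
  let M := q.map (algebraMap A S)
  have hMprime : M.IsPrime :=
    IsLocalization.isPrime_of_isPrime_disjoint (Submonoid.powers f) S q hq hdisjf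
  have hcomapM : M.comap (algebraMap A S) = q :=
    IsLocalization.comap_map_of_isPrime_disjoint (Submonoid.powers f) S hq hdisjf
  have hPM : P ≤ M := by
    rw [← IsLocalization.map_comap (Submonoid.powers f) S P]
    exact Ideal.map_mono hpq
  have hMmax : M.IsMaximal := by
    obtain ⟨M', hM', hMM'⟩ := Ideal.exists_le_maximal M hMprime.ne_top
    let q' := M'.comap (algebraMap A S)
    have hq' : q'.IsPrime := hM'.isPrime.comap _
    have hqq' : q ≤ q' := by
      rw [← hcomapM]
      exact Ideal.comap_mono hMM'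
    by_cases heq : q = q'
    · have : M = M' := by
        change q.map (algebraMap A S) = M'
        rw [heq]
        exact IsLocalization.map_comap (Submonoid.powers f) S M'
      rw [this]
      exact hM'
    · exfalso
      have hlt : q < q' := lt_of_le_of_ne hqq' heq
      have hAT : ∀ Q : Ideal A, Q.IsPrime → q < Q → f * a ∈ Q := by
        intro Q hQ hqQ
        have hnd := hqmax.not_prop_of_gt hqQ
        change ¬ Disjoint (Q : Set A) T at hnd
        rw [Set.not_disjoint_iff] at hnd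
        obtain ⟨_, hxQ, ⟨k, rfl⟩⟩ := hnd
        exact hQ.mem_of_pow_mem k hxQ
      have hq'max : q'.IsMaximal := isMaximal_of_lt_of_forall_mem q (f * a) hfaq hAT q' hlt
      have hfq' : f ∈ q' := by
        rw [Ideal.jacobson, Ideal.mem_sInf] at hf
        exact hf ⟨bot_le, hq'max⟩
      have : algebraMap A S (f ^ 1) ∈ M' := by rw [pow_one]; exact hfq'
      exact hM'.ne_top (Ideal.eq_top_of_isUnit_mem _ this (hunit 1))
  have hyM : y ∈ M := by
    rw [Ideal.jacobson, Ideal.mem_sInf] at hy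
    exact hy ⟨hPM, hMmax⟩
  have : a ∈ M.comap (algebraMap A S) := by
    rw [Ideal.mem_comap, ← hya]
    exact Ideal.mul_mem_right _ _ hyM
  rw [hcomapM] at this
  exact haq this


end Groth.Agent.H10
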